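import Mathlib
import Groth.Agent.S10915
import Groth.Agent.S10904
import Groth.Agent.S12915
import Groth.Agent.H15.RegCM
import Groth.Agent.H29.CM2
import Groth.Agent.H54.AffineDim

/-!
# Hilbert functions of homogeneous complete intersections in `k[X_0..X_n]` (helper21)

* `finrank_piece_sup_span'`: degree pieces of `I + (f)` for `f` regular on homogeneous elements.
* `local_regular`: `n` forms in `n + 1` variables cutting out a one-dimensional quotient form a
  regular sequence in the localization at the irrelevant ideal.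
* `mem_of_mul_mem_of_local`: descent of regularity from the localization to homogeneous elements.
* `stage`: Hilbert polynomial data of the partial complete intersections.
-/

set_option autoImplicit false
universe u

open Polynomial

namespace Groth.Agent.H21.HilbertCI

open Groth.Agent.S10915 (irr mem_irr_iff irr_isMaximal)

section General

/-- A regular local ring is Cohen–Macaulay (as in `H72.RegLoc`). -/
theorem isCM_of_isRegularLocalRing (B : Type u) [CommRing B] [IsRegularLocalRing B] :
    LocCoh.IsCohenMacaulayModule B B := by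
  obtain ⟨d, hd⟩ := Groth.Agent.H29.CM.exists_nat_supportDim (A := B) (M := B)
  refine Groth.Agent.H29.CM.isCM_of_hasSeq hd
    (Groth.Agent.H15.RegCM.hasSeq_of_isRegularLocalRing B d ?_)
  have h1 : ((IsLocalRing.maximalIdeal B).height : WithBot ℕ∞) = ringKrullDim B :=
    IsLocalRing.maximalIdeal_height_eq_ringKrullDim
  rw [Module.supportDim_self_eq_ringKrullDim, ← h1, WithBot.coe_inj] at hd
  rw [hd]

theorem ringKrullDim_localization_quotient_le {R : Type u} [CommRing R] (q : Ideal R)
    [q.IsPrime] (J : Ideal R) (hJq : J ≤ q) :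
    ringKrullDim (Localization.AtPrime q ⧸ J.map (algebraMap R (Localization.AtPrime q))) ≤
      ringKrullDim (R ⧸ J) := by
  have hsurj : Function.Surjective (Ideal.Quotient.mk J) := Ideal.Quotient.mk_surjective
  have hker : RingHom.ker (Ideal.Quotient.mk J) ≤ q := by rw [Ideal.mk_ker]; exact hJq
  haveI h𝔮 : (q.map (Ideal.Quotient.mk J)).IsPrime := Ideal.map_isPrime_of_surjective hsurj hker
  have hsub : Algebra.algebraMapSubmonoid (R ⧸ J) q.primeCompl =
      (q.map (Ideal.Quotient.mk J)).primeCompl := by
    ext x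
    constructor
    · rintro ⟨a, ha, rfl⟩
      intro hmem
      apply ha
      obtain ⟨b, hb, hab⟩ := (Ideal.mem_map_iff_of_surjective _ hsurj).mp hmem
      have h1 : b - a ∈ J := Ideal.Quotient.eq.mp hab
      have h2 := q.sub_mem hb (hJq h1)
      rwa [sub_sub_cancel] at h2
    · intro hx
      obtain ⟨a, rfl⟩ := hsurj x
      refine ⟨a, ?_, rfl⟩
      intro haq
      exact hx (Ideal.mem_map_of_mem _ haq)
  haveI : IsLocalization.AtPrime
      (Localization.AtPrime q ⧸ J.map (algebraMap R (Localization.AtPrime q)))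
      (q.map (Ideal.Quotient.mk J)) := by
    show IsLocalization (q.map (Ideal.Quotient.mk J)).primeCompl _
    rw [← hsub]
    infer_instance
  rw [IsLocalization.AtPrime.ringKrullDim_eq_height (q.map (Ideal.Quotient.mk J)) _]
  exact Ideal.height_le_ringKrullDim_of_ne_top h𝔮.ne_top

end General

variable (k : Type u) [Field k] (n : ℕ)

instance irr_isPrime : (irr k n).IsPrime := (irr_isMaximal k n).isPrime

/-- Degree pieces of `I + (f)` for `f` homogeneous of degree `d`, regular on the degree `m`
elements modulo the homogeneous ideal `I`. -/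
theorem finrank_piece_sup_span' (I : Ideal (MvPolynomial (Fin (n + 1)) k))
    (hI : I.IsHomogeneous (CohB1.polyGrading n k)) (f : MvPolynomial (Fin (n + 1)) k) (d : ℕ)
    (hf : f.IsHomogeneous d) (hf0 : f ≠ 0) (m : ℕ)
    (hreg : ∀ g ∈ CohB1.polyGrading n k m, f * g ∈ I → g ∈ I) :
    Module.finrank k ↥(Submodule.restrictScalars k (I ⊔ Ideal.span {f}) ⊓
        CohB1.polyGrading n k (d + m)) +
      Module.finrank k ↥(Submodule.restrictScalars k I ⊓ CohB1.polyGrading n k m) =
    Module.finrank k ↥(Submodule.restrictScalars k I ⊓ CohB1.polyGrading n k (d + m)) +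
      Module.finrank k ↥(CohB1.polyGrading n k m) := by
  classical
  have hfmem : f ∈ CohB1.polyGrading n k d := hf
  obtain ⟨μ, hμ⟩ : ∃ μ : MvPolynomial (Fin (n + 1)) k →ₗ[k] MvPolynomial (Fin (n + 1)) k,
      ∀ g, μ g = f * g := ⟨LinearMap.mulLeft k f, fun g => rfl⟩
  have hμinj : Function.Injective μ := by
    intro a b h
    rw [hμ, hμ] at h
    exact mul_left_cancel₀ hf0 h
  obtain ⟨U, hU⟩ : ∃ U : Submodule k (MvPolynomial (Fin (n + 1)) k),
      U = Submodule.restrictScalars k I ⊓ CohB1.polyGrading n k (d + m) := ⟨_, rfl⟩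
  obtain ⟨M, hM⟩ : ∃ M : Submodule k (MvPolynomial (Fin (n + 1)) k),
      M = (CohB1.polyGrading n k m).map μ := ⟨_, rfl⟩
  have hmulmem : ∀ g ∈ CohB1.polyGrading n k m, f * g ∈ CohB1.polyGrading n k (d + m) := by
    intro g hg
    exact hf.mul hg
  have hW : Submodule.restrictScalars k (I ⊔ Ideal.span {f}) ⊓ CohB1.polyGrading n k (d + m) =
      U ⊔ M := by
    apply le_antisymm
    · rintro w ⟨hw1, hw2⟩
      have hw1' : w ∈ I ⊔ Ideal.span {f} := hw1
      obtain ⟨a, ha, c, hc, rfl⟩ := Submodule.mem_sup.mp hw1'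
      obtain ⟨b, rfl⟩ := Ideal.mem_span_singleton'.mp hc
      have hw2' : a + b * f ∈ CohB1.polyGrading n k (d + m) := hw2
      have hdec : a + b * f =
          (DirectSum.decompose (CohB1.polyGrading n k) a (d + m) :
            MvPolynomial (Fin (n + 1)) k) +
          μ (DirectSum.decompose (CohB1.polyGrading n k) b m : MvPolynomial (Fin (n + 1)) k) := by
        calc a + b * f = (DirectSum.decompose (CohB1.polyGrading n k) (a + b * f) (d + m) :
              MvPolynomial (Fin (n + 1)) k) :=
              (DirectSum.decompose_of_mem_same (CohB1.polyGrading n k) hw2').symm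
          _ = _ := by
              rw [DirectSum.decompose_add, DirectSum.add_apply, Submodule.coe_add, mul_comm b f,
                DirectSum.coe_decompose_mul_add_of_left_mem (CohB1.polyGrading n k) hfmem, hμ]
      rw [hdec, hU, hM]
      refine Submodule.add_mem_sup (Submodule.mem_inf.mpr ⟨?_, SetLike.coe_mem _⟩)
        (Submodule.mem_map_of_mem (SetLike.coe_mem _))
      exact hI (d + m) ha
    · rw [hU, hM]
      refine sup_le (inf_le_inf_right _ ?_) ?_
      · intro x hx
        exact Ideal.mem_sup_left hx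
      · rintro _ ⟨g, hg, rfl⟩
        rw [hμ]
        exact Submodule.mem_inf.mpr
          ⟨Ideal.mem_sup_right (Ideal.mul_mem_right g _ (Ideal.mem_span_singleton_self f)),
            hmulmem g hg⟩
  have hUM : U ⊓ M = (Submodule.restrictScalars k I ⊓ CohB1.polyGrading n k m).map μ := by
    rw [hU, hM]
    apply le_antisymm
    · rintro x ⟨⟨hx1, -⟩, ⟨g, hg, rfl⟩⟩
      rw [hμ] at hx1
      exact Submodule.mem_map_of_mem (Submodule.mem_inf.mpr ⟨hreg g hg hx1, hg⟩)
    · rintro _ ⟨g, ⟨hg1, hg2⟩, rfl⟩
      refine Submodule.mem_inf.mpr ⟨Submodule.mem_inf.mpr ⟨?_, ?_⟩, Submodule.mem_map_of_mem hg2⟩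
      · rw [hμ]; exact Ideal.mul_mem_left I f hg1
      · rw [hμ]; exact hmulmem g hg2
  haveI hfinU : Module.Finite k U := by
    rw [hU]; exact Submodule.finiteDimensional_of_le inf_le_right
  haveI hfinM : Module.Finite k M := by
    rw [hM]; infer_instance
  have key := Submodule.finrank_sup_add_finrank_inf_eq U M
  rw [← hW, hUM] at key
  have e1 : Module.finrank k
      ↥((Submodule.restrictScalars k I ⊓ CohB1.polyGrading n k m).map μ) =
      Module.finrank k ↥(Submodule.restrictScalars k I ⊓ CohB1.polyGrading n k m) :=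
    (LinearEquiv.finrank_eq (Submodule.equivMapOfInjective μ hμinj _)).symm
  have e2 : Module.finrank k ↥M = Module.finrank k ↥(CohB1.polyGrading n k m) := by
    rw [hM]
    exact (LinearEquiv.finrank_eq (Submodule.equivMapOfInjective μ hμinj _)).symm
  rw [e1, e2, hU] at key
  exact key

/-- Descent of regularity from the localization at the irrelevant ideal to homogeneous
elements. -/
theorem mem_of_mul_mem_of_local (J : Ideal (MvPolynomial (Fin (n + 1)) k))
    (hJ : J.IsHomogeneous (CohB1.polyGrading n k)) (f : MvPolynomial (Fin (n + 1)) k)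
    (hloc : ∀ a : Localization.AtPrime (irr k n),
      algebraMap (MvPolynomial (Fin (n + 1)) k) (Localization.AtPrime (irr k n)) f * a ∈
          J.map (algebraMap (MvPolynomial (Fin (n + 1)) k) (Localization.AtPrime (irr k n))) →
        a ∈ J.map (algebraMap (MvPolynomial (Fin (n + 1)) k) (Localization.AtPrime (irr k n))))
    (m : ℕ) (g : MvPolynomial (Fin (n + 1)) k) (hg : g ∈ CohB1.polyGrading n k m)
    (hfg : f * g ∈ J) : g ∈ J := by
  classical
  have h1 : algebraMap (MvPolynomial (Fin (n + 1)) k) (Localization.AtPrime (irr k n)) g ∈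
      J.map (algebraMap (MvPolynomial (Fin (n + 1)) k) (Localization.AtPrime (irr k n))) := by
    apply hloc
    rw [← map_mul]
    exact Ideal.mem_map_of_mem _ hfg
  obtain ⟨⟨⟨i, hi⟩, ⟨s, hs⟩⟩, hx⟩ := (IsLocalization.mem_map_algebraMap_iff (irr k n).primeCompl
    (Localization.AtPrime (irr k n))).mp h1
  have hinj : Function.Injective
      (algebraMap (MvPolynomial (Fin (n + 1)) k) (Localization.AtPrime (irr k n))) :=
    IsLocalization.injective (Localization.AtPrime (irr k n))
      (Ideal.primeCompl_le_nonZeroDivisors (irr k n))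
  have h2 : g * s = i := hinj (by rw [map_mul]; exact hx)
  have h3 : g * s ∈ J := by rw [h2]; exact hi
  have h4 := hJ (m + 0) h3
  rw [DirectSum.coe_decompose_mul_add_of_left_mem (CohB1.polyGrading n k) hg] at h4
  have h5 : (DirectSum.decompose (CohB1.polyGrading n k) s 0 : MvPolynomial (Fin (n + 1)) k) =
      MvPolynomial.homogeneousComponent 0 s :=
    MvPolynomial.decomposition.decompose'_apply s 0
  rw [h5, MvPolynomial.homogeneousComponent_zero] at h4
  have hc : MvPolynomial.coeff 0 s ≠ 0 := fun h => hs ((mem_irr_iff k n s).mpr h)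
  have h6 : g = MvPolynomial.C (MvPolynomial.coeff 0 s)⁻¹ *
      (g * MvPolynomial.C (MvPolynomial.coeff 0 s)) := by
    rw [mul_comm g, ← mul_assoc, ← map_mul, inv_mul_cancel₀ hc, map_one, one_mul]
  rw [h6]
  exact J.mul_mem_left _ h4

section CI

variable (f : Fin n → MvPolynomial (Fin (n + 1)) k) (d : Fin n → ℕ)

include d in
theorem mem_irr_of_homogeneous (hd : ∀ i, 1 ≤ d i) (hf : ∀ i, (f i).IsHomogeneous (d i)) (i : Fin n) :
    f i ∈ irr k n := by
  rw [mem_irr_iff]
  apply (hf i).coeff_eq_zero
  have := hd i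
  simp only [map_zero]
  omega

theorem ofList_ofFn : Ideal.ofList (List.ofFn f) = Ideal.span (Set.range f) := by
  have h : {r | r ∈ List.ofFn f} = Set.range f := by
    ext x
    rw [Set.mem_ofPred_eq, List.mem_ofFn, Set.mem_range]
  show Ideal.span {r | r ∈ List.ofFn f} = _
  rw [h]

include d in
/-- `n` forms of positive degree in `n + 1` variables with one-dimensional quotient form a regular
sequence in the localization at the irrelevant ideal. -/
theorem local_regular (hd : ∀ i, 1 ≤ d i) (hf : ∀ i, (f i).IsHomogeneous (d i))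
    (hdim : ringKrullDim (MvPolynomial (Fin (n + 1)) k ⧸ Ideal.span (Set.range f)) = 1)
    (j : ℕ) (hj : j < n) (a : Localization.AtPrime (irr k n))
    (ha : algebraMap (MvPolynomial (Fin (n + 1)) k) (Localization.AtPrime (irr k n)) (f ⟨j, hj⟩) * a ∈
      (Ideal.ofList ((List.ofFn f).take j)).map
        (algebraMap (MvPolynomial (Fin (n + 1)) k) (Localization.AtPrime (irr k n)))) :
    a ∈ (Ideal.ofList ((List.ofFn f).take j)).map
        (algebraMap (MvPolynomial (Fin (n + 1)) k) (Localization.AtPrime (irr k n))) := by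
  classical
  haveI : IsRegularLocalRing (Localization.AtPrime (irr k n)) := inferInstance
  have hCM : LocCoh.IsCohenMacaulayModule (Localization.AtPrime (irr k n))
      (Localization.AtPrime (irr k n)) := isCM_of_isRegularLocalRing _
  obtain ⟨xs, hxsdef⟩ : ∃ xs : List (Localization.AtPrime (irr k n)), xs = (List.ofFn f).map
      (algebraMap (MvPolynomial (Fin (n + 1)) k) (Localization.AtPrime (irr k n))) := ⟨_, rfl⟩
  have hfm := mem_irr_of_homogeneous k n f d hd hf
  have hxs : ∀ x ∈ xs, x ∈ IsLocalRing.maximalIdeal (Localization.AtPrime (irr k n)) := by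
    intro x hx
    rw [hxsdef] at hx
    obtain ⟨y, hy, rfl⟩ := List.mem_map.mp hx
    obtain ⟨i, rfl⟩ := List.mem_ofFn.mp hy
    exact (IsLocalization.AtPrime.to_map_mem_maximal_iff (Localization.AtPrime (irr k n))
      (irr k n) (f i)).mpr (hfm i)
  have hJle : Ideal.span (Set.range f) ≤ irr k n := by
    rw [Ideal.span_le]
    rintro _ ⟨i, rfl⟩
    exact hfm i
  have hofList : (Ideal.ofList xs • (⊤ : Submodule (Localization.AtPrime (irr k n))
      (Localization.AtPrime (irr k n)))) = (Ideal.span (Set.range f)).map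
        (algebraMap (MvPolynomial (Fin (n + 1)) k) (Localization.AtPrime (irr k n))) := by
    show Ideal.ofList xs * ⊤ = _
    rw [Ideal.mul_top, hxsdef, ← Ideal.map_ofList, ofList_ofFn]
  have hdimQ : Module.supportDim (Localization.AtPrime (irr k n))
      (Localization.AtPrime (irr k n) ⧸ (Ideal.ofList xs • (⊤ : Submodule
        (Localization.AtPrime (irr k n)) (Localization.AtPrime (irr k n))))) ≤ 1 := by
    rw [hofList, Module.supportDim_quotient_eq_ringKrullDim]
    exact le_trans (ringKrullDim_localization_quotient_le (irr k n) _ hJle) hdim.le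
  have hdimA : Module.supportDim (Localization.AtPrime (irr k n))
      (Localization.AtPrime (irr k n)) = ((n + 1 : ℕ) : WithBot ℕ∞) := by
    rw [Module.supportDim_self_eq_ringKrullDim,
      IsLocalization.AtPrime.ringKrullDim_eq_height (irr k n) (Localization.AtPrime (irr k n))]
    haveI := irr_isMaximal k n
    rw [Groth.Agent.H54.height_eq_of_isMaximal_mvPolynomial k (n + 1) (irr k n)]
    rfl
  have hlen : xs.length = n := by rw [hxsdef, List.length_map, List.length_ofFn]
  have hlow := Groth.Agent.H29.CM.supportDim_le_supportDim_quotient_ofList_add_length xs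
    (Localization.AtPrime (irr k n)) hxs
  have heq : Module.supportDim (Localization.AtPrime (irr k n))
      (Localization.AtPrime (irr k n) ⧸ (Ideal.ofList xs • (⊤ : Submodule
        (Localization.AtPrime (irr k n)) (Localization.AtPrime (irr k n))))) +
        (xs.length : WithBot ℕ∞) =
      Module.supportDim (Localization.AtPrime (irr k n)) (Localization.AtPrime (irr k n)) := by
    apply le_antisymm
    · rw [hdimA, hlen, Nat.cast_add, Nat.cast_one, add_comm (n : WithBot ℕ∞) 1]
      gcongr
    · exact hlow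
  have hw : RingTheory.Sequence.IsWeaklyRegular (Localization.AtPrime (irr k n)) xs :=
    ((Groth.Agent.H29.CM.isWeaklyRegular_iff_of_isCM xs (Localization.AtPrime (irr k n))
      hCM hxs).1).2 heq
  have hjlen : j < xs.length := by rw [hlen]; exact hj
  have hreg := hw.regular_mod_prev j hjlen
  rw [isSMulRegular_quotient_iff_mem_of_smul_mem] at hreg
  have htake : Ideal.ofList (xs.take j) • (⊤ : Submodule (Localization.AtPrime (irr k n))
      (Localization.AtPrime (irr k n))) = (Ideal.ofList ((List.ofFn f).take j)).map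
        (algebraMap (MvPolynomial (Fin (n + 1)) k) (Localization.AtPrime (irr k n))) := by
    show Ideal.ofList (xs.take j) * ⊤ = _
    rw [Ideal.mul_top, Ideal.map_ofList, List.map_take, hxsdef]
  have hget : xs[j] = algebraMap (MvPolynomial (Fin (n + 1)) k)
      (Localization.AtPrime (irr k n)) (f ⟨j, hj⟩) := by
    simp [hxsdef]
  rw [htake, hget] at hreg
  exact hreg a ha

include d in
/-- Hilbert polynomial data of the partial complete intersection `(f_0, …, f_{j-1})`. -/
theorem stage (hd : ∀ i, 1 ≤ d i) (hf : ∀ i, (f i).IsHomogeneous (d i))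
    (hdim : ringKrullDim (MvPolynomial (Fin (n + 1)) k ⧸ Ideal.span (Set.range f)) = 1)
    (j : ℕ) (hj : j ≤ n) :
    ∃ p : ℚ[X], ∃ M : ℕ,
      (∀ m, M ≤ m → p.eval (m : ℚ) = (Module.finrank k ↥(CohB1.polyGrading n k m) : ℚ) -
        Module.finrank k ↥(Submodule.restrictScalars k (Ideal.ofList ((List.ofFn f).take j)) ⊓
          CohB1.polyGrading n k m)) ∧
      p.natDegree + j = n ∧
      (p.natDegree.factorial : ℚ) * p.leadingCoeff = ((((List.ofFn d).take j).prod : ℕ) : ℚ) := by
  classical
  induction j with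
  | zero =>
    refine ⟨Polynomial.preHilbertPoly ℚ n 0, 0, ?_, ?_, ?_⟩
    · intro m _
      rw [Polynomial.preHilbertPoly_eq_choose_sub_add ℚ n (Nat.zero_le m)]
      have h0 : Submodule.restrictScalars k (Ideal.ofList ((List.ofFn f).take 0)) ⊓
          CohB1.polyGrading n k m = ⊥ := by
        rw [List.take_zero, Ideal.ofList_nil, Submodule.restrictScalars_bot, bot_inf_eq]
      rw [h0, finrank_bot, Nat.cast_zero, sub_zero, Groth.Agent.S12915.finrank_homog' k n m,
        Nat.sub_zero]
    · rw [Polynomial.natDegree_preHilbertPoly, add_zero]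
    · rw [Polynomial.natDegree_preHilbertPoly, Polynomial.leadingCoeff_preHilbertPoly,
        List.take_zero, List.prod_nil, Nat.cast_one]
      exact mul_inv_cancel₀ (by exact_mod_cast Nat.factorial_ne_zero n)
  | succ j ih =>
    have hjn : j < n := hj
    obtain ⟨p, M, hp, hdeg, hlead⟩ := ih (le_of_lt hjn)
    have hfm := mem_irr_of_homogeneous k n f d hd hf
    have hlenf : (List.ofFn f).length = n := List.length_ofFn
    have hJsucc : Ideal.ofList ((List.ofFn f).take (j + 1)) =
        Ideal.ofList ((List.ofFn f).take j) ⊔ Ideal.span {f ⟨j, hjn⟩} := by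
      rw [List.take_succ_eq_append_getElem (by rw [hlenf]; exact hjn), Ideal.ofList_append,
        Ideal.ofList_singleton, List.getElem_ofFn]
    have hprod : ((((List.ofFn d).take (j + 1)).prod : ℕ) : ℚ) =
        ((((List.ofFn d).take j).prod : ℕ) : ℚ) * (d ⟨j, hjn⟩ : ℚ) := by
      rw [List.prod_take_succ _ _ (by rw [List.length_ofFn]; exact hjn), List.getElem_ofFn,
        Nat.cast_mul]
    have hmemtake : ∀ x ∈ (List.ofFn f).take j, ∃ i, f i = x := by
      intro x hx
      exact List.mem_ofFn.mp (List.mem_of_mem_take hx)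
    have hJhom : (Ideal.ofList ((List.ofFn f).take j)).IsHomogeneous (CohB1.polyGrading n k) := by
      apply Ideal.homogeneous_span
      intro x hx
      obtain ⟨i, rfl⟩ := hmemtake x hx
      exact ⟨d i, hf i⟩
    have hJle : Ideal.ofList ((List.ofFn f).take j) ≤ irr k n := by
      rw [Ideal.span_le]
      intro x hx
      obtain ⟨i, rfl⟩ := hmemtake x hx
      exact hfm i
    have hreg : ∀ m, ∀ g ∈ CohB1.polyGrading n k m,
        f ⟨j, hjn⟩ * g ∈ Ideal.ofList ((List.ofFn f).take j) →
          g ∈ Ideal.ofList ((List.ofFn f).take j) := fun m g hg hfg =>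
      mem_of_mul_mem_of_local k n _ hJhom (f ⟨j, hjn⟩)
        (fun a ha => local_regular k n f d hd hf hdim j hjn a ha) m g hg hfg
    have hfj0 : f ⟨j, hjn⟩ ≠ 0 := by
      intro h0
      have h1 : (1 : MvPolynomial (Fin (n + 1)) k) ∈ Ideal.ofList ((List.ofFn f).take j) :=
        hreg 0 1 (MvPolynomial.isHomogeneous_one _ _) (by rw [h0, zero_mul]; exact Ideal.zero_mem _)
      exact (irr_isMaximal k n).ne_top ((Ideal.eq_top_iff_one _).mpr (hJle h1))
    have hdj : 0 < d ⟨j, hjn⟩ := hd _
    have hN : 1 ≤ p.natDegree := by omega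
    have hq : taylor ((d ⟨j, hjn⟩ : ℕ) : ℚ) (p - taylor (-((d ⟨j, hjn⟩ : ℕ) : ℚ)) p) =
        taylor ((d ⟨j, hjn⟩ : ℕ) : ℚ) p - p := by
      rw [map_sub, taylor_taylor, add_neg_cancel, taylor_zero]
    obtain ⟨h1, h2⟩ := Groth.Agent.S10904.taylor_sub_self p (d ⟨j, hjn⟩) hdj hN
    rw [← hq, natDegree_taylor] at h1
    rw [← hq, leadingCoeff_taylor] at h2
    refine ⟨p - taylor (-((d ⟨j, hjn⟩ : ℕ) : ℚ)) p, M + d ⟨j, hjn⟩, ?_, by omega, ?_⟩
    · intro m' hm'
      obtain ⟨m, rfl⟩ : ∃ m, m' = d ⟨j, hjn⟩ + m := ⟨m' - d ⟨j, hjn⟩, by omega⟩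
      have hmM : M ≤ m := by omega
      rw [hJsucc]
      have key := finrank_piece_sup_span' k n _ hJhom (f ⟨j, hjn⟩) (d ⟨j, hjn⟩) (hf _) hfj0 m
        (hreg m)
      have e2 := hp (d ⟨j, hjn⟩ + m) (by omega)
      have e3 := hp m hmM
      rw [eval_sub, taylor_eval]
      have hcast : ((d ⟨j, hjn⟩ + m : ℕ) : ℚ) + -((d ⟨j, hjn⟩ : ℕ) : ℚ) = (m : ℚ) := by
        push_cast; ring
      rw [hcast, e2, e3]
      have key' : (Module.finrank k ↥(Submodule.restrictScalars k
            (Ideal.ofList ((List.ofFn f).take j) ⊔ Ideal.span {f ⟨j, hjn⟩}) ⊓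
            CohB1.polyGrading n k (d ⟨j, hjn⟩ + m)) : ℚ) +
          (Module.finrank k ↥(Submodule.restrictScalars k
            (Ideal.ofList ((List.ofFn f).take j)) ⊓ CohB1.polyGrading n k m) : ℚ) =
          (Module.finrank k ↥(Submodule.restrictScalars k
            (Ideal.ofList ((List.ofFn f).take j)) ⊓
            CohB1.polyGrading n k (d ⟨j, hjn⟩ + m)) : ℚ) +
          (Module.finrank k ↥(CohB1.polyGrading n k m) : ℚ) := by
        exact_mod_cast key
      linarith
    · rw [h2, hprod, ← hlead]
      have hfac : (p.natDegree.factorial : ℚ) = (p.natDegree : ℚ) *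
          ((p - taylor (-((d ⟨j, hjn⟩ : ℕ) : ℚ)) p).natDegree.factorial : ℚ) := by
        rw [← h1, Nat.factorial_succ]
        push_cast
        ring
      rw [hfac]
      ring

end CI

end Groth.Agent.H21.HilbertCI
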