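import Groth.Agent.H21.SegreModDim
import Groth.Agent.H29.CM
import Groth.Agent.H54.AffineDim

/-!
# Graded Cohen–Macaulay modules are unmixed; homogeneous algebraically independent families
(helper21)
-/

set_option autoImplicit false
universe u

open scoped TensorProduct
open MvPolynomial

namespace Groth.Agent.H21.SegreDim

section Irrelevant

variable {k : Type u} [Field k] {R : Type u} [CommRing R] [Algebra k R]
  (𝒜 : ℤ → Submodule k R) [GradedAlgebra 𝒜]

theorem eq_zero_of_mem_of_neg (hneg : ∀ n : ℤ, n < 0 → 𝒜 n = ⊥) {j : ℤ} (hj : j < 0) {y : R}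
    (hy : y ∈ 𝒜 j) : y = 0 := by
  rw [hneg j hj] at hy
  exact (Submodule.mem_bot k).mp hy

/-- The irrelevant ideal `⊕_{n>0} R_n`: elements whose components in degrees `≤ 0` vanish. -/
def irrel (hneg : ∀ n : ℤ, n < 0 → 𝒜 n = ⊥) : Ideal R where
  carrier := {a | ∀ j : ℤ, j ≤ 0 → ((DirectSum.decompose 𝒜 a j : 𝒜 j) : R) = 0}
  add_mem' := by
    intro a b ha hb j hj
    rw [DirectSum.decompose_add, DirectSum.add_apply, Submodule.coe_add, ha j hj, hb j hj,
      add_zero]
  zero_mem' := by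
    intro j _
    rw [DirectSum.decompose_zero]
    rfl
  smul_mem' := by
    intro c a ha j hj
    rw [smul_eq_mul]
    induction c using DirectSum.Decomposition.inductionOn 𝒜 with
    | zero =>
      rw [zero_mul, DirectSum.decompose_zero]
      rfl
    | @homogeneous i c =>
      by_cases hi : i < 0
      · rw [eq_zero_of_mem_of_neg 𝒜 hneg hi c.2, zero_mul, DirectSum.decompose_zero]
        rfl
      · obtain ⟨j', rfl⟩ : ∃ j', j = i + j' := ⟨j - i, by ring⟩
        rw [DirectSum.coe_decompose_mul_add_of_left_mem 𝒜 c.2, ha j' (by omega), mul_zero]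
    | add c c' hc hc' =>
      rw [add_mul, DirectSum.decompose_add, DirectSum.add_apply, Submodule.coe_add, hc, hc',
        add_zero]

theorem le_irrel_of_isHomogeneous (hneg : ∀ n : ℤ, n < 0 → 𝒜 n = ⊥)
    (h0 : 𝒜 0 = Submodule.span k {(1 : R)}) {I : Ideal R} (hI : I.IsHomogeneous 𝒜)
    (hne : I ≠ ⊤) : I ≤ irrel 𝒜 hneg := by
  intro a ha j hj
  rcases lt_or_eq_of_le hj with hlt | rfl
  · exact eq_zero_of_mem_of_neg 𝒜 hneg hlt (SetLike.coe_mem _)
  · have h1 : ((DirectSum.decompose 𝒜 a 0 : 𝒜 0) : R) ∈ I := hI 0 ha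
    have h2 : ((DirectSum.decompose 𝒜 a 0 : 𝒜 0) : R) ∈ Submodule.span k {(1 : R)} := by
      rw [← h0]; exact SetLike.coe_mem _
    obtain ⟨c, hc⟩ := Submodule.mem_span_singleton.mp h2
    by_contra hne0
    have hc0 : c ≠ 0 := by
      rintro rfl
      rw [zero_smul] at hc
      exact hne0 hc.symm
    apply hne
    rw [Ideal.eq_top_iff_one]
    have h3 : (1 : R) = c⁻¹ • ((DirectSum.decompose 𝒜 a 0 : 𝒜 0) : R) := by
      rw [← hc, smul_smul, inv_mul_cancel₀ hc0, one_smul]
    rw [h3]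
    exact Submodule.smul_of_tower_mem I c⁻¹ h1

theorem irrel_isMaximal (hneg : ∀ n : ℤ, n < 0 → 𝒜 n = ⊥)
    (h0 : 𝒜 0 = Submodule.span k {(1 : R)}) [Nontrivial R] : (irrel 𝒜 hneg).IsMaximal := by
  classical
  rw [Ideal.isMaximal_iff]
  constructor
  · intro h1
    have h2 := h1 0 le_rfl
    rw [DirectSum.decompose_of_mem_same 𝒜 (SetLike.GradedOne.one_mem)] at h2
    exact one_ne_zero h2
  · intro J x hJ hx hxJ
    have hx0mem : ((DirectSum.decompose 𝒜 x 0 : 𝒜 0) : R) ∈ 𝒜 0 := SetLike.coe_mem _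
    have hy : x - ((DirectSum.decompose 𝒜 x 0 : 𝒜 0) : R) ∈ irrel 𝒜 hneg := by
      intro j hj
      rcases lt_or_eq_of_le hj with hlt | rfl
      · exact eq_zero_of_mem_of_neg 𝒜 hneg hlt (SetLike.coe_mem _)
      · rw [DirectSum.decompose_sub, DirectSum.sub_apply, Submodule.coe_sub,
          DirectSum.decompose_of_mem_same 𝒜 hx0mem, sub_self]
    have hx0J : ((DirectSum.decompose 𝒜 x 0 : 𝒜 0) : R) ∈ J := by
      have h1 := J.sub_mem hxJ (hJ hy)
      rwa [sub_sub_cancel] at h1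
    have h2 : ((DirectSum.decompose 𝒜 x 0 : 𝒜 0) : R) ∈ Submodule.span k {(1 : R)} := by
      rw [← h0]; exact hx0mem
    obtain ⟨c, hc⟩ := Submodule.mem_span_singleton.mp h2
    have hc0 : c ≠ 0 := by
      rintro rfl
      rw [zero_smul] at hc
      apply hx
      rw [← hc, sub_zero] at hy
      exact hy
    have h3 : (1 : R) = c⁻¹ • ((DirectSum.decompose 𝒜 x 0 : 𝒜 0) : R) := by
      rw [← hc, smul_smul, inv_mul_cancel₀ hc0, one_smul]
    rw [h3]
    exact Submodule.smul_of_tower_mem J c⁻¹ hx0J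

theorem isHomogeneous_of_mem_minimalPrimes {I p : Ideal R} (hI : I.IsHomogeneous 𝒜)
    (hp : p ∈ I.minimalPrimes) : p.IsHomogeneous 𝒜 := by
  haveI := hp.1.1
  have hcp : (p.homogeneousCore 𝒜).toIdeal.IsPrime := Ideal.IsPrime.homogeneousCore hp.1.1
  have hIle : I ≤ (p.homogeneousCore 𝒜).toIdeal := by
    have h1 := Ideal.homogeneousCore_mono 𝒜 hp.1.2
    rw [← hI.toIdeal_homogeneousCore_eq_self]
    exact h1
  have hle : p ≤ (p.homogeneousCore 𝒜).toIdeal :=
    hp.2 ⟨hcp, hIle⟩ (Ideal.toIdeal_homogeneousCore_le 𝒜 p)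
  have heq : (p.homogeneousCore 𝒜).toIdeal = p :=
    le_antisymm (Ideal.toIdeal_homogeneousCore_le 𝒜 p) hle
  rw [← heq]
  exact (p.homogeneousCore 𝒜).isHomogeneous

theorem exists_homogeneous_family (hneg : ∀ n : ℤ, n < 0 → 𝒜 n = ⊥)
    (h0 : 𝒜 0 = Submodule.span k {(1 : R)}) [Algebra.FiniteType k R] (I : Ideal R)
    (hI : I.IsHomogeneous 𝒜) (n : ℕ) (hn : (n : WithBot ℕ∞) ≤ ringKrullDim (R ⧸ I)) :
    ∃ d : Fin n → ℤ, (∀ i, 0 < d i) ∧ ∀ D : ℤ, 0 < D → (∀ i, d i ∣ D) →
      ∃ x : Fin n → R, (∀ i, x i ∈ 𝒜 D) ∧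
        ∀ F : MvPolynomial (Fin n) k, aeval x F ∈ I → F = 0 := by
  classical
  letI : GradedAlgebra (quotGrading 𝒜 I) := quotGradedAlgebra 𝒜 I hI
  have hpos' : ∀ n : ℤ, n < 0 → quotGrading 𝒜 I n = ⊥ := fun n hn => by
    unfold quotGrading; rw [hneg n hn, Submodule.map_bot]
  have h0' : quotGrading 𝒜 I 0 = Submodule.span k {(1 : R ⧸ I)} := by
    unfold quotGrading
    rw [h0, Submodule.map_span, Set.image_singleton, AlgHom.toLinearMap_apply, map_one]
  haveI : Algebra.FiniteType k (R ⧸ I) :=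
    Algebra.FiniteType.of_surjective (Ideal.Quotient.mkₐ k I) (Ideal.Quotient.mkₐ_surjective k I)
  obtain ⟨x', hx'G, hx'⟩ := exists_algebraicIndependent_of_le_ringKrullDim (k := k)
    (A := R ⧸ I) {x | ∃ d : ℤ, 0 < d ∧ x ∈ quotGrading 𝒜 I d}
    (adjoin_homogeneous_pos_eq_top (quotGrading 𝒜 I) hpos' h0') n hn
  choose d hd hxd using hx'G
  refine ⟨d, hd, fun D hD hdvd => ?_⟩
  obtain ⟨x'', hx'', hx''D⟩ := exists_algebraicIndependent_pow_mem (quotGrading 𝒜 I) x' hx' d hd
    hxd D hD hdvd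
  have hlift : ∀ i, ∃ a ∈ 𝒜 D, Ideal.Quotient.mk I a = x'' i := fun i =>
    (mem_quotGrading 𝒜 I).mp (hx''D i)
  choose x hxD hxx using hlift
  refine ⟨x, hxD, fun F hF => ?_⟩
  have h2 : (Ideal.Quotient.mkₐ k I) (aeval x F) =
      aeval (fun i => (Ideal.Quotient.mkₐ k I) (x i)) F := MvPolynomial.comp_aeval_apply _ _ _
  have h3 : (fun i => (Ideal.Quotient.mkₐ k I) (x i)) = x'' := funext fun i => hxx i
  rw [h3] at h2
  apply (algebraicIndependent_iff.mp hx'') F
  rw [← h2, Ideal.Quotient.mkₐ_eq_mk]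
  exact Ideal.Quotient.eq_zero_iff_mem.mpr hF

end Irrelevant

section Chains

theorem exists_minimalPrimes_le_ringKrullDim {R : Type*} [CommRing R] (I : Ideal R) (n : ℕ)
    (hn : (n : WithBot ℕ∞) ≤ ringKrullDim (R ⧸ I)) :
    ∃ p ∈ I.minimalPrimes, (n : WithBot ℕ∞) ≤ ringKrullDim (R ⧸ p) := by
  rw [ringKrullDim_quotient, Order.le_krullDim_iff] at hn
  obtain ⟨l, hl⟩ := hn
  haveI : (l.toFun 0).1.asIdeal.IsPrime := (l.toFun 0).1.isPrime
  have h0 : I ≤ (l.toFun 0).1.asIdeal :=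
    SetLike.coe_subset_coe.mp ((PrimeSpectrum.mem_zeroLocus _ _).mp (l.toFun 0).2)
  obtain ⟨p, hp, hple⟩ := Ideal.exists_minimalPrimes_le h0
  refine ⟨p, hp, ?_⟩
  rw [ringKrullDim_quotient, Order.le_krullDim_iff]
  have hmem : ∀ i, (l.toFun i).1 ∈ PrimeSpectrum.zeroLocus (p : Set R) := by
    intro i
    rw [PrimeSpectrum.mem_zeroLocus]
    have h1 : l.toFun 0 ≤ l.toFun i := l.strictMono.monotone (Fin.zero_le i)
    exact SetLike.coe_subset_coe.mpr (le_trans hple h1)
  exact ⟨LTSeries.mk l.length (fun i => ⟨(l.toFun i).1, hmem i⟩)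
    (fun i j hij => l.strictMono hij), hl⟩

theorem ringKrullDim_localization_quotient_map {R : Type u} [CommRing R] (q : Ideal R)
    [q.IsPrime] (p : Ideal R) [p.IsPrime] (hpq : p ≤ q) :
    ringKrullDim (Localization.AtPrime q ⧸ p.map (algebraMap R (Localization.AtPrime q))) =
      (((q.map (Ideal.Quotient.mk p)).height : ℕ∞) : WithBot ℕ∞) := by
  have hsurj : Function.Surjective (Ideal.Quotient.mk p) := Ideal.Quotient.mk_surjective
  have hker : RingHom.ker (Ideal.Quotient.mk p) ≤ q := by rw [Ideal.mk_ker]; exact hpq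
  haveI h𝔮 : (q.map (Ideal.Quotient.mk p)).IsPrime := Ideal.map_isPrime_of_surjective hsurj hker
  have hsub : Algebra.algebraMapSubmonoid (R ⧸ p) q.primeCompl =
      (q.map (Ideal.Quotient.mk p)).primeCompl := by
    ext x
    constructor
    · rintro ⟨a, ha, rfl⟩
      intro hmem
      apply ha
      obtain ⟨b, hb, hab⟩ := (Ideal.mem_map_iff_of_surjective _ hsurj).mp hmem
      have h1 : b - a ∈ p := Ideal.Quotient.eq.mp hab
      have h2 := q.sub_mem hb (hpq h1)
      rwa [sub_sub_cancel] at h2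
    · intro hx
      obtain ⟨a, rfl⟩ := hsurj x
      refine ⟨a, ?_, rfl⟩
      intro haq
      exact hx (Ideal.mem_map_of_mem _ haq)
  haveI : IsLocalization.AtPrime
      (Localization.AtPrime q ⧸ p.map (algebraMap R (Localization.AtPrime q)))
      (q.map (Ideal.Quotient.mk p)) := by
    show IsLocalization (q.map (Ideal.Quotient.mk p)).primeCompl _
    rw [← hsub]
    infer_instance
  exact IsLocalization.AtPrime.ringKrullDim_eq_height (q.map (Ideal.Quotient.mk p)) _

end Chains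

section CM

variable {k : Type u} [Field k] {R : Type u} [CommRing R] [Algebra k R]
  (𝒜 : ℤ → Submodule k R) [GradedAlgebra 𝒜]
  {M : Type u} [AddCommGroup M] [Module R M]
  (ℳ : ℤ → AddSubgroup M) [DirectSum.Decomposition ℳ] [SetLike.GradedSMul 𝒜 ℳ]

include ℳ in
theorem ker_toSpanSingleton_isHomogeneous {j : ℤ} {m : M} (hm : m ∈ ℳ j) :
    (LinearMap.ker (LinearMap.toSpanSingleton R M m) : Ideal R).IsHomogeneous 𝒜 := by
  intro i a ha
  rw [LinearMap.mem_ker, LinearMap.toSpanSingleton_apply] at ha ⊢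
  rw [← coe_decompose_smul_of_mem 𝒜 ℳ hm a i, ha, DirectSum.decompose_zero]
  rfl

theorem le_ringKrullDim_quotient_ker_of_cm (hneg : ∀ n : ℤ, n < 0 → 𝒜 n = ⊥)
    (h0 : 𝒜 0 = Submodule.span k {(1 : R)}) [Algebra.FiniteType k R] [Module.Finite R M]
    (hMcm : ∀ (q : Ideal R) [q.IsPrime], Subsingleton (LocalizedModule q.primeCompl M) ∨
      LocCoh.IsCohenMacaulayModule (Localization.AtPrime q) (LocalizedModule q.primeCompl M))
    (r : ℕ) (hr : Module.supportDim R M = r) {c : ℤ} {m : M} (hm : m ∈ ℳ c) (hm0 : m ≠ 0) :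
    (r : WithBot ℕ∞) ≤
      ringKrullDim (R ⧸ (LinearMap.ker (LinearMap.toSpanSingleton R M m) : Ideal R)) := by
  classical
  haveI : IsNoetherianRing R := Algebra.FiniteType.isNoetherianRing k R
  haveI : Nontrivial R := by
    by_contra h
    rw [not_nontrivial_iff_subsingleton] at h
    haveI := Module.subsingleton R M
    exact hm0 (Subsingleton.elim _ _)
  haveI hqmax : (irrel 𝒜 hneg).IsMaximal := irrel_isMaximal 𝒜 hneg h0
  haveI hqprime : (irrel 𝒜 hneg).IsPrime := hqmax.isPrime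
  have h𝔞mem : ∀ a, a ∈ (LinearMap.ker (LinearMap.toSpanSingleton R M m) : Ideal R) ↔
      a • m = 0 := fun a => by rw [LinearMap.mem_ker, LinearMap.toSpanSingleton_apply]
  have h𝔞hom := ker_toSpanSingleton_isHomogeneous 𝒜 ℳ hm
  have h𝔞ne : (LinearMap.ker (LinearMap.toSpanSingleton R M m) : Ideal R) ≠ ⊤ := by
    intro h
    have h1 : (1 : R) ∈ (LinearMap.ker (LinearMap.toSpanSingleton R M m) : Ideal R) := by
      rw [h]; trivial
    rw [h𝔞mem, one_smul] at h1
    exact hm0 h1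
  have h𝔞q := le_irrel_of_isHomogeneous 𝒜 hneg h0 h𝔞hom h𝔞ne
  -- a minimal prime of `Ann M` of dimension `≥ r`
  have hdimM : (r : WithBot ℕ∞) ≤ ringKrullDim (R ⧸ Module.annihilator R M) := by
    rw [← Module.supportDim_eq_ringKrullDim_quotient_annihilator, hr]
  obtain ⟨p', hp'min, hp'dim⟩ := exists_minimalPrimes_le_ringKrullDim _ r hdimM
  haveI hp'prime : p'.IsPrime := hp'min.1.1
  have hp'hom : p'.IsHomogeneous 𝒜 :=
    isHomogeneous_of_mem_minimalPrimes 𝒜 (annihilator_isHomogeneous 𝒜 ℳ) hp'min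
  have hp'q : p' ≤ irrel 𝒜 hneg := le_irrel_of_isHomogeneous 𝒜 hneg h0 hp'hom hp'prime.ne_top
  have hp'ass : p' ∈ associatedPrimes R M :=
    Module.associatedPrimes.minimalPrimes_annihilator_subset_associatedPrimes R M hp'min
  -- localize at the irrelevant ideal
  have hz : LocalizedModule.mkLinearMap (irrel 𝒜 hneg).primeCompl M m ≠ 0 := by
    intro h
    obtain ⟨s, hs⟩ := (IsLocalizedModule.eq_zero_iff (irrel 𝒜 hneg).primeCompl
      (LocalizedModule.mkLinearMap (irrel 𝒜 hneg).primeCompl M)).mp h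
    exact s.2 (h𝔞q ((h𝔞mem _).mpr hs))
  haveI : Nontrivial (LocalizedModule (irrel 𝒜 hneg).primeCompl M) := ⟨⟨_, 0, hz⟩⟩
  have hcm : LocCoh.IsCohenMacaulayModule (Localization.AtPrime (irrel 𝒜 hneg))
      (LocalizedModule (irrel 𝒜 hneg).primeCompl M) := by
    rcases hMcm (irrel 𝒜 hneg) with h | h
    · exact absurd h (not_subsingleton _)
    · exact h
  obtain ⟨P, hPass, hPle⟩ := exists_le_isAssociatedPrime_of_isNoetherianRing
    (Localization.AtPrime (irrel 𝒜 hneg))
    (LocalizedModule.mkLinearMap (irrel 𝒜 hneg).primeCompl M m) hz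
  haveI hPprime : P.IsPrime := hPass.isPrime
  have hdisj : Disjoint ((irrel 𝒜 hneg).primeCompl : Set R) (P.under R : Set R) :=
    ((IsLocalization.isPrime_iff_isPrime_disjoint (irrel 𝒜 hneg).primeCompl
      (Localization.AtPrime (irrel 𝒜 hneg)) P).mp hPprime).2
  have hpq : P.under R ≤ irrel 𝒜 hneg := by
    intro a ha
    by_contra hna
    exact Set.disjoint_left.mp hdisj hna ha
  have hmap : (P.under R).map (algebraMap R (Localization.AtPrime (irrel 𝒜 hneg))) = P :=
    IsLocalization.map_under (irrel 𝒜 hneg).primeCompl _ P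
  have h𝔞p : (LinearMap.ker (LinearMap.toSpanSingleton R M m) : Ideal R) ≤ P.under R := by
    intro a ha
    show algebraMap R (Localization.AtPrime (irrel 𝒜 hneg)) a ∈ P
    apply hPle
    rw [Submodule.mem_colon_singleton, Submodule.mem_bot, algebraMap_smul, ← map_smul,
      (h𝔞mem a).mp ha, map_zero]
  have hdisj' : Disjoint ((irrel 𝒜 hneg).primeCompl : Set R) (p' : Set R) := by
    rw [Set.disjoint_left]
    intro a ha ha'
    exact ha (hp'q ha')
  have hP'ass : p'.map (algebraMap R (Localization.AtPrime (irrel 𝒜 hneg))) ∈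
      associatedPrimes (Localization.AtPrime (irrel 𝒜 hneg))
        (LocalizedModule (irrel 𝒜 hneg).primeCompl M) := by
    apply Module.associatedPrimes.mem_associatedPrimes_of_comap_mem_associatedPrimes_of_isLocalizedModule
      (irrel 𝒜 hneg).primeCompl (LocalizedModule.mkLinearMap (irrel 𝒜 hneg).primeCompl M)
    rw [← Ideal.under_def, IsLocalization.under_map_of_isPrime_disjoint
      (irrel 𝒜 hneg).primeCompl _ hp'prime hdisj']
    exact hp'ass
  have h1 := Groth.Agent.H29.CM.ringKrullDim_quotient_eq_supportDim_of_isCM hcm hPass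
  have h2 := Groth.Agent.H29.CM.ringKrullDim_quotient_eq_supportDim_of_isCM hcm hP'ass
  have h3 := ringKrullDim_localization_quotient_map (irrel 𝒜 hneg) (P.under R) hpq
  rw [hmap] at h3
  have h4 := ringKrullDim_localization_quotient_map (irrel 𝒜 hneg) p' hp'q
  haveI : IsDomain (R ⧸ p') := Ideal.Quotient.isDomain p'
  haveI : Algebra.FiniteType k (R ⧸ p') :=
    Algebra.FiniteType.of_surjective (Ideal.Quotient.mkₐ k p') (Ideal.Quotient.mkₐ_surjective k p')
  haveI : ((irrel 𝒜 hneg).map (Ideal.Quotient.mk p')).IsMaximal := by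
    have hsurj : Function.Surjective (Ideal.Quotient.mk p') := Ideal.Quotient.mk_surjective
    rcases Ideal.map_eq_top_or_isMaximal_of_surjective (Ideal.Quotient.mk p') hsurj hqmax with h | h
    · exfalso
      have hker : RingHom.ker (Ideal.Quotient.mk p') ≤ irrel 𝒜 hneg := by
        rw [Ideal.mk_ker]; exact hp'q
      haveI := Ideal.map_isPrime_of_surjective hsurj hker
      exact Ideal.IsPrime.ne_top' h
    · exact h
  have h5 := Groth.Agent.H54.height_eq_ringKrullDim_of_isMaximal k (R ⧸ p')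
    ((irrel 𝒜 hneg).map (Ideal.Quotient.mk p'))
  have h6 : ((((irrel 𝒜 hneg).map (Ideal.Quotient.mk (P.under R))).height : ℕ∞) : WithBot ℕ∞) ≤
      ringKrullDim (R ⧸ P.under R) := by
    have hsurj : Function.Surjective (Ideal.Quotient.mk (P.under R)) :=
      Ideal.Quotient.mk_surjective
    have hker : RingHom.ker (Ideal.Quotient.mk (P.under R)) ≤ irrel 𝒜 hneg := by
      rw [Ideal.mk_ker]; exact hpq
    haveI := Ideal.map_isPrime_of_surjective hsurj hker
    exact Ideal.height_le_ringKrullDim_of_ne_top Ideal.IsPrime.ne_top'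
  have h7 : ringKrullDim (R ⧸ P.under R) ≤
      ringKrullDim (R ⧸ (LinearMap.ker (LinearMap.toSpanSingleton R M m) : Ideal R)) :=
    ringKrullDim_le_of_surjective (Ideal.Quotient.factor h𝔞p) (Ideal.Quotient.factor_surjective h𝔞p)
  calc (r : WithBot ℕ∞) ≤ ringKrullDim (R ⧸ p') := hp'dim
    _ = ((((irrel 𝒜 hneg).map (Ideal.Quotient.mk p')).height : ℕ∞) : WithBot ℕ∞) := h5.symm
    _ = ringKrullDim (Localization.AtPrime (irrel 𝒜 hneg) ⧸
          p'.map (algebraMap R (Localization.AtPrime (irrel 𝒜 hneg)))) := h4.symm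
    _ = Module.supportDim (Localization.AtPrime (irrel 𝒜 hneg))
          (LocalizedModule (irrel 𝒜 hneg).primeCompl M) := h2
    _ = ringKrullDim (Localization.AtPrime (irrel 𝒜 hneg) ⧸ P) := h1.symm
    _ = ((((irrel 𝒜 hneg).map (Ideal.Quotient.mk (P.under R))).height : ℕ∞) : WithBot ℕ∞) := h3
    _ ≤ ringKrullDim (R ⧸ P.under R) := h6
    _ ≤ _ := h7

end CM

end Groth.Agent.H21.SegreDim
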