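import Mathlib

/-!
# Graded algebras over a field, graded in non-negative degrees with degree-zero part `k`
(helper21).

* `finiteType_of_graded_noetherian`: Noetherian ⇒ of finite type over `k`.
* `adjoin_homogeneous_pos_eq_top`: generated by homogeneous elements of positive degree.
* `exists_algebraicIndependent_pow_mem`: equalising degrees of an algebraically independent family
  of homogeneous elements of positive degrees.
-/

set_option autoImplicit false

namespace Groth.Agent.H21.SegreDim

theorem exists_finset_homogeneous_adjoin_eq_top {k : Type*} [Field k] {A : Type*} [CommRing A]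
    [Algebra k A] (𝒯 : ℤ → Submodule k A) [GradedAlgebra 𝒯]
    (hneg : ∀ n : ℤ, n < 0 → 𝒯 n = ⊥) (h0 : 𝒯 0 = Submodule.span k {(1 : A)})
    [IsNoetherianRing A] :
    ∃ F : Finset A, (∀ f ∈ F, ∃ d : ℤ, 0 < d ∧ f ∈ 𝒯 d) ∧ Algebra.adjoin k (F : Set A) = ⊤ := by
  classical
  let Gset : Set A := {x | ∃ d : ℤ, 0 < d ∧ x ∈ 𝒯 d}
  have hfg : (Ideal.span Gset).FG := IsNoetherian.noetherian _
  obtain ⟨F, hFG, hF⟩ := (Submodule.fg_span_iff_fg_span_finset_subset Gset).mp hfg
  let B : Subalgebra k A := Algebra.adjoin k (F : Set A)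
  have key : ∀ N : ℕ, ∀ n : ℤ, n < N → ∀ x ∈ 𝒯 n, x ∈ B := by
    intro N
    induction N with
    | zero =>
      intro n hn x hx
      rw [hneg n (by simpa using hn)] at hx
      rw [(Submodule.mem_bot k).mp hx]
      exact zero_mem _
    | succ N ih =>
      intro n hn x hx
      have hn' : n ≤ N := by
        have : n < (N : ℤ) + 1 := by exact_mod_cast hn
        exact Int.lt_add_one_iff.mp this
      rcases lt_or_eq_of_le hn' with h | h
      · exact ih n h x hx
      · rcases Nat.eq_zero_or_pos N with hN | hN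
        · subst hN
          have hn0 : n = 0 := by simpa using h
          subst hn0
          rw [h0] at hx
          obtain ⟨c, rfl⟩ := Submodule.mem_span_singleton.mp hx
          rw [← Algebra.algebraMap_eq_smul_one]
          exact Subalgebra.algebraMap_mem B c
        · have hnpos : 0 < n := by rw [h]; exact_mod_cast hN
          have hxI : x ∈ Submodule.span A Gset := Submodule.subset_span ⟨n, hnpos, hx⟩
          have hxI' : x ∈ Submodule.span A (F : Set A) := by
            have hF' : Submodule.span A Gset = Submodule.span A (F : Set A) := hF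
            rw [← hF']; exact hxI
          obtain ⟨c, -, hc⟩ := Submodule.mem_span_finset.mp hxI'
          have hx1 : x = GradedAlgebra.proj 𝒯 n x := by
            rw [GradedAlgebra.proj_apply, DirectSum.decompose_of_mem_same 𝒯 hx]
          rw [hx1, ← hc, map_sum]
          refine Subalgebra.sum_mem _ fun f hf => ?_
          obtain ⟨d, hd, hfd⟩ := hFG hf
          have h1 : GradedAlgebra.proj 𝒯 n (c f • f) =
              (DirectSum.decompose 𝒯 (c f) (n - d) : A) * f := by
            rw [GradedAlgebra.proj_apply, smul_eq_mul]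
            have h2 := DirectSum.coe_decompose_mul_add_of_right_mem 𝒯 (a := c f) (i := n - d) hfd
            rwa [sub_add_cancel] at h2
          rw [h1]
          refine Subalgebra.mul_mem _ ?_ (Algebra.subset_adjoin hf)
          exact ih (n - d) (by rw [← h]; omega) _ (SetLike.coe_mem _)
  refine ⟨F, fun f hf => hFG hf, ?_⟩
  rw [eq_top_iff]
  intro a _
  rw [← DirectSum.sum_support_decompose 𝒯 a]
  refine Subalgebra.sum_mem _ fun n _ => ?_
  refine key (n.toNat + 1) n ?_ _ (SetLike.coe_mem _)
  have := Int.self_le_toNat n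
  push_cast
  omega

theorem finiteType_of_graded_noetherian {k : Type*} [Field k] {A : Type*} [CommRing A]
    [Algebra k A] (𝒯 : ℤ → Submodule k A) [GradedAlgebra 𝒯]
    (hneg : ∀ n : ℤ, n < 0 → 𝒯 n = ⊥) (h0 : 𝒯 0 = Submodule.span k {(1 : A)})
    [IsNoetherianRing A] : Algebra.FiniteType k A := by
  obtain ⟨F, -, hF⟩ := exists_finset_homogeneous_adjoin_eq_top 𝒯 hneg h0
  exact ⟨⟨F, hF⟩⟩

theorem adjoin_homogeneous_pos_eq_top {k : Type*} [Field k] {A : Type*} [CommRing A]
    [Algebra k A] (𝒜 : ℤ → Submodule k A) [GradedAlgebra 𝒜]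
    (hneg : ∀ n : ℤ, n < 0 → 𝒜 n = ⊥) (h0 : 𝒜 0 = Submodule.span k {(1 : A)}) :
    Algebra.adjoin k {x : A | ∃ d : ℤ, 0 < d ∧ x ∈ 𝒜 d} = ⊤ := by
  classical
  have key : ∀ (n : ℤ) (y : A), y ∈ 𝒜 n →
      y ∈ Algebra.adjoin k {x : A | ∃ d : ℤ, 0 < d ∧ x ∈ 𝒜 d} := by
    intro n y hy
    rcases lt_trichotomy n 0 with h | h | h
    · rw [hneg n h] at hy
      rw [(Submodule.mem_bot k).mp hy]
      exact zero_mem _
    · subst h
      rw [h0] at hy
      obtain ⟨c, hc⟩ := Submodule.mem_span_singleton.mp hy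
      rw [← hc, ← Algebra.algebraMap_eq_smul_one]
      exact Subalgebra.algebraMap_mem _ c
    · exact Algebra.subset_adjoin ⟨n, h, hy⟩
  rw [eq_top_iff]
  intro a _
  rw [← DirectSum.sum_support_decompose 𝒜 a]
  exact Subalgebra.sum_mem _ fun n _ => key n _ (SetLike.coe_mem _)

theorem exists_algebraicIndependent_pow_mem {k : Type*} [Field k] {A : Type*} [CommRing A]
    [Algebra k A] (𝒜 : ℤ → Submodule k A) [GradedAlgebra 𝒜] {n : ℕ} (x : Fin n → A)
    (hx : AlgebraicIndependent k x) (d : Fin n → ℤ) (hd : ∀ i, 0 < d i)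
    (hxd : ∀ i, x i ∈ 𝒜 (d i)) (M : ℤ) (hM : 0 < M) (hdM : ∀ i, d i ∣ M) :
    ∃ x' : Fin n → A, AlgebraicIndependent k x' ∧ ∀ i, x' i ∈ 𝒜 M := by
  have hpos : ∀ i, 0 < M / d i := fun i => Int.ediv_pos_of_pos_of_dvd hM (hd i).le (hdM i)
  refine ⟨fun i => x i ^ (M / d i).toNat, ?_, fun i => ?_⟩
  · have h1 := hx.polynomial_aeval_of_transcendental
      (f := fun i => (Polynomial.X : Polynomial k) ^ (M / d i).toNat)
      (fun i => (Polynomial.transcendental_X k).pow (by have := hpos i; omega))
    simpa using h1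
  · have h := SetLike.pow_mem_graded (M / d i).toNat (hxd i)
    have h2 : (M / d i).toNat • d i = M := by
      rw [nsmul_eq_mul, Int.toNat_of_nonneg (hpos i).le, Int.ediv_mul_cancel (hdM i)]
    rwa [h2] at h

end Groth.Agent.H21.SegreDim
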