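import Mathlib

/-!
# Algebraic independence of monomials and of Segre-type products (helper21).
-/

set_option autoImplicit false

open scoped TensorProduct
open MvPolynomial

namespace Groth.Agent.H21.SegreDim

theorem algebraicIndependent_monomial {k : Type*} [CommRing k] {ι κ : Type*} [Fintype κ]
    (e : κ → ι →₀ ℕ) (he : Function.Injective (fun d : κ →₀ ℕ => ∑ j, d j • e j)) :
    AlgebraicIndependent k (fun j => (MvPolynomial.monomial (e j) (1 : k))) := by
  classical
  rw [algebraicIndependent_iff]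
  intro F hF
  have h1 : MvPolynomial.aeval (fun j => MvPolynomial.monomial (e j) (1 : k)) F =
      ∑ d ∈ F.support, MvPolynomial.monomial (∑ j, d j • e j) (F.coeff d) := by
    rw [MvPolynomial.aeval_def, MvPolynomial.eval₂_eq']
    refine Finset.sum_congr rfl fun d _ => ?_
    rw [MvPolynomial.monomial_sum_index, MvPolynomial.algebraMap_eq]
    congr 1
    refine Finset.prod_congr rfl fun j _ => ?_
    rw [MvPolynomial.monomial_pow, one_pow]
  ext d₀
  rw [MvPolynomial.coeff_zero]
  have h2 := congrArg (MvPolynomial.coeff (∑ j, d₀ j • e j)) (h1.symm.trans hF)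
  rw [MvPolynomial.coeff_sum, MvPolynomial.coeff_zero] at h2
  simp only [MvPolynomial.coeff_monomial] at h2
  have h3 : ∀ d : κ →₀ ℕ, (∑ j, d j • e j = ∑ j, d₀ j • e j) ↔ d = d₀ :=
    fun d => ⟨fun h => he h, fun h => by rw [h]⟩
  simp only [h3, Finset.sum_ite_eq'] at h2
  by_cases hd : d₀ ∈ F.support
  · simpa [hd] using h2
  · exact MvPolynomial.notMem_support_iff.mp hd

/-- exponent vectors of the monomials `X₀ Y_j` and `X_{i+1} Y₀`. -/
noncomputable def segreExp (a b : ℕ) : (Fin (b + 1) ⊕ Fin a) → ((Fin (a + 1) ⊕ Fin (b + 1)) →₀ ℕ)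
  | Sum.inl j => Finsupp.single (Sum.inl 0) 1 + Finsupp.single (Sum.inr j) 1
  | Sum.inr i => Finsupp.single (Sum.inl i.succ) 1 + Finsupp.single (Sum.inr 0) 1

theorem segreExp_injective (a b : ℕ) :
    Function.Injective (fun d : (Fin (b + 1) ⊕ Fin a) →₀ ℕ => ∑ j, d j • segreExp a b j) := by
  classical
  intro d d' h
  have hev : ∀ (d : (Fin (b + 1) ⊕ Fin a) →₀ ℕ) (p : Fin (a + 1) ⊕ Fin (b + 1)),
      (∑ j, d j • segreExp a b j) p = ∑ j, d j * segreExp a b j p := by
    intro d p
    simp [Finset.sum_apply]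
  have key : ∀ p, ∑ j, d j * segreExp a b j p = ∑ j, d' j * segreExp a b j p := by
    intro p
    rw [← hev, ← hev]
    exact DFunLike.congr_fun h p
  have h1 : ∀ i : Fin a, d (Sum.inr i) = d' (Sum.inr i) := by
    intro i
    have := key (Sum.inl i.succ)
    simpa [Fintype.sum_sum_type, segreExp, Finsupp.single_apply, Fin.succ_ne_zero,
      (Fin.succ_ne_zero _).symm] using this
  have h2 : ∀ j : Fin (b + 1), j ≠ 0 → d (Sum.inl j) = d' (Sum.inl j) := by
    intro j hj
    have := key (Sum.inr j)
    simpa [Fintype.sum_sum_type, segreExp, Finsupp.single_apply, hj, Ne.symm hj] using this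
  have h3 : d (Sum.inl 0) = d' (Sum.inl 0) := by
    have := key (Sum.inr 0)
    simp only [Fintype.sum_sum_type, segreExp, Finsupp.single_apply, Finsupp.add_apply] at this
    simp [h1] at this
    exact this
  ext p
  rcases p with j | i
  · by_cases hj : j = 0
    · rw [hj]; exact h3
    · exact h2 j hj
  · exact h1 i

theorem algebraicIndependent_segreMonomials (k : Type*) [CommRing k] (a b : ℕ) :
    AlgebraicIndependent k
      (Sum.elim
        (fun j : Fin (b + 1) =>
          (X (Sum.inl 0) * X (Sum.inr j) : MvPolynomial (Fin (a + 1) ⊕ Fin (b + 1)) k))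
        (fun i : Fin a => X (Sum.inl i.succ) * X (Sum.inr 0))) := by
  have h := algebraicIndependent_monomial (k := k) (segreExp a b) (segreExp_injective a b)
  convert h using 1
  funext p
  rcases p with j | i
  · simp only [Sum.elim_inl, segreExp]
    show MvPolynomial.monomial _ (1 : k) * MvPolynomial.monomial _ (1 : k) = _
    rw [MvPolynomial.monomial_mul, mul_one]
  · simp only [Sum.elim_inr, segreExp]
    show MvPolynomial.monomial _ (1 : k) * MvPolynomial.monomial _ (1 : k) = _
    rw [MvPolynomial.monomial_mul, mul_one]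

theorem algebraicIndependent_sumElim_tmul {k : Type*} [Field k] {R S : Type*} [CommRing R]
    [CommRing S] [Algebra k R] [Algebra k S] {σ τ : Type*} (x : σ → R) (y : τ → S)
    (hx : AlgebraicIndependent k x) (hy : AlgebraicIndependent k y) :
    AlgebraicIndependent k
      (Sum.elim (fun i => x i ⊗ₜ[k] (1 : S)) (fun j => (1 : R) ⊗ₜ[k] y j)) := by
  rw [algebraicIndependent_iff_injective_aeval] at hx hy ⊢
  let Ψ : MvPolynomial σ k ⊗[k] MvPolynomial τ k →ₐ[k] R ⊗[k] S :=
    Algebra.TensorProduct.map (aeval x) (aeval y)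
  have hΨ : Function.Injective Ψ :=
    TensorProduct.map_injective_of_flat_flat (aeval x).toLinearMap (aeval y).toLinearMap hx hy
  let e := MvPolynomial.tensorEquivSum k σ τ k
  have heq : (aeval (Sum.elim (fun i => x i ⊗ₜ[k] (1 : S)) (fun j => (1 : R) ⊗ₜ[k] y j)) :
      MvPolynomial (σ ⊕ τ) k →ₐ[k] R ⊗[k] S) = Ψ.comp e.symm.toAlgHom := by
    apply MvPolynomial.algHom_ext
    rintro (i | j)
    · have h1 : e.symm (X (Sum.inl i)) = (X i) ⊗ₜ[k] (1 : MvPolynomial τ k) := by
        rw [AlgEquiv.symm_apply_eq]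
        exact (MvPolynomial.tensorEquivSum_X_tmul_one i).symm
      simp [Ψ, h1]
    · have h1 : e.symm (X (Sum.inr j)) = (1 : MvPolynomial σ k) ⊗ₜ[k] (X j) := by
        rw [AlgEquiv.symm_apply_eq]
        exact (MvPolynomial.tensorEquivSum_one_tmul_X j).symm
      simp [Ψ, h1]
  rw [heq]
  exact hΨ.comp e.symm.injective

theorem algebraicIndependent_segre_tmul {k : Type*} [Field k] {R S : Type*} [CommRing R]
    [CommRing S] [Algebra k R] [Algebra k S] {a b : ℕ} (x : Fin (a + 1) → R)
    (y : Fin (b + 1) → S) (hx : AlgebraicIndependent k x) (hy : AlgebraicIndependent k y) :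
    AlgebraicIndependent k
      (Sum.elim (fun j : Fin (b + 1) => x 0 ⊗ₜ[k] y j) (fun i : Fin a => x i.succ ⊗ₜ[k] y 0) :
        Fin (b + 1) ⊕ Fin a → R ⊗[k] S) := by
  have hw := algebraicIndependent_sumElim_tmul x y hx hy
  have hm := algebraicIndependent_segreMonomials k a b
  have h1 := hm.map' (f := aeval (Sum.elim (fun i => x i ⊗ₜ[k] (1 : S))
    (fun j => (1 : R) ⊗ₜ[k] y j))) (algebraicIndependent_iff_injective_aeval.mp hw)
  convert h1 using 1
  funext p
  rcases p with j | i <;> simp [Algebra.TensorProduct.tmul_mul_tmul]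

end Groth.Agent.H21.SegreDim
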