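import Mathlib

/-!
# Weight projections on `R ⊗ S` for graded `R`, `S`, and transcendence over the diagonal part
(helper21).

For graded `k`-algebras `R = ⊕ R_n`, `S = ⊕ S_n`, the tensor product `R ⊗ S` is graded by the weight
`deg_S - deg_R`; `piW w` is the projection onto the weight-`w` part.  The diagonal part `Dsub`
is the weight-zero part.  Main result: if `t` is an algebraically independent family in the
diagonal part, some `x ⊗ 1` (`x` homogeneous of positive degree) is transcendental over `k[t]`.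
-/

set_option autoImplicit false
universe u

open scoped TensorProduct

namespace Groth.Agent.H21.SegreDim

section

variable {k : Type u} [Field k] {R : Type u} [CommRing R] [Algebra k R]
  (𝒜 : ℤ → Submodule k R) [GradedAlgebra 𝒜]
  {S : Type u} [CommRing S] [Algebra k S] (ℬ : ℤ → Submodule k S) [GradedAlgebra ℬ]

/-- `(a, s) ↦ a ⊗ proj_{n+w} s` on `𝒜 n × S` -/
noncomputable def Fw (w n : ℤ) : 𝒜 n →ₗ[k] S →ₗ[k] R ⊗[k] S :=
  (TensorProduct.mk k R S).compl₁₂ (𝒜 n).subtype (GradedAlgebra.proj ℬ (n + w))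

/-- projection of `R ⊗ S` onto its weight-`w` part `⊕ R_n ⊗ S_{n+w}` -/
noncomputable def piW (w : ℤ) : R ⊗[k] S →ₗ[k] R ⊗[k] S :=
  TensorProduct.lift ((DirectSum.toModule k ℤ (S →ₗ[k] R ⊗[k] S) (Fw 𝒜 ℬ w)) ∘ₗ
    (DirectSum.decomposeLinearEquiv 𝒜).toLinearMap)

theorem piW_tmul_of_mem (w : ℤ) {m : ℤ} {a : R} (ha : a ∈ 𝒜 m) (s : S) :
    piW 𝒜 ℬ w (a ⊗ₜ[k] s) = a ⊗ₜ[k] (GradedAlgebra.proj ℬ (m + w) s) := by
  unfold piW
  rw [TensorProduct.lift.tmul, LinearMap.comp_apply, LinearEquiv.coe_coe,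
    DirectSum.decomposeLinearEquiv_apply, DirectSum.decompose_of_mem 𝒜 ha,
    ← DirectSum.lof_eq_of k, DirectSum.toModule_lof]
  rfl

theorem hom_induction {C : R ⊗[k] S → Prop} (zero : C 0) (add : ∀ x y, C x → C y → C (x + y))
    (tmul : ∀ (p : ℤ) (c : R) (_ : c ∈ 𝒜 p) (s : S), C (c ⊗ₜ[k] s)) (x : R ⊗[k] S) : C x := by
  classical
  induction x using TensorProduct.induction_on with
  | zero => exact zero
  | tmul r s =>
    rw [← DirectSum.sum_support_decompose 𝒜 r, TensorProduct.sum_tmul]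
    apply Finset.sum_induction _ C add zero
    intro p _
    exact tmul p _ (SetLike.coe_mem _) s
  | add x y hx hy => exact add x y hx hy

/-- the diagonal part of `R ⊗ S` -/
def Dsub : Submodule k (R ⊗[k] S) :=
  Submodule.span k {x | ∃ n : ℤ, ∃ a ∈ 𝒜 n, ∃ b ∈ ℬ n, x = a ⊗ₜ[k] b}

theorem piW_mul_of_mem (w : ℤ) {n : ℤ} {a : R} (ha : a ∈ 𝒜 n) {b : S} (hb : b ∈ ℬ n)
    (x : R ⊗[k] S) :
    piW 𝒜 ℬ w ((a ⊗ₜ[k] b) * x) = (a ⊗ₜ[k] b) * piW 𝒜 ℬ w x := by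
  induction x using hom_induction 𝒜 with
  | zero => rw [mul_zero, map_zero, mul_zero]
  | add x y hx hy => rw [mul_add, map_add, hx, hy, map_add, mul_add]
  | tmul p c hc s =>
    rw [Algebra.TensorProduct.tmul_mul_tmul,
      piW_tmul_of_mem 𝒜 ℬ w (SetLike.GradedMul.mul_mem ha hc),
      piW_tmul_of_mem 𝒜 ℬ w hc, Algebra.TensorProduct.tmul_mul_tmul, GradedAlgebra.proj_apply,
      GradedAlgebra.proj_apply, add_assoc, DirectSum.coe_decompose_mul_add_of_left_mem ℬ hb]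

theorem piW_mul_of_mem_Dsub (w : ℤ) {y : R ⊗[k] S} (hy : y ∈ Dsub 𝒜 ℬ) (x : R ⊗[k] S) :
    piW 𝒜 ℬ w (y * x) = y * piW 𝒜 ℬ w x := by
  unfold Dsub at hy
  induction hy using Submodule.span_induction with
  | mem y hy =>
    obtain ⟨n, a, ha, b, hb, rfl⟩ := hy
    exact piW_mul_of_mem 𝒜 ℬ w ha hb x
  | zero => rw [zero_mul, map_zero, zero_mul]
  | add y y' _ _ hy hy' => rw [add_mul, map_add, hy, hy', add_mul]
  | smul c y _ hy => rw [smul_mul_assoc, map_smul, hy, smul_mul_assoc]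

theorem piW_pow_tmul_one {d : ℤ} (hd : d ≠ 0) {x : R} (hx : x ∈ 𝒜 d) (j j₀ : ℕ) :
    piW 𝒜 ℬ (-(j₀ • d)) ((x ⊗ₜ[k] (1 : S)) ^ j) =
      if j = j₀ then (x ⊗ₜ[k] (1 : S)) ^ j else 0 := by
  rw [Algebra.TensorProduct.tmul_pow, one_pow,
    piW_tmul_of_mem 𝒜 ℬ _ (SetLike.pow_mem_graded j hx), GradedAlgebra.proj_apply]
  have h1 : (1 : S) ∈ ℬ 0 := SetLike.GradedOne.one_mem
  split_ifs with h
  · subst h
    rw [add_neg_cancel, DirectSum.decompose_of_mem_same ℬ h1]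
  · rw [DirectSum.decompose_of_mem_ne ℬ h1, TensorProduct.tmul_zero]
    intro h0
    apply h
    have h2 : (j : ℤ) * d = (j₀ : ℤ) * d := by
      have := sub_eq_zero.mp (by rw [sub_eq_add_neg]; exact h0.symm : j • d - j₀ • d = 0)
      simpa [nsmul_eq_mul] using this
    exact_mod_cast mul_right_cancel₀ hd h2

theorem exists_mul_pow_eq_zero_of_isAlgebraic (P : Subalgebra k (R ⊗[k] S))
    (hP : ∀ p ∈ P, p ∈ Dsub 𝒜 ℬ) {d : ℤ} (hd : d ≠ 0) {x : R} (hx : x ∈ 𝒜 d)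
    (halg : IsAlgebraic P (x ⊗ₜ[k] (1 : S))) :
    ∃ τ ∈ P, τ ≠ 0 ∧ ∃ N : ℕ, τ * (x ⊗ₜ[k] (1 : S)) ^ N = 0 := by
  classical
  obtain ⟨f, hf0, hf⟩ := halg
  refine ⟨(f.leadingCoeff : R ⊗[k] S), f.leadingCoeff.2, ?_, f.natDegree, ?_⟩
  · intro h
    apply hf0
    rw [← Polynomial.leadingCoeff_eq_zero]
    exact Subtype.ext h
  · have h1 : Polynomial.aeval (x ⊗ₜ[k] (1 : S)) f =
        ∑ j ∈ Finset.range (f.natDegree + 1),
          ((f.coeff j : P) : R ⊗[k] S) * (x ⊗ₜ[k] (1 : S)) ^ j := by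
      rw [Polynomial.aeval_eq_sum_range]
      rfl
    rw [h1] at hf
    have h2 := congrArg (piW 𝒜 ℬ (-(f.natDegree • d))) hf
    rw [map_sum, map_zero] at h2
    simp only [piW_mul_of_mem_Dsub 𝒜 ℬ _ (hP _ (f.coeff _).2),
      piW_pow_tmul_one 𝒜 ℬ hd hx] at h2
    simp only [mul_ite, mul_zero, Finset.sum_ite_eq', Finset.mem_range, Nat.lt_succ_self,
      if_true] at h2
    exact h2

/-- the ideal generated by the `x ⊗ 1`, `x` homogeneous of positive degree -/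
def Ipos : Ideal (R ⊗[k] S) :=
  Ideal.span {u | ∃ d : ℤ, 0 < d ∧ ∃ x ∈ 𝒜 d, u = x ⊗ₜ[k] (1 : S)}

theorem exists_sub_algebraMap_mem_Ipos (hposR : ∀ n : ℤ, n < 0 → 𝒜 n = ⊥)
    (h0R : 𝒜 0 = Submodule.span k {(1 : R)}) (h0S : ℬ 0 = Submodule.span k {(1 : S)})
    {y : R ⊗[k] S} (hy : y ∈ Dsub 𝒜 ℬ) :
    ∃ c : k, y - algebraMap k (R ⊗[k] S) c ∈ Ipos (S := S) 𝒜 := by
  unfold Dsub at hy
  induction hy using Submodule.span_induction with
  | mem y hy =>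
    obtain ⟨n, a, ha, b, hb, rfl⟩ := hy
    rcases lt_trichotomy n 0 with h | h | h
    · rw [hposR n h] at ha
      rw [(Submodule.mem_bot k).mp ha]
      exact ⟨0, by rw [TensorProduct.zero_tmul, map_zero, sub_zero]; exact zero_mem _⟩
    · subst h
      rw [h0R] at ha
      rw [h0S] at hb
      obtain ⟨α, rfl⟩ := Submodule.mem_span_singleton.mp ha
      obtain ⟨β, rfl⟩ := Submodule.mem_span_singleton.mp hb
      refine ⟨α * β, ?_⟩
      have h1 : (α • (1 : R)) ⊗ₜ[k] (β • (1 : S)) = algebraMap k (R ⊗[k] S) (α * β) := by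
        rw [TensorProduct.smul_tmul_smul, Algebra.algebraMap_eq_smul_one,
          Algebra.TensorProduct.one_def]
      rw [h1, sub_self]
      exact zero_mem _
    · refine ⟨0, ?_⟩
      rw [map_zero, sub_zero]
      have h1 : a ⊗ₜ[k] b = (a ⊗ₜ[k] (1 : S)) * ((1 : R) ⊗ₜ[k] b) := by
        rw [Algebra.TensorProduct.tmul_mul_tmul, mul_one, one_mul]
      rw [h1]
      exact Ideal.mul_mem_right _ _ (Ideal.subset_span ⟨n, h, a, ha, rfl⟩)
  | zero => exact ⟨0, by rw [map_zero, sub_zero]; exact zero_mem _⟩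
  | add y y' _ _ hy hy' =>
    obtain ⟨c, hc⟩ := hy
    obtain ⟨c', hc'⟩ := hy'
    refine ⟨c + c', ?_⟩
    have h1 : y + y' - algebraMap k (R ⊗[k] S) (c + c') =
        (y - algebraMap k (R ⊗[k] S) c) + (y' - algebraMap k (R ⊗[k] S) c') := by
      rw [map_add]; ring
    rw [h1]
    exact add_mem hc hc'
  | smul α y _ hy =>
    obtain ⟨c, hc⟩ := hy
    refine ⟨α * c, ?_⟩
    have h1 : α • y - algebraMap k (R ⊗[k] S) (α * c) =
        algebraMap k (R ⊗[k] S) α * (y - algebraMap k (R ⊗[k] S) c) := by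
      rw [map_mul, Algebra.smul_def]; ring
    rw [h1]
    exact Ideal.mul_mem_left _ _ hc

theorem exists_transcendental_tmul_one (hposR : ∀ n : ℤ, n < 0 → 𝒜 n = ⊥)
    (h0R : 𝒜 0 = Submodule.span k {(1 : R)}) (h0S : ℬ 0 = Submodule.span k {(1 : S)})
    {ι : Type*} [Nonempty ι] {t : ι → R ⊗[k] S} (ht : AlgebraicIndependent k t)
    (htD : ∀ i, t i ∈ Dsub 𝒜 ℬ)
    (hPD : ∀ p ∈ Algebra.adjoin k (Set.range t), p ∈ Dsub 𝒜 ℬ) :
    ∃ d : ℤ, 0 < d ∧ ∃ x ∈ 𝒜 d,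
      Transcendental (Algebra.adjoin k (Set.range t)) (x ⊗ₜ[k] (1 : S)) := by
  classical
  by_contra hcon
  push Not at hcon
  set P := Algebra.adjoin k (Set.range t) with hPdef
  haveI : Nontrivial (R ⊗[k] S) := ht.algebraMap_injective.nontrivial
  haveI : IsDomain P := MulEquiv.isDomain (MvPolynomial ι k) ht.aevalEquiv.symm.toMulEquiv
  have hmul : ∀ a b : R ⊗[k] S, a ∈ P → b ∈ P → a ≠ 0 → b ≠ 0 → a * b ≠ 0 := by
    intro a b ha hb ha0 hb0 hab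
    have h1 : (⟨a, ha⟩ : P) * ⟨b, hb⟩ = 0 := Subtype.ext hab
    rcases mul_eq_zero.mp h1 with h | h
    · exact ha0 (congrArg Subtype.val h)
    · exact hb0 (congrArg Subtype.val h)
  let J : Ideal (R ⊗[k] S) :=
    { carrier := {v | ∃ τ ∈ P, τ ≠ 0 ∧ τ * v = 0}
      add_mem' := by
        rintro v v' ⟨τ, hτ, hτ0, h⟩ ⟨τ', hτ', hτ0', h'⟩
        refine ⟨τ * τ', P.mul_mem hτ hτ', hmul _ _ hτ hτ' hτ0 hτ0', ?_⟩
        rw [mul_add, mul_right_comm, h, zero_mul, mul_assoc, h', mul_zero, add_zero]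
      zero_mem' := ⟨1, P.one_mem, one_ne_zero, mul_zero _⟩
      smul_mem' := by
        rintro c v ⟨τ, hτ, hτ0, h⟩
        exact ⟨τ, hτ, hτ0, by rw [smul_eq_mul, mul_left_comm, h, mul_zero]⟩ }
  have hrad : Ipos (S := S) 𝒜 ≤ J.radical := by
    unfold Ipos
    apply Ideal.span_le.mpr
    rintro u ⟨d, hd, x, hx, rfl⟩
    have halg : IsAlgebraic P (x ⊗ₜ[k] (1 : S)) := by
      have h1 := hcon d hd x hx
      rwa [Transcendental, not_not] at h1
    obtain ⟨τ, hτ, hτ0, N, hN⟩ :=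
      exists_mul_pow_eq_zero_of_isAlgebraic 𝒜 ℬ P hPD hd.ne' hx halg
    exact ⟨N, τ, hτ, hτ0, hN⟩
  obtain ⟨i⟩ := ‹Nonempty ι›
  obtain ⟨c, hc⟩ := exists_sub_algebraMap_mem_Ipos 𝒜 ℬ hposR h0R h0S (htD i)
  have hvP : t i - algebraMap k (R ⊗[k] S) c ∈ P :=
    P.sub_mem (Algebra.subset_adjoin ⟨i, rfl⟩) (P.algebraMap_mem c)
  have hv0 : t i - algebraMap k (R ⊗[k] S) c ≠ 0 := by
    intro h
    have h1 : t i = algebraMap k (R ⊗[k] S) c := sub_eq_zero.mp h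
    exact (ht.transcendental i) (h1 ▸ isAlgebraic_algebraMap c)
  obtain ⟨N, τ, hτ, hτ0, hN⟩ := hrad hc
  have h1 : (⟨τ, hτ⟩ : P) * (⟨_, hvP⟩ : P) ^ N = 0 := Subtype.ext hN
  rcases mul_eq_zero.mp h1 with h | h
  · exact hτ0 (congrArg Subtype.val h)
  · exact hv0 (congrArg Subtype.val (eq_zero_of_pow_eq_zero h))

end

end Groth.Agent.H21.SegreDim
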