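import Mathlib
import Groth.Agent.H54.AffineTrdeg

/-!
# Krull dimension of a tensor product of finitely generated algebras over a field: upper bound
(helper21).
-/

set_option autoImplicit false
universe u

open scoped TensorProduct

namespace Groth.Agent.H21.SegreDim

theorem ringKrullDim_le_of_ringHom_isIntegral {A B : Type*} [CommRing A] [CommRing B]
    (f : A →+* B) (hf : f.IsIntegral) : ringKrullDim B ≤ ringKrullDim A := by
  algebraize [f]
  exact Groth.Agent.H54.ringKrullDim_le_of_isIntegral

theorem natCast_succ_le_of_lt {x : WithBot ℕ∞} {n : ℕ} (h : (n : WithBot ℕ∞) < x) :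
    ((n + 1 : ℕ) : WithBot ℕ∞) ≤ x := by
  induction x using WithBot.recBotCoe with
  | bot => exact absurd h (not_lt_bot)
  | coe x =>
    induction x using ENat.recTopCoe with
    | top => exact le_top
    | coe m =>
      have h1 : n < m := by exact_mod_cast h
      exact_mod_cast Nat.succ_le_of_lt h1

theorem ringKrullDim_tensorProduct_le {k : Type u} [Field k] (R S : Type u) [CommRing R]
    [CommRing S] [Algebra k R] [Algebra k S] [Algebra.FiniteType k R] [Algebra.FiniteType k S]
    [Nontrivial S] (r s : ℕ) (hr : ringKrullDim R = r) (hs : ringKrullDim S = s) :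
    ringKrullDim (R ⊗[k] S) ≤ ((r + s : ℕ) : WithBot ℕ∞) := by
  obtain ⟨s', g, hinj, hfin⟩ := exists_finite_inj_algHom_of_fg k S
  have hint : g.toRingHom.IsIntegral := RingHom.Finite.to_isIntegral hfin
  have hs' : s' = s := by
    have h1 := Groth.Agent.H54.ringKrullDim_eq_of_ringHom_isIntegral_of_injective g.toRingHom
      hint hinj
    rw [Groth.Agent.H54.ringKrullDim_mvPolynomial_field, hs] at h1
    exact_mod_cast h1.symm
  subst hs'
  let Φ : R ⊗[k] MvPolynomial (Fin s') k →ₐ[k] R ⊗[k] S :=
    Algebra.TensorProduct.map (AlgHom.id k R) g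
  have hΦ : Φ.toRingHom.IsIntegral := by
    intro z
    induction z using TensorProduct.induction_on with
    | zero => exact RingHom.isIntegralElem_zero _
    | add x y hx hy => exact RingHom.IsIntegralElem.add _ hx hy
    | tmul a b =>
      have h1 : a ⊗ₜ[k] b = (a ⊗ₜ[k] (1 : S)) * ((1 : R) ⊗ₜ[k] b) := by
        rw [Algebra.TensorProduct.tmul_mul_tmul, mul_one, one_mul]
      rw [h1]
      refine RingHom.IsIntegralElem.mul _ ?_ ?_
      · have h2 : a ⊗ₜ[k] (1 : S) = Φ.toRingHom (a ⊗ₜ[k] (1 : MvPolynomial (Fin s') k)) := by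
          simp [Φ]
        rw [h2]
        exact RingHom.isIntegralElem_map _
      · obtain ⟨p, hp, hpb⟩ := hint b
        refine ⟨p.map (Algebra.TensorProduct.includeRight :
          MvPolynomial (Fin s') k →ₐ[k] R ⊗[k] MvPolynomial (Fin s') k).toRingHom, hp.map _, ?_⟩
        rw [Polynomial.eval₂_map]
        have h2 : Φ.toRingHom.comp (Algebra.TensorProduct.includeRight :
            MvPolynomial (Fin s') k →ₐ[k] R ⊗[k] MvPolynomial (Fin s') k).toRingHom =
            (Algebra.TensorProduct.includeRight : S →ₐ[k] R ⊗[k] S).toRingHom.comp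
              g.toRingHom := by
          refine RingHom.ext fun q => ?_
          simp [Φ]
        rw [h2]
        have h3 := Polynomial.hom_eval₂ p g.toRingHom
          (Algebra.TensorProduct.includeRight : S →ₐ[k] R ⊗[k] S).toRingHom b
        rw [hpb, map_zero] at h3
        exact h3.symm
  have h1 := ringKrullDim_le_of_ringHom_isIntegral Φ.toRingHom hΦ
  have h2 : ringKrullDim (R ⊗[k] MvPolynomial (Fin s') k) =
      ringKrullDim (MvPolynomial (Fin s') R) :=
    ringKrullDim_eq_of_ringEquiv (MvPolynomial.algebraTensorAlgEquiv k R).toRingEquiv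
  haveI : IsNoetherianRing R := Algebra.FiniteType.isNoetherianRing k R
  rw [h2, MvPolynomial.ringKrullDim_of_isNoetherianRing, hr] at h1
  simpa using h1

end Groth.Agent.H21.SegreDim
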