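import Mathlib
import Groth.Agent.H54.AffineTrdeg

/-!
# Krull dimension of finitely generated algebras over a field via algebraically independent
families (helper21).

* `exists_prime_algebraicIndependent_quotient`: an algebraically independent family stays
  independent modulo a suitable prime.
* `natCast_le_ringKrullDim_of_algebraicIndependent`: in a f.g. `k`-algebra, the size of an
  algebraically independent family is at most the Krull dimension.
* `exists_algebraicIndependent_of_le_ringKrullDim`: in a f.g. `k`-algebra of dimension `≥ n`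
  generated by a set `G`, there are `n` algebraically independent elements of `G`.
-/

set_option autoImplicit false
universe u

namespace Groth.Agent.H21.SegreDim

open MvPolynomial

theorem exists_prime_algebraicIndependent_quotient {k : Type*} [Field k] {A : Type*} [CommRing A]
    [Algebra k A] {ι : Type*} {t : ι → A} (ht : AlgebraicIndependent k t) :
    ∃ q : Ideal A, q.IsPrime ∧ AlgebraicIndependent k (fun i => Ideal.Quotient.mk q (t i)) := by
  classical
  let M : Submonoid A :=
    { carrier := {a | ∃ F : MvPolynomial ι k, F ≠ 0 ∧ aeval t F = a}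
      one_mem' := ⟨1, one_ne_zero, map_one _⟩
      mul_mem' := by
        rintro a b ⟨F, hF, rfl⟩ ⟨G, hG, rfl⟩
        exact ⟨F * G, mul_ne_zero hF hG, map_mul _ _ _⟩ }
  have hdisj : Disjoint ((⊥ : Ideal A) : Set A) (M : Set A) := by
    rw [Set.disjoint_left]
    rintro a ha ⟨F, hF, hFa⟩
    have ha0 : a = 0 := ha
    rw [ha0] at hFa
    exact hF (algebraicIndependent_iff.mp ht F hFa)
  obtain ⟨q, hq, -, hqM⟩ := Ideal.exists_le_prime_disjoint ⊥ M hdisj
  refine ⟨q, hq, algebraicIndependent_iff.mpr fun F hF => ?_⟩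
  by_contra hne
  have h1 : aeval t F ∈ q := by
    rw [← Ideal.Quotient.eq_zero_iff_mem]
    have h2 := MvPolynomial.comp_aeval_apply t (Ideal.Quotient.mkₐ k q) F
    rw [← hF]
    exact h2
  exact Set.disjoint_left.mp hqM h1 ⟨F, hne, rfl⟩

theorem natCast_le_ringKrullDim_of_algebraicIndependent {k : Type u} [Field k] {A : Type u}
    [CommRing A] [Algebra k A] [Algebra.FiniteType k A] {ι : Type*} [Fintype ι] {t : ι → A}
    (ht : AlgebraicIndependent k t) :
    ((Fintype.card ι : ℕ) : WithBot ℕ∞) ≤ ringKrullDim A := by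
  obtain ⟨q, hq, hqt⟩ := exists_prime_algebraicIndependent_quotient ht
  haveI := hq
  haveI : IsDomain (A ⧸ q) := Ideal.Quotient.isDomain q
  haveI : Algebra.FiniteType k (A ⧸ q) :=
    Algebra.FiniteType.of_surjective (Ideal.Quotient.mkₐ k q) (Ideal.Quotient.mkₐ_surjective k q)
  obtain ⟨m, hm1, hm2⟩ := Groth.Agent.H54.exists_ringKrullDim_eq_trdeg k (A ⧸ q)
  have h1 := hqt.lift_cardinalMk_le_trdeg
  rw [hm1] at h1
  have h2 : Fintype.card ι ≤ m := by
    simpa using h1
  calc ((Fintype.card ι : ℕ) : WithBot ℕ∞) ≤ (m : WithBot ℕ∞) := by exact_mod_cast h2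
    _ = ringKrullDim (A ⧸ q) := hm2.symm
    _ ≤ ringKrullDim A := ringKrullDim_quotient_le q

theorem exists_algebraicIndependent_of_le_ringKrullDim {k : Type u} [Field k] {A : Type u}
    [CommRing A] [Algebra k A] [Algebra.FiniteType k A] (G : Set A)
    (hG : Algebra.adjoin k G = ⊤) (n : ℕ) (hn : (n : WithBot ℕ∞) ≤ ringKrullDim A) :
    ∃ x : Fin n → A, (∀ i, x i ∈ G) ∧ AlgebraicIndependent k x := by
  classical
  obtain ⟨l, rfl⟩ := Order.le_krullDim_iff.mp hn
  set p : Ideal A := (l.toFun 0).asIdeal with hp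
  haveI : p.IsPrime := (l.toFun 0).isPrime
  have hdim : ((l.length : ℕ) : WithBot ℕ∞) ≤ ringKrullDim (A ⧸ p) := by
    rw [ringKrullDim_quotient, Order.le_krullDim_iff]
    have hmem : ∀ i, l.toFun i ∈ PrimeSpectrum.zeroLocus (p : Set A) := by
      intro i
      rw [PrimeSpectrum.mem_zeroLocus]
      have h0 : l.toFun 0 ≤ l.toFun i := l.strictMono.monotone (Fin.zero_le i)
      exact h0
    exact ⟨LTSeries.mk l.length (fun i => ⟨l.toFun i, hmem i⟩)
      (fun i j hij => l.strictMono hij), rfl⟩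
  haveI : IsDomain (A ⧸ p) := Ideal.Quotient.isDomain p
  haveI : Algebra.FiniteType k (A ⧸ p) :=
    Algebra.FiniteType.of_surjective (Ideal.Quotient.mkₐ k p) (Ideal.Quotient.mkₐ_surjective k p)
  obtain ⟨m, hm1, hm2⟩ := Groth.Agent.H54.exists_ringKrullDim_eq_trdeg k (A ⧸ p)
  have hnm : l.length ≤ m := by
    rw [hm2] at hdim
    exact_mod_cast hdim
  let π : A →ₐ[k] A ⧸ p := Ideal.Quotient.mkₐ k p
  have hπ : Function.Surjective π := Ideal.Quotient.mkₐ_surjective k p
  have hadj : Algebra.adjoin k (π '' G) = ⊤ := by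
    rw [← AlgHom.map_adjoin, hG, Algebra.map_top, (AlgHom.range_eq_top π).mpr hπ]
  haveI : Algebra.IsAlgebraic (Algebra.adjoin k (π '' G)) (A ⧸ p) := ⟨fun b => by
    have hb : b ∈ Algebra.adjoin k (π '' G) := by rw [hadj]; trivial
    exact isAlgebraic_algebraMap (⟨b, hb⟩ : Algebra.adjoin k (π '' G))⟩
  haveI : FaithfulSMul k (A ⧸ p) :=
    (faithfulSMul_iff_algebraMap_injective k (A ⧸ p)).mpr (algebraMap k (A ⧸ p)).injective
  obtain ⟨tb, htbG, htb⟩ := exists_isTranscendenceBasis_subset (R := k) (π '' G)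
  have hcard : Cardinal.mk tb = m := by rw [htb.cardinalMk_eq_trdeg, hm1]
  have hle : Cardinal.lift.{u} (Cardinal.mk (Fin l.length)) ≤
      Cardinal.lift.{0} (Cardinal.mk tb) := by
    rw [hcard]
    simp only [Cardinal.mk_fin, Cardinal.lift_natCast, Cardinal.lift_id]
    exact_mod_cast hnm
  obtain ⟨e⟩ := Cardinal.lift_mk_le'.mp hle
  have hlift : ∀ i : Fin l.length, ∃ a ∈ G, π a = (e i : A ⧸ p) := fun i => htbG (e i).2
  choose x hxG hx using hlift
  refine ⟨x, hxG, AlgebraicIndependent.of_comp π ?_⟩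
  have h3 : (π : A → A ⧸ p) ∘ x = ((↑) : tb → A ⧸ p) ∘ e := funext hx
  rw [h3]
  exact htb.1.comp e e.injective

end Groth.Agent.H21.SegreDim
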