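import Mathlib
import Groth.Agent.H98.GrMod
import Groth.Agent.S18646
import Groth.Agent.H21.TrdegDim
import Groth.Agent.H21.GradedFG
import Groth.Agent.H21.MonomialIndep
import Groth.Agent.H21.SegreWeight
import Groth.Agent.H21.TensorDim

/-!
# Dimension of Segre products of graded modules (helper21)

Tools for `dim (M # N) = dim M + dim N - 1`: gradings on quotients by homogeneous ideals,
homogeneity of annihilators, standard graded algebras are generated in degree one,
torsion-free homogeneous elements, and the two bounds for the dimension of the support.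
-/

set_option autoImplicit false
universe u

open scoped TensorProduct
open MvPolynomial

namespace Groth.Agent.H21.SegreDim

section QuotGrading

variable {ι : Type} [DecidableEq ι] [AddMonoid ι]
variable {k A : Type u} [CommRing k] [CommRing A] [Algebra k A] (𝒜 : ι → Submodule k A)
  [GradedAlgebra 𝒜] (I : Ideal A)

/-- The image grading on a quotient ring. -/
def quotGrading (n : ι) : Submodule k (A ⧸ I) :=
  (𝒜 n).map (Ideal.Quotient.mkₐ k I).toLinearMap

theorem mem_quotGrading {n : ι} {q : A ⧸ I} :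
    q ∈ quotGrading 𝒜 I n ↔ ∃ a ∈ 𝒜 n, Ideal.Quotient.mk I a = q := Iff.rfl

/-- The quotient of a graded algebra by a homogeneous ideal is graded (any index monoid). -/
noncomputable def quotGradedAlgebra (hI : I.IsHomogeneous 𝒜) :
    GradedAlgebra (quotGrading 𝒜 I) := by
  classical
  have hmem : ∀ (i : ι) (x : 𝒜 i), (Ideal.Quotient.mk I : A →+ A ⧸ I) x ∈ quotGrading 𝒜 I i :=
    fun i x => ⟨x, x.2, rfl⟩
  let c : ∀ i, 𝒜 i →+ quotGrading 𝒜 I i := fun i =>
    (((Ideal.Quotient.mk I : A →+ A ⧸ I)).comp (𝒜 i).subtype.toAddMonoidHom).codRestrict _ (hmem i)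
  let g : A →+ DirectSum ι (fun i => quotGrading 𝒜 I i) :=
    (DirectSum.map c).comp (DirectSum.decomposeAddEquiv 𝒜).toAddMonoidHom
  have hg : (Ideal.Quotient.mk I : A →+ A ⧸ I).ker ≤ g.ker := by
    intro a ha
    rw [AddMonoidHom.mem_ker] at ha ⊢
    have haI : a ∈ I := Ideal.Quotient.eq_zero_iff_mem.mp ha
    refine DFinsupp.ext fun i => Subtype.ext ?_
    show (Ideal.Quotient.mk I) ((DirectSum.decompose 𝒜 a i : A)) = 0
    exact Ideal.Quotient.eq_zero_iff_mem.mpr (hI i haI)
  have hsurj : Function.Surjective (Ideal.Quotient.mk I : A →+ A ⧸ I) :=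
    Ideal.Quotient.mk_surjective
  let D : A ⧸ I →+ DirectSum ι (fun i => quotGrading 𝒜 I i) :=
    (Ideal.Quotient.mk I : A →+ A ⧸ I).liftOfSurjective hsurj ⟨g, hg⟩
  have hD : ∀ a : A, D ((Ideal.Quotient.mk I : A →+ A ⧸ I) a) = g a := fun a =>
    AddMonoidHom.liftOfRightInverse_comp_apply _ _ _ ⟨g, hg⟩ a
  have hghom : ∀ (i : ι) (a : A) (ha : a ∈ 𝒜 i), g a =
      DirectSum.of (fun i => quotGrading 𝒜 I i) i (c i ⟨a, ha⟩) := by
    intro i a ha
    show DirectSum.map c (DirectSum.decompose 𝒜 a) = _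
    rw [DirectSum.decompose_of_mem 𝒜 ha, DirectSum.map_of]
  exact
    { one_mem := ⟨1, SetLike.GradedOne.one_mem, map_one (Ideal.Quotient.mk I)⟩
      mul_mem := by
        rintro i j _ _ ⟨a, ha, rfl⟩ ⟨b, hb, rfl⟩
        exact ⟨a * b, SetLike.GradedMul.mul_mem ha hb, map_mul (Ideal.Quotient.mk I) a b⟩
      decompose' := D
      left_inv := by
        intro q
        obtain ⟨a, rfl⟩ := hsurj q
        rw [hD]
        induction a using DirectSum.Decomposition.inductionOn 𝒜 with
        | zero => simp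
        | homogeneous x =>
          rw [hghom _ x x.2, DirectSum.coeAddMonoidHom_of]
          rfl
        | add x y hx hy => rw [map_add, map_add, hx, hy, map_add]
      right_inv := by
        intro z
        induction z using DirectSum.induction_on with
        | zero => simp
        | of i b =>
          obtain ⟨b, a, ha, rfl⟩ := b
          rw [DirectSum.coeAddMonoidHom_of]
          show D ((Ideal.Quotient.mk I : A →+ A ⧸ I) a) = _
          rw [hD, hghom i a ha]
          rfl
        | add x y hx hy => rw [map_add, map_add, hx, hy] }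

end QuotGrading

section Ann

variable {k : Type u} [Field k] {R : Type u} [CommRing R] [Algebra k R]
  (𝒜 : ℤ → Submodule k R) [GradedAlgebra 𝒜]
  {M : Type u} [AddCommGroup M] [Module R M]
  (ℳ : ℤ → AddSubgroup M) [DirectSum.Decomposition ℳ] [SetLike.GradedSMul 𝒜 ℳ]

theorem coe_decompose_smul_of_mem {j : ℤ} {m : M} (hm : m ∈ ℳ j) (a : R) (i : ℤ) :
    ((DirectSum.decompose ℳ (a • m) (i + j) : ℳ (i + j)) : M) =
      ((DirectSum.decompose 𝒜 a i : 𝒜 i) : R) • m := by
  classical
  induction a using DirectSum.Decomposition.inductionOn 𝒜 with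
  | zero => simp
  | @homogeneous l a =>
    have h1 : (a : R) • m ∈ ℳ (l + j) := by
      have := SetLike.GradedSMul.smul_mem (A := 𝒜) (B := ℳ) a.2 hm
      rwa [vadd_eq_add] at this
    by_cases hl : l = i
    · subst hl
      rw [DirectSum.decompose_of_mem_same ℳ h1, DirectSum.decompose_of_mem_same 𝒜 a.2]
    · have hne : l + j ≠ i + j := fun h => hl (add_right_cancel h)
      rw [DirectSum.decompose_of_mem_ne ℳ h1 hne, DirectSum.decompose_of_mem_ne 𝒜 a.2 hl,
        zero_smul]
  | add a b ha hb =>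
    rw [add_smul, DirectSum.decompose_add, DirectSum.add_apply, AddMemClass.coe_add, ha, hb,
      DirectSum.decompose_add, DirectSum.add_apply, Submodule.coe_add, add_smul]

include ℳ in
theorem annihilator_isHomogeneous : (Module.annihilator R M).IsHomogeneous 𝒜 := by
  classical
  intro i a ha
  rw [Module.mem_annihilator] at ha ⊢
  intro m
  induction m using DirectSum.Decomposition.inductionOn ℳ with
  | zero => rw [smul_zero]
  | @homogeneous j m =>
    rw [← coe_decompose_smul_of_mem 𝒜 ℳ m.2 a i, ha (m : M), DirectSum.decompose_zero]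
    rfl
  | add m m' hm hm' => rw [smul_add, hm, hm', add_zero]

theorem adjoin_one_eq_top (hpos : ∀ n : ℤ, n < 0 → 𝒜 n = ⊥)
    (h0 : 𝒜 0 = Submodule.span k {(1 : R)})
    (hstd : Ideal.span (⋃ n ∈ Set.Ioi (0 : ℤ), (𝒜 n : Set R)) =
      Ideal.span ((𝒜 1 : Submodule k R) : Set R)) :
    Algebra.adjoin k ((𝒜 1 : Submodule k R) : Set R) = ⊤ := by
  classical
  set B := Algebra.adjoin k ((𝒜 1 : Submodule k R) : Set R) with hB
  have key : ∀ m : ℕ, ∀ x ∈ 𝒜 (m : ℤ), x ∈ B := by
    intro m
    induction m with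
    | zero =>
      intro x hx
      rw [Nat.cast_zero, h0] at hx
      obtain ⟨c, rfl⟩ := Submodule.mem_span_singleton.mp hx
      rw [← Algebra.algebraMap_eq_smul_one]
      exact B.algebraMap_mem c
    | succ m ih =>
      intro x hx
      rw [Nat.cast_succ] at hx
      have hxI : x ∈ Ideal.span ((𝒜 1 : Submodule k R) : Set R) := by
        rw [← hstd]
        exact Ideal.subset_span (Set.mem_biUnion (Set.mem_Ioi.mpr (by omega)) hx)
      obtain ⟨N, f, g, hsum⟩ := Submodule.mem_span_set'.mp hxI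
      have hx' : ((DirectSum.decompose 𝒜 x ((m : ℤ) + 1) : 𝒜 ((m : ℤ) + 1)) : R) = x :=
        DirectSum.decompose_of_mem_same 𝒜 hx
      rw [← hx', ← hsum, DirectSum.decompose_sum, DirectSum.sum_apply, Submodule.coe_sum]
      refine B.sum_mem fun i _ => ?_
      rw [smul_eq_mul, DirectSum.coe_decompose_mul_add_of_right_mem 𝒜 (g i).2]
      exact B.mul_mem (ih _ (SetLike.coe_mem _)) (Algebra.subset_adjoin (g i).2)
  rw [eq_top_iff]
  rintro x -
  rw [← DirectSum.sum_support_decompose 𝒜 x]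
  refine B.sum_mem fun i _ => ?_
  by_cases hi : i < 0
  · have h1 : ∀ y ∈ 𝒜 i, y = 0 := fun y hy => by
      rw [hpos i hi] at hy
      exact (Submodule.mem_bot k).mp hy
    rw [h1 _ (SetLike.coe_mem _)]
    exact B.zero_mem
  · obtain ⟨m, rfl⟩ : ∃ m : ℕ, i = m := ⟨i.toNat, (Int.toNat_of_nonneg (not_lt.mp hi)).symm⟩
    exact key m _ (SetLike.coe_mem _)

end Ann

section Artinian

theorem one_le_of_not_isArtinian {R : Type*} [CommRing R] [IsNoetherianRing R] {M : Type*}
    [AddCommGroup M] [Module R M] [Module.Finite R M] (d : ℕ)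
    (hd : Module.supportDim R M = d) (hA : ¬ IsArtinian R M) : 1 ≤ d := by
  by_contra h
  have d0 : d = 0 := by omega
  subst d0
  apply hA
  have hdim : ringKrullDim (R ⧸ Module.annihilator R M) ≤ ((0 : ℕ) : WithBot ℕ∞) := by
    rw [← Module.supportDim_eq_ringKrullDim_quotient_annihilator, hd]
  haveI : Ring.KrullDimLE 0 (R ⧸ Module.annihilator R M) := Ring.krullDimLE_iff.mpr hdim
  haveI : IsArtinianRing (R ⧸ Module.annihilator R M) :=
    isArtinianRing_iff_krullDimLE_zero.mpr inferInstance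
  letI : Module (R ⧸ Module.annihilator R M) M := Module.quotientAnnihilator
  haveI : IsScalarTower R (R ⧸ Module.annihilator R M) M :=
    Module.IsTorsionBySet.isScalarTower (Module.isTorsionBySet_annihilator R M)
  haveI : Module.Finite (R ⧸ Module.annihilator R M) M :=
    Module.Finite.of_restrictScalars_finite R _ M
  exact isArtinian_of_surjective_algebraMap (R := R ⧸ Module.annihilator R M) (S := R)
    Ideal.Quotient.mk_surjective

end Artinian

section TorsionFree

theorem exists_homogeneous_torsionFree {k : Type*} [Field k] {R : Type*} [CommRing R]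
    [Algebra k R] {M : Type*} [AddCommGroup M] [Module R M] (ℳ : ℤ → AddSubgroup M)
    [DirectSum.Decomposition ℳ] [Module.Finite R M] {ι : Type*} (x : ι → R)
    (hx : ∀ F : MvPolynomial ι k, (∀ m : M, aeval x F • m = 0) → F = 0) :
    ∃ c : ℤ, ∃ m ∈ ℳ c, ∀ F : MvPolynomial ι k, aeval x F • m = 0 → F = 0 := by
  classical
  have hspan : Submodule.span R {m : M | ∃ c : ℤ, m ∈ ℳ c} = ⊤ := by
    rw [eq_top_iff]
    rintro m -
    rw [← DirectSum.sum_support_decompose ℳ m]
    exact Submodule.sum_mem _ fun i _ => Submodule.subset_span ⟨i, SetLike.coe_mem _⟩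
  have hfg : (Submodule.span R {m : M | ∃ c : ℤ, m ∈ ℳ c}).FG := by
    rw [hspan]; exact Module.Finite.fg_top
  obtain ⟨s', hs'sub, hs'span⟩ := (Submodule.fg_span_iff_fg_span_finset_subset _).mp hfg
  rw [hspan] at hs'span
  by_contra hne
  push Not at hne
  have hex : ∀ g : M, ∃ F : MvPolynomial ι k, F ≠ 0 ∧ (g ∈ s' → aeval x F • g = 0) := by
    intro g
    by_cases hg : g ∈ s'
    · obtain ⟨c, hc⟩ := hs'sub (Finset.mem_coe.mpr hg)
      obtain ⟨F, hF0, hFne⟩ := hne c g hc
      exact ⟨F, hFne, fun _ => hF0⟩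
    · exact ⟨1, one_ne_zero, fun h => absurd h hg⟩
  choose Fg hFg0 hFg using hex
  have hprod : (∏ g ∈ s', Fg g) ≠ 0 := Finset.prod_ne_zero_iff.mpr fun g _ => hFg0 g
  apply hprod
  apply hx
  intro m
  have hm : m ∈ Submodule.span R (s' : Set M) := by rw [← hs'span]; trivial
  induction hm using Submodule.span_induction with
  | mem g hg =>
    rw [← Finset.mul_prod_erase s' Fg (Finset.mem_coe.mp hg), mul_comm, map_mul, mul_smul,
      hFg g (Finset.mem_coe.mp hg), smul_zero]
  | zero => rw [smul_zero]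
  | add a b _ _ ha hb => rw [smul_add, ha, hb, add_zero]
  | smul r a _ ha => rw [smul_comm, ha, smul_zero]

theorem exists_raise {k : Type u} [Field k] {R : Type u} [CommRing R] [Algebra k R]
    (𝒜 : ℤ → Submodule k R) [GradedAlgebra 𝒜] {M : Type u} [AddCommGroup M] [Module R M]
    (ℳ : ℤ → AddSubgroup M) [SetLike.GradedSMul 𝒜 ℳ] {ι : Type*} (x : ι → R) (i₀ : ι)
    (hx0 : x i₀ ∈ 𝒜 1) {c : ℤ} {m : M} (hm : m ∈ ℳ c)
    (hmF : ∀ F : MvPolynomial ι k, aeval x F • m = 0 → F = 0) (c₀ : ℤ) (hc : c ≤ c₀) :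
    ∃ m' ∈ ℳ c₀, ∀ F : MvPolynomial ι k, aeval x F • m' = 0 → F = 0 := by
  obtain ⟨e, rfl⟩ : ∃ e : ℕ, c₀ = e • (1 : ℤ) + c := ⟨(c₀ - c).toNat, by
    rw [nsmul_eq_mul, mul_one, Int.toNat_of_nonneg (by omega)]; ring⟩
  refine ⟨x i₀ ^ e • m, ?_, ?_⟩
  · have := SetLike.GradedSMul.smul_mem (A := 𝒜) (B := ℳ) (SetLike.pow_mem_graded e hx0) hm
    rwa [vadd_eq_add] at this
  · intro F hF
    have h1 : aeval x (F * X i₀ ^ e) • m = 0 := by
      rw [map_mul, map_pow, aeval_X, mul_smul]; exact hF
    rcases mul_eq_zero.mp (hmF _ h1) with h | h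
    · exact h
    · exact absurd h (pow_ne_zero e (X_ne_zero i₀))

theorem exists_degree_one_family {k : Type u} [Field k] {R : Type u} [CommRing R] [Algebra k R]
    (𝒜 : ℤ → Submodule k R) [GradedAlgebra 𝒜] (hpos : ∀ n : ℤ, n < 0 → 𝒜 n = ⊥)
    (h0 : 𝒜 0 = Submodule.span k {(1 : R)})
    (hstd : Ideal.span (⋃ n ∈ Set.Ioi (0 : ℤ), (𝒜 n : Set R)) =
      Ideal.span ((𝒜 1 : Submodule k R) : Set R)) [Algebra.FiniteType k R]
    (M : Type*) [AddCommGroup M] [Module R M] [Module.Finite R M] (d : ℕ)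
    (hd : Module.supportDim R M = d) :
    ∃ x : Fin d → R, (∀ i, x i ∈ 𝒜 1) ∧
      ∀ F : MvPolynomial (Fin d) k, (∀ m : M, aeval x F • m = 0) → F = 0 := by
  classical
  set I := Module.annihilator R M with hI
  have hr' : ringKrullDim (R ⧸ I) = d := by
    rw [← Module.supportDim_eq_ringKrullDim_quotient_annihilator, hd]
  haveI : Algebra.FiniteType k (R ⧸ I) :=
    Algebra.FiniteType.of_surjective (Ideal.Quotient.mkₐ k I) (Ideal.Quotient.mkₐ_surjective k I)
  have hadj := adjoin_one_eq_top 𝒜 hpos h0 hstd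
  have hG : Algebra.adjoin k ((Ideal.Quotient.mkₐ k I) '' ((𝒜 1 : Submodule k R) : Set R)) = ⊤ := by
    rw [Algebra.adjoin_image, hadj, Algebra.map_top, AlgHom.range_eq_top]
    exact Ideal.Quotient.mkₐ_surjective k I
  obtain ⟨x', hx'G, hx'⟩ := exists_algebraicIndependent_of_le_ringKrullDim (k := k)
    (A := R ⧸ I) _ hG d (by rw [hr'])
  choose x hx using hx'G
  refine ⟨x, fun i => (hx i).1, fun F hF => ?_⟩
  have h1 : aeval x F ∈ I := Module.mem_annihilator.mpr hF
  have h2 : (Ideal.Quotient.mkₐ k I) (aeval x F) =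
      aeval (fun i => (Ideal.Quotient.mkₐ k I) (x i)) F := MvPolynomial.comp_aeval_apply _ _ _
  have h3 : (fun i => (Ideal.Quotient.mkₐ k I) (x i)) = x' := funext fun i => (hx i).2
  rw [h3] at h2
  apply (algebraicIndependent_iff.mp hx') F
  rw [← h2, Ideal.Quotient.mkₐ_eq_mk]
  exact Ideal.Quotient.eq_zero_iff_mem.mpr h1

end TorsionFree

end Groth.Agent.H21.SegreDim
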