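import Groth.Agent.H21.AnEv
import Mathlib.Analysis.Complex.Basic
import Mathlib.Topology.Algebra.Field

/-!
For affine `X` the complex topology on `An.Pts X` is induced by the evaluations at global sections.
-/

set_option autoImplicit false
open CategoryTheory AlgebraicGeometry Topology TopologicalSpace

namespace Groth.Agent.H21

open An

variable {X : Scheme.{0}} [X.Over An.SC]

/-- all evaluations at global sections -/
noncomputable def evAll (x : An.Pts X) : Γ(X, ⊤) → ℂ := fun a => x.evTop a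

theorem continuous_evTop (a : Γ(X, ⊤)) : Continuous (fun x : An.Pts X => x.evTop a) := by
  rw [continuous_def]
  intro V hV
  have : (fun x : An.Pts X => x.evTop a) ⁻¹' V = An.Pts.basicSet ⊤ a V := by
    ext x
    simp only [Set.mem_preimage, An.Pts.basicSet, Set.mem_ofPred_eq]
    exact ⟨fun h => ⟨Opens.mem_top _, h⟩, fun ⟨_, h⟩ => h⟩
  rw [this]
  exact An.Pts.isOpen_basicSet _ _ hV

theorem continuous_evAll : Continuous (evAll : An.Pts X → Γ(X, ⊤) → ℂ) :=
  continuous_pi fun a => continuous_evTop a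

theorem exists_open_evAll [IsAffine X] (U : X.Opens) (f : Γ(X, U)) {V : Set ℂ} (hV : IsOpen V)
    (x₀ : An.Pts X) (hx₀ : x₀ ∈ An.Pts.basicSet U f V) :
    ∃ W : Set (Γ(X, ⊤) → ℂ), IsOpen W ∧ evAll x₀ ∈ W ∧ evAll ⁻¹' W ⊆ An.Pts.basicSet U f V := by
  obtain ⟨hU, hfV⟩ := hx₀
  obtain ⟨_, ⟨g, rfl⟩, hxg, hgU⟩ := (Opens.isBasis_iff_nbhd.mp (isBasis_basicOpen X)) hU
  have hloc : IsLocalization.Away g Γ(X, X.basicOpen g) := inferInstance
  obtain ⟨⟨a, ⟨_, n, rfl⟩⟩, han⟩ := IsLocalization.surj (Submonoid.powers g)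
    (X.presheaf.map (homOfLE hgU).op f)
  simp only at han
  -- the key evaluation identity
  have key : ∀ x : An.Pts X, ∀ hx : x.pt ∈ X.basicOpen g,
      x.ev U (hgU hx) f * (x.evTop g) ^ n = x.evTop a := by
    intro x hx
    have h1 := congrArg (evHom x (X.basicOpen g) hx) han
    rw [map_mul, RingHom.algebraMap_toAlgebra] at h1
    simp only [evHom_apply] at h1
    rw [ev_res x hgU hx f] at h1
    have h2 : x.ev (X.basicOpen g) hx
        ((X.presheaf.map (homOfLE (X.basicOpen_le g)).op).hom (g ^ n)) = (x.evTop g) ^ n := by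
      rw [map_pow]
      have := ev_res x (X.basicOpen_le g) hx g
      rw [← evHom_apply, map_pow, evHom_apply]
      rw [this]
    have h3 : x.ev (X.basicOpen g) hx
        ((X.presheaf.map (homOfLE (X.basicOpen_le g)).op).hom a) = x.evTop a :=
      ev_res x (X.basicOpen_le g) hx a
    rw [h2, h3] at h1
    exact h1
  refine ⟨{z | z g ≠ 0} ∩ (fun z => z a / (z g) ^ n) ⁻¹' V, ?_, ?_, ?_⟩
  · apply ContinuousOn.isOpen_inter_preimage
    · apply ContinuousOn.div (continuous_apply a).continuousOn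
        ((continuous_apply g).pow n).continuousOn
      intro z hz
      exact pow_ne_zero n hz
    · exact isOpen_ne_fun (continuous_apply g) continuous_const
    · exact hV
  · have hg0 : x₀.evTop g ≠ 0 := (mem_basicOpen_iff x₀ ⊤ (Opens.mem_top _) g).mp hxg
    refine ⟨hg0, ?_⟩
    simp only [Set.mem_preimage, evAll]
    rw [← key x₀ hxg, mul_div_assoc, div_self (pow_ne_zero n hg0), mul_one]
    exact hfV
  · rintro x ⟨hxg0, hxV⟩
    simp only [evAll, Set.mem_ofPred_eq, ne_eq, Set.mem_preimage] at hxg0 hxV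
    have hx : x.pt ∈ X.basicOpen g := (mem_basicOpen_iff x ⊤ (Opens.mem_top _) g).mpr hxg0
    refine ⟨hgU hx, ?_⟩
    rw [← key x hx, mul_div_assoc, div_self (pow_ne_zero n hxg0), mul_one] at hxV
    exact hxV

theorem isInducing_evAll [IsAffine X] : IsInducing (evAll : An.Pts X → Γ(X, ⊤) → ℂ) := by
  rw [isInducing_iff]
  apply le_antisymm
  · exact continuous_evAll.le_induced
  · apply le_generateFrom
    rintro _ ⟨U, f, V, hV, rfl⟩
    rw [isOpen_induced_iff]
    choose W hW1 hW2 hW3 using exists_open_evAll U f hV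
    refine ⟨⋃ (x₀ : An.Pts X) (hx₀ : x₀ ∈ An.Pts.basicSet U f V), W x₀ hx₀, ?_, ?_⟩
    · exact isOpen_iUnion fun x₀ => isOpen_iUnion fun hx₀ => hW1 x₀ hx₀
    · apply Set.Subset.antisymm
      · intro x hx
        simp only [Set.mem_preimage, Set.mem_iUnion] at hx
        obtain ⟨x₀, hx₀, hxW⟩ := hx
        exact hW3 x₀ hx₀ hxW
      · intro x hx
        simp only [Set.mem_preimage, Set.mem_iUnion]
        exact ⟨x, hx, hW2 x hx⟩

end Groth.Agent.H21
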