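import Groth.Agent.H21.AnPts
import Mathlib.AlgebraicGeometry.OpenImmersion

/-!
Topological API for `An.Pts`: open immersions.
-/

set_option autoImplicit false
open CategoryTheory AlgebraicGeometry Topology TopologicalSpace

namespace Groth.Agent.H21

open An

variable {X Y : Scheme.{0}} [X.Over An.SC] [Y.Over An.SC]

theorem basicSet_map_eqToHom {U U' : X.Opens} (h : U' = U) (s : Γ(X, U)) (V : Set ℂ) :
    An.Pts.basicSet U' (X.presheaf.map (eqToHom h).op s) V = An.Pts.basicSet U s V := by
  subst h
  simp

theorem map_injective_of_mono (f : X ⟶ Y) [f.IsOver An.SC] [Mono f] :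
    Function.Injective (An.Pts.map f) := by
  intro x y h
  apply Subtype.ext
  have : x.1 ≫ f = y.1 ≫ f := congrArg Subtype.val h
  exact (cancel_mono f).mp this

theorem isInducing_map_of_isOpenImmersion (f : X ⟶ Y) [f.IsOver An.SC] [IsOpenImmersion f] :
    IsInducing (An.Pts.map f) := by
  rw [isInducing_iff]
  apply le_antisymm
  · exact (An.Pts.continuous_map f).le_induced
  · apply le_generateFrom
    rintro _ ⟨W, g, V, hV, rfl⟩
    refine ⟨An.Pts.basicSet (f ''ᵁ W) ((f.appIso W).inv g) V, An.Pts.isOpen_basicSet _ _ hV, ?_⟩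
    rw [An.Pts.preimage_basicSet]
    have hg : g = X.presheaf.map (eqToHom (f.preimage_image_eq W).symm).op
        (f.app (f ''ᵁ W) ((f.appIso W).inv g)) := by
      have h1 := f.appIso_hom W
      have h2 : (f.appIso W).hom ((f.appIso W).inv g) = g := by
        rw [← CommRingCat.comp_apply, Iso.inv_hom_id]
        rfl
      rw [h1] at h2
      exact h2.symm
    conv_rhs => rw [hg]
    rw [basicSet_map_eqToHom]

theorem range_map_of_isOpenImmersion (f : X ⟶ Y) [f.IsOver An.SC] [IsOpenImmersion f] :
    Set.range (An.Pts.map f) = An.Pts.pt ⁻¹' (Set.range f.base) := by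
  ext y
  constructor
  · rintro ⟨x, rfl⟩
    rw [Set.mem_preimage, An.Pts.pt_map]
    exact ⟨_, rfl⟩
  · intro hy
    have hr : Set.range y.1.base ⊆ Set.range f.base := by
      rintro _ ⟨a, rfl⟩
      have := pt_eq_apply y a
      rw [this]
      exact hy
    refine ⟨⟨IsOpenImmersion.lift f y.1 hr, ?_⟩, ?_⟩
    · rw [← comp_over f An.SC, ← Category.assoc, IsOpenImmersion.lift_fac]
      exact y.2
    · apply Subtype.ext
      exact IsOpenImmersion.lift_fac f y.1 hr

theorem isOpenEmbedding_map_of_isOpenImmersion (f : X ⟶ Y) [f.IsOver An.SC] [IsOpenImmersion f] :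
    IsOpenEmbedding (An.Pts.map f) := by
  refine ⟨⟨isInducing_map_of_isOpenImmersion f, map_injective_of_mono f⟩, ?_⟩
  rw [range_map_of_isOpenImmersion]
  exact f.isOpenEmbedding.isOpen_range.preimage An.Pts.continuous_pt

end Groth.Agent.H21
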