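import Groth.Agent.H21.AnDense
import Groth.Agent.H21.AnTop

/-!
Closure in the complex topology versus Zariski closure for locally constructible sets, on schemes
locally of finite type over `ℂ`.
-/

set_option autoImplicit false
open CategoryTheory AlgebraicGeometry Topology TopologicalSpace

namespace Groth.Agent.H21

open An

variable {X : Scheme.{0}} [X.Over An.SC]

/-- sets all of whose points have a locally closed neighbourhood inside the set -/
def LC (T : Set X) : Prop := ∀ t ∈ T, ∃ L, IsLocallyClosed L ∧ t ∈ L ∧ L ⊆ T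

omit [X.Over An.SC] in
theorem LC_of_isLocallyConstructible {T : Set X} (hT : IsLocallyConstructible T) : LC T :=
  fun _ ht => isLocallyConstructible_exists_isLocallyClosed hT ht

omit [X.Over An.SC] in
theorem LC_compl_of_isLocallyConstructible {T : Set X} (hT : IsLocallyConstructible T) : LC Tᶜ :=
  LC_of_isLocallyConstructible (isLocallyConstructible_compl hT)

theorem preimage_closure_subset [LocallyOfFiniteType (X ↘ An.SC)] (T : Set X)
    (h1 : LC T) (h2 : LC Tᶜ) :
    An.Pts.pt ⁻¹' closure T ⊆ closure (An.Pts.pt ⁻¹' T : Set (An.Pts X)) := by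
  intro x hx
  obtain ⟨_, ⟨U, hU, rfl⟩, hxU, -⟩ :=
    (X.isBasis_affineOpens).exists_subset_of_mem_open (Set.mem_univ x.pt) isOpen_univ
  letI : (U : Scheme).Over An.SC := ⟨Scheme.Opens.ι U ≫ X ↘ An.SC⟩
  haveI : (Scheme.Opens.ι U).IsOver An.SC := ⟨rfl⟩
  haveI : IsAffine (U : Scheme) := hU
  haveI : LocallyOfFiniteType ((U : Scheme) ↘ An.SC) := by
    change LocallyOfFiniteType (Scheme.Opens.ι U ≫ X ↘ An.SC)
    infer_instance
  have hxr : x ∈ Set.range (An.Pts.map (Scheme.Opens.ι U)) := by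
    rw [range_map_of_isOpenImmersion, Set.mem_preimage, Scheme.Opens.range_ι]
    exact hxU
  obtain ⟨y, rfl⟩ := hxr
  let j := Scheme.Opens.ι U
  let TU : Set (U : Scheme) := j ⁻¹' T
  have h1' : ∀ t ∈ TU, ∃ L, IsLocallyClosed L ∧ t ∈ L ∧ L ⊆ TU := by
    intro t ht
    obtain ⟨L, hL, htL, hLT⟩ := h1 (j t) ht
    exact ⟨j ⁻¹' L, hL.preimage j.continuous, htL, Set.preimage_mono hLT⟩
  have h2' : ∀ t ∈ TUᶜ, ∃ L, IsLocallyClosed L ∧ t ∈ L ∧ L ⊆ TUᶜ := by
    intro t ht
    obtain ⟨L, hL, htL, hLT⟩ := h2 (j t) ht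
    exact ⟨j ⁻¹' L, hL.preimage j.continuous, htL, Set.preimage_mono hLT⟩
  have hy : y.pt ∈ closure TU := by
    have h3 : j ⁻¹' closure T = closure (j ⁻¹' T) :=
      j.isOpenEmbedding.isOpenMap.preimage_closure_eq_closure_preimage j.continuous T
    rw [← h3, Set.mem_preimage]
    rw [Set.mem_preimage, An.Pts.pt_map] at hx
    exact hx
  have h4 := affine_closure_aux TU h1' h2' ⊤ y (by simpa using hy)
  have h5 : y ∈ closure (An.Pts.pt ⁻¹' TU) := by simpa using h4
  have h6 := image_closure_subset_closure_image (An.Pts.continuous_map j) ⟨y, h5, rfl⟩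
  refine closure_mono ?_ h6
  rintro _ ⟨w, hw, rfl⟩
  rw [Set.mem_preimage, An.Pts.pt_map]
  exact hw

theorem preimage_closure_eq [LocallyOfFiniteType (X ↘ An.SC)] (T : Set X)
    (hT : IsLocallyConstructible T) :
    (An.Pts.pt ⁻¹' closure T : Set (An.Pts X)) = closure (An.Pts.pt ⁻¹' T) :=
  Set.Subset.antisymm
    (preimage_closure_subset T (LC_of_isLocallyConstructible hT)
      (LC_compl_of_isLocallyConstructible hT))
    (An.Pts.continuous_pt.closure_preimage_subset T)

/-- a set with the `LC` property containing no `ℂ`-point is empty -/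
theorem eq_empty_of_LC [LocallyOfFiniteType (X ↘ An.SC)] {T : Set X} (h1 : LC T)
    (h : ∀ p : An.Pts X, p.pt ∉ T) : T = ∅ := by
  by_contra hne
  obtain ⟨t, ht⟩ := Set.nonempty_iff_ne_empty.2 hne
  obtain ⟨L, hL, htL, hLT⟩ := h1 t ht
  obtain ⟨p, hp⟩ := exists_pt_mem_of_isLocallyClosed ⟨t, htL⟩ hL
  exact h p (hLT hp)

omit [X.Over An.SC] in
theorem LC_inter_isClosed {T C : Set X} (h1 : LC T) (hC : IsClosed C) : LC (C ∩ T) := by
  intro t ht
  obtain ⟨L, hL, htL, hLT⟩ := h1 t ht.2
  exact ⟨C ∩ L, hC.isLocallyClosed.inter hL, ⟨ht.1, htL⟩, Set.inter_subset_inter_right _ hLT⟩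

theorem isOpen_iff_preimage [LocallyOfFiniteType (X ↘ An.SC)] (T : Set X)
    (hT : IsLocallyConstructible T) :
    IsOpen T ↔ IsOpen (An.Pts.pt ⁻¹' T : Set (An.Pts X)) := by
  constructor
  · intro h
    exact h.preimage An.Pts.continuous_pt
  · intro h
    have hcl : IsClosed (An.Pts.pt ⁻¹' Tᶜ : Set (An.Pts X)) := by
      rw [Set.preimage_compl]
      exact h.isClosed_compl
    have heq := preimage_closure_eq Tᶜ (isLocallyConstructible_compl hT)
    rw [hcl.closure_eq] at heq
    have hemp : closure Tᶜ ∩ T = ∅ := by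
      apply eq_empty_of_LC (LC_inter_isClosed (LC_of_isLocallyConstructible hT) isClosed_closure)
      intro p hp
      have h1 : p ∈ (An.Pts.pt ⁻¹' closure Tᶜ : Set (An.Pts X)) := hp.1
      rw [heq] at h1
      exact h1 hp.2
    have hsub : closure Tᶜ ⊆ Tᶜ := by
      intro y hy hyT
      have : y ∈ closure Tᶜ ∩ T := ⟨hy, hyT⟩
      rw [hemp] at this
      exact this
    have hclosed : IsClosed Tᶜ := closure_subset_iff_isClosed.1 hsub
    exact isClosed_compl_iff.1 hclosed

theorem dense_iff_preimage [LocallyOfFiniteType (X ↘ An.SC)] (T : Set X)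
    (hT : IsLocallyConstructible T) :
    Dense T ↔ Dense (An.Pts.pt ⁻¹' T : Set (An.Pts X)) := by
  rw [dense_iff_closure_eq, dense_iff_closure_eq, ← preimage_closure_eq T hT]
  constructor
  · intro h
    rw [h, Set.preimage_univ]
  · intro h
    have hemp : (closure T)ᶜ = ∅ := by
      apply eq_empty_of_LC
      · intro t ht
        exact ⟨(closure T)ᶜ, isClosed_closure.isOpen_compl.isLocallyClosed, ht, subset_rfl⟩
      · intro p hp
        have : p ∈ (An.Pts.pt ⁻¹' closure T : Set (An.Pts X)) := by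
          rw [h]
          exact Set.mem_univ p
        exact hp this
    exact Set.compl_empty_iff.1 hemp

end Groth.Agent.H21
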