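import Groth.Agent.H21.AnGen
import Groth.Agent.H21.AnTop
import Mathlib.AlgebraicGeometry.Morphisms.FiniteType
import Mathlib.RingTheory.FiniteType

/-!
Affine `X` of finite type over `ℂ`: finitely many generators of the global sections, hence a closed
embedding of `X(ℂ)` into `ℂⁿ`.
-/

set_option autoImplicit false
open CategoryTheory AlgebraicGeometry Topology TopologicalSpace

namespace Groth.Agent.H21

open An

variable {X : Scheme.{0}} [X.Over An.SC]

theorem finiteType_strHom [IsAffine X] [LocallyOfFiniteType (X ↘ An.SC)] :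
    RingHom.FiniteType (An.strHom X) := by
  have h1 : RingHom.FiniteType (X ↘ An.SC).appTop.hom :=
    (HasRingHomProperty.iff_of_isAffine (P := @LocallyOfFiniteType)).1 inferInstance
  have h2 : Function.Surjective (Scheme.ΓSpecIso (CommRingCat.of ℂ)).inv.hom :=
    (ConcreteCategory.bijective_of_isIso (Scheme.ΓSpecIso (CommRingCat.of ℂ)).inv).2
  have h3 : RingHom.FiniteType (Scheme.ΓSpecIso (CommRingCat.of ℂ)).inv.hom :=
    RingHom.FiniteType.of_surjective _ h2
  exact RingHom.FiniteType.comp h1 h3

/-- finitely many generators of the global sections of an affine scheme of finite type over `ℂ` -/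
theorem exists_generators [IsAffine X] [LocallyOfFiniteType (X ↘ An.SC)] :
    ∃ (n : ℕ) (s : Fin n → Γ(X, ⊤)),
      Function.Surjective (MvPolynomial.eval₂Hom (An.strHom X) s) := by
  have h := finiteType_strHom (X := X)
  letI : Algebra ℂ Γ(X, ⊤) := (An.strHom X).toAlgebra
  have h' : Algebra.FiniteType ℂ Γ(X, ⊤) := h
  obtain ⟨n, f, hf⟩ := Algebra.FiniteType.iff_quotient_mvPolynomial''.1 h'
  refine ⟨n, fun i => f (MvPolynomial.X i), ?_⟩
  have : (MvPolynomial.eval₂Hom (An.strHom X) fun i => f (MvPolynomial.X i)) = (f : _ →+* _) := by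
    apply MvPolynomial.ringHom_ext
    · intro c
      simp only [MvPolynomial.eval₂Hom_C]
      exact (f.commutes c).symm
    · intro i
      simp
  rw [this]
  exact hf

theorem locallyCompactSpace_of_isAffine [IsAffine X] [LocallyOfFiniteType (X ↘ An.SC)] :
    LocallyCompactSpace (An.Pts X) := by
  obtain ⟨n, s, hs⟩ := exists_generators (X := X)
  exact (isClosedEmbedding_evFam s hs).locallyCompactSpace

end Groth.Agent.H21
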