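import Groth.Prelude.Def_AnPts
import Mathlib.AlgebraicGeometry.AlgClosed.Basic
import Mathlib.AlgebraicGeometry.Noetherian
import Mathlib.Analysis.Complex.Polynomial.Basic

/-!
Basic API for `An.Pts` (points only, no topology): comparison with closed points.
-/

set_option autoImplicit false
open CategoryTheory AlgebraicGeometry Topology TopologicalSpace

namespace Groth.Agent.H21

open An

variable {X : Scheme.{0}} [X.Over An.SC]

theorem pt_eq_apply (x : An.Pts X) (a : ↥An.SC) : x.1 a = x.pt := by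
  unfold An.Pts.pt
  rw [An.eq_cpt a]

section LFT

variable [LocallyOfFiniteType (X ↘ An.SC)]

/-- The equivalence of ℂ-points and closed points. -/
noncomputable def ptsEquiv (X : Scheme.{0}) [X.Over An.SC] [LocallyOfFiniteType (X ↘ An.SC)] :
    An.Pts X ≃ closedPoints X :=
  pointEquivClosedPoint (X ↘ An.SC)

theorem ptsEquiv_apply (x : An.Pts X) : ((ptsEquiv X x : closedPoints X) : X) = x.pt :=
  pt_eq_apply x _

theorem pt_mem_closedPoints (x : An.Pts X) : x.pt ∈ closedPoints X := by
  rw [← ptsEquiv_apply]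
  exact (ptsEquiv X x).2

theorem pt_injective : Function.Injective (An.Pts.pt : An.Pts X → X) := by
  intro x y h
  apply (ptsEquiv X).injective
  apply Subtype.ext
  rw [ptsEquiv_apply, ptsEquiv_apply, h]

theorem exists_pt_eq {x : X} (hx : x ∈ closedPoints X) : ∃ p : An.Pts X, p.pt = x := by
  refine ⟨(ptsEquiv X).symm ⟨x, hx⟩, ?_⟩
  rw [← ptsEquiv_apply, Equiv.apply_symm_apply]

theorem jacobsonSpace : JacobsonSpace ↥X := LocallyOfFiniteType.jacobsonSpace (X ↘ An.SC)

theorem exists_pt_mem_of_isLocallyClosed {Z : Set X} (hZ : Z.Nonempty) (hZ' : IsLocallyClosed Z) :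
    ∃ p : An.Pts X, p.pt ∈ Z := by
  have := jacobsonSpace (X := X)
  obtain ⟨x, hxZ, hx⟩ := nonempty_inter_closedPoints hZ hZ'
  obtain ⟨p, rfl⟩ := exists_pt_eq hx
  exact ⟨p, hxZ⟩

theorem isLocallyNoetherian : IsLocallyNoetherian X :=
  LocallyOfFiniteType.isLocallyNoetherian (X ↘ An.SC)

end LFT

variable {Y : Scheme.{0}} [Y.Over An.SC]

theorem locallyOfFiniteType_of_isOver [LocallyOfFiniteType (X ↘ An.SC)] (f : X ⟶ Y)
    [f.IsOver An.SC] : LocallyOfFiniteType f := by
  have h : LocallyOfFiniteType (f ≫ (Y ↘ An.SC)) := by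
    rw [comp_over f An.SC]
    infer_instance
  exact locallyOfFiniteType_of_comp f (Y ↘ An.SC)

theorem locallyOfFiniteType_pullback {S : Scheme.{0}} [S.Over An.SC]
    [LocallyOfFiniteType (X ↘ An.SC)] [LocallyOfFiniteType (Y ↘ An.SC)]
    (f : X ⟶ S) (g : Y ⟶ S) [f.IsOver An.SC] [g.IsOver An.SC] :
    LocallyOfFiniteType ((Limits.pullback f g) ↘ An.SC) := by
  have : LocallyOfFiniteType g := locallyOfFiniteType_of_isOver g
  change LocallyOfFiniteType (Limits.pullback.fst f g ≫ (X ↘ An.SC))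
  infer_instance

end Groth.Agent.H21
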