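import Mathlib.Topology.Constructible
import Mathlib.Topology.JacobsonSpace
import Mathlib.Topology.LocallyClosed

/-!
Constructible sets are unions of locally closed sets; consequences in Jacobson spaces.
-/

set_option autoImplicit false
open Topology TopologicalSpace Set

namespace Groth.Agent.H21

variable {X : Type*} [TopologicalSpace X]

theorem isLocallyConstructible_compl {s : Set X} (hs : IsLocallyConstructible s) :
    IsLocallyConstructible sᶜ := by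
  intro x
  obtain ⟨U, hU, hUo, hc⟩ := hs x
  refine ⟨U, hU, hUo, ?_⟩
  rw [Set.preimage_compl]
  exact hc.compl

theorem isConstructible_exists_isLocallyClosed {s : Set X} (hs : IsConstructible s) :
    (∀ x ∈ s, ∃ Z, IsLocallyClosed Z ∧ x ∈ Z ∧ Z ⊆ s) ∧
    (∀ x ∈ sᶜ, ∃ Z, IsLocallyClosed Z ∧ x ∈ Z ∧ Z ⊆ sᶜ) := by
  induction hs using IsConstructible.empty_union_induction with
  | open_retrocompact U hUopen hUcomp =>
    exact ⟨fun x hx => ⟨U, hUopen.isLocallyClosed, hx, subset_rfl⟩,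
      fun x hx => ⟨Uᶜ, hUopen.isClosed_compl.isLocallyClosed, hx, subset_rfl⟩⟩
  | union s hs t ht ihs iht =>
    refine ⟨?_, ?_⟩
    · rintro x (hx | hx)
      · obtain ⟨Z, hZ, hxZ, hZs⟩ := ihs.1 x hx
        exact ⟨Z, hZ, hxZ, hZs.trans subset_union_left⟩
      · obtain ⟨Z, hZ, hxZ, hZs⟩ := iht.1 x hx
        exact ⟨Z, hZ, hxZ, hZs.trans subset_union_right⟩
    · intro x hx
      rw [compl_union] at hx ⊢
      obtain ⟨Z₁, hZ₁, hxZ₁, hZs₁⟩ := ihs.2 x hx.1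
      obtain ⟨Z₂, hZ₂, hxZ₂, hZs₂⟩ := iht.2 x hx.2
      exact ⟨Z₁ ∩ Z₂, hZ₁.inter hZ₂, ⟨hxZ₁, hxZ₂⟩, inter_subset_inter hZs₁ hZs₂⟩
  | compl s hs ih =>
    refine ⟨ih.2, ?_⟩
    rw [compl_compl]
    exact ih.1

theorem isLocallyConstructible_exists_isLocallyClosed {s : Set X} (hs : IsLocallyConstructible s)
    {x : X} (hx : x ∈ s) : ∃ Z, IsLocallyClosed Z ∧ x ∈ Z ∧ Z ⊆ s := by
  obtain ⟨U, hU, hUo, hc⟩ := hs x
  have hxU : x ∈ U := mem_of_mem_nhds hU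
  obtain ⟨Z, hZ, hxZ, hZs⟩ := (isConstructible_exists_isLocallyClosed hc).1 ⟨x, hxU⟩ hx
  refine ⟨Subtype.val '' Z, ?_, ⟨⟨x, hxU⟩, hxZ, rfl⟩, ?_⟩
  · apply hZ.image IsInducing.subtypeVal
    rw [Subtype.range_coe]
    exact hUo.isLocallyClosed
  · rintro _ ⟨z, hz, rfl⟩
    exact hZs hz

theorem exists_mem_closedPoints_of_isLocallyConstructible [JacobsonSpace X] {s : Set X}
    (hs : IsLocallyConstructible s) (hne : s.Nonempty) : ∃ x ∈ s, x ∈ closedPoints X := by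
  obtain ⟨x, hx⟩ := hne
  obtain ⟨Z, hZ, hxZ, hZs⟩ := isLocallyConstructible_exists_isLocallyClosed hs hx
  obtain ⟨y, hyZ, hy⟩ := nonempty_inter_closedPoints ⟨x, hxZ⟩ hZ
  exact ⟨y, hZs hyZ, hy⟩

end Groth.Agent.H21
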