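import Groth.Agent.H21.CPtDense
import Groth.Agent.H21.AnFT
import Groth.Agent.H21.AnPts
import Groth.Agent.H21.Constr
import Mathlib.AlgebraicGeometry.ResidueField
import Mathlib.AlgebraicGeometry.Noetherian
import Mathlib.Topology.Sober
import Mathlib.Topology.NoetherianSpace

/-!
Closure in the complex topology versus Zariski closure, for (locally) constructible sets.
-/

set_option autoImplicit false
open CategoryTheory AlgebraicGeometry Topology TopologicalSpace

noncomputable section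

namespace Groth.Agent.H21

open An

variable {X : Scheme.{0}} [X.Over An.SC]

/-- the `ℂ`-point of the ring of global sections given by a `ℂ`-point of the scheme -/
def toCPt (x : An.Pts X) : @CPt Γ(X, ⊤) _ (An.algebraTop X) :=
  letI := An.algebraTop X
  CPt.ofAlgHom
    { evHom x ⊤ (Opens.mem_top _) with
      commutes' := fun c => evTop_strHom x c }

theorem toCPt_apply (x : An.Pts X) (a : Γ(X, ⊤)) :
    letI := An.algebraTop X
    toCPt x a = x.evTop a := rfl

theorem continuous_toCPt :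
    letI := An.algebraTop X
    Continuous (toCPt : An.Pts X → @CPt Γ(X, ⊤) _ (An.algebraTop X)) := by
  letI := An.algebraTop X
  exact CPt.continuous_of_eval fun a => continuous_evTop a

theorem isInducing_toCPt [IsAffine X] :
    letI := An.algebraTop X
    IsInducing (toCPt : An.Pts X → @CPt Γ(X, ⊤) _ (An.algebraTop X)) := by
  letI := An.algebraTop X
  refine IsInducing.of_comp continuous_toCPt CPt.isInducing_coe.continuous ?_
  exact isInducing_evAll

theorem toCPt_surjective [IsAffine X] :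
    letI := An.algebraTop X
    Function.Surjective (toCPt : An.Pts X → @CPt Γ(X, ⊤) _ (An.algebraTop X)) := by
  letI := An.algebraTop X
  intro φ
  have hs : Function.Surjective
      (MvPolynomial.eval₂Hom (An.strHom X) (id : Γ(X, ⊤) → Γ(X, ⊤))) := fun a =>
    ⟨MvPolynomial.X a, by simp⟩
  have hz : ∀ p : MvPolynomial Γ(X, ⊤) ℂ,
      MvPolynomial.eval₂Hom (An.strHom X) (id : Γ(X, ⊤) → Γ(X, ⊤)) p = 0 →
      MvPolynomial.eval (fun a => φ a) p = 0 := by
    intro p hp
    have h1 := CPt.apply_aeval (id : Γ(X, ⊤) → Γ(X, ⊤)) φ p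
    have h2 : MvPolynomial.aeval (id : Γ(X, ⊤) → Γ(X, ⊤)) p =
        MvPolynomial.eval₂Hom (An.strHom X) (id : Γ(X, ⊤) → Γ(X, ⊤)) p := rfl
    rw [h2, hp, map_zero] at h1
    exact h1.symm
  obtain ⟨x, hx⟩ := exists_pt_of_ker (id : Γ(X, ⊤) → Γ(X, ⊤)) hs (fun a => φ a) hz
  refine ⟨x, ?_⟩
  ext a
  exact congrFun hx a

/-- The key density statement on an affine scheme of finite type over `ℂ`. -/
theorem mem_closure_of_irreducible_affine [IsAffine X] [LocallyOfFiniteType (X ↘ An.SC)]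
    (Z : Set X) (hZi : IsIrreducible Z) (hZc : IsClosed Z) (V : Set X) (hV : IsOpen V)
    (hne : (Z ∩ V).Nonempty) (x : An.Pts X) (hx : x.pt ∈ Z) :
    x ∈ closure (An.Pts.pt ⁻¹' (Z ∩ V)) := by
  letI := An.algebraTop X
  obtain ⟨ξ, hξ⟩ := QuasiSober.sober hZi hZc
  obtain ⟨z, hzZ, hzV⟩ := hne
  have hzV' : z ∈ (⟨V, hV⟩ : X.Opens) := hzV
  obtain ⟨_, ⟨g, rfl⟩, hzg, hgV⟩ :=
    (Opens.isBasis_iff_nbhd.1 (isBasis_basicOpen X)) hzV'
  have hspec : ∀ y ∈ Z, ξ ⤳ y := fun y hy => hξ.specializes hy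
  let P : Ideal Γ(X, ⊤) := RingHom.ker (X.Γevaluation ξ).hom
  have hP : P.IsPrime := RingHom.ker_isPrime _
  have hmemP : ∀ a, a ∈ P ↔ ξ ∉ X.basicOpen a := fun a => by
    rw [RingHom.mem_ker]
    exact X.evaluation_eq_zero_iff_notMem_basicOpen (U := ⊤) ξ trivial a
  have hgP : g ∉ P := by
    rw [hmemP, not_not]
    exact (hspec z hzZ).mem_open (X.basicOpen g).2 hzg
  have hkill : ∀ y : An.Pts X, y.pt ∈ Z → ∀ a ∈ P, y.evTop a = 0 := by
    intro y hy a ha
    by_contra hne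
    have h1 : y.pt ∈ X.basicOpen a := (mem_basicOpen_iff y ⊤ (Opens.mem_top _) a).2 hne
    exact (hmemP a).1 ha ((hspec _ hy).mem_open (X.basicOpen a).2 h1)
  have hconv : ∀ y : An.Pts X, (∀ a ∈ P, y.evTop a = 0) → y.pt ∈ Z := by
    obtain ⟨I, hI⟩ := (Scheme.eq_zeroLocus_of_isClosed_of_isAffine X Z).1 hZc
    intro y hy
    rw [hI, Scheme.mem_zeroLocus_iff]
    intro a ha
    have haP : a ∈ P := by
      rw [hmemP]
      have h1 : ξ ∈ Z := hξ.mem
      rw [hI, Scheme.mem_zeroLocus_iff] at h1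
      exact h1 a ha
    have h2 := hy a haP
    rw [mem_basicOpen_iff y ⊤ (Opens.mem_top _) a]
    exact not_not.2 h2
  haveI : Algebra.FiniteType ℂ Γ(X, ⊤) := finiteType_strHom (X := X)
  have key := CPt.mem_closure_of_prime P g hgP (toCPt x) (fun a ha => hkill x hx a ha)
  rw [(isInducing_toCPt (X := X)).closure_eq_preimage_closure_image]
  refine closure_mono ?_ key
  rintro φ ⟨hφP, hφg⟩
  obtain ⟨y, rfl⟩ := toCPt_surjective φ
  refine ⟨y, ⟨hconv y hφP, hgV ((mem_basicOpen_iff y ⊤ (Opens.mem_top _) g).2 hφg)⟩, rfl⟩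

/-- affine case of the closure comparison, by Noetherian induction -/
theorem affine_closure_aux [IsAffine X] [LocallyOfFiniteType (X ↘ An.SC)] (T : Set X)
    (h1 : ∀ t ∈ T, ∃ L, IsLocallyClosed L ∧ t ∈ L ∧ L ⊆ T)
    (h2 : ∀ t ∈ Tᶜ, ∃ L, IsLocallyClosed L ∧ t ∈ L ∧ L ⊆ Tᶜ) (C : Closeds X) :
    ∀ x : An.Pts X, x.pt ∈ closure (T ∩ (C : Set X)) →
      x ∈ closure (An.Pts.pt ⁻¹' (T ∩ (C : Set X))) := by
  haveI : IsLocallyNoetherian X := isLocallyNoetherian
  haveI : IsNoetherian X := {}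
  apply wellFounded_lt.induction C
  intro C IH x hx
  rcases eq_or_ne C ⊥ with rfl | h₀
  · simp at hx
  by_cases hirr : IsPreirreducible (C : Set X)
  · have hCirr : IsIrreducible (C : Set X) := ⟨Closeds.coe_nonempty.2 h₀, hirr⟩
    obtain ⟨ξ, hξ⟩ := QuasiSober.sober hCirr C.isClosed
    have hxC : x.pt ∈ (C : Set X) := closure_minimal Set.inter_subset_right C.isClosed hx
    by_cases hξT : ξ ∈ T
    · obtain ⟨L, hL, hξL, hLT⟩ := h1 ξ hξT
      obtain ⟨O, C', hO, hC', rfl⟩ := hL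
      have hCC' : (C : Set X) ⊆ C' := by
        rw [← hξ.def]
        exact closure_minimal (Set.singleton_subset_iff.2 hξL.2) hC'
      have hne : ((C : Set X) ∩ O).Nonempty := ⟨ξ, hξ.mem, hξL.1⟩
      have := mem_closure_of_irreducible_affine (C : Set X) hCirr C.isClosed O hO hne x hxC
      refine closure_mono ?_ this
      apply Set.preimage_mono
      rintro y ⟨hyC, hyO⟩
      exact ⟨hLT ⟨hyO, hCC' hyC⟩, hyC⟩
    · obtain ⟨L, hL, hξL, hLT⟩ := h2 ξ hξT
      obtain ⟨O, C', hO, hC', rfl⟩ := hL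
      have hCC' : (C : Set X) ⊆ C' := by
        rw [← hξ.def]
        exact closure_minimal (Set.singleton_subset_iff.2 hξL.2) hC'
      let C₁ : Closeds X := ⟨(C : Set X) \ O, C.isClosed.sdiff hO⟩
      have hlt : C₁ < C := by
        refine lt_of_le_of_ne (fun y hy => hy.1) ?_
        intro heq
        have h3 : ξ ∈ (C₁ : Set X) := by
          rw [heq]
          exact hξ.mem
        exact h3.2 hξL.1
      have hTC : T ∩ (C : Set X) = T ∩ (C₁ : Set X) := by
        ext y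
        constructor
        · rintro ⟨hyT, hyC⟩
          exact ⟨hyT, hyC, fun hyO => hLT ⟨hyO, hCC' hyC⟩ hyT⟩
        · rintro ⟨hyT, hyC, _⟩
          exact ⟨hyT, hyC⟩
      rw [hTC] at hx ⊢
      exact IH C₁ hlt x hx
  · simp only [isPreirreducible_iff_isClosed_union_isClosed, not_forall, not_or] at hirr
    obtain ⟨z₁, z₂, hz₁, hz₂, h, hz₁', hz₂'⟩ := hirr
    let C₁ : Closeds X := C ⊓ ⟨z₁, hz₁⟩
    let C₂ : Closeds X := C ⊓ ⟨z₂, hz₂⟩
    have hlt₁ : C₁ < C := inf_lt_left.2 hz₁'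
    have hlt₂ : C₂ < C := inf_lt_left.2 hz₂'
    have hsplit : T ∩ (C : Set X) = (T ∩ (C₁ : Set X)) ∪ (T ∩ (C₂ : Set X)) := by
      ext y
      constructor
      · rintro ⟨hyT, hyC⟩
        rcases h hyC with hy1 | hy2
        · exact Or.inl ⟨hyT, hyC, hy1⟩
        · exact Or.inr ⟨hyT, hyC, hy2⟩
      · rintro (⟨hyT, hyC, _⟩ | ⟨hyT, hyC, _⟩)
        · exact ⟨hyT, hyC⟩
        · exact ⟨hyT, hyC⟩
    rw [hsplit, closure_union] at hx
    rw [hsplit, Set.preimage_union, closure_union]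
    rcases hx with hx | hx
    · exact Or.inl (IH C₁ hlt₁ x hx)
    · exact Or.inr (IH C₂ hlt₂ x hx)

end Groth.Agent.H21
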