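import Groth.Agent.H21.CPtEtale
import Groth.Agent.H21.AnDense
import Groth.Agent.H21.AnTop
import Mathlib.AlgebraicGeometry.Morphisms.Etale
import Mathlib.RingTheory.Unramified.LocalStructure

/-!
An etale morphism of schemes over `ℂ` induces a local homeomorphism on `ℂ`-points.
-/

set_option autoImplicit false
open CategoryTheory AlgebraicGeometry Topology TopologicalSpace

noncomputable section

namespace Groth.Agent.H21

open An

variable {X Y : Scheme.{0}} [X.Over An.SC] [Y.Over An.SC]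

theorem isHomeomorph_toCPt [IsAffine X] :
    letI := An.algebraTop X
    IsHomeomorph (toCPt : An.Pts X → @CPt Γ(X, ⊤) _ (An.algebraTop X)) := by
  letI := An.algebraTop X
  rw [isHomeomorph_iff_isEmbedding_surjective]
  refine ⟨⟨isInducing_toCPt, ?_⟩, toCPt_surjective⟩
  intro x y h
  apply evAll_injective
  funext a
  exact congrArg (fun φ : CPt Γ(X, ⊤) => φ a) h

theorem strHom_eq_comp (g : X ⟶ Y) [g.IsOver An.SC] :
    An.strHom X = g.appTop.hom.comp (An.strHom Y) := by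
  unfold An.strHom
  have h := comp_over g An.SC
  rw [← h, Scheme.Hom.comp_appTop, CommRingCat.hom_comp, RingHom.comp_assoc]

/-- the affine case, for a standard etale ring map on global sections -/
theorem isLocalHomeomorph_map_of_isStandardEtale [IsAffine X] [IsAffine Y] (g : X ⟶ Y)
    [g.IsOver An.SC]
    (h : @Algebra.IsStandardEtale Γ(Y, ⊤) Γ(X, ⊤) _ _ g.appTop.hom.toAlgebra) :
    IsLocalHomeomorph (An.Pts.map g) := by
  letI aY := An.algebraTop Y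
  letI aX := An.algebraTop X
  letI aYX : Algebra Γ(Y, ⊤) Γ(X, ⊤) := g.appTop.hom.toAlgebra
  haveI : IsScalarTower ℂ Γ(Y, ⊤) Γ(X, ⊤) := IsScalarTower.of_algebraMap_eq' (strHom_eq_comp g)
  have hsq : (toCPt : An.Pts Y → CPt Γ(Y, ⊤)) ∘ An.Pts.map g =
      (CPt.res : CPt Γ(X, ⊤) → CPt Γ(Y, ⊤)) ∘ toCPt := by
    funext x
    ext a
    exact An.Pts.ev_map g x ⊤ (Opens.mem_top _) a
  have hY : IsLocalHomeomorph (toCPt : An.Pts Y → CPt Γ(Y, ⊤)) :=
    (isHomeomorph_toCPt (X := Y)).isOpenEmbedding.isLocalHomeomorph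
  have hX : IsLocalHomeomorph (toCPt : An.Pts X → CPt Γ(X, ⊤)) :=
    (isHomeomorph_toCPt (X := X)).isOpenEmbedding.isLocalHomeomorph
  have hcomp : IsLocalHomeomorph ((toCPt : An.Pts Y → CPt Γ(Y, ⊤)) ∘ An.Pts.map g) := by
    rw [hsq]
    exact (CPt.isLocalHomeomorph_res (R := Γ(Y, ⊤)) (S := Γ(X, ⊤))).comp hX
  exact IsLocalHomeomorph.of_comp hcomp hY (An.Pts.continuous_map g)

/-- transfer of charts along an open immersion into the source -/
theorem exists_openPartialHomeomorph_of_comp {X' : Scheme.{0}} [X'.Over An.SC] (j : X' ⟶ X)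
    [j.IsOver An.SC] [IsOpenImmersion j] (g : X ⟶ Y) [g.IsOver An.SC]
    (h : IsLocalHomeomorph (An.Pts.map (j ≫ g))) (x : An.Pts X)
    (hx : x ∈ Set.range (An.Pts.map j)) :
    ∃ e : OpenPartialHomeomorph (An.Pts X) (An.Pts Y), x ∈ e.source ∧ An.Pts.map g = e := by
  have h1 : IsLocalHomeomorphOn (An.Pts.map g ∘ An.Pts.map j) Set.univ := by
    have : An.Pts.map (j ≫ g) = An.Pts.map g ∘ An.Pts.map j :=
      funext fun z => An.Pts.map_comp j g z
    rw [← this]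
    exact h.isLocalHomeomorphOn
  have h2 : IsLocalHomeomorphOn (An.Pts.map j) Set.univ :=
    (isOpenEmbedding_map_of_isOpenImmersion j).isLocalHomeomorph.isLocalHomeomorphOn
  have h3 := h1.of_comp_right h2
  obtain ⟨z, rfl⟩ := hx
  exact h3 _ ⟨z, Set.mem_univ _, rfl⟩

theorem mem_range_map_ι (U : X.Opens) (x : An.Pts X) (hx : x.pt ∈ U) :
    letI : (U : Scheme).Over An.SC := ⟨U.ι ≫ X ↘ An.SC⟩
    haveI : U.ι.IsOver An.SC := ⟨rfl⟩
    x ∈ Set.range (An.Pts.map U.ι) := by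
  letI : (U : Scheme).Over An.SC := ⟨U.ι ≫ X ↘ An.SC⟩
  haveI : U.ι.IsOver An.SC := ⟨rfl⟩
  rw [range_map_of_isOpenImmersion, Set.mem_preimage, Scheme.Opens.range_ι]
  exact hx

/-- the case of affine source and target -/
theorem exists_chart_affine [IsAffine X] [IsAffine Y] (g : X ⟶ Y) [g.IsOver An.SC] [Etale g]
    (x : An.Pts X) :
    ∃ e : OpenPartialHomeomorph (An.Pts X) (An.Pts Y), x ∈ e.source ∧ An.Pts.map g = e := by
  letI aYX : Algebra Γ(Y, ⊤) Γ(X, ⊤) := g.appTop.hom.toAlgebra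
  have hEt : Algebra.Etale Γ(Y, ⊤) Γ(X, ⊤) :=
    (HasRingHomProperty.iff_of_isAffine (P := @Etale) (f := g)).1 inferInstance
  let Q : Ideal Γ(X, ⊤) := RingHom.ker (evHom x ⊤ (Opens.mem_top _))
  haveI : Q.IsPrime := RingHom.ker_isPrime _
  haveI : Algebra.FinitePresentation Γ(Y, ⊤) Γ(X, ⊤) := hEt.finitePresentation
  haveI : Algebra.IsEtaleAt Γ(Y, ⊤) Q := by
    haveI : Algebra.FormallyEtale Γ(Y, ⊤) Γ(X, ⊤) := hEt.formallyEtale
    haveI : Algebra.FormallyEtale Γ(X, ⊤) (Localization.AtPrime Q) :=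
      Algebra.FormallyEtale.of_isLocalization Q.primeCompl
    exact Algebra.FormallyEtale.comp Γ(Y, ⊤) Γ(X, ⊤) (Localization.AtPrime Q)
  obtain ⟨f, hfQ, hstd⟩ := Algebra.IsEtaleAt.exists_isStandardEtale (R := Γ(Y, ⊤)) Q
  have hxD : x.pt ∈ X.basicOpen f :=
    (mem_basicOpen_iff x ⊤ (Opens.mem_top _) f).2 (fun h0 => hfQ ((RingHom.mem_ker).2 h0))
  letI : ((X.basicOpen f : X.Opens) : Scheme).Over An.SC := ⟨(X.basicOpen f).ι ≫ X ↘ An.SC⟩
  haveI : (X.basicOpen f).ι.IsOver An.SC := ⟨rfl⟩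
  haveI : IsAffine ((X.basicOpen f : X.Opens) : Scheme) := (isAffineOpen_top X).basicOpen f
  have hstd' : @Algebra.IsStandardEtale Γ(Y, ⊤) Γ((X.basicOpen f : X.Opens), ⊤) _ _
      ((X.basicOpen f).ι ≫ g).appTop.hom.toAlgebra := by
    letI a1 : Algebra Γ(Y, ⊤) Γ((X.basicOpen f : X.Opens), ⊤) :=
      ((X.basicOpen f).ι ≫ g).appTop.hom.toAlgebra
    haveI : IsScalarTower Γ(Y, ⊤) Γ(X, ⊤) Γ((X.basicOpen f : X.Opens), ⊤) :=
      IsScalarTower.of_algebraMap_eq' (by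
        change ((X.basicOpen f).ι ≫ g).appTop.hom =
          (X.basicOpen f).ι.appTop.hom.comp g.appTop.hom
        rw [Scheme.Hom.comp_appTop, CommRingCat.hom_comp])
    let e : Localization.Away f ≃ₐ[Γ(Y, ⊤)] Γ((X.basicOpen f : X.Opens), ⊤) :=
      (IsLocalization.algEquiv (Submonoid.powers f) (Localization.Away f)
        Γ((X.basicOpen f : X.Opens), ⊤)).restrictScalars Γ(Y, ⊤)
    exact Algebra.IsStandardEtale.of_equiv e
  have hLH := isLocalHomeomorph_map_of_isStandardEtale ((X.basicOpen f).ι ≫ g) hstd'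
  exact exists_openPartialHomeomorph_of_comp (X.basicOpen f).ι g hLH x
    (mem_range_map_ι (X.basicOpen f) x hxD)

/-- the case of an affine target -/
theorem exists_chart_of_isAffine_target [IsAffine Y] (g : X ⟶ Y) [g.IsOver An.SC] [Etale g]
    (x : An.Pts X) :
    ∃ e : OpenPartialHomeomorph (An.Pts X) (An.Pts Y), x ∈ e.source ∧ An.Pts.map g = e := by
  obtain ⟨_, ⟨U, hU, rfl⟩, hxU, -⟩ :=
    (X.isBasis_affineOpens).exists_subset_of_mem_open (Set.mem_univ x.pt) isOpen_univ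
  letI : (U : Scheme).Over An.SC := ⟨(Scheme.Opens.ι U) ≫ X ↘ An.SC⟩
  haveI : (Scheme.Opens.ι U).IsOver An.SC := ⟨rfl⟩
  haveI : IsAffine (U : Scheme) := hU
  have hLH : IsLocalHomeomorph (An.Pts.map ((Scheme.Opens.ι U) ≫ g)) :=
    fun z => exists_chart_affine ((Scheme.Opens.ι U) ≫ g) z
  exact exists_openPartialHomeomorph_of_comp (Scheme.Opens.ι U) g hLH x (mem_range_map_ι U x hxU)

/-- an etale morphism over `ℂ` induces a local homeomorphism on `ℂ`-points -/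
theorem isLocalHomeomorph_map_of_etale (g : X ⟶ Y) [g.IsOver An.SC] [Etale g] :
    IsLocalHomeomorph (An.Pts.map g) := by
  intro x
  obtain ⟨_, ⟨V, hV, rfl⟩, hxV, -⟩ :=
    (Y.isBasis_affineOpens).exists_subset_of_mem_open (Set.mem_univ (g x.pt)) isOpen_univ
  letI : (V : Scheme).Over An.SC := ⟨(Scheme.Opens.ι V) ≫ Y ↘ An.SC⟩
  haveI : (Scheme.Opens.ι V).IsOver An.SC := ⟨rfl⟩
  letI : ((g ⁻¹ᵁ V : X.Opens) : Scheme).Over An.SC := ⟨(g ⁻¹ᵁ V).ι ≫ X ↘ An.SC⟩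
  haveI : (g ⁻¹ᵁ V).ι.IsOver An.SC := ⟨rfl⟩
  haveI : IsAffine (V : Scheme) := hV
  haveI : (g ∣_ V).IsOver An.SC := ⟨by
    change (g ∣_ V) ≫ (Scheme.Opens.ι V) ≫ Y ↘ An.SC = (g ⁻¹ᵁ V).ι ≫ X ↘ An.SC
    rw [← Category.assoc, morphismRestrict_ι, Category.assoc, comp_over g An.SC]⟩
  have h1 : IsLocalHomeomorph (An.Pts.map (g ∣_ V)) :=
    fun z => exists_chart_of_isAffine_target (g ∣_ V) z
  have h2 : IsLocalHomeomorph (An.Pts.map ((g ⁻¹ᵁ V).ι ≫ g)) := by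
    have : An.Pts.map ((g ⁻¹ᵁ V).ι ≫ g) = An.Pts.map (Scheme.Opens.ι V) ∘ An.Pts.map (g ∣_ V) := by
      funext z
      rw [Function.comp_apply, ← An.Pts.map_comp]
      apply Subtype.ext
      change z.1 ≫ (g ⁻¹ᵁ V).ι ≫ g = z.1 ≫ (g ∣_ V) ≫ (Scheme.Opens.ι V)
      rw [morphismRestrict_ι]
    rw [this]
    exact (isOpenEmbedding_map_of_isOpenImmersion (Scheme.Opens.ι V)).isLocalHomeomorph.comp h1
  exact exists_openPartialHomeomorph_of_comp (g ⁻¹ᵁ V).ι g h2 x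
    (mem_range_map_ι (g ⁻¹ᵁ V) x hxV)

end Groth.Agent.H21
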