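import Groth.Agent.H21.CPtEtale
import Mathlib.Topology.Maps.Proper.Basic

/-!
Relative version of properness: for a finite extension `R → S` of finitely generated `ℂ`-algebras
the restriction map on `ℂ`-points is proper with finite fibres.
-/

set_option autoImplicit false
open Topology TopologicalSpace

noncomputable section

namespace Groth.Agent.H21

namespace CPt

variable {R S : Type*} [CommRing R] [CommRing S] [Algebra ℂ R] [Algebra ℂ S] [Algebra R S]
  [IsScalarTower ℂ R S]

theorem isProperMap_res_and_finite_fibres [Algebra.FiniteType ℂ R] [Module.Finite R S] :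
    IsProperMap (res : CPt S → CPt R) ∧ ∀ φ : CPt R, (res ⁻¹' {φ} : Set (CPt S)).Finite := by
  obtain ⟨d, F, hF⟩ := Algebra.FiniteType.iff_quotient_mvPolynomial''.1
    (inferInstance : Algebra.FiniteType ℂ R)
  let z : Fin d → R := fun i => F (MvPolynomial.X i)
  have hzF : (MvPolynomial.aeval z : MvPolynomial (Fin d) ℂ →ₐ[ℂ] R) = F := by
    apply MvPolynomial.algHom_ext
    intro i
    simp [z]
  have hz : Function.Surjective (MvPolynomial.aeval z : MvPolynomial (Fin d) ℂ →ₐ[ℂ] R) := by
    rw [hzF]
    exact hF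
  letI a1 : Algebra (MvPolynomial (Fin d) ℂ) R := F.toRingHom.toAlgebra
  letI a2 : Algebra (MvPolynomial (Fin d) ℂ) S := ((algebraMap R S).comp F.toRingHom).toAlgebra
  haveI t1 : IsScalarTower (MvPolynomial (Fin d) ℂ) R S := IsScalarTower.of_algebraMap_eq' rfl
  haveI t2 : IsScalarTower ℂ (MvPolynomial (Fin d) ℂ) S := IsScalarTower.of_algebraMap_eq' (by
    ext c
    change algebraMap ℂ S c = algebraMap R S (F (algebraMap ℂ (MvPolynomial (Fin d) ℂ) c))
    rw [F.commutes, ← IsScalarTower.algebraMap_apply ℂ R S])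
  haveI i1 : Algebra.IsIntegral (MvPolynomial (Fin d) ℂ) R := ⟨fun r => by
    obtain ⟨p, rfl⟩ := hF r
    exact isIntegral_algebraMap (R := MvPolynomial (Fin d) ℂ) (A := R) (x := p)⟩
  haveI i2 : Algebra.IsIntegral R S := inferInstance
  haveI i3 : Algebra.IsIntegral (MvPolynomial (Fin d) ℂ) S :=
    Algebra.IsIntegral.trans (R := MvPolynomial (Fin d) ℂ) R (B := S)
  haveI i4 : Algebra.FiniteType ℂ S :=
    Algebra.FiniteType.trans (inferInstance : Algebra.FiniteType ℂ R) inferInstance
  have hproj : (proj : CPt S → Fin d → ℂ) = evz z ∘ res := by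
    funext ψ i
    rfl
  refine ⟨?_, ?_⟩
  · apply isProperMap_of_comp_of_inj continuous_res (continuous_evz z) ?_ (evz_injective z hz)
    rw [← hproj]
    exact isProperMap_proj
  · intro φ
    refine (finite_fibre (d := d) (A := S) (evz z φ)).subset ?_
    intro ψ hψ
    have h1 : res ψ = φ := hψ
    change proj ψ = evz z φ
    rw [hproj, Function.comp_apply, h1]

end CPt

end Groth.Agent.H21
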