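import Groth.Agent.H21.AnRestrict
import Groth.Agent.H21.AnEtale
import Groth.Agent.H21.CPtFiniteRel
import Mathlib.AlgebraicGeometry.Morphisms.Finite

/-!
Finite morphisms induce proper maps with finite fibres on `ℂ`-points; finite etale morphisms induce
covering maps.
-/

set_option autoImplicit false
open CategoryTheory AlgebraicGeometry Topology TopologicalSpace

noncomputable section

namespace Groth.Agent.H21

open An

variable {X Y : Scheme.{0}} [X.Over An.SC] [Y.Over An.SC]

attribute [local instance] opensOver opens_ι_isOver morphismRestrict_isOver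

theorem t2Space_of_isAffine [IsAffine X] : T2Space (An.Pts X) :=
  (⟨isInducing_evAll, evAll_injective⟩ : IsEmbedding (evAll : An.Pts X → Γ(X, ⊤) → ℂ)).t2Space

theorem locallyOfFiniteType_opens [LocallyOfFiniteType (X ↘ An.SC)] (U : X.Opens) :
    LocallyOfFiniteType ((U : Scheme) ↘ An.SC) := by
  change LocallyOfFiniteType (U.ι ≫ X ↘ An.SC)
  infer_instance

/-- the affine case -/
theorem isProperMap_map_of_isFinite_of_isAffine [IsAffine Y] [LocallyOfFiniteType (Y ↘ An.SC)]
    (g : X ⟶ Y) [g.IsOver An.SC] [IsFinite g] :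
    IsProperMap (An.Pts.map g) ∧ ∀ y, (An.Pts.map g ⁻¹' {y}).Finite := by
  haveI : IsAffine X := isAffine_of_isAffineHom g
  letI aY := An.algebraTop Y
  letI aX := An.algebraTop X
  letI aYX : Algebra Γ(Y, ⊤) Γ(X, ⊤) := g.appTop.hom.toAlgebra
  haveI : IsScalarTower ℂ Γ(Y, ⊤) Γ(X, ⊤) := IsScalarTower.of_algebraMap_eq' (strHom_eq_comp g)
  haveI : Module.Finite Γ(Y, ⊤) Γ(X, ⊤) := g.finite_appTop
  haveI : Algebra.FiniteType ℂ Γ(Y, ⊤) := finiteType_strHom (X := Y)
  obtain ⟨hprop, hfin⟩ := CPt.isProperMap_res_and_finite_fibres (R := Γ(Y, ⊤)) (S := Γ(X, ⊤))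
  have hsq : (toCPt : An.Pts Y → CPt Γ(Y, ⊤)) ∘ An.Pts.map g =
      (CPt.res : CPt Γ(X, ⊤) → CPt Γ(Y, ⊤)) ∘ toCPt := by
    funext x
    ext a
    exact An.Pts.ev_map g x ⊤ (Opens.mem_top _) a
  have hX := isHomeomorph_toCPt (X := X)
  have hY := isHomeomorph_toCPt (X := Y)
  refine ⟨?_, ?_⟩
  · apply isProperMap_of_comp_of_inj (An.Pts.continuous_map g) hY.continuous ?_ hY.injective
    rw [hsq]
    exact hprop.comp hX.isProperMap
  · intro y
    have h1 : An.Pts.map g ⁻¹' {y} ⊆ toCPt ⁻¹' (CPt.res ⁻¹' {toCPt y}) := by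
      intro x hx
      have hx' : An.Pts.map g x = y := hx
      change CPt.res (toCPt x) = toCPt y
      have := congrFun hsq x
      simp only [Function.comp_apply] at this
      rw [← this, hx']
    exact ((hfin (toCPt y)).preimage hX.injective.injOn).subset h1

theorem isProperMap_map_of_isFinite [LocallyOfFiniteType (Y ↘ An.SC)] (f : X ⟶ Y)
    [f.IsOver An.SC] [IsFinite f] : IsProperMap (An.Pts.map f) :=
  isProperMap_map_of_affine_local f fun V hV => by
    haveI : IsAffine (V : Scheme) := hV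
    haveI := locallyOfFiniteType_opens V
    exact (isProperMap_map_of_isFinite_of_isAffine (f ∣_ V)).1

theorem finite_fibre_map_of_isFinite [LocallyOfFiniteType (Y ↘ An.SC)] (f : X ⟶ Y)
    [f.IsOver An.SC] [IsFinite f] (y : An.Pts Y) : (An.Pts.map f ⁻¹' {y}).Finite :=
  finite_fibre_of_affine_local f (fun V hV => by
    haveI : IsAffine (V : Scheme) := hV
    haveI := locallyOfFiniteType_opens V
    exact (isProperMap_map_of_isFinite_of_isAffine (f ∣_ V)).2) y

theorem isCoveringMap_map_of_isFinite_of_etale [LocallyOfFiniteType (Y ↘ An.SC)] (f : X ⟶ Y)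
    [f.IsOver An.SC] [IsFinite f] [Etale f] : IsCoveringMap (An.Pts.map f) :=
  isCoveringMap_map_of_affine_local f fun V hV => by
    haveI : IsAffine (V : Scheme) := hV
    haveI := locallyOfFiniteType_opens V
    haveI : IsAffine ((f ⁻¹ᵁ V : X.Opens) : Scheme) := isAffine_of_isAffineHom (f ∣_ V)
    haveI : T2Space (An.Pts ((f ⁻¹ᵁ V : X.Opens) : Scheme)) := t2Space_of_isAffine
    obtain ⟨hprop, hfin⟩ := isProperMap_map_of_isFinite_of_isAffine (f ∣_ V)
    rw [isCoveringMap_iff_isCoveringMapOn_univ]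
    exact hprop.isClosedMap.isCoveringMapOn_of_isLocalHomeomorphOn (fun y _ => hfin y)
      (isLocalHomeomorph_map_of_etale (f ∣_ V)).isLocalHomeomorphOn

end Groth.Agent.H21
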