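import Groth.Agent.H21.CPtConn
import Groth.Agent.H21.AnDense
import Groth.Agent.H21.AnEtale
import Groth.Agent.H21.AnFinite
import Mathlib.Topology.Connected.Clopen
import Mathlib.Topology.Connected.TotallyDisconnected

/-!
Connectedness of the space of `ℂ`-points: clopen subsets of `X(ℂ)` come from clopen subsets of `X`,
and `X(ℂ)` is locally connected in the weak sense.
-/

set_option autoImplicit false
open CategoryTheory AlgebraicGeometry Topology TopologicalSpace

noncomputable section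

namespace Groth.Agent.H21

open An

variable {X : Scheme.{0}} [X.Over An.SC]

attribute [local instance] opensOver opens_ι_isOver

/-- irreducible closed subsets of an affine scheme are cut out by a prime, on `ℂ`-points -/
theorem exists_prime_of_irreducible [IsAffine X] (Z : Set X) (hZi : IsIrreducible Z)
    (hZc : IsClosed Z) :
    ∃ P : Ideal Γ(X, ⊤), P.IsPrime ∧ ∀ y : An.Pts X, y.pt ∈ Z ↔ ∀ a ∈ P, y.evTop a = 0 := by
  obtain ⟨ξ, hξ⟩ := QuasiSober.sober hZi hZc
  have hspec : ∀ y ∈ Z, ξ ⤳ y := fun y hy => hξ.specializes hy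
  let P : Ideal Γ(X, ⊤) := RingHom.ker (X.Γevaluation ξ).hom
  have hP : P.IsPrime := RingHom.ker_isPrime _
  have hmemP : ∀ a, a ∈ P ↔ ξ ∉ X.basicOpen a := fun a => by
    rw [RingHom.mem_ker]
    exact X.evaluation_eq_zero_iff_notMem_basicOpen (U := ⊤) ξ trivial a
  refine ⟨P, hP, fun y => ⟨fun hy a ha => ?_, fun hy => ?_⟩⟩
  · by_contra hne
    have h1 : y.pt ∈ X.basicOpen a := (mem_basicOpen_iff y ⊤ (Opens.mem_top _) a).2 hne
    exact (hmemP a).1 ha ((hspec _ hy).mem_open (X.basicOpen a).2 h1)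
  · obtain ⟨I, hI⟩ := (Scheme.eq_zeroLocus_of_isClosed_of_isAffine X Z).1 hZc
    rw [hI, Scheme.mem_zeroLocus_iff]
    intro a ha
    have haP : a ∈ P := by
      rw [hmemP]
      have h1 : ξ ∈ Z := hξ.mem
      rw [hI, Scheme.mem_zeroLocus_iff] at h1
      exact h1 a ha
    have h2 := hy a haP
    rw [mem_basicOpen_iff y ⊤ (Opens.mem_top _) a]
    exact not_not.2 h2

/-- the `ℂ`-points of an irreducible closed subset of an affine scheme form a preconnected set -/
theorem isPreconnected_preimage_of_irreducible_of_isAffine [IsAffine X]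
    [LocallyOfFiniteType (X ↘ An.SC)] (Z : Set X) (hZi : IsIrreducible Z) (hZc : IsClosed Z) :
    IsPreconnected (An.Pts.pt ⁻¹' Z : Set (An.Pts X)) := by
  letI := An.algebraTop X
  obtain ⟨P, hP, hPZ⟩ := exists_prime_of_irreducible Z hZi hZc
  haveI := hP
  haveI : Algebra.FiniteType ℂ Γ(X, ⊤) := finiteType_strHom (X := X)
  have h1 := CPtConn.isPreconnected_zeroLocus_of_isPrime P
  have hhom := isHomeomorph_toCPt (X := X)
  have h2 := h1.preimage_of_isOpenMap hhom.injective hhom.isOpenMap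
    (fun φ _ => hhom.surjective φ)
  convert h2 using 1
  ext y
  rw [Set.mem_preimage, Set.mem_preimage, Set.mem_ofPred_eq, hPZ y]
  rfl

/-- clopen subsets of the `ℂ`-points of an affine scheme come from clopen subsets -/
theorem exists_isClopen_of_isAffine [IsAffine X] [LocallyOfFiniteType (X ↘ An.SC)]
    (A : Set (An.Pts X)) (hA : IsClopen A) :
    ∃ W : Set X, IsClopen W ∧ An.Pts.pt ⁻¹' W = A := by
  haveI : IsLocallyNoetherian X := isLocallyNoetherian
  haveI : IsNoetherian X := {}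
  have hfin : (irreducibleComponents X).Finite :=
    TopologicalSpace.NoetherianSpace.finite_irreducibleComponents
  have hpre : ∀ Z ∈ irreducibleComponents X,
      IsPreconnected (An.Pts.pt ⁻¹' Z : Set (An.Pts X)) := fun Z hZ =>
    isPreconnected_preimage_of_irreducible_of_isAffine Z hZ.1
      (isClosed_of_mem_irreducibleComponents Z hZ)
  have hdich : ∀ Z ∈ irreducibleComponents X,
      (An.Pts.pt ⁻¹' Z : Set (An.Pts X)) ⊆ A ∨ (An.Pts.pt ⁻¹' Z : Set (An.Pts X)) ⊆ Aᶜ := by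
    intro Z hZ
    by_cases hne : ((An.Pts.pt ⁻¹' Z : Set (An.Pts X)) ∩ A).Nonempty
    · exact Or.inl ((hpre Z hZ).subset_isClopen hA hne)
    · right
      intro y hy hyA
      exact hne ⟨y, hy, hyA⟩
  let S₁ : Set (Set X) := {Z | Z ∈ irreducibleComponents X ∧
    (An.Pts.pt ⁻¹' Z : Set (An.Pts X)) ⊆ A}
  let S₂ : Set (Set X) := {Z | Z ∈ irreducibleComponents X ∧
    (An.Pts.pt ⁻¹' Z : Set (An.Pts X)) ⊆ Aᶜ}
  have hS₁fin : S₁.Finite := hfin.subset (fun Z hZ => hZ.1)
  have hS₂fin : S₂.Finite := hfin.subset (fun Z hZ => hZ.1)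
  have hWc : IsClosed (⋃₀ S₁) := by
    rw [Set.sUnion_eq_biUnion]
    exact hS₁fin.isClosed_biUnion fun Z hZ => isClosed_of_mem_irreducibleComponents Z hZ.1
  have hW'c : IsClosed (⋃₀ S₂) := by
    rw [Set.sUnion_eq_biUnion]
    exact hS₂fin.isClosed_biUnion fun Z hZ => isClosed_of_mem_irreducibleComponents Z hZ.1
  have hcover : ∀ x : X, x ∈ ⋃₀ S₁ ∨ x ∈ ⋃₀ S₂ := by
    intro x
    have hx : x ∈ irreducibleComponent x := mem_irreducibleComponent
    have hZ : irreducibleComponent x ∈ irreducibleComponents X :=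
      irreducibleComponent_mem_irreducibleComponents x
    rcases hdich _ hZ with h | h
    · exact Or.inl ⟨_, ⟨hZ, h⟩, hx⟩
    · exact Or.inr ⟨_, ⟨hZ, h⟩, hx⟩
  have hdisj : ∀ x : X, x ∈ ⋃₀ S₁ → x ∈ ⋃₀ S₂ → False := by
    rintro x ⟨Z, ⟨hZ, hZA⟩, hxZ⟩ ⟨Z', ⟨hZ', hZ'A⟩, hxZ'⟩
    have hcl : IsClosed (Z ∩ Z') := (isClosed_of_mem_irreducibleComponents Z hZ).inter
      (isClosed_of_mem_irreducibleComponents Z' hZ')
    obtain ⟨p, hp⟩ := exists_pt_mem_of_isLocallyClosed (X := X) (Z := Z ∩ Z') ⟨x, hxZ, hxZ'⟩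
      hcl.isLocallyClosed
    exact hZ'A hp.2 (hZA hp.1)
  have hWW' : ⋃₀ S₂ = (⋃₀ S₁)ᶜ := by
    ext x
    constructor
    · intro hx' hx
      exact hdisj x hx hx'
    · intro hx
      rcases hcover x with h | h
      · exact absurd h hx
      · exact h
  refine ⟨⋃₀ S₁, ⟨hWc, ?_⟩, ?_⟩
  · rw [← isClosed_compl_iff, ← hWW']
    exact hW'c
  · ext p
    constructor
    · rintro ⟨Z, ⟨_, hZA⟩, hpZ⟩
      exact hZA hpZ
    · intro hpA
      by_contra hpW
      have hp' : p.pt ∈ ⋃₀ S₂ := by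
        rw [hWW']
        exact hpW
      obtain ⟨Z', ⟨_, hZ'A⟩, hpZ'⟩ := hp'
      exact hZ'A hpZ' hpA

variable [LocallyOfFiniteType (X ↘ An.SC)]

omit [LocallyOfFiniteType (X ↘ An.SC)] in
/-- lifting a point whose image lies in the image of a subset of an open subscheme -/
theorem exists_map_ι_eq (U : X.Opens) (T : Set ↥(U : Scheme)) (p : An.Pts X)
    (hp : p.pt ∈ U.ι '' T) : ∃ q : An.Pts (U : Scheme), An.Pts.map U.ι q = p ∧ q.pt ∈ T := by
  obtain ⟨c, hcT, hc⟩ := hp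
  have hpU : p ∈ ptsIn U := by
    show p.pt ∈ (U : Set X)
    rw [← hc]
    exact c.2
  rw [← range_map_ι] at hpU
  obtain ⟨q, rfl⟩ := hpU
  refine ⟨q, rfl, ?_⟩
  rw [An.Pts.pt_map] at hc
  have hinj : Function.Injective U.ι := U.ι.isOpenEmbedding.injective
  rw [← hinj hc]
  exact hcT

/-- **clopen subsets of `X(ℂ)` are the preimages of clopen subsets of `X`** -/
theorem exists_isClopen (A : Set (An.Pts X)) (hA : IsClopen A) :
    ∃ W : Set X, IsClopen W ∧ An.Pts.pt ⁻¹' W = A := by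
  have hloc : ∀ U : X.affineOpens, ∃ C : Set ↥(U.1 : Scheme), IsClopen C ∧
      An.Pts.pt ⁻¹' C = An.Pts.map U.1.ι ⁻¹' A := by
    intro U
    haveI : IsAffine (U.1 : Scheme) := U.2
    haveI : LocallyOfFiniteType ((U.1 : Scheme) ↘ An.SC) := locallyOfFiniteType_opens U.1
    exact exists_isClopen_of_isAffine _ (hA.preimage (An.Pts.continuous_map U.1.ι))
  choose C hC hCA using hloc
  have hin : ∀ (U : X.affineOpens) (p : An.Pts X), p.pt ∈ U.1.ι '' C U → p ∈ A := by
    intro U p hp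
    obtain ⟨q, rfl, hq⟩ := exists_map_ι_eq U.1 (C U) p hp
    have : q ∈ An.Pts.pt ⁻¹' C U := hq
    rw [hCA U] at this
    exact this
  have hout : ∀ (U : X.affineOpens) (p : An.Pts X), p.pt ∈ U.1.ι '' (C U)ᶜ → p ∉ A := by
    intro U p hp hpA
    obtain ⟨q, rfl, hq⟩ := exists_map_ι_eq U.1 (C U)ᶜ p hp
    have : q ∈ An.Pts.pt ⁻¹' C U := by
      rw [hCA U]
      exact hpA
    exact hq this
  let W : Set X := ⋃ U : X.affineOpens, U.1.ι '' C U
  let W' : Set X := ⋃ U : X.affineOpens, U.1.ι '' (C U)ᶜ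
  have hWo : IsOpen W := isOpen_iUnion fun U =>
    U.1.ι.isOpenEmbedding.isOpenMap _ (hC U).isOpen
  have hW'o : IsOpen W' := isOpen_iUnion fun U =>
    U.1.ι.isOpenEmbedding.isOpenMap _ (hC U).compl.isOpen
  have hcover : ∀ x : X, x ∈ W ∨ x ∈ W' := by
    intro x
    obtain ⟨_, ⟨U, hU, rfl⟩, hxU, -⟩ :=
      (X.isBasis_affineOpens).exists_subset_of_mem_open (Set.mem_univ x) isOpen_univ
    by_cases hx : (⟨x, hxU⟩ : ↥(U : Scheme)) ∈ C ⟨U, hU⟩
    · exact Or.inl (Set.mem_iUnion.2 ⟨⟨U, hU⟩, ⟨x, hxU⟩, hx, rfl⟩)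
    · exact Or.inr (Set.mem_iUnion.2 ⟨⟨U, hU⟩, ⟨x, hxU⟩, hx, rfl⟩)
  have hdisj : W ∩ W' = ∅ := by
    by_contra hne
    rw [← Ne, ← Set.nonempty_iff_ne_empty] at hne
    obtain ⟨p, hp⟩ := exists_pt_mem_of_isLocallyClosed (X := X) hne
      (hWo.inter hW'o).isLocallyClosed
    obtain ⟨U, hU⟩ := Set.mem_iUnion.1 hp.1
    obtain ⟨U', hU'⟩ := Set.mem_iUnion.1 hp.2
    exact hout U' p hU' (hin U p hU)
  have hWW' : W' = Wᶜ := by
    ext x
    constructor
    · intro hx' hx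
      have : x ∈ W ∩ W' := ⟨hx, hx'⟩
      rw [hdisj] at this
      exact this
    · intro hx
      rcases hcover x with h | h
      · exact absurd h hx
      · exact h
  refine ⟨W, ⟨?_, hWo⟩, ?_⟩
  · rw [← isOpen_compl_iff, ← hWW']
    exact hW'o
  · ext p
    constructor
    · intro hp
      obtain ⟨U, hU⟩ := Set.mem_iUnion.1 hp
      exact hin U p hU
    · intro hpA
      by_contra hpW
      have hp' : p.pt ∈ W' := by
        rw [hWW']
        exact hpW
      obtain ⟨U, hU⟩ := Set.mem_iUnion.1 hp'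
      exact hout U p hU hpA

/-- every `ℂ`-point of an affine scheme has a preconnected neighbourhood -/
theorem exists_preconnected_nhds_of_isAffine {Y : Scheme.{0}} [Y.Over An.SC] [IsAffine Y]
    [LocallyOfFiniteType (Y ↘ An.SC)] (q : An.Pts Y) :
    ∃ N ∈ 𝓝 q, IsPreconnected N := by
  haveI : IsLocallyNoetherian Y := isLocallyNoetherian
  haveI : IsNoetherian Y := {}
  have hfin : (irreducibleComponents Y).Finite :=
    TopologicalSpace.NoetherianSpace.finite_irreducibleComponents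
  let c : Set (Set (An.Pts Y)) :=
    (fun Z : Set Y => (An.Pts.pt ⁻¹' Z : Set (An.Pts Y))) ''
      {Z | Z ∈ irreducibleComponents Y ∧ q.pt ∈ Z}
  let c' : Set (Set (An.Pts Y)) :=
    (fun Z : Set Y => (An.Pts.pt ⁻¹' Z : Set (An.Pts Y))) ''
      {Z | Z ∈ irreducibleComponents Y ∧ q.pt ∉ Z}
  have hpre : IsPreconnected (⋃₀ c) := by
    apply isPreconnected_sUnion q
    · rintro _ ⟨Z, ⟨_, hqZ⟩, rfl⟩
      exact hqZ
    · rintro _ ⟨Z, ⟨hZ, _⟩, rfl⟩
      exact isPreconnected_preimage_of_irreducible_of_isAffine Z hZ.1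
        (isClosed_of_mem_irreducibleComponents Z hZ)
  have hc'fin : c'.Finite := (hfin.subset (fun Z hZ => hZ.1)).image _
  have hclosed : IsClosed (⋃₀ c') := by
    rw [Set.sUnion_eq_biUnion]
    apply hc'fin.isClosed_biUnion
    rintro _ ⟨Z, ⟨hZ, _⟩, rfl⟩
    exact (isClosed_of_mem_irreducibleComponents Z hZ).preimage An.Pts.continuous_pt
  have hq : q ∉ ⋃₀ c' := by
    rintro ⟨_, ⟨Z, ⟨_, hqZ⟩, rfl⟩, hq⟩
    exact hqZ hq
  refine ⟨⋃₀ c, ?_, hpre⟩
  refine Filter.mem_of_superset (hclosed.isOpen_compl.mem_nhds hq) ?_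
  intro y hy
  have hyZ : y.pt ∈ irreducibleComponent y.pt := mem_irreducibleComponent
  have hZ : irreducibleComponent y.pt ∈ irreducibleComponents Y :=
    irreducibleComponent_mem_irreducibleComponents _
  by_cases hqZ : q.pt ∈ irreducibleComponent y.pt
  · exact ⟨_, ⟨_, ⟨hZ, hqZ⟩, rfl⟩, hyZ⟩
  · exact absurd ⟨_, ⟨_, ⟨hZ, hqZ⟩, rfl⟩, hyZ⟩ hy

/-- every `ℂ`-point has a preconnected neighbourhood -/
theorem exists_preconnected_nhds (p : An.Pts X) : ∃ N ∈ 𝓝 p, IsPreconnected N := by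
  obtain ⟨U, hU, hpU⟩ := exists_isAffineOpen_mem p
  haveI : IsAffine (U : Scheme) := hU
  haveI : LocallyOfFiniteType ((U : Scheme) ↘ An.SC) := locallyOfFiniteType_opens U
  obtain ⟨N, hN, hNc⟩ := exists_preconnected_nhds_of_isAffine ((ptsOpensHomeo U).symm ⟨p, hpU⟩)
  refine ⟨An.Pts.map U.ι '' N, ?_, hNc.image _ (An.Pts.continuous_map U.ι).continuousOn⟩
  have h1 := (isOpenEmbedding_map_of_isOpenImmersion U.ι).isOpenMap.image_mem_nhds hN
  rwa [map_ι_symm_apply] at h1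

/-- connected components of `X(ℂ)` are open -/
theorem isOpen_connectedComponent_pts (p : An.Pts X) : IsOpen (connectedComponent p) := by
  rw [isOpen_iff_mem_nhds]
  intro y hy
  obtain ⟨N, hN, hNc⟩ := exists_preconnected_nhds y
  refine Filter.mem_of_superset hN ?_
  have hyN : y ∈ N := mem_of_mem_nhds hN
  rw [connectedComponent_eq hy]
  exact hNc.subset_connectedComponent hyN

end Groth.Agent.H21
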