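import Groth.Agent.H21.AnTop
import Mathlib.AlgebraicGeometry.AffineScheme

/-!
Evaluation API for `An.Pts`: evaluation is a ring homomorphism, compatible with restriction,
detects basic opens, and is the identity on constants.
-/

set_option autoImplicit false
open CategoryTheory AlgebraicGeometry Topology TopologicalSpace

namespace Groth.Agent.H21

open An

variable {X : Scheme.{0}} [X.Over An.SC]

/-- evaluation at a ℂ-point as a ring homomorphism -/
noncomputable def evHom (x : An.Pts X) (U : X.Opens) (h : x.pt ∈ U) : Γ(X, U) →+* ℂ :=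
  (Scheme.ΓSpecIso (CommRingCat.of ℂ)).hom.hom.comp
    (x.1.appLE U ⊤ (An.Pts.top_le_preimage x h)).hom

theorem evHom_apply (x : An.Pts X) (U : X.Opens) (h : x.pt ∈ U) (f : Γ(X, U)) :
    evHom x U h f = x.ev U h f := rfl

theorem ev_res (x : An.Pts X) {U U' : X.Opens} (hle : U' ≤ U) (h' : x.pt ∈ U') (f : Γ(X, U)) :
    x.ev U' h' (X.presheaf.map (homOfLE hle).op f) = x.ev U (hle h') f := by
  unfold An.Pts.ev
  congr 1
  have := Scheme.Hom.map_appLE x.1 (An.Pts.top_le_preimage x h') (homOfLE hle).op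
  exact congrArg (fun φ => φ.hom f) this

theorem mem_basicOpen_iff (x : An.Pts X) (U : X.Opens) (h : x.pt ∈ U) (g : Γ(X, U)) :
    x.pt ∈ X.basicOpen g ↔ x.ev U h g ≠ 0 := by
  have h1 : x.pt ∈ X.basicOpen g ↔ An.cpt ∈ x.1 ⁻¹ᵁ X.basicOpen g := Iff.rfl
  rw [h1]
  have h2 : An.SC.basicOpen (x.1.appLE U ⊤ (An.Pts.top_le_preimage x h) g) =
      x.1 ⁻¹ᵁ X.basicOpen g := by
    rw [Scheme.Hom.appLE]
    change An.SC.basicOpen (An.SC.presheaf.map _ (x.1.app U g)) = _
    rw [Scheme.basicOpen_res, Scheme.preimage_basicOpen]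
    simp
  rw [← h2, basicOpen_eq_of_affine']
  change (Scheme.ΓSpecIso (CommRingCat.of ℂ)).hom (x.1.appLE U ⊤ _ g) ∉ An.cpt.asIdeal ↔ _
  have h3 : An.cpt.asIdeal = ⊥ := by
    have : An.cpt.asIdeal.IsMaximal := by
      exact Ideal.IsPrime.isMaximal' (R := ℂ) An.cpt.isPrime
    exact (Ideal.eq_bot_or_top _).resolve_right this.ne_top
  rw [h3, Ideal.mem_bot]
  rfl

end Groth.Agent.H21

namespace Groth.Agent.H21

open An

variable {X : Scheme.{0}} [X.Over An.SC]

theorem evTop_eq (x : An.Pts X) (f : Γ(X, ⊤)) :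
    x.evTop f = (Scheme.ΓSpecIso (CommRingCat.of ℂ)).hom (x.1.appTop f) := by
  unfold An.Pts.evTop An.Pts.ev
  congr 1

theorem evTop_strHom (x : An.Pts X) (c : ℂ) : x.evTop (An.strHom X c) = c := by
  rw [evTop_eq]
  unfold An.strHom
  simp only [RingHom.comp_apply]
  have h1 : x.1.appTop ((X ↘ An.SC).appTop ((Scheme.ΓSpecIso (CommRingCat.of ℂ)).inv c)) =
      (x.1 ≫ (X ↘ An.SC)).appTop ((Scheme.ΓSpecIso (CommRingCat.of ℂ)).inv c) := by
    rw [Scheme.Hom.comp_appTop]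
    rfl
  change (Scheme.ΓSpecIso (CommRingCat.of ℂ)).hom
    (x.1.appTop ((X ↘ An.SC).appTop ((Scheme.ΓSpecIso (CommRingCat.of ℂ)).inv c))) = c
  rw [h1, x.2]
  simp

end Groth.Agent.H21
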