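import Groth.Agent.H21.AnEv
import Groth.Agent.H21.AnPts
import Mathlib.AlgebraicGeometry.Morphisms.Flat
import Mathlib.Algebra.Category.Ring.Constructions
import Mathlib.Topology.Algebra.Field
import Mathlib.Topology.Homeomorph.Lemmas

/-!
`ℂ`-points of a fibre product: the canonical map to the fibre product of the spaces of `ℂ`-points
is a homeomorphism.
-/

set_option autoImplicit false
open CategoryTheory AlgebraicGeometry Topology TopologicalSpace

noncomputable section

namespace Groth.Agent.H21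

open An

variable {X : Scheme.{0}} [X.Over An.SC]

/-- local description of a subbasic open set on an affine open -/
theorem exists_local_chart (U : X.Opens) (hU : IsAffineOpen U) (W : X.Opens) (f : Γ(X, W))
    {V : Set ℂ} (x₀ : An.Pts X) (hx₀ : x₀ ∈ An.Pts.basicSet W f V) (hx₀U : x₀.pt ∈ U) :
    ∃ (g a : Γ(X, U)) (n : ℕ),
      (x₀.ev U hx₀U g ≠ 0 ∧ x₀.ev U hx₀U a / (x₀.ev U hx₀U g) ^ n ∈ V) ∧
      ∀ (x : An.Pts X) (hx : x.pt ∈ U), x.ev U hx g ≠ 0 →
        x.ev U hx a / (x.ev U hx g) ^ n ∈ V → x ∈ An.Pts.basicSet W f V := by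
  obtain ⟨hW, hfV⟩ := hx₀
  obtain ⟨g, hgW, hxg⟩ := hU.exists_basicOpen_le ⟨x₀.pt, hW⟩ hx₀U
  have hloc : IsLocalization.Away g Γ(X, X.basicOpen g) := hU.isLocalization_basicOpen g
  obtain ⟨⟨a, ⟨_, n, rfl⟩⟩, han⟩ := IsLocalization.surj (Submonoid.powers g)
    (X.presheaf.map (homOfLE hgW).op f)
  simp only at han
  have hgU : X.basicOpen g ≤ U := X.basicOpen_le g
  have key : ∀ x : An.Pts X, ∀ hx : x.pt ∈ X.basicOpen g,
      x.ev W (hgW hx) f * (x.ev U (hgU hx) g) ^ n = x.ev U (hgU hx) a := by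
    intro x hx
    have h1 := congrArg (evHom x (X.basicOpen g) hx) han
    rw [map_mul, RingHom.algebraMap_toAlgebra] at h1
    simp only [evHom_apply] at h1
    rw [ev_res x hgW hx f] at h1
    have h2 : x.ev (X.basicOpen g) hx
        ((X.presheaf.map (homOfLE (X.basicOpen_le g)).op).hom (g ^ n)) =
          (x.ev U (hgU hx) g) ^ n := by
      rw [map_pow]
      have := ev_res x (X.basicOpen_le g) hx g
      rw [← evHom_apply, map_pow, evHom_apply]
      rw [this]
    have h3 : x.ev (X.basicOpen g) hx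
        ((X.presheaf.map (homOfLE (X.basicOpen_le g)).op).hom a) = x.ev U (hgU hx) a :=
      ev_res x (X.basicOpen_le g) hx a
    rw [h2, h3] at h1
    exact h1
  have hg0 : x₀.ev U hx₀U g ≠ 0 := (mem_basicOpen_iff x₀ U hx₀U g).1 hxg
  refine ⟨g, a, n, ⟨hg0, ?_⟩, ?_⟩
  · rw [← key x₀ hxg, mul_div_assoc, div_self (pow_ne_zero n hg0), mul_one]
    exact hfV
  · intro x hx hxg0 hxV
    have hxg' : x.pt ∈ X.basicOpen g := (mem_basicOpen_iff x U hx g).2 hxg0
    refine ⟨hgW hxg', ?_⟩
    rw [← key x hxg', mul_div_assoc, div_self (pow_ne_zero n hxg0), mul_one] at hxV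
    exact hxV

/-- evaluation on the points lying in a fixed open is continuous -/
theorem continuous_ev_subtype (U : X.Opens) (a : Γ(X, U)) :
    Continuous (fun x : {x : An.Pts X // x.pt ∈ U} => x.1.ev U x.2 a) := by
  rw [continuous_def]
  intro V hV
  have : (fun x : {x : An.Pts X // x.pt ∈ U} => x.1.ev U x.2 a) ⁻¹' V =
      Subtype.val ⁻¹' An.Pts.basicSet U a V := by
    ext x
    simp only [Set.mem_preimage, An.Pts.basicSet, Set.mem_ofPred_eq]
    exact ⟨fun h => ⟨x.2, h⟩, fun ⟨_, h⟩ => h⟩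
  rw [this]
  exact (An.Pts.isOpen_basicSet _ _ hV).preimage continuous_subtype_val

variable {Y : Scheme.{0}} [Y.Over An.SC]

theorem ev_appLE (g : X ⟶ Y) [g.IsOver An.SC] (U : Y.Opens) (U' : X.Opens) (e : U' ≤ g ⁻¹ᵁ U)
    (x : An.Pts X) (h : x.pt ∈ U') (a : Γ(Y, U)) :
    x.ev U' h (g.appLE U U' e a) =
      (An.Pts.map g x).ev U (by rw [An.Pts.pt_map]; exact e h) a := by
  have h1 : g.appLE U U' e a = X.presheaf.map (homOfLE e).op (g.app U a) := rfl
  rw [h1, ev_res x e h (g.app U a)]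
  exact (An.Pts.ev_map g x U _ a).symm

section pullback

variable {S : Scheme.{0}} [S.Over An.SC] (f : X ⟶ S) (g : Y ⟶ S) [f.IsOver An.SC] [g.IsOver An.SC]

/-- the canonical map from the points of the fibre product to the fibre product of points -/
def psi (z : An.Pts (Limits.pullback f g)) :
    {q : An.Pts X × An.Pts Y // An.Pts.map f q.1 = An.Pts.map g q.2} :=
  ⟨(An.Pts.map (Limits.pullback.fst f g) z, An.Pts.map (Limits.pullback.snd f g) z),
    An.Pts.map_pullback_condition f g z⟩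

theorem continuous_psi : Continuous (psi f g) :=
  Continuous.subtype_mk ((An.Pts.continuous_map _).prodMk (An.Pts.continuous_map _)) _

theorem psi_injective : Function.Injective (psi f g) := by
  intro z z' h
  have h1 : An.Pts.map (Limits.pullback.fst f g) z = An.Pts.map (Limits.pullback.fst f g) z' :=
    congrArg (fun q => q.1.1) h
  have h2 : An.Pts.map (Limits.pullback.snd f g) z = An.Pts.map (Limits.pullback.snd f g) z' :=
    congrArg (fun q => q.1.2) h
  apply Subtype.ext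
  apply Limits.pullback.hom_ext
  · exact congrArg Subtype.val h1
  · exact congrArg Subtype.val h2

theorem psi_surjective : Function.Surjective (psi f g) := by
  rintro ⟨⟨a, b⟩, hab⟩
  have hab' : a.1 ≫ f = b.1 ≫ g := congrArg Subtype.val hab
  refine ⟨⟨Limits.pullback.lift a.1 b.1 hab', ?_⟩, ?_⟩
  · change Limits.pullback.lift a.1 b.1 hab' ≫ Limits.pullback.fst f g ≫ (X ↘ An.SC) = _
    rw [Limits.pullback.lift_fst_assoc]
    exact a.2
  · apply Subtype.ext
    apply Prod.ext
    · apply Subtype.ext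
      exact Limits.pullback.lift_fst _ _ _
    · apply Subtype.ext
      exact Limits.pullback.lift_snd _ _ _

set_option maxHeartbeats 1600000 in
theorem isInducing_psi : IsInducing (psi f g) := by
  refine ⟨le_antisymm (continuous_iff_le_induced.1 (continuous_psi f g)) ?_⟩
  refine le_generateFrom ?_
  rintro _ ⟨W, h, V, hV, rfl⟩
  rw [@isOpen_iff_forall_mem_open _ (TopologicalSpace.induced (psi f g) _)]
  intro z₀ hz₀
  -- the affine opens
  set fst := Limits.pullback.fst f g with hfst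
  set snd := Limits.pullback.snd f g with hsnd
  obtain ⟨_, ⟨S₀, hS₀, rfl⟩, hs₀, -⟩ :=
    (S.isBasis_affineOpens).exists_subset_of_mem_open (Set.mem_univ (f (fst z₀.pt))) isOpen_univ
  have hx₀' : fst z₀.pt ∈ f ⁻¹ᵁ S₀ := hs₀
  obtain ⟨_, ⟨X₀, hX₀, rfl⟩, hx₀, hUSX'⟩ :=
    (X.isBasis_affineOpens).exists_subset_of_mem_open hx₀' (f ⁻¹ᵁ S₀).2
  have hcond : g (snd z₀.pt) = f (fst z₀.pt) := by
    have := congrArg (fun φ : Limits.pullback f g ⟶ S => φ z₀.pt) (Limits.pullback.condition (f := f) (g := g))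
    simp only [Scheme.Hom.comp_apply] at this
    exact this.symm
  have hy₀' : snd z₀.pt ∈ g ⁻¹ᵁ S₀ := by
    change g (snd z₀.pt) ∈ S₀
    rw [hcond]
    exact hs₀
  obtain ⟨_, ⟨Y₀, hY₀, rfl⟩, hy₀, hUST'⟩ :=
    (Y.isBasis_affineOpens).exists_subset_of_mem_open hy₀' (g ⁻¹ᵁ S₀).2
  have hUSX : X₀ ≤ f ⁻¹ᵁ S₀ := hUSX'
  have hUST : Y₀ ≤ g ⁻¹ᵁ S₀ := hUST'
  let W₀ : (Limits.pullback f g).Opens := fst ⁻¹ᵁ X₀ ⊓ snd ⁻¹ᵁ Y₀
  have hUY : W₀ = fst ⁻¹ᵁ X₀ ⊓ snd ⁻¹ᵁ Y₀ := rfl
  have H : IsPullback fst snd f g := IsPullback.of_hasPullback f g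
  have hpush := (isIso_pushoutSection_iff H hUST hUSX hUY).1
    (isIso_pushoutSection_of_isAffineOpen H hUST hUSX hUY hS₀ hY₀ hX₀)
  have hW₀ : IsAffineOpen W₀ := by
    have : IsAffine (S₀ : Scheme) := hS₀
    have : IsAffine (Y₀ : Scheme) := hY₀
    have : IsAffine (X₀ : Scheme) := hX₀
    exact .of_isIso (Scheme.Hom.isPullback_resLE H hUST hUSX hUY).isoPullback.hom
  have hgen := CommRingCat.closure_range_union_range_eq_top_of_isPushout hpush
  have hz₀W₀ : z₀.pt ∈ W₀ := ⟨hx₀, hy₀⟩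
  -- the auxiliary topology on the points lying in W₀
  let T := {z : An.Pts (Limits.pullback f g) // z.pt ∈ W₀}
  let τT : TopologicalSpace T := TopologicalSpace.induced (fun z : T => psi f g z.1) inferInstance
  have hcont : ∀ a : Γ(Limits.pullback f g, W₀),
      @Continuous T ℂ τT _ (fun z : T => z.1.ev W₀ z.2 a) := by
    intro a
    have ha : a ∈ Subring.closure (Set.range (fst.appLE X₀ W₀ (by simp [hUY])) ∪
        Set.range (snd.appLE Y₀ W₀ (by simp [hUY]))) := by
      rw [hgen]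
      exact Subring.mem_top a
    letI := τT
    induction ha using Subring.closure_induction with
    | mem a ha =>
      rcases ha with ⟨a', rfl⟩ | ⟨b', rfl⟩
      · have h1 : (fun z : T => z.1.ev W₀ z.2 (fst.appLE X₀ W₀ (by simp [hUY]) a')) =
            (fun x : {x : An.Pts X // x.pt ∈ X₀} => x.1.ev X₀ x.2 a') ∘
            (fun z : T => ⟨An.Pts.map fst z.1, by rw [An.Pts.pt_map]; exact z.2.1⟩) := by
          funext z
          exact ev_appLE fst X₀ W₀ _ z.1 z.2 a'
        rw [h1]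
        refine (continuous_ev_subtype X₀ a').comp (Continuous.subtype_mk ?_ _)
        have h2 : (fun z : T => An.Pts.map fst z.1) =
            (fun q : {q : An.Pts X × An.Pts Y // An.Pts.map f q.1 = An.Pts.map g q.2} => q.1.1) ∘
              (fun z : T => psi f g z.1) := rfl
        rw [h2]
        exact (continuous_fst.comp continuous_subtype_val).comp continuous_induced_dom
      · have h1 : (fun z : T => z.1.ev W₀ z.2 (snd.appLE Y₀ W₀ (by simp [hUY]) b')) =
            (fun x : {x : An.Pts Y // x.pt ∈ Y₀} => x.1.ev Y₀ x.2 b') ∘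
            (fun z : T => ⟨An.Pts.map snd z.1, by rw [An.Pts.pt_map]; exact z.2.2⟩) := by
          funext z
          exact ev_appLE snd Y₀ W₀ _ z.1 z.2 b'
        rw [h1]
        refine (continuous_ev_subtype Y₀ b').comp (Continuous.subtype_mk ?_ _)
        have h2 : (fun z : T => An.Pts.map snd z.1) =
            (fun q : {q : An.Pts X × An.Pts Y // An.Pts.map f q.1 = An.Pts.map g q.2} => q.1.2) ∘
              (fun z : T => psi f g z.1) := rfl
        rw [h2]
        exact (continuous_snd.comp continuous_subtype_val).comp continuous_induced_dom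
    | zero =>
      have : (fun z : T => z.1.ev W₀ z.2 0) = fun _ => 0 := by
        funext z
        exact map_zero (evHom z.1 W₀ z.2)
      rw [this]
      exact continuous_const
    | one =>
      have : (fun z : T => z.1.ev W₀ z.2 1) = fun _ => 1 := by
        funext z
        exact map_one (evHom z.1 W₀ z.2)
      rw [this]
      exact continuous_const
    | add a b _ _ iha ihb =>
      have : (fun z : T => z.1.ev W₀ z.2 (a + b)) =
          fun z => z.1.ev W₀ z.2 a + z.1.ev W₀ z.2 b := by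
        funext z
        exact map_add (evHom z.1 W₀ z.2) a b
      rw [this]
      exact iha.add ihb
    | neg a _ iha =>
      have : (fun z : T => z.1.ev W₀ z.2 (-a)) = fun z => - z.1.ev W₀ z.2 a := by
        funext z
        exact map_neg (evHom z.1 W₀ z.2) a
      rw [this]
      exact iha.neg
    | mul a b _ _ iha ihb =>
      have : (fun z : T => z.1.ev W₀ z.2 (a * b)) =
          fun z => z.1.ev W₀ z.2 a * z.1.ev W₀ z.2 b := by
        funext z
        exact map_mul (evHom z.1 W₀ z.2) a b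
      rw [this]
      exact iha.mul ihb
  -- the local chart
  obtain ⟨gg, aa, n, ⟨hg0, haV⟩, hloc⟩ := exists_local_chart W₀ hW₀ W h z₀ hz₀ hz₀W₀
  let N : Set T := {z : T | z.1.ev W₀ z.2 gg ≠ 0} ∩
    (fun z : T => z.1.ev W₀ z.2 aa / (z.1.ev W₀ z.2 gg) ^ n) ⁻¹' V
  have hN : IsOpen[τT] N := by
    letI := τT
    apply ContinuousOn.isOpen_inter_preimage
    · apply ContinuousOn.div (hcont aa).continuousOn ((hcont gg).pow n).continuousOn
      intro z hz
      exact pow_ne_zero n hz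
    · exact isOpen_ne_fun (hcont gg) continuous_const
    · exact hV
  obtain ⟨Q, hQ, hQN⟩ := isOpen_induced_iff.1 hN
  let Q₀ : Set {q : An.Pts X × An.Pts Y // An.Pts.map f q.1 = An.Pts.map g q.2} :=
    {q | q.1.1.pt ∈ X₀ ∧ q.1.2.pt ∈ Y₀}
  have hQ₀ : IsOpen Q₀ := by
    have h1 : IsOpen {q : {q : An.Pts X × An.Pts Y // An.Pts.map f q.1 = An.Pts.map g q.2} |
        q.1.1.pt ∈ X₀} :=
      (An.Pts.isOpen_preimage_pt X₀).preimage (continuous_fst.comp continuous_subtype_val)
    have h2 : IsOpen {q : {q : An.Pts X × An.Pts Y // An.Pts.map f q.1 = An.Pts.map g q.2} |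
        q.1.2.pt ∈ Y₀} :=
      (An.Pts.isOpen_preimage_pt Y₀).preimage (continuous_snd.comp continuous_subtype_val)
    exact h1.inter h2
  have hmemW₀ : ∀ z : An.Pts (Limits.pullback f g), psi f g z ∈ Q₀ → z.pt ∈ W₀ := by
    rintro z ⟨h1, h2⟩
    change (An.Pts.map fst z).pt ∈ X₀ at h1
    change (An.Pts.map snd z).pt ∈ Y₀ at h2
    rw [An.Pts.pt_map] at h1 h2
    exact ⟨h1, h2⟩
  refine ⟨psi f g ⁻¹' (Q ∩ Q₀), ?_, ⟨Q ∩ Q₀, hQ.inter hQ₀, rfl⟩, ?_⟩
  · rintro z ⟨hzQ, hzQ₀⟩
    have hzW₀ := hmemW₀ z hzQ₀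
    have hzN : (⟨z, hzW₀⟩ : T) ∈ N := by
      rw [← hQN]
      exact hzQ
    exact hloc z hzW₀ hzN.1 hzN.2
  · have hz₀N : (⟨z₀, hz₀W₀⟩ : T) ∈ N := ⟨hg0, haV⟩
    rw [← hQN] at hz₀N
    refine ⟨hz₀N, ?_, ?_⟩
    · change (An.Pts.map fst z₀).pt ∈ X₀
      rw [An.Pts.pt_map]
      exact hx₀
    · change (An.Pts.map snd z₀).pt ∈ Y₀
      rw [An.Pts.pt_map]
      exact hy₀

theorem isHomeomorph_psi : IsHomeomorph (psi f g) :=
  isHomeomorph_iff_isEmbedding_surjective.2
    ⟨⟨isInducing_psi f g, psi_injective f g⟩, psi_surjective f g⟩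

end pullback

end Groth.Agent.H21
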