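import Groth.Agent.H21.AnEv
import Groth.Agent.H21.AnPts
import Mathlib.AlgebraicGeometry.Morphisms.ClosedImmersion
import Mathlib.AlgebraicGeometry.Morphisms.Immersion
import Mathlib.Topology.LocallyClosed

/-!
Closed immersions and immersions induce (closed) embeddings on `ℂ`-points.
-/

set_option autoImplicit false
open CategoryTheory AlgebraicGeometry Topology TopologicalSpace

namespace Groth.Agent.H21

open An

variable {X : Scheme.{0}} [X.Over An.SC] {Z : Scheme.{0}} [Z.Over An.SC]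

theorem basicSet_res {U U' : X.Opens} (hle : U' ≤ U) (g : Γ(X, U)) (V : Set ℂ) :
    An.Pts.basicSet U' (X.presheaf.map (homOfLE hle).op g) V =
      An.Pts.basicSet U g V ∩ An.Pts.pt ⁻¹' (U' : Set X) := by
  ext x
  constructor
  · rintro ⟨h', hv⟩
    refine ⟨⟨hle h', ?_⟩, h'⟩
    rw [← ev_res x hle h' g]
    exact hv
  · rintro ⟨⟨h, hv⟩, h'⟩
    refine ⟨h', ?_⟩
    rw [ev_res x hle h' g]
    exact hv

theorem isInducing_map_of_isClosedImmersion (f : Z ⟶ X) [f.IsOver An.SC] [IsClosedImmersion f] :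
    IsInducing (An.Pts.map f) := by
  refine ⟨le_antisymm (continuous_iff_le_induced.1 (An.Pts.continuous_map f)) ?_⟩
  refine le_generateFrom ?_
  rintro _ ⟨W, g, V, hV, rfl⟩
  rw [@isOpen_iff_forall_mem_open _ (TopologicalSpace.induced (An.Pts.map f) _)]
  intro z₀ hz₀
  obtain ⟨hz₀W, hz₀V⟩ := hz₀
  obtain ⟨W', hW'o, hW'⟩ := f.isEmbedding.isInducing.isOpen_iff.1 W.2
  have hx₀ : f z₀.pt ∈ W' := by
    have : z₀.pt ∈ f ⁻¹' W' := by rw [hW']; exact hz₀W
    exact this
  obtain ⟨_, ⟨U, hU, rfl⟩, hxU, hUW⟩ :=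
    (X.isBasis_affineOpens).exists_subset_of_mem_open hx₀ hW'o
  have hle : f ⁻¹ᵁ U ≤ W := by
    intro z hz
    have h1 : f z ∈ W' := hUW hz
    have h2 : z ∈ f ⁻¹' W' := h1
    rw [hW'] at h2
    exact h2
  obtain ⟨h, hh⟩ := f.app_surjective U hU (Z.presheaf.map (homOfLE hle).op g)
  refine ⟨An.Pts.map f ⁻¹' An.Pts.basicSet U h V, ?_,
    ⟨_, An.Pts.isOpen_basicSet U h hV, rfl⟩, ?_⟩
  · rw [An.Pts.preimage_basicSet, hh, basicSet_res]
    exact Set.inter_subset_left
  · rw [An.Pts.preimage_basicSet, hh, basicSet_res]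
    exact ⟨⟨hz₀W, hz₀V⟩, hxU⟩

theorem range_map_of_injective [LocallyOfFiniteType (Z ↘ An.SC)] [LocallyOfFiniteType (X ↘ An.SC)]
    (f : Z ⟶ X) [f.IsOver An.SC] (hf : Function.Injective f) :
    Set.range (An.Pts.map f) = An.Pts.pt ⁻¹' Set.range f := by
  ext y
  constructor
  · rintro ⟨x, rfl⟩
    rw [Set.mem_preimage, An.Pts.pt_map]
    exact ⟨_, rfl⟩
  · rintro ⟨z, hz⟩
    have hzc : z ∈ closedPoints Z := by
      rw [mem_closedPoints_iff]
      have h1 : IsClosed ({y.pt} : Set X) := (mem_closedPoints_iff).1 (pt_mem_closedPoints y)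
      have h2 : ({z} : Set Z) = f ⁻¹' {y.pt} := by
        ext w
        simp only [Set.mem_singleton_iff, Set.mem_preimage]
        rw [← hz]
        exact ⟨fun h => by rw [h], fun h => hf h⟩
      rw [h2]
      exact h1.preimage f.continuous
    obtain ⟨p, rfl⟩ := exists_pt_eq hzc
    refine ⟨p, pt_injective ?_⟩
    rw [An.Pts.pt_map]
    exact hz

theorem isClosedEmbedding_map_of_isClosedImmersion
    [LocallyOfFiniteType (Z ↘ An.SC)] [LocallyOfFiniteType (X ↘ An.SC)]
    (f : Z ⟶ X) [f.IsOver An.SC] [IsClosedImmersion f] :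
    IsClosedEmbedding (An.Pts.map f) := by
  refine ⟨⟨isInducing_map_of_isClosedImmersion f, map_injective_of_mono f⟩, ?_⟩
  rw [range_map_of_injective f f.isEmbedding.injective]
  exact f.isClosedEmbedding.isClosed_range.preimage An.Pts.continuous_pt

theorem isEmbedding_map_of_isImmersion
    [LocallyOfFiniteType (Z ↘ An.SC)] [LocallyOfFiniteType (X ↘ An.SC)]
    (f : Z ⟶ X) [f.IsOver An.SC] [IsImmersion f] :
    IsEmbedding (An.Pts.map f) ∧ IsLocallyClosed (Set.range (An.Pts.map f)) := by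
  letI : (f.coborderRange : Scheme).Over An.SC := ⟨Scheme.Opens.ι f.coborderRange ≫ X ↘ An.SC⟩
  haveI : (Scheme.Opens.ι f.coborderRange).IsOver An.SC := ⟨rfl⟩
  haveI : f.liftCoborder.IsOver An.SC := ⟨by
    change f.liftCoborder ≫ Scheme.Opens.ι f.coborderRange ≫ X ↘ An.SC = Z ↘ An.SC
    rw [Scheme.Hom.liftCoborder_ι_assoc]
    exact comp_over f An.SC⟩
  haveI : LocallyOfFiniteType ((f.coborderRange : Scheme) ↘ An.SC) := by
    change LocallyOfFiniteType (Scheme.Opens.ι f.coborderRange ≫ X ↘ An.SC)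
    infer_instance
  have h1 := isClosedEmbedding_map_of_isClosedImmersion f.liftCoborder
  have h2 := isOpenEmbedding_map_of_isOpenImmersion (Scheme.Opens.ι f.coborderRange)
  have h3 : An.Pts.map f =
      An.Pts.map (Scheme.Opens.ι f.coborderRange) ∘ An.Pts.map f.liftCoborder := by
    funext x
    apply Subtype.ext
    change x.1 ≫ f = (x.1 ≫ f.liftCoborder) ≫ Scheme.Opens.ι f.coborderRange
    rw [Category.assoc, Scheme.Hom.liftCoborder_ι]
  rw [h3]
  refine ⟨h2.isEmbedding.comp h1.isEmbedding, ?_⟩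
  rw [Set.range_comp]
  exact h1.isClosed_range.isLocallyClosed.image h2.isInducing h2.isOpen_range.isLocallyClosed

end Groth.Agent.H21
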