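import Groth.Agent.H21.AnClosure
import Groth.Agent.H21.AnPullback
import Groth.Agent.H21.AnImm
import Mathlib.AlgebraicGeometry.Morphisms.Separated
import Mathlib.Topology.SeparatedMap

/-!
Separated morphisms versus separated maps on `ℂ`-points.
-/

set_option autoImplicit false
open CategoryTheory AlgebraicGeometry Topology TopologicalSpace

namespace Groth.Agent.H21

open An

variable {X : Scheme.{0}} [X.Over An.SC]

/-- a locally closed set whose set of `ℂ`-points is closed is closed -/
theorem isClosed_of_isLocallyClosed [LocallyOfFiniteType (X ↘ An.SC)] {T : Set X}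
    (hT : IsLocallyClosed T) (h : IsClosed (An.Pts.pt ⁻¹' T : Set (An.Pts X))) : IsClosed T := by
  obtain ⟨O, C, hO, hC, rfl⟩ := hT
  have h1 : LC (O ∩ C) := fun t ht => ⟨O ∩ C, ⟨O, C, hO, hC, rfl⟩, ht, subset_rfl⟩
  have h2 : LC (O ∩ C)ᶜ := by
    intro t ht
    by_cases htO : t ∈ O
    · have htC : t ∉ C := fun htC => ht ⟨htO, htC⟩
      exact ⟨Cᶜ, hC.isOpen_compl.isLocallyClosed, htC, fun y hy hy' => hy hy'.2⟩
    · exact ⟨Oᶜ, hO.isClosed_compl.isLocallyClosed, htO, fun y hy hy' => hy hy'.1⟩
  have hsub := preimage_closure_subset (O ∩ C) h1 h2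
  rw [h.closure_eq] at hsub
  have hclC : closure (O ∩ C) ⊆ C := closure_minimal Set.inter_subset_right hC
  have hemp : closure (O ∩ C) ∩ (O ∩ C)ᶜ = ∅ := by
    apply eq_empty_of_LC
    · intro t ht
      have htO : t ∉ O := fun htO => ht.2 ⟨htO, hclC ht.1⟩
      refine ⟨closure (O ∩ C) ∩ Oᶜ, (isClosed_closure.inter hO.isClosed_compl).isLocallyClosed,
        ⟨ht.1, htO⟩, ?_⟩
      rintro y ⟨hy1, hy2⟩
      exact ⟨hy1, fun hy => hy2 hy.1⟩
    · rintro p ⟨hp1, hp2⟩
      exact hp2 (hsub hp1)
  apply closure_subset_iff_isClosed.1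
  intro y hy
  by_contra hyT
  have : y ∈ closure (O ∩ C) ∩ (O ∩ C)ᶜ := ⟨hy, hyT⟩
  rw [hemp] at this
  exact this

variable {Y : Scheme.{0}} [Y.Over An.SC] (f : X ⟶ Y) [f.IsOver An.SC]

instance diagonalIsOver : (Limits.pullback.diagonal f).IsOver An.SC := ⟨by
  change Limits.pullback.diagonal f ≫ Limits.pullback.fst f f ≫ (X ↘ An.SC) = X ↘ An.SC
  rw [Limits.pullback.diagonal_fst_assoc]⟩

theorem isSeparated_iff_isSeparatedMap [LocallyOfFiniteType (X ↘ An.SC)]
    [LocallyOfFiniteType (Y ↘ An.SC)] :
    IsSeparated f ↔ IsSeparatedMap (An.Pts.map f) := by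
  haveI : LocallyOfFiniteType (Limits.pullback f f ↘ An.SC) := locallyOfFiniteType_pullback f f
  have hΨ := isHomeomorph_psi f f
  have hcomp : ∀ x, psi f f (An.Pts.map (Limits.pullback.diagonal f) x) =
      toPullbackDiag (An.Pts.map f) x := by
    intro x
    apply Subtype.ext
    apply Prod.ext
    · apply Subtype.ext
      change (x.1 ≫ Limits.pullback.diagonal f) ≫ Limits.pullback.fst f f = x.1
      rw [Category.assoc, Limits.pullback.diagonal_fst, Category.comp_id]
    · apply Subtype.ext
      change (x.1 ≫ Limits.pullback.diagonal f) ≫ Limits.pullback.snd f f = x.1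
      rw [Category.assoc, Limits.pullback.diagonal_snd, Category.comp_id]
  have hrange : (An.Pts.map f).pullbackDiagonal =
      psi f f '' Set.range (An.Pts.map (Limits.pullback.diagonal f)) := by
    rw [← range_toPullbackDiag, ← Set.range_comp]
    congr 1
    funext x
    exact (hcomp x).symm
  rw [isSeparatedMap_iff_isClosed_diagonal, hrange]
  have hcl : IsClosed (psi f f '' Set.range (An.Pts.map (Limits.pullback.diagonal f))) ↔
      IsClosed (Set.range (An.Pts.map (Limits.pullback.diagonal f))) := by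
    constructor
    · intro h
      have := h.preimage hΨ.continuous
      rwa [Set.preimage_image_eq _ hΨ.bijective.1] at this
    · intro h
      exact hΨ.isClosedMap _ h
  rw [hcl]
  constructor
  · intro hsep
    haveI : IsClosedImmersion (Limits.pullback.diagonal f) := hsep.isClosedImmersion_diagonal
    exact (isClosedEmbedding_map_of_isClosedImmersion _).isClosed_range
  · intro hR
    have hinj : Function.Injective (Limits.pullback.diagonal f) :=
      (Limits.pullback.diagonal f).isEmbedding.injective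
    rw [range_map_of_injective _ hinj] at hR
    have hTlc : IsLocallyClosed (Set.range (Limits.pullback.diagonal f)) :=
      (Limits.pullback.diagonal f).isLocallyClosed_range
    have hclosed : IsClosed (Set.range (Limits.pullback.diagonal f)) :=
      isClosed_of_isLocallyClosed hTlc hR
    haveI : IsClosedImmersion (Limits.pullback.diagonal f) :=
      IsClosedImmersion.of_isPreimmersion _ hclosed
    exact ⟨inferInstance⟩

theorem subsingleton_pts_SC : Subsingleton (An.Pts An.SC) := by
  refine ⟨fun a b => Subtype.ext ?_⟩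
  have ha : a.1 ≫ 𝟙 An.SC = 𝟙 _ := a.2
  have hb : b.1 ≫ 𝟙 An.SC = 𝟙 _ := b.2
  rw [Category.comp_id] at ha hb
  exact ha.trans hb.symm

theorem isSeparated_iff_t2Space (X : Scheme.{0}) [X.Over An.SC]
    [LocallyOfFiniteType (X ↘ An.SC)] :
    IsSeparated (X ↘ An.SC) ↔ T2Space (An.Pts X) := by
  haveI : LocallyOfFiniteType (An.SC ↘ An.SC) := by
    have h1 : (An.SC ↘ An.SC) = 𝟙 _ := rfl
    rw [h1]
    infer_instance
  rw [isSeparated_iff_isSeparatedMap (X ↘ An.SC)]
  obtain ⟨y₀⟩ : Nonempty (An.Pts An.SC) := ⟨⟨𝟙 _, Category.id_comp _⟩⟩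
  rw [t2space_iff_isSeparatedMap y₀]
  have : An.Pts.map (X ↘ An.SC) = fun _ => y₀ := by
    funext x
    exact subsingleton_pts_SC.elim _ _
  rw [this]

end Groth.Agent.H21
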