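import Groth.Agent.H21.AnConn
import Groth.Agent.H21.AnPullback
import Groth.Agent.H21.AnSep
import Mathlib.AlgebraicGeometry.Morphisms.FlatMono
import Mathlib.AlgebraicGeometry.Morphisms.FormallyUnramified
import Mathlib.AlgebraicGeometry.Morphisms.IsIso
import Mathlib.Topology.SeparatedMap

/-!
Morphisms into etale schemes are determined by, and (for separated targets) can be constructed
from, their effect on `ℂ`-points.
-/

set_option autoImplicit false
open CategoryTheory AlgebraicGeometry Topology TopologicalSpace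

noncomputable section

namespace Groth.Agent.H21

open An

attribute [local instance] opensOver opens_ι_isOver

theorem eq_univ_of_forall_pt_mem {X : Scheme.{0}} [X.Over An.SC] [LocallyOfFiniteType (X ↘ An.SC)]
    {O : Set X} (hO : IsOpen O) (h : ∀ p : An.Pts X, p.pt ∈ O) : O = Set.univ := by
  by_contra hne
  have hne' : (Oᶜ).Nonempty := Set.nonempty_compl.2 hne
  obtain ⟨p, hp⟩ := exists_pt_mem_of_isLocallyClosed (X := X) hne'
    hO.isClosed_compl.isLocallyClosed
  exact hp (h p)

/-- two morphisms over `X` into a scheme unramified over `X` agree if they agree on `ℂ`-points -/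
theorem hom_ext_of_pts {U V X : Scheme.{0}} [U.Over An.SC] [V.Over An.SC]
    [LocallyOfFiniteType (U ↘ An.SC)] (b : V ⟶ X) [FormallyUnramified b] [LocallyOfFiniteType b]
    (f₁ f₂ : U ⟶ V) [f₁.IsOver An.SC] [f₂.IsOver An.SC] (hw : f₁ ≫ b = f₂ ≫ b)
    (h : ∀ p : An.Pts U, An.Pts.map f₁ p = An.Pts.map f₂ p) : f₁ = f₂ := by
  let k : U ⟶ Limits.pullback b b := Limits.pullback.lift f₁ f₂ hw
  let e := Limits.pullback.snd (Limits.pullback.diagonal b) k
  haveI : IsOpenImmersion e := inferInstance
  have he : e ≫ f₁ = e ≫ f₂ := by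
    have h1 : Limits.pullback.fst (Limits.pullback.diagonal b) k ≫ Limits.pullback.diagonal b =
        e ≫ k := Limits.pullback.condition
    have h2 := congrArg (· ≫ Limits.pullback.fst b b) h1
    have h3 := congrArg (· ≫ Limits.pullback.snd b b) h1
    simp only [Category.assoc, Limits.pullback.diagonal_fst, Limits.pullback.diagonal_snd,
      Category.comp_id, k, Limits.pullback.lift_fst, Limits.pullback.lift_snd] at h2 h3
    rw [← h2, ← h3]
  have hsurj : Set.range e = Set.univ := by
    apply eq_univ_of_forall_pt_mem e.isOpenEmbedding.isOpen_range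
    intro p
    have hp : p.1 ≫ f₁ = p.1 ≫ f₂ := congrArg Subtype.val (h p)
    have hk : (p.1 ≫ f₁) ≫ Limits.pullback.diagonal b = p.1 ≫ k := by
      show (p.1 ≫ f₁) ≫ Limits.pullback.diagonal b = p.1 ≫ Limits.pullback.lift f₁ f₂ hw
      apply Limits.pullback.hom_ext
      · rw [Category.assoc, Limits.pullback.diagonal_fst, Category.comp_id, Category.assoc,
          Limits.pullback.lift_fst]
      · rw [Category.assoc, Limits.pullback.diagonal_snd, Category.comp_id, Category.assoc,
          Limits.pullback.lift_snd]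
        exact hp
    have hl : Limits.pullback.lift (p.1 ≫ f₁) p.1 hk ≫ e = p.1 := Limits.pullback.lift_snd _ _ _
    refine ⟨(Limits.pullback.lift (p.1 ≫ f₁) p.1 hk) An.cpt, ?_⟩
    rw [← Scheme.Hom.comp_apply, hl]
    rfl
  haveI : Surjective e := ⟨Set.range_eq_univ.1 hsurj⟩
  haveI : IsIso e := (isIso_iff_isOpenImmersion_and_surjective e).2 ⟨inferInstance, inferInstance⟩
  exact (cancel_epi e).1 he

/-- an etale morphism which is bijective on `ℂ`-points is an isomorphism -/
theorem isIso_of_etale_of_bijective {W U : Scheme.{0}} [W.Over An.SC] [U.Over An.SC]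
    [LocallyOfFiniteType (U ↘ An.SC)] (j : W ⟶ U) [j.IsOver An.SC] [Etale j]
    (hbij : Function.Bijective (An.Pts.map j)) : IsIso j := by
  haveI : LocallyOfFiniteType (W ↘ An.SC) := by
    rw [← comp_over j An.SC]
    infer_instance
  have hsurj : Set.range j = Set.univ := by
    apply eq_univ_of_forall_pt_mem j.isOpenMap.isOpen_range
    intro p
    obtain ⟨q, rfl⟩ := hbij.2 p
    exact ⟨q.pt, (An.Pts.pt_map j q).symm⟩
  haveI : Surjective j := ⟨Set.range_eq_univ.1 hsurj⟩
  haveI : LocallyOfFiniteType (Limits.pullback j j ↘ An.SC) := locallyOfFiniteType_pullback j j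
  have hΔ : Set.range (Limits.pullback.diagonal j) = Set.univ := by
    apply eq_univ_of_forall_pt_mem (Limits.pullback.diagonal j).isOpenEmbedding.isOpen_range
    intro z
    have hz := An.Pts.map_pullback_condition j j z
    have h12 := hbij.1 hz
    have h12' : z.1 ≫ Limits.pullback.fst j j = z.1 ≫ Limits.pullback.snd j j :=
      congrArg Subtype.val h12
    have hfac : (z.1 ≫ Limits.pullback.fst j j) ≫ Limits.pullback.diagonal j = z.1 := by
      apply Limits.pullback.hom_ext
      · simp
      · simp [h12']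
    refine ⟨(z.1 ≫ Limits.pullback.fst j j) An.cpt, ?_⟩
    rw [← Scheme.Hom.comp_apply, hfac]
    rfl
  haveI : Surjective (Limits.pullback.diagonal j) := ⟨Set.range_eq_univ.1 hΔ⟩
  haveI : IsIso (Limits.pullback.diagonal j) :=
    (isIso_iff_isOpenImmersion_and_surjective _).2 ⟨inferInstance, inferInstance⟩
  haveI : Mono j := (Limits.pullback.isIso_diagonal_iff j).1 inferInstance
  haveI : IsOpenImmersion j := IsOpenImmersion.of_flat_of_mono j
  exact (isIso_iff_isOpenImmersion_and_surjective j).2 ⟨inferInstance, inferInstance⟩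

/-- a continuous map on `ℂ`-points over `X(ℂ)` into the points of a separated etale `X`-scheme is
induced by a morphism over `X` -/
theorem exists_hom_of_continuous {U V X : Scheme.{0}} [U.Over An.SC] [V.Over An.SC] [X.Over An.SC]
    [LocallyOfFiniteType (X ↘ An.SC)]
    (a : U ⟶ X) (b : V ⟶ X) [a.IsOver An.SC] [b.IsOver An.SC] [LocallyOfFiniteType a] [Etale b]
    [IsSeparated b]
    (hlh : IsLocalHomeomorph (An.Pts.map b))
    (φ : An.Pts U → An.Pts V) (hφc : Continuous φ)
    (hφ : ∀ u, An.Pts.map b (φ u) = An.Pts.map a u) :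
    ∃ f : U ⟶ V, f ≫ b = a ∧ ∀ u : An.Pts U, (φ u).1 = u.1 ≫ f := by
  haveI : LocallyOfFiniteType (U ↘ An.SC) := by
    rw [← comp_over a An.SC]
    infer_instance
  haveI : LocallyOfFiniteType (V ↘ An.SC) := by
    rw [← comp_over b An.SC]
    infer_instance
  haveI : LocallyOfFiniteType (Limits.pullback a b ↘ An.SC) := locallyOfFiniteType_pullback a b
  let Γ : Set (An.Pts (Limits.pullback a b)) :=
    {w | An.Pts.map (Limits.pullback.snd a b) w = φ (An.Pts.map (Limits.pullback.fst a b) w)}
  have hsep : IsSeparatedMap (An.Pts.map b) := (isSeparated_iff_isSeparatedMap b).1 inferInstance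
  have h₁ : Continuous (An.Pts.map (Limits.pullback.snd a b)) := An.Pts.continuous_map _
  have h₂ : Continuous (φ ∘ An.Pts.map (Limits.pullback.fst a b)) :=
    hφc.comp (An.Pts.continuous_map _)
  have he : An.Pts.map b ∘ An.Pts.map (Limits.pullback.snd a b) =
      An.Pts.map b ∘ (φ ∘ An.Pts.map (Limits.pullback.fst a b)) := by
    funext w
    show An.Pts.map b (An.Pts.map (Limits.pullback.snd a b) w) =
      An.Pts.map b (φ (An.Pts.map (Limits.pullback.fst a b) w))
    rw [hφ, An.Pts.map_pullback_condition a b w]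
  have hΓc : IsClosed Γ := hsep.isClosed_eqLocus h₁ h₂ he
  have hΓo : IsOpen Γ := hlh.isLocallyInjective.isOpen_eqLocus h₁ h₂ he
  obtain ⟨W', hW', hW'Γ⟩ := exists_isClopen Γ ⟨hΓc, hΓo⟩
  let O : (Limits.pullback a b).Opens := ⟨W', hW'.isOpen⟩
  let j : (O : Scheme) ⟶ U := O.ι ≫ Limits.pullback.fst a b
  have hrange : Set.range (An.Pts.map O.ι) = Γ := by
    rw [range_map_ι, ← hW'Γ]
    rfl
  have hjmap : ∀ q : An.Pts (O : Scheme),
      An.Pts.map j q = An.Pts.map (Limits.pullback.fst a b) (An.Pts.map O.ι q) := fun q =>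
    An.Pts.map_comp O.ι (Limits.pullback.fst a b) q
  have hbij : Function.Bijective (An.Pts.map j) := by
    constructor
    · intro q q' hqq'
      rw [hjmap, hjmap] at hqq'
      have hq : An.Pts.map O.ι q ∈ Γ := by rw [← hrange]; exact ⟨q, rfl⟩
      have hq' : An.Pts.map O.ι q' ∈ Γ := by rw [← hrange]; exact ⟨q', rfl⟩
      have h2 : An.Pts.map (Limits.pullback.snd a b) (An.Pts.map O.ι q) =
          An.Pts.map (Limits.pullback.snd a b) (An.Pts.map O.ι q') := by
        rw [hq, hq', hqq']
      have h3 : An.Pts.map O.ι q = An.Pts.map O.ι q' := by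
        apply psi_injective a b
        apply Subtype.ext
        exact Prod.ext hqq' h2
      exact map_injective_of_mono O.ι h3
    · intro u
      obtain ⟨w, hw⟩ := psi_surjective a b ⟨(u, φ u), (hφ u).symm⟩
      have hw1 : An.Pts.map (Limits.pullback.fst a b) w = u :=
        congrArg (fun q => q.1.1) hw
      have hw2 : An.Pts.map (Limits.pullback.snd a b) w = φ u :=
        congrArg (fun q => q.1.2) hw
      have hwΓ : w ∈ Γ := by
        show An.Pts.map (Limits.pullback.snd a b) w = φ (An.Pts.map (Limits.pullback.fst a b) w)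
        rw [hw1, hw2]
      rw [← hrange] at hwΓ
      obtain ⟨q, rfl⟩ := hwΓ
      exact ⟨q, (hjmap q).trans hw1⟩
  haveI : IsIso j := isIso_of_etale_of_bijective j hbij
  refine ⟨inv j ≫ O.ι ≫ Limits.pullback.snd a b, ?_, ?_⟩
  · rw [Category.assoc, Category.assoc, ← Limits.pullback.condition, ← Category.assoc O.ι,
      IsIso.inv_hom_id_assoc]
  · intro u
    obtain ⟨q, rfl⟩ := hbij.2 u
    have hq : An.Pts.map O.ι q ∈ Γ := by rw [← hrange]; exact ⟨q, rfl⟩
    have hq' : An.Pts.map (Limits.pullback.snd a b) (An.Pts.map O.ι q) =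
        φ (An.Pts.map (Limits.pullback.fst a b) (An.Pts.map O.ι q)) := hq
    rw [← hjmap] at hq'
    rw [← hq']
    show (q.1 ≫ O.ι) ≫ Limits.pullback.snd a b = (q.1 ≫ j) ≫ inv j ≫ O.ι ≫ Limits.pullback.snd a b
    simp only [Category.assoc, IsIso.hom_inv_id_assoc]

end Groth.Agent.H21
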