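import Groth.Agent.H21.AnAffine
import Mathlib.Topology.Algebra.MvPolynomial
import Mathlib.RingTheory.Ideal.Maps

/-!
Affine `X` with chosen generators of `Γ(X, ⊤)`: the evaluation map at the generators is a closed
embedding, with explicit range.
-/

set_option autoImplicit false
open CategoryTheory AlgebraicGeometry Topology TopologicalSpace

namespace Groth.Agent.H21

open An

variable {X : Scheme.{0}} [X.Over An.SC]

/-- evaluation at a family of global sections -/
noncomputable def evFam {ι : Type*} (s : ι → Γ(X, ⊤)) (x : An.Pts X) : ι → ℂ :=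
  fun i => x.evTop (s i)

theorem continuous_evFam {ι : Type*} (s : ι → Γ(X, ⊤)) : Continuous (evFam s) :=
  continuous_pi fun i => continuous_evTop (s i)

theorem evTop_eval₂Hom {ι : Type*} (s : ι → Γ(X, ⊤)) (x : An.Pts X) (p : MvPolynomial ι ℂ) :
    x.evTop (MvPolynomial.eval₂Hom (An.strHom X) s p) = MvPolynomial.eval (evFam s x) p := by
  have h1 : x.evTop (MvPolynomial.eval₂Hom (An.strHom X) s p) =
      evHom x ⊤ (Opens.mem_top _) (MvPolynomial.eval₂ (An.strHom X) s p) := rfl
  rw [h1, MvPolynomial.eval₂_comp_left]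
  have h2 : (evHom x ⊤ (Opens.mem_top _)).comp (An.strHom X) = RingHom.id ℂ := by
    ext c
    exact evTop_strHom x c
  rw [h2, MvPolynomial.eval₂_id]
  rfl

theorem evAll_injective [IsAffine X] : Function.Injective (evAll : An.Pts X → Γ(X, ⊤) → ℂ) := by
  intro x y h
  apply Subtype.ext
  apply ext_of_isAffine
  ext a
  have := congrFun h a
  simp only [evAll, evTop_eq] at this
  exact (ConcreteCategory.injective_of_mono_of_preservesPullback
    (Scheme.ΓSpecIso (CommRingCat.of ℂ)).hom) this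

section gen

variable {ι : Type*} (s : ι → Γ(X, ⊤))
  (hs : Function.Surjective (MvPolynomial.eval₂Hom (An.strHom X) s))

include hs

theorem evAll_eq_of_evFam_eq {x y : An.Pts X} (h : evFam s x = evFam s y) : evAll x = evAll y := by
  funext a
  obtain ⟨p, rfl⟩ := hs a
  simp only [evAll]
  rw [evTop_eval₂Hom, evTop_eval₂Hom, h]

theorem isInducing_evFam [IsAffine X] : IsInducing (evFam s) := by
  choose q hq using hs
  let P : (ι → ℂ) → (Γ(X, ⊤) → ℂ) := fun z a => MvPolynomial.eval z (q a)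
  have hP : Continuous P := continuous_pi fun a => MvPolynomial.continuous_eval (q a)
  have hcomp : P ∘ evFam s = evAll := by
    funext x a
    simp only [P, Function.comp_apply, evAll]
    rw [← evTop_eval₂Hom, hq]
  apply IsInducing.of_comp (continuous_evFam s) hP
  rw [hcomp]
  exact isInducing_evAll

theorem evFam_injective [IsAffine X] : Function.Injective (evFam s) := by
  intro x y h
  exact evAll_injective (evAll_eq_of_evFam_eq s hs h)

/-- the ℂ-point with prescribed values at the generators -/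
theorem exists_pt_of_ker [IsAffine X] (z : ι → ℂ)
    (hz : ∀ p : MvPolynomial ι ℂ, MvPolynomial.eval₂Hom (An.strHom X) s p = 0 →
      MvPolynomial.eval z p = 0) : ∃ x : An.Pts X, evFam s x = z := by
  let π := MvPolynomial.eval₂Hom (An.strHom X) s
  have hker : RingHom.ker π ≤ RingHom.ker (MvPolynomial.eval z) := fun p hp => hz p hp
  let ψ : Γ(X, ⊤) →+* ℂ := RingHom.liftOfSurjective π hs ⟨MvPolynomial.eval z, hker⟩
  have hψ : ∀ p, ψ (π p) = MvPolynomial.eval z p := fun p =>
    RingHom.liftOfSurjective_comp_apply π hs ⟨MvPolynomial.eval z, hker⟩ p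
  let x₁ : An.SC ⟶ X := Spec.map (CommRingCat.ofHom ψ) ≫ X.isoSpec.inv
  have hiso : ∀ a : Γ(X, ⊤), (Scheme.ΓSpecIso Γ(X, ⊤)).hom (X.isoSpec.inv.appTop a) = a := by
    intro a
    have h1 : X.isoSpec.inv.appTop ≫ (Scheme.ΓSpecIso Γ(X, ⊤)).hom = 𝟙 _ := by
      rw [← Scheme.toSpecΓ_appTop, ← Scheme.Hom.comp_appTop]
      have : X.toSpecΓ ≫ X.isoSpec.inv = 𝟙 _ := X.toSpecΓ_isoSpec_inv
      rw [this]
      rfl
    exact congrArg (fun φ => φ.hom a) h1
  have happ' : ∀ a, (Scheme.ΓSpecIso (CommRingCat.of ℂ)).hom (x₁.appTop a) = ψ a := by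
    intro a
    have h1 : x₁.appTop a = (Spec.map (CommRingCat.ofHom ψ)).appTop (X.isoSpec.inv.appTop a) := by
      simp only [x₁, Scheme.Hom.comp_appTop]
      rfl
    rw [h1]
    have h2 := congrArg (fun φ => φ.hom (X.isoSpec.inv.appTop a))
      (Scheme.ΓSpecIso_naturality (CommRingCat.ofHom ψ))
    simp only [CommRingCat.hom_comp, RingHom.comp_apply] at h2
    refine h2.trans ?_
    exact congrArg ψ (hiso a)
  have hsec : x₁ ≫ (X ↘ An.SC) = 𝟙 An.SC := by
    apply ext_of_isAffine
    rw [← cancel_epi (Scheme.ΓSpecIso (CommRingCat.of ℂ)).inv,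
      ← cancel_mono (Scheme.ΓSpecIso (CommRingCat.of ℂ)).hom]
    ext c
    change (Scheme.ΓSpecIso (CommRingCat.of ℂ)).hom
      (x₁.appTop ((X ↘ An.SC).appTop ((Scheme.ΓSpecIso (CommRingCat.of ℂ)).inv c))) =
      (Scheme.ΓSpecIso (CommRingCat.of ℂ)).hom ((Scheme.ΓSpecIso (CommRingCat.of ℂ)).inv c)
    rw [happ']
    have h1 : (X ↘ An.SC).appTop ((Scheme.ΓSpecIso (CommRingCat.of ℂ)).inv c) = An.strHom X c := rfl
    rw [h1]
    have h2 : An.strHom X c = π (MvPolynomial.C c) := by
      simp [π]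
    rw [h2, hψ]
    simp
  refine ⟨⟨x₁, hsec⟩, ?_⟩
  funext i
  simp only [evFam]
  rw [evTop_eq, happ']
  have : s i = π (MvPolynomial.X i) := by simp [π]
  rw [this, hψ]
  simp

theorem range_evFam [IsAffine X] : Set.range (evFam s) =
    {z | ∀ p : MvPolynomial ι ℂ, MvPolynomial.eval₂Hom (An.strHom X) s p = 0 →
      MvPolynomial.eval z p = 0} := by
  ext z
  constructor
  · rintro ⟨x, rfl⟩ p hp
    rw [← evTop_eval₂Hom, hp]
    exact map_zero (evHom x ⊤ (Opens.mem_top _))
  · intro hz
    exact exists_pt_of_ker s hs z hz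

theorem isClosedEmbedding_evFam [IsAffine X] : IsClosedEmbedding (evFam s) := by
  refine ⟨⟨isInducing_evFam s hs, evFam_injective s hs⟩, ?_⟩
  rw [range_evFam s hs]
  have : {z : ι → ℂ | ∀ p : MvPolynomial ι ℂ, MvPolynomial.eval₂Hom (An.strHom X) s p = 0 →
      MvPolynomial.eval z p = 0} = ⋂ (p : MvPolynomial ι ℂ)
        (_ : MvPolynomial.eval₂Hom (An.strHom X) s p = 0), {z | MvPolynomial.eval z p = 0} := by
    ext z
    simp
  rw [this]
  exact isClosed_iInter fun p => isClosed_iInter fun _ =>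
    isClosed_eq (MvPolynomial.continuous_eval p) continuous_const

end gen

end Groth.Agent.H21
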