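import Groth.Agent.H21.AnTop
import Mathlib.Topology.LocalAtTarget
import Mathlib.Topology.Covering.Basic
import Mathlib.Topology.Maps.Proper.Basic

/-!
Restriction of the map on `ℂ`-points to the preimage of an open of the target, and the resulting
locality on the target of properness, finiteness of fibres and the covering property.
-/

set_option autoImplicit false
open CategoryTheory AlgebraicGeometry Topology TopologicalSpace

noncomputable section

namespace Groth.Agent.H21

open An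

variable {X Y : Scheme.{0}} [X.Over An.SC] [Y.Over An.SC]

/-- structure of a scheme over `ℂ` on an open subscheme -/
@[reducible] def opensOver (U : X.Opens) : (U : Scheme).Over An.SC := ⟨U.ι ≫ X ↘ An.SC⟩

attribute [local instance] opensOver

theorem opens_ι_isOver (U : X.Opens) : U.ι.IsOver An.SC := ⟨rfl⟩

attribute [local instance] opens_ι_isOver

/-- the points lying in an open -/
def ptsIn (U : X.Opens) : Set (An.Pts X) := An.Pts.pt ⁻¹' (U : Set X)

theorem isOpen_ptsIn (U : X.Opens) : IsOpen (ptsIn U) := An.Pts.isOpen_preimage_pt U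

theorem range_map_ι (U : X.Opens) : Set.range (An.Pts.map U.ι) = ptsIn U := by
  rw [range_map_of_isOpenImmersion, Scheme.Opens.range_ι]
  rfl

/-- the points of an open subscheme are the points lying in the open -/
def ptsOpensHomeo (U : X.Opens) : An.Pts (U : Scheme) ≃ₜ ptsIn U :=
  ((isOpenEmbedding_map_of_isOpenImmersion U.ι).isEmbedding.toHomeomorph).trans
    (Homeomorph.setCongr (range_map_ι U))

theorem ptsOpensHomeo_apply (U : X.Opens) (z : An.Pts (U : Scheme)) :
    (ptsOpensHomeo U z : An.Pts X) = An.Pts.map U.ι z := rfl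

theorem map_ι_symm_apply (U : X.Opens) (x : ptsIn U) :
    An.Pts.map U.ι ((ptsOpensHomeo U).symm x) = x := by
  rw [← ptsOpensHomeo_apply, Homeomorph.apply_symm_apply]

variable (f : X ⟶ Y) [f.IsOver An.SC]

theorem morphismRestrict_isOver (V : Y.Opens) : (f ∣_ V).IsOver An.SC := ⟨by
  change (f ∣_ V) ≫ V.ι ≫ Y ↘ An.SC = (f ⁻¹ᵁ V).ι ≫ X ↘ An.SC
  rw [← Category.assoc, morphismRestrict_ι, Category.assoc, comp_over f An.SC]⟩

attribute [local instance] morphismRestrict_isOver

theorem map_ι_morphismRestrict (V : Y.Opens) (w : An.Pts ((f ⁻¹ᵁ V : X.Opens) : Scheme)) :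
    An.Pts.map f (An.Pts.map (f ⁻¹ᵁ V).ι w) = An.Pts.map V.ι (An.Pts.map (f ∣_ V) w) := by
  apply Subtype.ext
  change (w.1 ≫ (f ⁻¹ᵁ V).ι) ≫ f = (w.1 ≫ (f ∣_ V)) ≫ V.ι
  rw [Category.assoc, Category.assoc, morphismRestrict_ι]

theorem preimage_ptsIn (V : Y.Opens) : An.Pts.map f ⁻¹' ptsIn V = ptsIn (f ⁻¹ᵁ V) := by
  ext x
  simp only [ptsIn, Set.mem_preimage, An.Pts.pt_map]
  rfl

/-- the homeomorphism from the preimage of `V(ℂ)` to the points of the preimage of `V` -/
def preimageHomeo (V : Y.Opens) :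
    (An.Pts.map f ⁻¹' ptsIn V : Set (An.Pts X)) ≃ₜ An.Pts ((f ⁻¹ᵁ V : X.Opens) : Scheme) :=
  (Homeomorph.setCongr (preimage_ptsIn f V)).trans (ptsOpensHomeo (f ⁻¹ᵁ V)).symm

theorem map_ι_preimageHomeo (V : Y.Opens) (z : (An.Pts.map f ⁻¹' ptsIn V : Set (An.Pts X))) :
    An.Pts.map (f ⁻¹ᵁ V).ι (preimageHomeo f V z) = z.1 :=
  map_ι_symm_apply (f ⁻¹ᵁ V) ⟨z.1, (preimage_ptsIn f V) ▸ z.2⟩

theorem restrictPreimage_eq (V : Y.Opens) :
    (ptsIn V).restrictPreimage (An.Pts.map f) =
      ptsOpensHomeo V ∘ An.Pts.map (f ∣_ V) ∘ preimageHomeo f V := by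
  funext z
  apply Subtype.ext
  change An.Pts.map f z.1 = An.Pts.map V.ι (An.Pts.map (f ∣_ V) (preimageHomeo f V z))
  rw [← map_ι_morphismRestrict, map_ι_preimageHomeo]

theorem exists_isAffineOpen_mem (y : An.Pts Y) : ∃ V : Y.Opens, IsAffineOpen V ∧ y ∈ ptsIn V := by
  obtain ⟨_, ⟨V, hV, rfl⟩, hyV, -⟩ :=
    (Y.isBasis_affineOpens).exists_subset_of_mem_open (Set.mem_univ y.pt) isOpen_univ
  exact ⟨V, hV, hyV⟩

/-- finiteness of fibres is local on the target -/
theorem finite_fibre_of_affine_local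
    (h : ∀ V : Y.Opens, IsAffineOpen V → ∀ y', (An.Pts.map (f ∣_ V) ⁻¹' {y'}).Finite)
    (y : An.Pts Y) : (An.Pts.map f ⁻¹' {y}).Finite := by
  obtain ⟨V, hV, hyV⟩ := exists_isAffineOpen_mem y
  set y' := (ptsOpensHomeo V).symm ⟨y, hyV⟩ with hy'
  have hy'y : An.Pts.map V.ι y' = y := map_ι_symm_apply V ⟨y, hyV⟩
  refine ((h V hV y').image (An.Pts.map (f ⁻¹ᵁ V).ι)).subset ?_
  intro x hx
  have hx' : An.Pts.map f x = y := hx
  have hxV : x ∈ An.Pts.map f ⁻¹' ptsIn V := by
    change An.Pts.map f x ∈ ptsIn V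
    rw [hx']
    exact hyV
  refine ⟨preimageHomeo f V ⟨x, hxV⟩, ?_, map_ι_preimageHomeo f V ⟨x, hxV⟩⟩
  change An.Pts.map (f ∣_ V) (preimageHomeo f V ⟨x, hxV⟩) = y'
  apply (isOpenEmbedding_map_of_isOpenImmersion V.ι).injective
  rw [← map_ι_morphismRestrict, map_ι_preimageHomeo, hy'y]
  exact hx'

/-- properness is local on the target -/
theorem isProperMap_map_of_affine_local
    (h : ∀ V : Y.Opens, IsAffineOpen V → IsProperMap (An.Pts.map (f ∣_ V))) :
    IsProperMap (An.Pts.map f) := by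
  have hres : ∀ V : Y.Opens, IsAffineOpen V →
      IsProperMap ((ptsIn V).restrictPreimage (An.Pts.map f)) := by
    intro V hV
    rw [restrictPreimage_eq]
    exact (ptsOpensHomeo V).isProperMap.comp ((h V hV).comp (preimageHomeo f V).isProperMap)
  rw [isProperMap_iff_isClosedMap_and_compact_fibers]
  refine ⟨An.Pts.continuous_map f, ?_, ?_⟩
  · let U : Y.affineOpens → Opens (An.Pts Y) := fun V => ⟨ptsIn V.1, isOpen_ptsIn V.1⟩
    have hU : IsOpenCover U := by
      rw [IsOpenCover, eq_top_iff]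
      intro y _
      obtain ⟨V, hV, hyV⟩ := exists_isAffineOpen_mem y
      exact Opens.mem_iSup.2 ⟨⟨V, hV⟩, hyV⟩
    rw [hU.isClosedMap_iff_restrictPreimage]
    intro V
    exact (hres V.1 V.2).isClosedMap
  · intro y
    obtain ⟨V, hV, hyV⟩ := exists_isAffineOpen_mem y
    have h1 := ((isProperMap_iff_isClosedMap_and_compact_fibers.1 (hres V hV)).2.2 ⟨y, hyV⟩)
    have h2 : An.Pts.map f ⁻¹' {y} = Subtype.val ''
        ((ptsIn V).restrictPreimage (An.Pts.map f) ⁻¹' {⟨y, hyV⟩}) := by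
      ext x
      constructor
      · intro hx
        have hx' : An.Pts.map f x = y := hx
        refine ⟨⟨x, ?_⟩, ?_, rfl⟩
        · change An.Pts.map f x ∈ ptsIn V
          rw [hx']
          exact hyV
        · exact Subtype.ext hx'
      · rintro ⟨z, hz, rfl⟩
        exact congrArg Subtype.val hz
    rw [h2]
    exact h1.image continuous_subtype_val

/-- the covering property is local on the target -/
theorem isCoveringMap_map_of_affine_local
    (h : ∀ V : Y.Opens, IsAffineOpen V → IsCoveringMap (An.Pts.map (f ∣_ V))) :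
    IsCoveringMap (An.Pts.map f) := by
  intro y
  obtain ⟨V, hV, hyV⟩ := exists_isAffineOpen_mem y
  have h1 : IsCoveringMap ((ptsIn V).restrictPreimage (An.Pts.map f)) := by
    rw [restrictPreimage_eq]
    exact ((h V hV).comp_homeomorph (preimageHomeo f V)).homeomorph_comp (ptsOpensHomeo V)
  have h2 := IsCoveringMapOn.of_isCoveringMap_restrictPreimage (ptsIn V)
    (isOpen_ptsIn V) ((isOpen_ptsIn V).preimage (An.Pts.continuous_map f)) h1
  exact h2 y hyV

end Groth.Agent.H21
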