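import Groth.Agent.H21.AnFull
import Mathlib.RingTheory.Etale.StandardEtale
import Mathlib.RingTheory.RingHom.Etale
import Mathlib.Topology.ContinuousMap.Units
import Mathlib.Analysis.Complex.CoveringMap
import Mathlib.Topology.Homotopy.Lifting

/-!
Continuous sections of etale covers of an affine scheme of finite type over `ℂ` are algebraic;
in particular continuous `n`-th roots of regular functions are regular.
-/

set_option autoImplicit false
open CategoryTheory AlgebraicGeometry Topology TopologicalSpace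

noncomputable section

namespace Groth.Agent.H21

open An

/-- a null-homotopic map to `ℂ^×` has a continuous logarithm -/
theorem exists_log {A : Type*} [TopologicalSpace A] (φ : C(A, {z : ℂ // z ≠ 0}))
    (z₀ : {z : ℂ // z ≠ 0}) (h : φ.Homotopic (ContinuousMap.const A z₀)) :
    ∃ ℓ : A → ℂ, Continuous ℓ ∧ ∀ a, Complex.exp (ℓ a) = (φ a).1 := by
  obtain ⟨H⟩ := h.symm
  have cov : IsCoveringMap fun z : ℂ ↦ (⟨_, z.exp_ne_zero⟩ : {z : ℂ // z ≠ 0}) :=
    Complex.isCoveringMap_exp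
  let f : C(A, ℂ) := ContinuousMap.const A (Complex.log z₀.1)
  have H_0 : ∀ a, H.toContinuousMap (0, a) =
      (fun z : ℂ ↦ (⟨_, z.exp_ne_zero⟩ : {z : ℂ // z ≠ 0})) (f a) := by
    intro a
    have h1 : H.toContinuousMap (0, a) = z₀ := H.map_zero_left a
    rw [h1]
    apply Subtype.ext
    show z₀.1 = Complex.exp (Complex.log z₀.1)
    rw [Complex.exp_log z₀.2]
  refine ⟨fun a => cov.liftHomotopy H.toContinuousMap f H_0 (1, a),
    (cov.liftHomotopy H.toContinuousMap f H_0).continuous.comp (Continuous.prodMk_right 1),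
    fun a => ?_⟩
  have h1 := congrFun (cov.liftHomotopy_lifts H.toContinuousMap f H_0) (1, a)
  have h2 : H.toContinuousMap (1, a) = φ a := H.map_one_left a
  rw [h2] at h1
  exact congrArg Subtype.val h1

variable {Y : Scheme.{0}} [Y.Over An.SC]

/-- evaluation of global sections as continuous functions on `ℂ`-points -/
def evC (Y : Scheme.{0}) [Y.Over An.SC] : Γ(Y, ⊤) →+* C(An.Pts Y, ℂ) where
  toFun a := ⟨fun y => y.evTop a, continuous_evTop a⟩
  map_one' := by
    ext y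
    exact map_one (evHom y ⊤ (Opens.mem_top _))
  map_mul' a b := by
    ext y
    exact map_mul (evHom y ⊤ (Opens.mem_top _)) a b
  map_zero' := by
    ext y
    exact map_zero (evHom y ⊤ (Opens.mem_top _))
  map_add' a b := by
    ext y
    exact map_add (evHom y ⊤ (Opens.mem_top _)) a b

theorem evC_apply (a : Γ(Y, ⊤)) (y : An.Pts Y) : evC Y a y = y.evTop a := rfl

/-- **continuous sections of etale algebras are algebraic**: a ring homomorphism from an etale
`Γ(Y, ⊤)`-algebra to the functions on `Y(ℂ)`, compatible with evaluation and with continuous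
values, is induced by a retraction onto `Γ(Y, ⊤)` -/
theorem exists_section_of_etale [IsAffine Y] [LocallyOfFiniteType (Y ↘ An.SC)]
    (S' : Type) [CommRing S'] [Algebra Γ(Y, ⊤) S'] [Algebra.Etale Γ(Y, ⊤) S']
    (Θ : S' →+* (An.Pts Y → ℂ)) (hΘc : ∀ s, Continuous (Θ s))
    (hΘ : ∀ (a : Γ(Y, ⊤)) (y : An.Pts Y), Θ (algebraMap Γ(Y, ⊤) S' a) y = y.evTop a) :
    ∃ σ : S' → Γ(Y, ⊤), ∀ (s : S') (y : An.Pts Y), y.evTop (σ s) = Θ s y := by
  let V : Scheme.{0} := Spec (CommRingCat.of S')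
  let b : V ⟶ Y := Spec.map (CommRingCat.ofHom (algebraMap Γ(Y, ⊤) S')) ≫ Y.isoSpec.inv
  letI oV : V.Over An.SC := ⟨b ≫ Y ↘ An.SC⟩
  haveI hbo : b.IsOver An.SC := ⟨rfl⟩
  haveI hVa : IsAffine V := inferInstance
  haveI hEt1 : Etale (Spec.map (CommRingCat.ofHom (algebraMap Γ(Y, ⊤) S'))) := by
    rw [HasRingHomProperty.Spec_iff (P := @Etale)]
    exact RingHom.etale_algebraMap.2 inferInstance
  haveI hEt : Etale b := inferInstance
  haveI hSep : IsSeparated b := inferInstance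
  have hlh : IsLocalHomeomorph (An.Pts.map b) := isLocalHomeomorph_map_of_etale b
  have hiso : ∀ a : Γ(Y, ⊤), (Scheme.ΓSpecIso Γ(Y, ⊤)).hom (Y.isoSpec.inv.appTop a) = a := by
    intro a
    have h1 : Y.isoSpec.inv.appTop ≫ (Scheme.ΓSpecIso Γ(Y, ⊤)).hom = 𝟙 _ := by
      rw [← Scheme.toSpecΓ_appTop, ← Scheme.Hom.comp_appTop]
      have : Y.toSpecΓ ≫ Y.isoSpec.inv = 𝟙 _ := Y.toSpecΓ_isoSpec_inv
      rw [this]
      rfl
    exact congrArg (fun φ => φ.hom a) h1
  have hF1 : ∀ a : Γ(Y, ⊤), (Scheme.ΓSpecIso (CommRingCat.of S')).hom (b.appTop a) =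
      algebraMap Γ(Y, ⊤) S' a := by
    intro a
    have h1 : b.appTop a = (Spec.map (CommRingCat.ofHom (algebraMap Γ(Y, ⊤) S'))).appTop
        (Y.isoSpec.inv.appTop a) := by
      simp only [b, Scheme.Hom.comp_appTop]
      rfl
    rw [h1]
    have h2 := congrArg (fun φ => φ.hom (Y.isoSpec.inv.appTop a))
      (Scheme.ΓSpecIso_naturality (CommRingCat.ofHom (algebraMap Γ(Y, ⊤) S')))
    simp only [CommRingCat.hom_comp, RingHom.comp_apply] at h2
    refine h2.trans ?_
    exact congrArg (algebraMap Γ(Y, ⊤) S') (hiso a)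
  letI aV : Algebra ℂ Γ(V, ⊤) := An.algebraTop V
  have hcomm : ∀ (y : An.Pts Y) (c : ℂ),
      Θ ((Scheme.ΓSpecIso (CommRingCat.of S')).hom (An.strHom V c)) y = c := by
    intro y c
    have h1 : An.strHom V c = b.appTop (An.strHom Y c) :=
      congrArg (fun h : ℂ →+* Γ(V, ⊤) => h c) (strHom_eq_comp b)
    rw [h1, hF1, hΘ, evTop_strHom]
  let ψ : An.Pts Y → @CPt Γ(V, ⊤) _ (An.algebraTop V) := fun y => CPt.ofAlgHom
    { toRingHom := ((Pi.evalRingHom (fun _ : An.Pts Y => ℂ) y).comp Θ).comp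
        (Scheme.ΓSpecIso (CommRingCat.of S')).hom.hom
      commutes' := fun c => hcomm y c }
  have hψ : ∀ y, ∃ x : An.Pts V, ∀ g : Γ(V, ⊤),
      x.evTop g = Θ ((Scheme.ΓSpecIso (CommRingCat.of S')).hom g) y := by
    intro y
    obtain ⟨x, hx⟩ := toCPt_surjective (X := V) (ψ y)
    refine ⟨x, fun g => ?_⟩
    exact congrArg (fun χ : @CPt Γ(V, ⊤) _ (An.algebraTop V) => χ g) hx
  choose φ hφ using hψ
  have hφc : Continuous φ := by
    rw [(isInducing_toCPt (X := V)).continuous_iff]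
    apply CPt.continuous_of_eval
    intro g
    have : (fun y => (toCPt ∘ φ) y g) =
        Θ ((Scheme.ΓSpecIso (CommRingCat.of S')).hom g) := funext fun y => hφ y g
    rw [this]
    exact hΘc _
  have hφb : ∀ y, An.Pts.map b (φ y) = An.Pts.map (𝟙 Y) y := by
    intro y
    rw [An.Pts.map_id]
    apply evAll_injective
    funext a
    show (An.Pts.map b (φ y)).evTop a = y.evTop a
    have h1 : (An.Pts.map b (φ y)).evTop a = (φ y).evTop (b.appTop a) :=
      An.Pts.ev_map b (φ y) ⊤ (Opens.mem_top _) a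
    rw [h1, hφ, hF1, hΘ]
  obtain ⟨f, hfb, hfφ⟩ := exists_hom_of_continuous (𝟙 Y) b hlh φ hφc hφb
  haveI : f.IsOver An.SC := ⟨by
    show f ≫ b ≫ (Y ↘ An.SC) = Y ↘ An.SC
    rw [← Category.assoc, hfb, Category.id_comp]⟩
  refine ⟨fun s => f.appTop ((Scheme.ΓSpecIso (CommRingCat.of S')).inv s), fun s y => ?_⟩
  have h1 : (An.Pts.map f y).evTop ((Scheme.ΓSpecIso (CommRingCat.of S')).inv s) =
      y.evTop (f.appTop ((Scheme.ΓSpecIso (CommRingCat.of S')).inv s)) :=
    An.Pts.ev_map f y ⊤ (Opens.mem_top _) _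
  have h2 : An.Pts.map f y = φ y := Subtype.ext (hfφ y).symm
  have h3 : (Scheme.ΓSpecIso (CommRingCat.of S')).hom
      ((Scheme.ΓSpecIso (CommRingCat.of S')).inv s) = s :=
    congrArg (fun χ => χ.hom s) (Scheme.ΓSpecIso (CommRingCat.of S')).inv_hom_id
  rw [← h1, h2, hφ, h3]

/-- **continuous `n`-th roots of regular functions are regular** -/
theorem exists_root_of_continuous [IsAffine Y] [LocallyOfFiniteType (Y ↘ An.SC)]
    (u : Γ(Y, ⊤)) (n : ℕ) (hn : n ≠ 0) (w : An.Pts Y → ℂ) (hwc : Continuous w)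
    (hw : ∀ y, w y ^ n = y.evTop u) (hw0 : ∀ y, w y ≠ 0) :
    ∃ v : Γ(Y, ⊤), ∀ y : An.Pts Y, y.evTop v = w y := by
  let ninv : Γ(Y, ⊤) := An.strHom Y ((n : ℂ)⁻¹)
  have hninv : (n : Γ(Y, ⊤)) * ninv = 1 := by
    show (n : Γ(Y, ⊤)) * An.strHom Y ((n : ℂ)⁻¹) = 1
    rw [← map_natCast (An.strHom Y) n, ← map_mul, mul_inv_cancel₀ (Nat.cast_ne_zero.2 hn),
      map_one]
  let P : StandardEtalePair Γ(Y, ⊤) :=
    { f := Polynomial.X ^ n - Polynomial.C u
      monic_f := Polynomial.monic_X_pow_sub_C u hn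
      g := Polynomial.X
      cond := ⟨Polynomial.C ninv * Polynomial.X, 0, n, by
        rw [mul_zero, add_zero, Polynomial.derivative_sub, Polynomial.derivative_X_pow,
          Polynomial.derivative_C, sub_zero]
        calc Polynomial.C (n : Γ(Y, ⊤)) * Polynomial.X ^ (n - 1) *
              (Polynomial.C ninv * Polynomial.X)
            = Polynomial.C ((n : Γ(Y, ⊤)) * ninv) * (Polynomial.X ^ (n - 1) * Polynomial.X) := by
              rw [Polynomial.C_mul]
              ring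
          _ = Polynomial.X ^ n := by
              rw [hninv, Polynomial.C_1, one_mul, pow_sub_one_mul hn]⟩ }
  letI : Algebra Γ(Y, ⊤) C(An.Pts Y, ℂ) := (evC Y).toAlgebra
  let wC : C(An.Pts Y, ℂ) := ⟨w, hwc⟩
  have hmap : P.HasMap wC := by
    constructor
    · show Polynomial.aeval wC (Polynomial.X ^ n - Polynomial.C u) = 0
      rw [map_sub, map_pow, Polynomial.aeval_X, Polynomial.aeval_C, sub_eq_zero]
      ext y
      exact hw y
    · show IsUnit (Polynomial.aeval wC Polynomial.X)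
      rw [Polynomial.aeval_X, ContinuousMap.isUnit_iff_forall_ne_zero]
      exact hw0
  let Θ : P.Ring →+* (An.Pts Y → ℂ) :=
    (ContinuousMap.coeFnRingHom).comp (P.lift wC hmap : P.Ring →+* C(An.Pts Y, ℂ))
  have hΘc : ∀ s, Continuous (Θ s) := fun s => (P.lift wC hmap s).continuous
  have hΘ : ∀ (a : Γ(Y, ⊤)) (y : An.Pts Y),
      Θ (algebraMap Γ(Y, ⊤) P.Ring a) y = y.evTop a := by
    intro a y
    have h1 : P.lift wC hmap (algebraMap Γ(Y, ⊤) P.Ring a) =
        algebraMap Γ(Y, ⊤) C(An.Pts Y, ℂ) a := (P.lift wC hmap).commutes a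
    show (P.lift wC hmap (algebraMap Γ(Y, ⊤) P.Ring a)) y = y.evTop a
    rw [h1]
    rfl
  obtain ⟨σ, hσ⟩ := exists_section_of_etale P.Ring Θ hΘc hΘ
  refine ⟨σ P.X, fun y => ?_⟩
  rw [hσ]
  show (P.lift wC hmap P.X) y = w y
  rw [StandardEtalePair.lift_X]
  rfl

end Groth.Agent.H21
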