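import Groth.Agent.H21.SepFam

/-!
# Schematically dominant families and flat, finitely presented base change (helper21)

Scheme-level plumbing for EGA IV 11.10.5: `SchDom.schDominant_baseChange`.
-/

open CategoryTheory AlgebraicGeometry TensorProduct Opposite Limits

universe u

namespace Groth.Agent.H21.SchDom

lemma eq_zero_of_forall_res {X : Scheme.{u}} {V : X.Opens} (t : Γ(X, V)) (P : X.Opens → Prop)
    (hcov : ∀ x ∈ V, ∃ W : X.Opens, x ∈ W ∧ W ≤ V ∧ P W)
    (h : ∀ (W : X.Opens) (hW : W ≤ V), P W → X.presheaf.map (homOfLE hW).op t = 0) : t = 0 := by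
  fapply X.sheaf.eq_of_locally_eq' (fun i : {W : X.Opens // W ≤ V ∧ P W} => i.1) V
    (fun i => homOfLE i.2.1)
  · intro x hx
    obtain ⟨W, hxW, hWV, hPW⟩ := hcov x hx
    exact TopologicalSpace.Opens.mem_iSup.mpr ⟨⟨W, hWV, hPW⟩, hxW⟩
  · intro i
    change X.presheaf.map _ t = X.presheaf.map _ 0
    rw [map_zero]
    exact h i.1 i.2.1 i.2.2

/-- Testing a section on an affine open against a `Spec D`-valued point. -/
lemma eq_zero_of_SpecMap_fromSpec_app {X' : Scheme.{u}} {V' : X'.Opens} (hV' : IsAffineOpen V')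
    {D : CommRingCat.{u}} (ρ : Γ(X', V') ⟶ D) (t : Γ(X', V'))
    (h : (Spec.map ρ ≫ hV'.fromSpec).app V' t = 0) : ρ t = 0 := by
  have h' : (Spec.map ρ).app (hV'.fromSpec ⁻¹ᵁ V') (hV'.fromSpec.app V' t) = 0 := h
  rw [hV'.fromSpec_app_self, CommRingCat.comp_apply] at h'
  have nat := (Spec.map ρ).naturality (eqToHom hV'.fromSpec_preimage_self).op
  have h2 := congrArg (fun φ => φ ((Scheme.ΓSpecIso Γ(X', V')).inv t)) nat
  simp only [CommRingCat.comp_apply] at h2
  rw [h'] at h2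
  have h3 := congrArg (fun φ => φ t) (Scheme.ΓSpecIso_inv_naturality ρ)
  simp only [CommRingCat.comp_apply] at h3
  generalize_proofs pf2 at h2
  have hiso : IsIso ((Spec D).presheaf.map
      ((TopologicalSpace.Opens.map (Spec.map ρ).base).map (eqToHom pf2).op.unop).op) := by
    infer_instance
  have hinj := (ConcreteCategory.bijective_of_isIso ((Spec D).presheaf.map
      ((TopologicalSpace.Opens.map (Spec.map ρ).base).map (eqToHom pf2).op.unop).op)).1
  have h4 : (Spec.map ρ).app ⊤ ((Scheme.ΓSpecIso Γ(X', V')).inv t) = 0 :=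
    hinj (h2.symm.trans (map_zero _).symm)
  have h5 : (Scheme.ΓSpecIso D).inv (ρ t) = 0 := h3.trans h4
  have hinj2 := (ConcreteCategory.bijective_of_isIso (Scheme.ΓSpecIso D).inv).1
  exact hinj2 (h5.trans (map_zero _).symm)

/-- separation on an affine open of the base, in ring form. -/
lemma sep_affine {X : Scheme.{u}} {ι : Type u} (Z : ι → Scheme.{u}) (f : ∀ i, Z i ⟶ X)
    (h : ∀ (V : X.Opens) (t : Γ(X, V)), (∀ i, (f i).app V t = 0) → t = 0)
    {U : X.Opens} (hU : IsAffineOpen U) (a x : Γ(X, U))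
    (hax : ∀ (i : ι) (W : (Z i).Opens) (_ : IsAffineOpen W) (hW : W ≤ (f i) ⁻¹ᵁ U),
      ∃ n : ℕ, (f i).appLE U W hW (a ^ n * x) = 0) :
    ∃ n : ℕ, a ^ n * x = 0 := by
  have hx0 : X.presheaf.map (homOfLE (X.basicOpen_le a)).op x = 0 := by
    apply h
    intro i
    apply eq_zero_of_forall_res _ IsAffineOpen
    · intro z hz
      obtain ⟨W, hW, hzW, hWle⟩ := TopologicalSpace.Opens.isBasis_iff_nbhd.mp
        (Z i).isBasis_affineOpens hz
      exact ⟨W, hzW, hWle, hW⟩
    · intro W hWle hW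
      have hWU : W ≤ (f i) ⁻¹ᵁ U := hWle.trans
        ((TopologicalSpace.Opens.map (f i).base).map (homOfLE (X.basicOpen_le a))).le
      obtain ⟨n, hn⟩ := hax i W hW hWU
      rw [map_mul, map_pow] at hn
      -- the restriction in terms of `appLE`
      have e1 : (Z i).presheaf.map (homOfLE hWle).op ((f i).app (X.basicOpen a)
          (X.presheaf.map (homOfLE (X.basicOpen_le a)).op x)) = (f i).appLE U W hWU x := by
        rw [← CommRingCat.comp_apply, ← CommRingCat.comp_apply, ← Scheme.Hom.appLE,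
          Scheme.Hom.map_appLE]
      rw [e1]
      -- `a` is a unit on `W`
      have hunit : IsUnit ((f i).appLE U W hWU a) := by
        have hle : W ≤ (Z i).basicOpen ((f i).app U a) := by
          rw [← Scheme.preimage_basicOpen]; exact hWle
        have e2 : (f i).appLE U W hWU a = (Z i).presheaf.map (homOfLE hle).op
            ((Z i).presheaf.map (homOfLE ((Z i).basicOpen_le ((f i).app U a))).op
              ((f i).app U a)) := by
          rw [← CommRingCat.comp_apply, ← Functor.map_comp, Scheme.Hom.appLE,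
            CommRingCat.comp_apply]
          rfl
        rw [e2]
        exact ((Z i).toRingedSpace.isUnit_res_basicOpen ((f i).app U a)).map _
      exact (hunit.pow n).mul_right_eq_zero.mp hn
  have hloc := hU.isLocalization_basicOpen a
  obtain ⟨⟨_, n, rfl⟩, hn⟩ := (IsLocalization.map_eq_zero_iff (Submonoid.powers a)
    Γ(X, X.basicOpen a) x).mp hx0
  exact ⟨n, hn⟩

/-- the tensor vanishing from the pullback hypothesis -/
lemma tmul_eq_zero_of_pullback {X X' Z : Scheme.{u}} (f : Z ⟶ X) (g : X' ⟶ X)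
    {U : X.Opens} (hU : IsAffineOpen U) {V' : X'.Opens} (hV' : IsAffineOpen V')
    (e : V' ≤ g ⁻¹ᵁ U) {W : Z.Opens} (hW : IsAffineOpen W) (eW : W ≤ f ⁻¹ᵁ U)
    (t : Γ(X', V')) (ht : (pullback.snd f g).app V' t = 0) :
    letI : Algebra Γ(X, U) Γ(X', V') := (g.appLE U V' e).hom.toAlgebra
    letI : Algebra Γ(X, U) Γ(Z, W) := (f.appLE U W eW).hom.toAlgebra
    (1 : Γ(Z, W)) ⊗ₜ[Γ(X, U)] t = 0 := by
  letI : Algebra Γ(X, U) Γ(X', V') := (g.appLE U V' e).hom.toAlgebra
  letI : Algebra Γ(X, U) Γ(Z, W) := (f.appLE U W eW).hom.toAlgebra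
  let D : CommRingCat.{u} := CommRingCat.of (Γ(Z, W) ⊗[Γ(X, U)] Γ(X', V'))
  let inclL : Γ(Z, W) ⟶ D := CommRingCat.ofHom Algebra.TensorProduct.includeLeftRingHom
  let inclR : Γ(X', V') ⟶ D := CommRingCat.ofHom
    (Algebra.TensorProduct.includeRight : Γ(X', V') →ₐ[Γ(X, U)] _).toRingHom
  have hsq : f.appLE U W eW ≫ inclL = g.appLE U V' e ≫ inclR := by
    ext x
    change (algebraMap Γ(X, U) Γ(Z, W) x) ⊗ₜ[Γ(X, U)] (1 : Γ(X', V')) =
      (1 : Γ(Z, W)) ⊗ₜ[Γ(X, U)] (algebraMap Γ(X, U) Γ(X', V') x)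
    rw [Algebra.algebraMap_eq_smul_one, Algebra.algebraMap_eq_smul_one, TensorProduct.smul_tmul]
  let m₁ : Spec D ⟶ Z := Spec.map inclL ≫ hW.fromSpec
  let m₂ : Spec D ⟶ X' := Spec.map inclR ≫ hV'.fromSpec
  have hcomm : m₁ ≫ f = m₂ ≫ g := by
    simp only [m₁, m₂, Category.assoc]
    rw [← hU.SpecMap_appLE_fromSpec f hW eW, ← hU.SpecMap_appLE_fromSpec g hV' e,
      ← Spec.map_comp_assoc, ← Spec.map_comp_assoc, hsq]
  let ℓ : Spec D ⟶ pullback f g := pullback.lift m₁ m₂ hcomm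
  have hℓ : ℓ ≫ pullback.snd f g = Spec.map inclR ≫ hV'.fromSpec := pullback.lift_snd _ _ _
  have h1 : (ℓ ≫ pullback.snd f g).app V' t = 0 := by
    change ℓ.app _ ((pullback.snd f g).app V' t) = 0
    rw [ht, map_zero]
  rw [hℓ] at h1
  exact eq_zero_of_SpecMap_fromSpec_app hV' inclR t h1

/-- the affine piece of EGA IV 11.10.5 -/
theorem affine_piece {X X' : Scheme.{u}} {ι : Type u} (Z : ι → Scheme.{u})
    (f : ∀ i, Z i ⟶ X) (g : X' ⟶ X) [Flat g] [LocallyOfFinitePresentation g]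
    (h : ∀ (V : X.Opens) (t : Γ(X, V)), (∀ i, (f i).app V t = 0) → t = 0)
    {U : X.Opens} (hU : IsAffineOpen U) {V' : X'.Opens} (hV' : IsAffineOpen V')
    (e : V' ≤ g ⁻¹ᵁ U)
    (t : Γ(X', V')) (ht : ∀ i, (pullback.snd (f i) g).app V' t = 0) : t = 0 := by
  letI : Algebra Γ(X, U) Γ(X', V') := (g.appLE U V' e).hom.toAlgebra
  haveI : Module.Flat Γ(X, U) Γ(X', V') :=
    HasRingHomProperty.appLE (P := @Flat) g inferInstance ⟨U, hU⟩ ⟨V', hV'⟩ e
  haveI : Algebra.FinitePresentation Γ(X, U) Γ(X', V') :=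
    HasRingHomProperty.appLE (P := @LocallyOfFinitePresentation) g inferInstance ⟨U, hU⟩
      ⟨V', hV'⟩ e
  let J := Σ i : ι, {W : (Z i).Opens // IsAffineOpen W ∧ W ≤ (f i) ⁻¹ᵁ U}
  let C : J → Type u := fun j => Γ(Z j.1, j.2.1)
  letI : ∀ j, CommRing (C j) := fun j => inferInstanceAs (CommRing Γ(Z j.1, j.2.1))
  letI : ∀ j : J, Algebra Γ(X, U) (C j) := fun j =>
    ((f j.1).appLE U j.2.1 j.2.2.2).hom.toAlgebra
  refine SepFam.eq_zero_of_flat_finitePresentation (A := Γ(X, U)) (B := Γ(X', V')) C ?_ t ?_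
  · intro a x hax
    apply sep_affine Z f h hU a x
    intro i W hW hWU
    exact hax ⟨i, W, hW, hWU⟩
  · intro j
    exact tmul_eq_zero_of_pullback (f j.1) g hU hV' e j.2.2.1 j.2.2.2 t (ht j.1)

/-- **EGA IV 11.10.5 (ii)**: a schematically dominant family stays schematically dominant after
a flat base change locally of finite presentation. -/
theorem schDominant_baseChange {X X' : Scheme.{u}} {ι : Type u} (Z : ι → Scheme.{u})
    (f : ∀ i, Z i ⟶ X) (g : X' ⟶ X) [Flat g] [LocallyOfFinitePresentation g]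
    (h : ∀ (V : X.Opens) (t : Γ(X, V)), (∀ i, (f i).app V t = 0) → t = 0) :
    ∀ (V : X'.Opens) (t : Γ(X', V)), (∀ i, (pullback.snd (f i) g).app V t = 0) → t = 0 := by
  intro V t ht
  apply eq_zero_of_forall_res t
    (fun W => IsAffineOpen W ∧ ∃ U : X.Opens, IsAffineOpen U ∧ W ≤ g ⁻¹ᵁ U)
  · intro x hx
    obtain ⟨U, hU, hgxU, -⟩ := TopologicalSpace.Opens.isBasis_iff_nbhd.mp X.isBasis_affineOpens
      (show g x ∈ (⊤ : X.Opens) from trivial)
    have hx' : x ∈ V ⊓ g ⁻¹ᵁ U := ⟨hx, hgxU⟩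
    obtain ⟨W, hW, hxW, hWle⟩ := TopologicalSpace.Opens.isBasis_iff_nbhd.mp
      X'.isBasis_affineOpens hx'
    exact ⟨W, hxW, hWle.trans inf_le_left, hW, U, hU, hWle.trans inf_le_right⟩
  · rintro W hWV ⟨hW, U, hU, hWU⟩
    apply affine_piece Z f g h hU hW hWU
    intro i
    have := (pullback.snd (f i) g).naturality (homOfLE hWV).op
    rw [← CommRingCat.comp_apply, this, CommRingCat.comp_apply, ht i, map_zero]

end Groth.Agent.H21.SchDom
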