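import Groth.Agent.H21.SepModUnivSch
import Groth.Agent.H21.SchDom

/-!
# Universally schematically dominant families (helper21)

Generic (module-free) forms of the chart lemmas of `SepModUnivSch`, and the ring-level
translation of schematic dominance.
-/

open CategoryTheory AlgebraicGeometry TensorProduct Opposite Limits

universe u

set_option linter.style.haveILetI false

namespace Groth.Agent.H21.SchDomUniv

open Groth.Agent.H21.SepModSch Groth.Agent.H21.SepModLim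
open Groth.Agent.H21.SepModField Groth.Agent.H21.SepModBC Groth.Agent.H21.SepModUniv
open Groth.Agent.H21.SepModUnivSch

section Generic

variable {X S S' : Scheme.{u}} (p : X ⟶ S) (q : S' ⟶ S)

set_option maxHeartbeats 1000000 in
/-- generic form of `jiloc_chart_of_separating`. -/
theorem jiloc_chart_of_ji {US : S.Opens} (hUS : IsAffineOpen US) {U : X.Opens}
    (hU : IsAffineOpen U) (hUSX : U ≤ p ⁻¹ᵁ US) {T : S'.Opens} (hT : IsAffineOpen T)
    (hUST : T ≤ q ⁻¹ᵁ US)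
    {M : Type*} [AddCommGroup M] [Module Γ(X, U) M] {J : Type*} (N : J → Type*)
    [∀ j, AddCommGroup (N j)] [∀ j, Module Γ(X, U) (N j)] (u : ∀ j, M →ₗ[Γ(X, U)] N j)
    (h : ∀ (V' : (pullback p q).Opens) (_ : IsAffineOpen V')
      (e : V' ≤ (pullback.fst p q) ⁻¹ᵁ U),
      letI : Algebra Γ(X, U) Γ(pullback p q, V') :=
        ((pullback.fst p q).appLE U V' e).hom.toAlgebra
      JI N u Γ(pullback p q, V')) :
    letI : Algebra Γ(S, US) Γ(X, U) := (p.appLE US U hUSX).hom.toAlgebra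
    letI : Algebra Γ(S, US) Γ(S', T) := (q.appLE US T hUST).hom.toAlgebra
    JIloc N u (Γ(X, U) ⊗[Γ(S, US)] Γ(S', T)) := by
  letI : Algebra Γ(S, US) Γ(X, U) := (p.appLE US U hUSX).hom.toAlgebra
  letI : Algebra Γ(S, US) Γ(S', T) := (q.appLE US T hUST).hom.toAlgebra
  obtain ⟨hW', ε, hε⟩ := exists_chart_equiv p q hUS hU hUSX hT hUST
  have eW' : (pullback.fst p q) ⁻¹ᵁ U ⊓ (pullback.snd p q) ⁻¹ᵁ T ≤ (pullback.fst p q) ⁻¹ᵁ U :=
    inf_le_left
  letI : Algebra Γ(X, U) Γ(pullback p q, (pullback.fst p q) ⁻¹ᵁ U ⊓ (pullback.snd p q) ⁻¹ᵁ T) :=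
    ((pullback.fst p q).appLE U _ eW').hom.toAlgebra
  refine JIloc.of_algEquiv (AlgEquiv.ofRingEquiv (f := ε) hε) ?_
  apply JIloc.of_forall_away
  intro b
  have e : (pullback p q).basicOpen b ≤ (pullback.fst p q) ⁻¹ᵁ U :=
    ((pullback p q).basicOpen_le b).trans eW'
  letI : Algebra Γ(X, U) Γ(pullback p q, (pullback p q).basicOpen b) :=
    ((pullback.fst p q).appLE U _ e).hom.toAlgebra
  haveI : IsScalarTower Γ(X, U)
      Γ(pullback p q, (pullback.fst p q) ⁻¹ᵁ U ⊓ (pullback.snd p q) ⁻¹ᵁ T)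
      Γ(pullback p q, (pullback p q).basicOpen b) := by
    apply IsScalarTower.of_algebraMap_eq
    intro a
    have := Scheme.Hom.appLE_map (pullback.fst p q) eW'
      (homOfLE ((pullback p q).basicOpen_le b)).op
    exact (congrArg (fun φ => φ.hom a) this).symm
  haveI : IsLocalization.Away b Γ(pullback p q, (pullback p q).basicOpen b) :=
    hW'.isLocalization_basicOpen b
  refine ⟨Γ(pullback p q, (pullback p q).basicOpen b), inferInstance, inferInstance,
    inferInstance, inferInstance, inferInstance, ?_⟩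
  exact h _ (hW'.basicOpen b) e

set_option maxHeartbeats 1000000 in
/-- generic form of `univ_piece`. -/
theorem ji_basicOpen_of_jiloc {US : S.Opens} (hUS : IsAffineOpen US) {U : X.Opens}
    (hU : IsAffineOpen U) (hUSX : U ≤ p ⁻¹ᵁ US) {T : S'.Opens} (hT : IsAffineOpen T)
    (hUST : T ≤ q ⁻¹ᵁ US)
    {M : Type*} [AddCommGroup M] [Module Γ(X, U) M] {J : Type*} (N : J → Type*)
    [∀ j, AddCommGroup (N j)] [∀ j, Module Γ(X, U) (N j)] (u : ∀ j, M →ₗ[Γ(X, U)] N j)
    (HJ : letI : Algebra Γ(S, US) Γ(X, U) := (p.appLE US U hUSX).hom.toAlgebra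
      letI : Algebra Γ(S, US) Γ(S', T) := (q.appLE US T hUST).hom.toAlgebra
      JIloc N u (Γ(X, U) ⊗[Γ(S, US)] Γ(S', T)))
    (b : Γ(pullback p q, (pullback.fst p q) ⁻¹ᵁ U ⊓ (pullback.snd p q) ⁻¹ᵁ T)) :
    letI : Algebra Γ(X, U) Γ(pullback p q, (pullback p q).basicOpen b) :=
      ((pullback.fst p q).appLE U _
        (((pullback p q).basicOpen_le b).trans inf_le_left)).hom.toAlgebra
    JI N u Γ(pullback p q, (pullback p q).basicOpen b) := by
  letI : Algebra Γ(S, US) Γ(X, U) := (p.appLE US U hUSX).hom.toAlgebra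
  letI : Algebra Γ(S, US) Γ(S', T) := (q.appLE US T hUST).hom.toAlgebra
  obtain ⟨hW', ε, hε⟩ := exists_chart_equiv p q hUS hU hUSX hT hUST
  have eW' : (pullback.fst p q) ⁻¹ᵁ U ⊓ (pullback.snd p q) ⁻¹ᵁ T ≤ (pullback.fst p q) ⁻¹ᵁ U :=
    inf_le_left
  letI : Algebra Γ(X, U) Γ(pullback p q, (pullback.fst p q) ⁻¹ᵁ U ⊓ (pullback.snd p q) ⁻¹ᵁ T) :=
    ((pullback.fst p q).appLE U _ eW').hom.toAlgebra
  have e : (pullback p q).basicOpen b ≤ (pullback.fst p q) ⁻¹ᵁ U :=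
    ((pullback p q).basicOpen_le b).trans eW'
  letI : Algebra Γ(X, U) Γ(pullback p q, (pullback p q).basicOpen b) :=
    ((pullback.fst p q).appLE U _ e).hom.toAlgebra
  haveI : IsScalarTower Γ(X, U)
      Γ(pullback p q, (pullback.fst p q) ⁻¹ᵁ U ⊓ (pullback.snd p q) ⁻¹ᵁ T)
      Γ(pullback p q, (pullback p q).basicOpen b) := by
    apply IsScalarTower.of_algebraMap_eq
    intro a
    have := Scheme.Hom.appLE_map (pullback.fst p q) eW'
      (homOfLE ((pullback p q).basicOpen_le b)).op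
    exact (congrArg (fun φ => φ.hom a) this).symm
  haveI : IsLocalization.Away b Γ(pullback p q, (pullback p q).basicOpen b) :=
    hW'.isLocalization_basicOpen b
  exact JIloc.transport HJ ε hε b _

end Generic

section FibGeneric

variable {X S : Scheme.{u}} (p : X ⟶ S)

set_option maxHeartbeats 1000000 in
/-- generic form of `fib_ring`. -/
theorem fib_ring_generic {US : S.Opens} (hUS : IsAffineOpen US) {U : X.Opens}
    (hU : IsAffineOpen U) (hUSX : U ≤ p ⁻¹ᵁ US)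
    {M : Type u} [AddCommGroup M] [Module Γ(X, U) M] {J : Type*} (N : J → Type u)
    [∀ j, AddCommGroup (N j)] [∀ j, Module Γ(X, U) (N j)] (u : ∀ j, M →ₗ[Γ(X, U)] N j)
    (h : ∀ (s : S) (V' : (pullback p (S.fromSpecResidueField s)).Opens) (_ : IsAffineOpen V')
      (e : V' ≤ (pullback.fst p (S.fromSpecResidueField s)) ⁻¹ᵁ U),
      letI : Algebra Γ(X, U) Γ(pullback p (S.fromSpecResidueField s), V') :=
        ((pullback.fst p (S.fromSpecResidueField s)).appLE U V' e).hom.toAlgebra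
      JI N u Γ(pullback p (S.fromSpecResidueField s), V'))
    (K : Type u) [Field K] [Algebra Γ(S, US) K] :
    letI : Algebra Γ(S, US) Γ(X, U) := (p.appLE US U hUSX).hom.toAlgebra
    JIloc N u (Γ(X, U) ⊗[Γ(S, US)] K) := by
  letI : Algebra Γ(S, US) Γ(X, U) := (p.appLE US U hUSX).hom.toAlgebra
  obtain ⟨s, hs, ψ, hψ⟩ := exists_residueField_factor hUS K
    (CommRingCat.ofHom (algebraMap Γ(S, US) K))
  have hUST : (⊤ : (Spec (S.residueField s)).Opens) ≤ (S.fromSpecResidueField s) ⁻¹ᵁ US := by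
    intro y _
    change (S.fromSpecResidueField s) y ∈ US
    rw [Scheme.fromSpecResidueField_apply]
    exact hs
  letI : Algebra Γ(S, US) Γ(Spec (S.residueField s), ⊤) :=
    ((S.fromSpecResidueField s).appLE US ⊤ hUST).hom.toAlgebra
  have h1 := jiloc_chart_of_ji p (S.fromSpecResidueField s) hUS hU hUSX
    (isAffineOpen_top _) hUST N u (h s)
  letI : Algebra Γ(Spec (S.residueField s), ⊤) K := ψ.hom.toAlgebra
  haveI : IsScalarTower Γ(S, US) Γ(Spec (S.residueField s), ⊤) K := by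
    apply IsScalarTower.of_algebraMap_eq
    intro r
    exact (congrArg (fun φ => φ.hom r) hψ).symm
  have hK₁ : IsField Γ(Spec (S.residueField s), ⊤) :=
    MulEquiv.isField (Field.toIsField (S.residueField s))
      (Scheme.ΓSpecIso (S.residueField s)).commRingCatIsoToRingEquiv.toMulEquiv
  exact JIloc.field_ext _ K hK₁ h1

end FibGeneric

/-- index type of the affine opens of the `Z i` lying over `U`. -/
abbrev AffIdx {X : Scheme.{u}} {ι : Type u} (Z : ι → Scheme.{u}) (f : ∀ i, Z i ⟶ X)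
    (U : X.Opens) : Type u :=
  Σ i : ι, {W : (Z i).Opens // IsAffineOpen W ∧ W ≤ (f i) ⁻¹ᵁ U}

/-- the algebra structures `Γ(X, U) → Γ(Z i, W)`. -/
noncomputable abbrev algC {X : Scheme.{u}} {ι : Type u} (Z : ι → Scheme.{u}) (f : ∀ i, Z i ⟶ X)
    (U : X.Opens) (j : AffIdx Z f U) : Algebra Γ(X, U) Γ(Z j.1, j.2.1) :=
  ((f j.1).appLE U j.2.1 j.2.2.2).hom.toAlgebra

lemma appLE_congr_hom {X Y : Scheme.{u}} {f g : X ⟶ Y} (h : f = g) (U : Y.Opens) (V : X.Opens)
    (e : V ≤ f ⁻¹ᵁ U) : f.appLE U V e = g.appLE U V (h ▸ e) := by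
  subst h; rfl

section A

variable {X X' : Scheme.{u}} {ι : Type u} (Z : ι → Scheme.{u}) (f : ∀ i, Z i ⟶ X) (g : X' ⟶ X)
  (Z' : ι → Scheme.{u}) (m : ∀ i, Z' i ⟶ X') (g' : ∀ i, Z' i ⟶ Z i)

set_option maxHeartbeats 1000000 in
/-- schematic dominance of `(m i)` on `X'` gives ring-level joint injectivity on affine pairs. -/
theorem ji_of_schDominant (hsq : ∀ i, m i ≫ g = g' i ≫ f i)
    (hdom : ∀ (V : X'.Opens) (t : Γ(X', V)), (∀ i, (m i).app V t = 0) → t = 0)
    {U : X.Opens} {V' : X'.Opens} (e : V' ≤ g ⁻¹ᵁ U) :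
    letI : Algebra Γ(X, U) Γ(X', V') := (g.appLE U V' e).hom.toAlgebra
    letI : ∀ j : AffIdx Z f U, Algebra Γ(X, U) Γ(Z j.1, j.2.1) := algC Z f U
    JI (fun j : AffIdx Z f U => Γ(Z j.1, j.2.1))
      (fun j => Algebra.linearMap Γ(X, U) Γ(Z j.1, j.2.1)) Γ(X', V') := by
  letI : Algebra Γ(X, U) Γ(X', V') := (g.appLE U V' e).hom.toAlgebra
  letI : ∀ j : AffIdx Z f U, Algebra Γ(X, U) Γ(Z j.1, j.2.1) := algC Z f U
  intro z hz
  obtain ⟨t, rfl⟩ : ∃ t : Γ(X', V'), z = t ⊗ₜ[Γ(X, U)] (1 : Γ(X, U)) := by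
    refine ⟨TensorProduct.rid Γ(X, U) Γ(X', V') z, ?_⟩
    rw [← TensorProduct.rid_symm_apply, LinearEquiv.symm_apply_apply]
  suffices ht : t = 0 by rw [ht, TensorProduct.zero_tmul]
  apply hdom V' t
  intro i
  apply SchDom.eq_zero_of_forall_res _
    (fun W' => IsAffineOpen W' ∧ ∃ W : (Z i).Opens, IsAffineOpen W ∧ W ≤ (f i) ⁻¹ᵁ U ∧
      W' ≤ (g' i) ⁻¹ᵁ W)
  · intro z' hz'
    have hz'' : (m i) z' ∈ V' := hz'
    have h1 : (f i) ((g' i) z') ∈ U := by
      have : (f i) ((g' i) z') = g ((m i) z') := by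
        rw [← Scheme.Hom.comp_apply, ← Scheme.Hom.comp_apply, hsq i]
      rw [this]
      exact e hz''
    obtain ⟨W, hW, hzW, hWle⟩ := TopologicalSpace.Opens.isBasis_iff_nbhd.mp
      (Z i).isBasis_affineOpens (show (g' i) z' ∈ (f i) ⁻¹ᵁ U from h1)
    obtain ⟨W', hW', hzW', hW'le⟩ := TopologicalSpace.Opens.isBasis_iff_nbhd.mp
      (Z' i).isBasis_affineOpens (show z' ∈ (m i) ⁻¹ᵁ V' ⊓ (g' i) ⁻¹ᵁ W from ⟨hz', hzW⟩)
    exact ⟨W', hzW', hW'le.trans inf_le_left, hW', W, hW, hWle, hW'le.trans inf_le_right⟩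
  · rintro W' hW'V ⟨hW', W, hW, hWU, hW'W⟩
    have e₃ : W' ≤ (m i ≫ g) ⁻¹ᵁ U := fun z' hz' => e (hW'V hz')
    letI algZ' : Algebra Γ(X, U) Γ(Z' i, W') := ((m i ≫ g).appLE U W' e₃).hom.toAlgebra
    let j : AffIdx Z f U := ⟨i, W, hW, hWU⟩
    let φ₁ : Γ(X', V') →ₐ[Γ(X, U)] Γ(Z' i, W') :=
      { ((m i).appLE V' W' hW'V).hom with
        commutes' := fun a => by
          change ((m i).appLE V' W' hW'V).hom ((g.appLE U V' e).hom a) =
            ((m i ≫ g).appLE U W' e₃).hom a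
          rw [← Scheme.Hom.appLE_comp_appLE (m i) g U V' W' e hW'V]
          rfl }
    let φ₂ : Γ(Z j.1, j.2.1) →ₐ[Γ(X, U)] Γ(Z' i, W') :=
      { ((g' i).appLE W W' hW'W).hom with
        commutes' := fun a => by
          change ((g' i).appLE W W' hW'W).hom (((f i).appLE U W hWU).hom a) =
            ((m i ≫ g).appLE U W' e₃).hom a
          rw [appLE_congr_hom (hsq i) U W' e₃,
            ← Scheme.Hom.appLE_comp_appLE (g' i) (f i) U W W' hWU hW'W]
          rfl }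
    let θ : Γ(X', V') ⊗[Γ(X, U)] Γ(Z j.1, j.2.1) →ₐ[Γ(X, U)] Γ(Z' i, W') :=
      Algebra.TensorProduct.lift φ₁ φ₂ (fun _ _ => Commute.all _ _)
    have h1 := hz j
    rw [LinearMap.lTensor_tmul, Algebra.linearMap_apply, map_one] at h1
    have h2 := congrArg θ h1
    rw [Algebra.TensorProduct.lift_tmul, map_one, mul_one, map_zero] at h2
    exact h2

end A

section B

variable {X S S' Z : Scheme.{u}} (p : X ⟶ S) (q : S' ⟶ S) (f : Z ⟶ X)
  (m : pullback (f ≫ p) q ⟶ pullback p q)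

set_option maxHeartbeats 1000000 in
/-- the tensor vanishing from the vanishing on `Z ×_S S'`. -/
lemma tmul_eq_zero_of_pullback_base
    (hm₁ : m ≫ pullback.fst p q = pullback.fst (f ≫ p) q ≫ f)
    (hm₂ : m ≫ pullback.snd p q = pullback.snd (f ≫ p) q)
    {U : X.Opens} (hU : IsAffineOpen U) {V' : (pullback p q).Opens} (hV' : IsAffineOpen V')
    (e : V' ≤ (pullback.fst p q) ⁻¹ᵁ U) {W : Z.Opens} (hW : IsAffineOpen W) (eW : W ≤ f ⁻¹ᵁ U)
    (t : Γ(pullback p q, V')) (ht : m.app V' t = 0) :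
    letI : Algebra Γ(X, U) Γ(pullback p q, V') :=
      ((pullback.fst p q).appLE U V' e).hom.toAlgebra
    letI : Algebra Γ(X, U) Γ(Z, W) := (f.appLE U W eW).hom.toAlgebra
    (1 : Γ(Z, W)) ⊗ₜ[Γ(X, U)] t = 0 := by
  letI : Algebra Γ(X, U) Γ(pullback p q, V') :=
    ((pullback.fst p q).appLE U V' e).hom.toAlgebra
  letI : Algebra Γ(X, U) Γ(Z, W) := (f.appLE U W eW).hom.toAlgebra
  let D : CommRingCat.{u} := CommRingCat.of (Γ(Z, W) ⊗[Γ(X, U)] Γ(pullback p q, V'))
  let inclL : Γ(Z, W) ⟶ D := CommRingCat.ofHom Algebra.TensorProduct.includeLeftRingHom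
  let inclR : Γ(pullback p q, V') ⟶ D := CommRingCat.ofHom
    (Algebra.TensorProduct.includeRight : Γ(pullback p q, V') →ₐ[Γ(X, U)] _).toRingHom
  have hsq : f.appLE U W eW ≫ inclL = (pullback.fst p q).appLE U V' e ≫ inclR := by
    ext x
    change (algebraMap Γ(X, U) Γ(Z, W) x) ⊗ₜ[Γ(X, U)] (1 : Γ(pullback p q, V')) =
      (1 : Γ(Z, W)) ⊗ₜ[Γ(X, U)] (algebraMap Γ(X, U) Γ(pullback p q, V') x)
    rw [Algebra.algebraMap_eq_smul_one, Algebra.algebraMap_eq_smul_one, TensorProduct.smul_tmul]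
  let m₁ : Spec D ⟶ Z := Spec.map inclL ≫ hW.fromSpec
  let m₂ : Spec D ⟶ pullback p q := Spec.map inclR ≫ hV'.fromSpec
  have hcomm : m₁ ≫ f = m₂ ≫ pullback.fst p q := by
    simp only [m₁, m₂, Category.assoc]
    rw [← hU.SpecMap_appLE_fromSpec f hW eW,
      ← hU.SpecMap_appLE_fromSpec (pullback.fst p q) hV' e,
      ← Spec.map_comp_assoc, ← Spec.map_comp_assoc, hsq]
  let ℓ : Spec D ⟶ pullback (f ≫ p) q := pullback.lift m₁ (m₂ ≫ pullback.snd p q) (by
    rw [← Category.assoc m₁, hcomm, Category.assoc, pullback.condition]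
    simp only [m₂, Category.assoc])
  have hℓ : ℓ ≫ m = m₂ := by
    apply pullback.hom_ext
    · rw [Category.assoc, hm₁, ← Category.assoc, pullback.lift_fst, hcomm]
    · rw [Category.assoc, hm₂, pullback.lift_snd]
  have h1 : (ℓ ≫ m).app V' t = 0 := by
    change ℓ.app _ (m.app V' t) = 0
    rw [ht, map_zero]
  rw [hℓ] at h1
  exact SchDom.eq_zero_of_SpecMap_fromSpec_app hV' inclR t h1

end B

section Flat

lemma flat_C {X S Z : Scheme.{u}} (p : X ⟶ S) (f : Z ⟶ X) [Flat (f ≫ p)] {US : S.Opens}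
    (hUS : IsAffineOpen US) {U : X.Opens} (hUSX : U ≤ p ⁻¹ᵁ US) {W : Z.Opens}
    (hW : IsAffineOpen W) (hWU : W ≤ f ⁻¹ᵁ U) :
    letI : Algebra Γ(S, US) Γ(X, U) := (p.appLE US U hUSX).hom.toAlgebra
    letI : Algebra Γ(X, U) Γ(Z, W) := (f.appLE U W hWU).hom.toAlgebra
    letI : Module Γ(S, US) Γ(Z, W) := Module.compHom _ (algebraMap Γ(S, US) Γ(X, U))
    Module.Flat Γ(S, US) Γ(Z, W) := by
  have e : W ≤ (f ≫ p) ⁻¹ᵁ US := fun z hz => hUSX (hWU hz)
  have h1 : ((f ≫ p).appLE US W e).hom.Flat :=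
    HasRingHomProperty.appLE (P := @Flat) (f ≫ p) inferInstance ⟨US, hUS⟩ ⟨W, hW⟩ e
  have h2 : (f ≫ p).appLE US W e = p.appLE US U hUSX ≫ f.appLE U W hWU :=
    (Scheme.Hom.appLE_comp_appLE f p US U W hUSX hWU).symm
  rw [h2] at h1
  exact h1

end Flat

section Main

variable {X S : Scheme.{u}} [IsLocallyNoetherian X] (p : X ⟶ S) {ι : Type u}
  (Z : ι → Scheme.{u}) (f : ∀ i, Z i ⟶ X) [∀ i, Flat (f i ≫ p)]

set_option maxHeartbeats 2000000 in
/-- **EGA IV 11.10.9/11.10.10-type criterion, hard direction**: fibrewise schematically dominant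
implies universally schematically dominant. -/
theorem schDominant_pullback_of_fibrewise
    (Fib : ∀ s : S, ∀ (V : (p.fiber s).Opens) (t : Γ(p.fiber s, V)),
      (∀ i, (MoreMor.fiberMap (f i) p s).app V t = 0) → t = 0)
    {S' : Scheme.{u}} (g : S' ⟶ S) (m : ∀ i, pullback (f i ≫ p) g ⟶ pullback p g)
    (hm₁ : ∀ i, m i ≫ pullback.fst p g = pullback.fst (f i ≫ p) g ≫ f i)
    (hm₂ : ∀ i, m i ≫ pullback.snd p g = pullback.snd (f i ≫ p) g)
    (V : (pullback p g).Opens) (t : Γ(pullback p g, V)) (ht : ∀ i, (m i).app V t = 0) :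
    t = 0 := by
  apply SchDom.eq_zero_of_forall_res t
    (fun W => ∃ (US : S.Opens) (_ : IsAffineOpen US) (U : X.Opens) (_ : IsAffineOpen U)
      (_ : U ≤ p ⁻¹ᵁ US) (T : S'.Opens) (_ : IsAffineOpen T) (_ : T ≤ g ⁻¹ᵁ US)
      (b : Γ(pullback p g, (pullback.fst p g) ⁻¹ᵁ U ⊓ (pullback.snd p g) ⁻¹ᵁ T)),
      W = (pullback p g).basicOpen b)
  · intro x hx
    obtain ⟨US, hUS, hsUS, -⟩ := TopologicalSpace.Opens.isBasis_iff_nbhd.mp S.isBasis_affineOpens
      (show p (pullback.fst p g x) ∈ (⊤ : S.Opens) from trivial)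
    obtain ⟨U, hU, hxU, hUle⟩ := TopologicalSpace.Opens.isBasis_iff_nbhd.mp X.isBasis_affineOpens
      (show (pullback.fst p g) x ∈ p ⁻¹ᵁ US from hsUS)
    have hgx : g (pullback.snd p g x) ∈ US := by
      have : g (pullback.snd p g x) = p (pullback.fst p g x) := by
        rw [← Scheme.Hom.comp_apply, ← Scheme.Hom.comp_apply, pullback.condition]
      rw [this]; exact hsUS
    obtain ⟨T, hT, hxT, hTle⟩ := TopologicalSpace.Opens.isBasis_iff_nbhd.mp
      S'.isBasis_affineOpens (show (pullback.snd p g) x ∈ g ⁻¹ᵁ US from hgx)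
    obtain ⟨hW', -⟩ := exists_chart_equiv p g hUS hU hUle hT hTle
    obtain ⟨b, hbV, hxb⟩ := hW'.exists_basicOpen_le ⟨x, hx⟩ ⟨hxU, hxT⟩
    exact ⟨_, hxb, hbV, US, hUS, U, hU, hUle, T, hT, hTle, b, rfl⟩
  · rintro W hWV ⟨US, hUS, U, hU, hUSX, T, hT, hUST, b, rfl⟩
    letI : Algebra Γ(S, US) Γ(X, U) := (p.appLE US U hUSX).hom.toAlgebra
    letI : Algebra Γ(S, US) Γ(S', T) := (g.appLE US T hUST).hom.toAlgebra
    letI : ∀ j : AffIdx Z f U, Algebra Γ(X, U) Γ(Z j.1, j.2.1) := algC Z f U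
    letI : ∀ j : AffIdx Z f U, Module Γ(S, US) Γ(Z j.1, j.2.1) := fun j =>
      Module.compHom _ (algebraMap Γ(S, US) Γ(X, U))
    haveI : ∀ j : AffIdx Z f U, IsScalarTower Γ(S, US) Γ(X, U) Γ(Z j.1, j.2.1) := fun j =>
      IsScalarTower.of_algebraMap_smul (fun _ _ => rfl)
    haveI : ∀ j : AffIdx Z f U, Module.Flat Γ(S, US) Γ(Z j.1, j.2.1) := fun j =>
      flat_C p (f j.1) hUS hUSX j.2.2.1 j.2.2.2
    haveI : IsNoetherianRing Γ(X, U) := IsLocallyNoetherian.component_noetherian ⟨U, hU⟩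
    have FibK : ∀ (K : Type u) [Field K] [Algebra Γ(S, US) K],
        JIloc (fun j : AffIdx Z f U => Γ(Z j.1, j.2.1))
          (fun j => Algebra.linearMap Γ(X, U) Γ(Z j.1, j.2.1)) (Γ(X, U) ⊗[Γ(S, US)] K) :=
      fun K _ _ => fib_ring_generic p hUS hU hUSX (fun j : AffIdx Z f U => Γ(Z j.1, j.2.1))
        (fun j => Algebra.linearMap Γ(X, U) Γ(Z j.1, j.2.1))
        (fun s V' hV' e => ji_of_schDominant Z f (pullback.fst p (S.fromSpecResidueField s))
          (fun i => (f i ≫ p).fiber s) (fun i => MoreMor.fiberMap (f i) p s)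
          (fun i => (f i ≫ p).fiberι s) (fun i => pullback.lift_fst _ _ _) (Fib s) e) K
    have HJ := jiloc_universal_of_fibres (fun j : AffIdx Z f U => Γ(Z j.1, j.2.1))
      (fun j => Algebra.linearMap Γ(X, U) Γ(Z j.1, j.2.1)) Γ(S', T) FibK
    have hJI := ji_basicOpen_of_jiloc p g hUS hU hUSX hT hUST
      (fun j : AffIdx Z f U => Γ(Z j.1, j.2.1))
      (fun j => Algebra.linearMap Γ(X, U) Γ(Z j.1, j.2.1)) HJ b
    obtain ⟨hW', -⟩ := exists_chart_equiv p g hUS hU hUSX hT hUST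
    have e : (pullback p g).basicOpen b ≤ (pullback.fst p g) ⁻¹ᵁ U :=
      ((pullback p g).basicOpen_le b).trans inf_le_left
    letI : Algebra Γ(X, U) Γ(pullback p g, (pullback p g).basicOpen b) :=
      ((pullback.fst p g).appLE U _ e).hom.toAlgebra
    have ht' : ∀ i, (m i).app ((pullback p g).basicOpen b)
        ((pullback p g).presheaf.map (homOfLE hWV).op t) = 0 := by
      intro i
      have := (m i).naturality (homOfLE hWV).op
      rw [← CommRingCat.comp_apply, this, CommRingCat.comp_apply, ht i, map_zero]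
    generalize (pullback p g).presheaf.map (homOfLE hWV).op t = t' at ht'
    have hz := hJI (t' ⊗ₜ[Γ(X, U)] (1 : Γ(X, U))) (fun j => by
      rw [LinearMap.lTensor_tmul, Algebra.linearMap_apply, map_one]
      have h1 := tmul_eq_zero_of_pullback_base p g (f j.1) (m j.1) (hm₁ j.1) (hm₂ j.1) hU
        (hW'.basicOpen b) e j.2.2.1 j.2.2.2 t' (ht' j.1)
      have h2 := congrArg (TensorProduct.comm Γ(X, U) Γ(Z j.1, j.2.1)
        Γ(pullback p g, (pullback p g).basicOpen b)) h1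
      rw [TensorProduct.comm_tmul, map_zero] at h2
      exact h2)
    have h3 := congrArg (TensorProduct.rid Γ(X, U) Γ(pullback p g, (pullback p g).basicOpen b)) hz
    rw [TensorProduct.rid_tmul, one_smul, map_zero] at h3
    exact h3

end Main

end Groth.Agent.H21.SchDomUniv
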