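import Groth.Agent.H21.TorsSch2
import Groth.Agent.H21.SchDomUniv
import Groth.Prelude.Def_CInt

/-!
# Universally schematically dense opens (helper21)

EGA IV 11.10.10: for `f : X ⟶ S` flat and locally of finite presentation, an open `U ⊆ X` is
universally schematically dense relative to `S` iff it is so on the fibres.
-/

open CategoryTheory AlgebraicGeometry TensorProduct Opposite Limits

universe u

set_option linter.style.haveILetI false

namespace Groth.Agent.H21.SchDense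

open Groth.Agent.H21.SepModSch Groth.Agent.H21.SepModLim
open Groth.Agent.H21.SepModField Groth.Agent.H21.SepModBC Groth.Agent.H21.SepModUniv
open Groth.Agent.H21.SepModUnivSch Groth.Agent.H21.TorsUniv Groth.Agent.H21.TorsSch
open Groth.Agent.H21.SchDomUniv

section Ring

lemma kib_self_iff {A B : Type*} [CommRing A] [CommRing B] [Algebra A B] {J : Type*}
    (β : J → B) :
    KIB A A B β ↔ ∀ t : B, (∀ j, ∃ n : ℕ, β j ^ n * t = 0) → t = 0 := by
  let E : B ⊗[A] A ≃ₗ[B] B := AlgebraTensorModule.rid A B B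
  constructor
  · intro h t ht
    have h1 : E.symm t = 0 := by
      apply h
      intro j
      obtain ⟨n, hn⟩ := ht j
      refine ⟨n, ?_⟩
      rw [← map_smul, smul_eq_mul, hn, map_zero]
    have := congrArg E h1
    rwa [LinearEquiv.apply_symm_apply, map_zero] at this
  · intro h z hz
    have h1 : E z = 0 := by
      apply h
      intro j
      obtain ⟨n, hn⟩ := hz j
      refine ⟨n, ?_⟩
      rw [← smul_eq_mul, ← map_smul, hn, map_zero]
    exact E.injective (h1.trans (map_zero _).symm)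

end Ring

section Pieces

variable {X P : Scheme.{u}} (h : P ⟶ X) (U : X.Opens)

set_option maxHeartbeats 1000000 in
/-- a function on an affine open `W ≤ h⁻¹ U₀` vanishing on `W ∩ h⁻¹ U` is zero, given the
ring-level torsion statement. -/
theorem dense_piece {U₀ : X.Opens} {W : P.Opens} (hW : IsAffineOpen W)
    (e : W ≤ h ⁻¹ᵁ U₀)
    (HK : letI := (h.appLE U₀ W e).hom.toAlgebra
      KIB Γ(X, U₀) Γ(X, U₀) Γ(P, W) (fun j : Idx U U₀ => algebraMap Γ(X, U₀) Γ(P, W) j.1))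
    (t : Γ(P, W))
    (ht : P.presheaf.map (homOfLE (inf_le_left : W ⊓ h ⁻¹ᵁ U ≤ W)).op t = 0) : t = 0 := by
  letI := (h.appLE U₀ W e).hom.toAlgebra
  rw [kib_self_iff] at HK
  apply HK
  intro j
  have hbo : P.basicOpen ((h.appLE U₀ W e) j.1) = W ⊓ h ⁻¹ᵁ (X.basicOpen j.1) :=
    Scheme.basicOpen_appLE h W U₀ e j.1
  have hle : P.basicOpen ((h.appLE U₀ W e) j.1) ≤ W ⊓ h ⁻¹ᵁ U := by
    rw [hbo]
    exact inf_le_inf_left W (fun x hx => j.2 hx)
  have h0 : P.presheaf.map (homOfLE (P.basicOpen_le ((h.appLE U₀ W e) j.1))).op t = 0 := by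
    have : (homOfLE (P.basicOpen_le ((h.appLE U₀ W e) j.1))).op =
        (homOfLE (inf_le_left : W ⊓ h ⁻¹ᵁ U ≤ W)).op ≫ (homOfLE hle).op := rfl
    rw [this, Functor.map_comp, CommRingCat.comp_apply, ht, map_zero]
  haveI := hW.isLocalization_basicOpen ((h.appLE U₀ W e) j.1)
  have h1 : algebraMap Γ(P, W) Γ(P, P.basicOpen ((h.appLE U₀ W e) j.1)) t = 0 := h0
  obtain ⟨⟨_, n, rfl⟩, hn⟩ := (IsLocalization.map_eq_zero_iff
    (Submonoid.powers ((h.appLE U₀ W e) j.1)) _ t).mp h1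
  exact ⟨n, hn⟩

set_option maxHeartbeats 1000000 in
/-- the ring-level torsion statement on an affine pair, from schematic density upstairs. -/
theorem kib_of_schematicallyDense (hd : CInt.IsSchematicallyDense (h ⁻¹ᵁ U))
    {U₀ : X.Opens} (hU₀ : IsAffineOpen U₀) {W : P.Opens} (e : W ≤ h ⁻¹ᵁ U₀) :
    letI := (h.appLE U₀ W e).hom.toAlgebra
    KIB Γ(X, U₀) Γ(X, U₀) Γ(P, W) (fun j : Idx U U₀ => algebraMap Γ(X, U₀) Γ(P, W) j.1) := by
  letI := (h.appLE U₀ W e).hom.toAlgebra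
  rw [kib_self_iff]
  intro t ht
  apply hd W
  rw [map_zero]
  apply SchDom.eq_zero_of_forall_res _
    (fun W' => ∃ j : Idx U U₀, W' = P.basicOpen ((h.appLE U₀ W e) j.1))
  · intro x hx
    obtain ⟨a, haU, hxa⟩ := hU₀.exists_basicOpen_le (V := U) ⟨h x, hx.2⟩ (e hx.1)
    have hbo : P.basicOpen ((h.appLE U₀ W e) a) = W ⊓ h ⁻¹ᵁ (X.basicOpen a) :=
      Scheme.basicOpen_appLE h W U₀ e a
    refine ⟨_, ?_, ?_, ⟨⟨a, haU⟩, rfl⟩⟩
    · rw [hbo]
      exact ⟨hx.1, hxa⟩
    · rw [hbo]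
      exact inf_le_inf_left W (fun y hy => haU hy)
  · rintro W' hW' ⟨j, rfl⟩
    rw [← CommRingCat.comp_apply, ← Functor.map_comp]
    obtain ⟨n, hn⟩ := ht j
    have h2 := congrArg (P.presheaf.map
      (homOfLE (P.basicOpen_le ((h.appLE U₀ W e) j.1))).op) hn
    rw [map_mul, map_zero, map_pow] at h2
    have hunit : IsUnit (P.presheaf.map (homOfLE (P.basicOpen_le ((h.appLE U₀ W e) j.1))).op
        ((h.appLE U₀ W e) j.1)) :=
      RingedSpace.isUnit_res_basicOpen P.toRingedSpace ((h.appLE U₀ W e) j.1)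
    exact ((hunit.pow n).mul_right_eq_zero).mp h2

end Pieces

section Main

variable {X S : Scheme.{u}} (p : X ⟶ S) [Flat p] [LocallyOfFinitePresentation p] (U : X.Opens)

set_option maxHeartbeats 1000000 in
/-- **EGA IV 11.10.10 (hard direction)**: fibrewise schematically dense implies universally
schematically dense, for `p` flat and locally of finite presentation. -/
theorem schematicallyDense_pullback_of_fibrewise
    (Fib : ∀ s : S, CInt.IsSchematicallyDense
      ((pullback.fst p (S.fromSpecResidueField s)) ⁻¹ᵁ U))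
    {S' : Scheme.{u}} (g : S' ⟶ S) :
    CInt.IsSchematicallyDense ((pullback.fst p g) ⁻¹ᵁ U) := by
  intro V
  rw [injective_iff_map_eq_zero]
  intro t ht
  apply SchDom.eq_zero_of_forall_res t
    (fun W => ∃ (US : S.Opens) (_ : IsAffineOpen US) (U₀ : X.Opens) (_ : IsAffineOpen U₀)
      (_ : U₀ ≤ p ⁻¹ᵁ US) (T : S'.Opens) (_ : IsAffineOpen T) (_ : T ≤ g ⁻¹ᵁ US)
      (b : Γ(pullback p g, (pullback.fst p g) ⁻¹ᵁ U₀ ⊓ (pullback.snd p g) ⁻¹ᵁ T)),
      W = (pullback p g).basicOpen b)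
  · intro x hx
    obtain ⟨US, hUS, hsUS, -⟩ := TopologicalSpace.Opens.isBasis_iff_nbhd.mp S.isBasis_affineOpens
      (show p (pullback.fst p g x) ∈ (⊤ : S.Opens) from trivial)
    obtain ⟨U₀, hU₀, hxU, hUle⟩ := TopologicalSpace.Opens.isBasis_iff_nbhd.mp
      X.isBasis_affineOpens (show (pullback.fst p g) x ∈ p ⁻¹ᵁ US from hsUS)
    have hgx : g (pullback.snd p g x) ∈ US := by
      have : g (pullback.snd p g x) = p (pullback.fst p g x) := by
        rw [← Scheme.Hom.comp_apply, ← Scheme.Hom.comp_apply, pullback.condition]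
      rw [this]; exact hsUS
    obtain ⟨T, hT, hxT, hTle⟩ := TopologicalSpace.Opens.isBasis_iff_nbhd.mp
      S'.isBasis_affineOpens (show (pullback.snd p g) x ∈ g ⁻¹ᵁ US from hgx)
    obtain ⟨hW', -⟩ := exists_chart_equiv p g hUS hU₀ hUle hT hTle
    obtain ⟨b, hbV, hxb⟩ := hW'.exists_basicOpen_le ⟨x, hx⟩ ⟨hxU, hxT⟩
    exact ⟨_, hxb, hbV, US, hUS, U₀, hU₀, hUle, T, hT, hTle, b, rfl⟩
  · rintro W hWV ⟨US, hUS, U₀, hU₀, hUSX, T, hT, hUST, b, rfl⟩
    letI : Algebra Γ(S, US) Γ(X, U₀) := (p.appLE US U₀ hUSX).hom.toAlgebra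
    letI : Algebra Γ(S, US) Γ(S', T) := (g.appLE US T hUST).hom.toAlgebra
    haveI : Module.Flat Γ(S, US) Γ(X, U₀) := p.flat_appLE hUS hU₀ hUSX
    haveI : Algebra.FinitePresentation Γ(S, US) Γ(X, U₀) :=
      p.finitePresentation_appLE hUS hU₀ hUSX
    have FibK : ∀ (K : Type u) [Field K] [Algebra Γ(S, US) K],
        JIloc (Nloc Γ(X, U₀) (fun j : Idx U U₀ => j.1))
          (uloc Γ(X, U₀) (fun j : Idx U U₀ => j.1)) (Γ(X, U₀) ⊗[Γ(S, US)] K) :=
      fun K _ _ => fib_ring_generic p hUS hU₀ hUSX (Nloc Γ(X, U₀) (fun j : Idx U U₀ => j.1))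
        (uloc Γ(X, U₀) (fun j : Idx U U₀ => j.1))
        (fun s V' hV' e => by
          letI : Algebra Γ(X, U₀) Γ(pullback p (S.fromSpecResidueField s), V') :=
            ((pullback.fst p (S.fromSpecResidueField s)).appLE U₀ V' e).hom.toAlgebra
          rw [ji_uloc_iff]
          exact kib_of_schematicallyDense (pullback.fst p (S.fromSpecResidueField s)) U
            (Fib s) hU₀ e) K
    have HJ : JIloc (Nloc Γ(X, U₀) (fun j : Idx U U₀ => j.1))
        (uloc Γ(X, U₀) (fun j : Idx U U₀ => j.1)) (Γ(X, U₀) ⊗[Γ(S, US)] Γ(S', T)) := by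
      intro b₀
      rw [ji_uloc_iff]
      refine kib_universal Γ(S, US) Γ(X, U₀) Γ(X, U₀) (fun j : Idx U U₀ => j.1) ?_ Γ(S', T) b₀
      intro K _ _ c
      have := FibK K c
      rwa [ji_uloc_iff] at this
    have hJI := ji_basicOpen_of_jiloc p g hUS hU₀ hUSX hT hUST
      (Nloc Γ(X, U₀) (fun j : Idx U U₀ => j.1)) (uloc Γ(X, U₀) (fun j : Idx U U₀ => j.1)) HJ b
    obtain ⟨hW', -⟩ := exists_chart_equiv p g hUS hU₀ hUSX hT hUST
    have e : (pullback p g).basicOpen b ≤ (pullback.fst p g) ⁻¹ᵁ U₀ :=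
      ((pullback p g).basicOpen_le b).trans inf_le_left
    letI : Algebra Γ(X, U₀) Γ(pullback p g, (pullback p g).basicOpen b) :=
      ((pullback.fst p g).appLE U₀ _ e).hom.toAlgebra
    rw [ji_uloc_iff] at hJI
    apply dense_piece (pullback.fst p g) U (hW'.basicOpen b) e hJI
    have hle : (pullback p g).basicOpen b ⊓ (pullback.fst p g) ⁻¹ᵁ U ≤
        V ⊓ (pullback.fst p g) ⁻¹ᵁ U := inf_le_inf_right _ hWV
    have h1 : (homOfLE hWV).op ≫ (homOfLE (inf_le_left :
        (pullback p g).basicOpen b ⊓ (pullback.fst p g) ⁻¹ᵁ U ≤ (pullback p g).basicOpen b)).op =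
        (homOfLE (inf_le_left : V ⊓ (pullback.fst p g) ⁻¹ᵁ U ≤ V)).op ≫ (homOfLE hle).op := rfl
    rw [← CommRingCat.comp_apply, ← Functor.map_comp, h1, Functor.map_comp,
      CommRingCat.comp_apply, ht, map_zero]

end Main

end Groth.Agent.H21.SchDense
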