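import Mathlib
import Groth.Agent.H21.SchDense
import Groth.Agent.H51.Reduced

set_option autoImplicit false
set_option linter.style.haveILetI false
universe u
open CategoryTheory AlgebraicGeometry CategoryTheory.Limits TopologicalSpace

namespace Groth.Agent.H21.BigOpenDense

/-- schematic density transfers along an isomorphism -/
theorem isSchematicallyDense_of_iso {P P' : Scheme.{u}} (e : P' ⟶ P) [IsIso e] (U : P.Opens)
    (h : CInt.IsSchematicallyDense (e ⁻¹ᵁ U)) : CInt.IsSchematicallyDense U := by
  intro V
  rw [injective_iff_map_eq_zero]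
  intro t ht
  have h1 := h (e ⁻¹ᵁ V)
  have hinj : Function.Injective (e.app V) :=
    ((ConcreteCategory.isIso_iff_bijective (e.app V)).mp inferInstance).1
  apply hinj
  rw [map_zero]
  apply h1
  rw [map_zero]
  have hnat := e.naturality (homOfLE (inf_le_left : V ⊓ U ≤ V)).op
  have h2 := congrArg (fun φ => φ.hom t) hnat
  simp only [CommRingCat.hom_comp, RingHom.comp_apply] at h2
  rw [ht, map_zero] at h2
  exact h2.symm

/-- in a reduced irreducible scheme every nonempty open is schematically dense -/
theorem isSchematicallyDense_of_nonempty {F : Scheme.{u}} [IsReduced F] [IrreducibleSpace F]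
    (U : F.Opens) (hU : (U : Set F).Nonempty) : CInt.IsSchematicallyDense U := by
  intro V
  rw [injective_iff_map_eq_zero]
  intro t ht
  rw [← basicOpen_eq_bot_iff]
  by_contra hne
  have hne' : (F.basicOpen t : Set F).Nonempty := by
    rw [Set.nonempty_iff_ne_empty]
    intro h
    apply hne
    ext1
    simpa using h
  obtain ⟨x, hx1, hx2⟩ := nonempty_preirreducible_inter (F.basicOpen t).2 U.2 hne' hU
  have hxV : x ∈ V := F.basicOpen_le t hx1
  have hx : x ∈ F.basicOpen (F.presheaf.map (homOfLE (inf_le_left : V ⊓ U ≤ V)).op t) := by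
    rw [Scheme.basicOpen_res]
    exact ⟨⟨hxV, hx2⟩, hx1⟩
  rw [ht, Scheme.basicOpen_zero] at hx
  exact hx

end Groth.Agent.H21.BigOpenDense
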