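import Mathlib
import Groth.Agent.H21.BigOpenDense

set_option autoImplicit false
set_option linter.style.haveILetI false
universe u
open CategoryTheory AlgebraicGeometry CategoryTheory.Limits TopologicalSpace

namespace Groth.Agent.H21.BigOpenDense

/-- the local ring of a reduced irreducible fibre at its generic point has dimension zero -/
theorem fiberStalk_dim_zero {P S : Scheme.{u}} (f : P ⟶ S) (s : S) [IsReduced (f.fiber s)]
    [IrreducibleSpace (f.fiber s)] (x : P) (hx : x = f.fiberι s (genericPoint (f.fiber s))) :
    ringKrullDim (CInt.fiberStalk f x) = 0 := by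
  have hs : f x = s := by
    have : x ∈ Set.range (f.fiberι s) := ⟨_, hx.symm⟩
    rw [f.range_fiberι s] at this
    exact this
  subst hs
  have heq : f.asFiber x = genericPoint (f.fiber (f x)) := by
    apply (f.fiberι (f x)).isEmbedding.injective
    rw [f.fiberι_asFiber, ← hx]
  unfold CInt.fiberStalk
  rw [heq]
  apply ringKrullDim_eq_zero_of_isField
  exact isField_stalk_of_closure_mem_irreducibleComponents (f.fiber (f x)) _
    (by simp [irreducibleComponents_eq_singleton])

/-- a big open (complement of fibrewise codimension ≥ 2, in fact ≥ 1) of `X ×_k S` with `X` smooth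
geometrically irreducible over `k` is schematically dense. -/
theorem isSchematicallyDense_of_big_open
    (k : Type u) [Field k] (X S : Scheme.{u})
    (a : X ⟶ Spec (CommRingCat.of k)) (b : S ⟶ Spec (CommRingCat.of k))
    [Smooth a] [GeometricallyIrreducible a]
    (U : (pullback a b).Opens)
    (hU : ∀ x : ↥(pullback a b), x ∉ U →
      (2 : WithBot ℕ∞) ≤ ringKrullDim ↑(CInt.fiberStalk (pullback.snd a b) x)) :
    CInt.IsSchematicallyDense U := by
  set f := pullback.snd a b with hf
  apply isSchematicallyDense_of_iso (pullback.fst f (𝟙 S)) U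
  apply Groth.Agent.H21.SchDense.schematicallyDense_pullback_of_fibrewise f U ?_ (𝟙 S)
  intro s
  haveI : Smooth f := by rw [hf]; infer_instance
  haveI : Smooth (f.fiberToSpecResidueField s) :=
    MorphismProperty.pullback_snd (P := @Smooth) _ _ inferInstance
  haveI : IsReduced (f.fiber s) := Groth.Agent.H51.isReduced_of_smooth (f.fiberToSpecResidueField s)
  haveI : IrreducibleSpace (f.fiber s) := inferInstance
  apply isSchematicallyDense_of_nonempty (F := f.fiber s)
  refine ⟨genericPoint (f.fiber s), ?_⟩
  show f.fiberι s (genericPoint (f.fiber s)) ∈ U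
  by_contra hx
  have h2 := hU _ hx
  rw [fiberStalk_dim_zero f s _ rfl] at h2
  exact absurd h2 (by decide)

end Groth.Agent.H21.BigOpenDense
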