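import Mathlib.Analysis.Complex.Basic
import Mathlib.Analysis.Complex.Polynomial.Basic
import Mathlib.Topology.Algebra.MvPolynomial
import Mathlib.RingTheory.FiniteType
import Mathlib.RingTheory.Jacobson.Ring
import Mathlib.FieldTheory.IsAlgClosed.Basic
import Mathlib.RingTheory.Ideal.Quotient.Operations

/-!
`ℂ`-points of a `ℂ`-algebra with the topology of pointwise convergence (pure commutative algebra
and topology; no schemes).
-/

set_option autoImplicit false
open Topology

noncomputable section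

namespace Groth.Agent.H21

/-- `ℂ`-points of a `ℂ`-algebra -/
def CPt (A : Type*) [CommRing A] [Algebra ℂ A] : Type _ := A →ₐ[ℂ] ℂ

namespace CPt

variable {A : Type*} [CommRing A] [Algebra ℂ A]

instance : FunLike (CPt A) A ℂ := inferInstanceAs (FunLike (A →ₐ[ℂ] ℂ) A ℂ)

instance : AlgHomClass (CPt A) ℂ A ℂ := inferInstanceAs (AlgHomClass (A →ₐ[ℂ] ℂ) ℂ A ℂ)

/-- view as an algebra homomorphism -/
def toAlgHom (φ : CPt A) : A →ₐ[ℂ] ℂ := φ

/-- view an algebra homomorphism as a point -/
def ofAlgHom (φ : A →ₐ[ℂ] ℂ) : CPt A := φ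

@[simp] theorem ofAlgHom_apply (φ : A →ₐ[ℂ] ℂ) (a : A) : ofAlgHom φ a = φ a := rfl

@[simp] theorem toAlgHom_apply (φ : CPt A) (a : A) : toAlgHom φ a = φ a := rfl

@[ext] theorem ext {φ ψ : CPt A} (h : ∀ a, φ a = ψ a) : φ = ψ := DFunLike.ext _ _ h

theorem apply_algebraMap (φ : CPt A) (c : ℂ) : φ (algebraMap ℂ A c) = c := by
  have := AlgHomClass.commutes φ c
  simpa using this

instance : TopologicalSpace (CPt A) :=
  TopologicalSpace.induced (fun (φ : CPt A) (a : A) => φ a) Pi.topologicalSpace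

theorem isInducing_coe : IsInducing (fun (φ : CPt A) (a : A) => φ a) := ⟨rfl⟩

theorem continuous_eval (a : A) : Continuous (fun φ : CPt A => φ a) :=
  (_root_.continuous_apply a).comp isInducing_coe.continuous

theorem continuous_of_eval {T : Type*} [TopologicalSpace T] {F : T → CPt A}
    (h : ∀ a, Continuous fun t => F t a) : Continuous F :=
  isInducing_coe.continuous_iff.2 (continuous_pi h)

/-- pullback of points along an algebra homomorphism -/
def comap {B : Type*} [CommRing B] [Algebra ℂ B] (g : A →ₐ[ℂ] B) (φ : CPt B) : CPt A :=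
  ofAlgHom ((toAlgHom φ).comp g)

@[simp] theorem comap_apply {B : Type*} [CommRing B] [Algebra ℂ B] (g : A →ₐ[ℂ] B) (φ : CPt B)
    (a : A) : comap g φ a = φ (g a) := rfl

theorem continuous_comap {B : Type*} [CommRing B] [Algebra ℂ B] (g : A →ₐ[ℂ] B) :
    Continuous (comap g) :=
  continuous_of_eval fun a => continuous_eval (g a)

/-- two points with comparable kernels agree -/
theorem eq_of_ker_le {φ ψ : CPt A} (h : ∀ a, φ a = 0 → ψ a = 0) : φ = ψ := by
  ext a
  have h1 : φ (a - algebraMap ℂ A (φ a)) = 0 := by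
    rw [map_sub, apply_algebraMap, sub_self]
  have h2 := h _ h1
  rw [map_sub, apply_algebraMap, sub_eq_zero] at h2
  exact h2.symm

section coords

variable {ι : Type*} (z : ι → A)

/-- evaluation at a family of elements -/
def evz (φ : CPt A) : ι → ℂ := fun i => φ (z i)

theorem continuous_evz : Continuous (evz z) :=
  continuous_pi fun i => continuous_eval (z i)

theorem apply_aeval (φ : CPt A) (p : MvPolynomial ι ℂ) :
    φ (MvPolynomial.aeval z p) = MvPolynomial.eval (evz z φ) p := by
  have := MvPolynomial.comp_aeval_apply (f := z) (toAlgHom φ) p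
  simp only [toAlgHom_apply] at this
  rw [this]
  rfl

variable (hz : Function.Surjective (MvPolynomial.aeval z : MvPolynomial ι ℂ →ₐ[ℂ] A))

include hz

theorem evz_injective : Function.Injective (evz z) := by
  intro φ ψ h
  ext a
  obtain ⟨p, rfl⟩ := hz a
  rw [apply_aeval, apply_aeval, h]

theorem isInducing_evz : IsInducing (evz z) := by
  choose q hq using hz
  let P : (ι → ℂ) → (A → ℂ) := fun w a => MvPolynomial.eval w (q a)
  have hP : Continuous P := continuous_pi fun a => MvPolynomial.continuous_eval (q a)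
  have hcomp : P ∘ evz z = fun (φ : CPt A) (a : A) => φ a := by
    funext φ a
    simp only [P, Function.comp_apply]
    rw [← apply_aeval, hq]
  apply IsInducing.of_comp (continuous_evz z) hP
  rw [hcomp]
  exact isInducing_coe

theorem exists_of_ker (w : ι → ℂ)
    (hw : ∀ p : MvPolynomial ι ℂ, MvPolynomial.aeval z p = 0 → MvPolynomial.eval w p = 0) :
    ∃ φ : CPt A, evz z φ = w := by
  let e := Ideal.quotientKerAlgEquivOfSurjective hz
  let l : (MvPolynomial ι ℂ ⧸ RingHom.ker (MvPolynomial.aeval z : MvPolynomial ι ℂ →ₐ[ℂ] A))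
      →ₐ[ℂ] ℂ :=
    Ideal.Quotient.liftₐ _ (MvPolynomial.aeval w) (fun p hp => by
      rw [MvPolynomial.aeval_eq_eval]
      exact hw p hp)
  refine ⟨ofAlgHom (l.comp e.symm.toAlgHom), ?_⟩
  funext i
  simp only [evz, ofAlgHom_apply, AlgHom.comp_apply]
  have h1 : e.symm (z i) = Ideal.Quotient.mk _ (MvPolynomial.X i) := by
    rw [AlgEquiv.symm_apply_eq]
    simp [e]
  change l (e.symm (z i)) = w i
  rw [h1]
  simp [l]

theorem range_evz : Set.range (evz z) =
    {w | ∀ p : MvPolynomial ι ℂ, MvPolynomial.aeval z p = 0 → MvPolynomial.eval w p = 0} := by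
  ext w
  constructor
  · rintro ⟨φ, rfl⟩ p hp
    rw [← apply_aeval, hp, map_zero]
  · intro hw
    exact exists_of_ker z hz w hw

theorem isClosedEmbedding_evz : IsClosedEmbedding (evz z) := by
  refine ⟨⟨isInducing_evz z hz, evz_injective z hz⟩, ?_⟩
  rw [range_evz z hz]
  have : {w : ι → ℂ | ∀ p : MvPolynomial ι ℂ, MvPolynomial.aeval z p = 0 →
      MvPolynomial.eval w p = 0} = ⋂ (p : MvPolynomial ι ℂ)
        (_ : MvPolynomial.aeval z p = 0), {w | MvPolynomial.eval w p = 0} := by
    ext w
    simp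
  rw [this]
  exact isClosed_iInter fun p => isClosed_iInter fun _ =>
    isClosed_eq (MvPolynomial.continuous_eval p) continuous_const

end coords

/-- a maximal ideal of a finite type `ℂ`-algebra is the kernel of a point -/
theorem exists_of_isMaximal [Algebra.FiniteType ℂ A] (M : Ideal A) (hM : M.IsMaximal) :
    ∃ φ : CPt A, ∀ a ∈ M, φ a = 0 := by
  letI := Ideal.Quotient.field M
  have hfin : Module.Finite ℂ (A ⧸ M) := finite_of_finite_type_of_isJacobsonRing ℂ (A ⧸ M)
  have hint : Algebra.IsIntegral ℂ (A ⧸ M) := Algebra.IsIntegral.of_finite ℂ (A ⧸ M)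
  have hbij : Function.Bijective (algebraMap ℂ (A ⧸ M)) :=
    IsAlgClosed.algebraMap_bijective_of_isIntegral
  let e : ℂ ≃ₐ[ℂ] (A ⧸ M) := AlgEquiv.ofBijective (Algebra.ofId ℂ (A ⧸ M)) hbij
  refine ⟨ofAlgHom (e.symm.toAlgHom.comp (Ideal.Quotient.mkₐ ℂ M)), fun a ha => ?_⟩
  simp only [ofAlgHom_apply, AlgHom.comp_apply, Ideal.Quotient.mkₐ_eq_mk]
  rw [(Ideal.Quotient.eq_zero_iff_mem).2 ha]
  exact map_zero _

end CPt

end Groth.Agent.H21
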