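import Groth.Agent.H21.CPtFinite
import Mathlib.RingTheory.NoetherNormalization

/-!
Density of Zariski-open subsets of irreducible closed subsets in the topology of pointwise
convergence on `ℂ`-points (pure commutative algebra version).
-/

set_option autoImplicit false
open Topology

noncomputable section

namespace Groth.Agent.H21

namespace CPt

/-- In a finite type `ℂ`-domain, the points where a nonzero element does not vanish are dense. -/
theorem mem_closure_ne_zero {A : Type*} [CommRing A] [Algebra ℂ A] [IsDomain A]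
    [Algebra.FiniteType ℂ A] (g : A) (hg : g ≠ 0) (φ₀ : CPt A) :
    φ₀ ∈ closure {φ : CPt A | φ g ≠ 0} := by
  obtain ⟨d, ν, hinj, hint⟩ := exists_integral_inj_algHom_of_fg ℂ A
  letI : Algebra (MvPolynomial (Fin d) ℂ) A := ν.toRingHom.toAlgebra
  haveI : IsScalarTower ℂ (MvPolynomial (Fin d) ℂ) A :=
    IsScalarTower.of_algebraMap_eq fun c => (ν.commutes c).symm
  haveI : Algebra.IsIntegral (MvPolynomial (Fin d) ℂ) A := Algebra.isIntegral_def.2 hint
  have hinj' : Function.Injective (algebraMap (MvPolynomial (Fin d) ℂ) A) := hinj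
  have hgint : IsIntegral (MvPolynomial (Fin d) ℂ) g := Algebra.IsIntegral.isIntegral g
  have hGm : (minpoly (MvPolynomial (Fin d) ℂ) g).Monic := minpoly.monic hgint
  have hc : (minpoly (MvPolynomial (Fin d) ℂ) g).coeff 0 ≠ 0 := by
    intro h0
    obtain ⟨G', hG'⟩ := Polynomial.X_dvd_iff.2 h0
    have h1 : Polynomial.aeval g (minpoly (MvPolynomial (Fin d) ℂ) g) = 0 := minpoly.aeval _ g
    rw [hG', map_mul, Polynomial.aeval_X] at h1
    have h2 : Polynomial.aeval g G' = 0 := (mul_eq_zero.1 h1).resolve_left hg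
    have hG'm : G'.Monic := by
      rw [hG'] at hGm
      exact Polynomial.Monic.of_mul_monic_left Polynomial.monic_X hGm
    have hdeg := Polynomial.natDegree_le_natDegree (minpoly.min (MvPolynomial (Fin d) ℂ) g hG'm h2)
    rw [hG', Polynomial.natDegree_X_mul hG'm.ne_zero] at hdeg
    omega
  have hdvd : g ∣ algebraMap (MvPolynomial (Fin d) ℂ) A
      ((minpoly (MvPolynomial (Fin d) ℂ) g).coeff 0) := by
    have h1 : Polynomial.aeval g (minpoly (MvPolynomial (Fin d) ℂ) g) = 0 := minpoly.aeval _ g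
    rw [← Polynomial.divX_mul_X_add (minpoly (MvPolynomial (Fin d) ℂ) g), map_add, map_mul,
      Polynomial.aeval_X, Polynomial.aeval_C] at h1
    refine ⟨-(Polynomial.aeval g (minpoly (MvPolynomial (Fin d) ℂ) g).divX), ?_⟩
    linear_combination h1
  have hdense := dense_eval_ne_zero _ hc
  have h1 := mem_closure_preimage_proj hinj' φ₀
    {y | MvPolynomial.eval y ((minpoly (MvPolynomial (Fin d) ℂ) g).coeff 0) ≠ 0} (hdense _)
  refine closure_mono ?_ h1
  intro φ hφ hg0
  apply hφ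
  rw [← apply_algebraMap_R]
  obtain ⟨b, hb⟩ := hdvd
  rw [hb, map_mul, hg0, zero_mul]

/-- For a prime ideal `P` of a finite type `ℂ`-algebra and `g ∉ P`, the points of `V(P)` where `g`
does not vanish are dense in the points of `V(P)`. -/
theorem mem_closure_of_prime {A : Type*} [CommRing A] [Algebra ℂ A] [Algebra.FiniteType ℂ A]
    (P : Ideal A) [P.IsPrime] (g : A) (hg : g ∉ P) (φ₀ : CPt A) (hφ₀ : ∀ a ∈ P, φ₀ a = 0) :
    φ₀ ∈ closure {φ : CPt A | (∀ a ∈ P, φ a = 0) ∧ φ g ≠ 0} := by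
  haveI : Algebra.FiniteType ℂ (A ⧸ P) :=
    Algebra.FiniteType.of_surjective (Ideal.Quotient.mkₐ ℂ P) (Ideal.Quotient.mkₐ_surjective ℂ P)
  let φb : CPt (A ⧸ P) := ofAlgHom (Ideal.Quotient.liftₐ P (toAlgHom φ₀) hφ₀)
  have h0 : comap (Ideal.Quotient.mkₐ ℂ P) φb = φ₀ := by
    ext a
    simp [φb]
  have hgb : Ideal.Quotient.mk P g ≠ 0 := by
    rwa [Ne, Ideal.Quotient.eq_zero_iff_mem]
  have h1 := mem_closure_ne_zero (Ideal.Quotient.mk P g) hgb φb
  have h3 : comap (Ideal.Quotient.mkₐ ℂ P) φb ∈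
      closure (comap (Ideal.Quotient.mkₐ ℂ P) '' {φ | φ (Ideal.Quotient.mk P g) ≠ 0}) :=
    image_closure_subset_closure_image (continuous_comap _) ⟨φb, h1, rfl⟩
  rw [h0] at h3
  refine closure_mono ?_ h3
  rintro _ ⟨φ, hφ, rfl⟩
  refine ⟨fun a ha => ?_, hφ⟩
  simp only [comap_apply, Ideal.Quotient.mkₐ_eq_mk]
  rw [Ideal.Quotient.eq_zero_iff_mem.2 ha, map_zero]

end CPt

end Groth.Agent.H21
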