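import Groth.Agent.H21.HypersurfConn
import Groth.Agent.H21.CPtDense
import Mathlib.FieldTheory.PrimitiveElement
import Mathlib.FieldTheory.Perfect
import Mathlib.RingTheory.Algebraic.Integral
import Mathlib.FieldTheory.Minpoly.IsIntegrallyClosed
import Mathlib.RingTheory.Localization.Integer
import Mathlib.RingTheory.Localization.Integral
import Mathlib.RingTheory.FiniteType
import Mathlib.RingTheory.IntegralClosure.IsIntegralClosure.Basic

/-!
The `ℂ`-points of a finite type `ℂ`-domain form a connected space.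
-/

set_option autoImplicit false
open Topology Filter

noncomputable section

namespace Groth.Agent.H21

namespace CPtConn

section PE

open scoped IntermediateField nonZeroDivisors

attribute [local instance] FractionRing.liftAlgebra FractionRing.isScalarTower_liftAlgebra

variable (R A : Type*) [CommRing R] [IsDomain R] [CommRing A] [IsDomain A] [Algebra R A]
  [Module.Finite R A] [Module.IsTorsionFree R A] [CharZero R]

/-- primitive element: after inverting a nonzero element of `R`, every element of `A` is a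
polynomial in `h` -/
theorem exists_primitive :
    ∃ h : A, ∀ b : A, ∃ r : R, r ≠ 0 ∧ ∃ P : Polynomial R, r • b = Polynomial.aeval h P := by
  obtain ⟨α, hα⟩ := Field.exists_primitive_element (FractionRing R) (FractionRing A)
  obtain ⟨⟨a, ⟨m, hm⟩⟩, hαa⟩ :=
    IsLocalization.surj (Algebra.algebraMapSubmonoid A R⁰) α
  obtain ⟨r₀, hr₀, rfl⟩ := hm
  have hαa' : α * algebraMap A (FractionRing A) (algebraMap R A r₀) =
      algebraMap A (FractionRing A) a := hαa
  have hr₀0 : r₀ ≠ 0 := nonZeroDivisors.ne_zero hr₀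
  have hc : algebraMap A (FractionRing A) (algebraMap R A r₀) =
      algebraMap (FractionRing R) (FractionRing A) (algebraMap R (FractionRing R) r₀) := by
    rw [← IsScalarTower.algebraMap_apply R A (FractionRing A),
      ← IsScalarTower.algebraMap_apply R (FractionRing R) (FractionRing A)]
  have hk : algebraMap R (FractionRing R) r₀ ≠ 0 := by
    rw [Ne, IsFractionRing.to_map_eq_zero_iff]
    exact hr₀0
  have hck : algebraMap (FractionRing R) (FractionRing A) (algebraMap R (FractionRing R) r₀) ≠ 0 := by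
    rw [Ne, map_eq_zero]
    exact hk
  have hα' : α = (algebraMap R (FractionRing R) r₀)⁻¹ • algebraMap A (FractionRing A) a := by
    rw [Algebra.smul_def, map_inv₀, ← hαa', hc]
    field_simp
  have htop : (FractionRing R)⟮algebraMap A (FractionRing A) a⟯ = ⊤ := by
    rw [eq_top_iff, ← hα, IntermediateField.adjoin_simple_le_iff, hα']
    exact IntermediateField.smul_mem _ (IntermediateField.mem_adjoin_simple_self _ _)
  refine ⟨a, fun b => ?_⟩
  have halg : IsAlgebraic (FractionRing R) (algebraMap A (FractionRing A) a) :=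
    Algebra.IsAlgebraic.isAlgebraic _
  have hb' : algebraMap A (FractionRing A) b ∈
      ((FractionRing R)⟮algebraMap A (FractionRing A) a⟯).toSubalgebra := by
    rw [htop]
    exact Algebra.mem_top
  rw [IntermediateField.adjoin_simple_toSubalgebra_of_isAlgebraic halg,
    Algebra.adjoin_singleton_eq_range_aeval] at hb'
  obtain ⟨p, hp⟩ := hb'
  obtain ⟨r, hr, hP⟩ := IsLocalization.integerNormalization_spec R⁰ p
  refine ⟨r, nonZeroDivisors.ne_zero hr, IsLocalization.integerNormalization R⁰ p, ?_⟩
  apply IsFractionRing.injective A (FractionRing A)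
  have h1 : algebraMap A (FractionRing A) (r • b) = r • algebraMap A (FractionRing A) b := by
    rw [Algebra.smul_def, map_mul, ← IsScalarTower.algebraMap_apply R A (FractionRing A),
      Algebra.smul_def]
  have h2 : algebraMap A (FractionRing A)
      (Polynomial.aeval a (IsLocalization.integerNormalization R⁰ p)) =
      Polynomial.aeval (algebraMap A (FractionRing A) a)
        (IsLocalization.integerNormalization R⁰ p) :=
    (Polynomial.aeval_algebraMap_apply (FractionRing A) a _).symm
  have h3 : Polynomial.aeval (algebraMap A (FractionRing A) a)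
      (IsLocalization.integerNormalization R⁰ p) =
      Polynomial.aeval (algebraMap A (FractionRing A) a)
        ((IsLocalization.integerNormalization R⁰ p).map (algebraMap R (FractionRing R))) :=
    (Polynomial.aeval_map_algebraMap (FractionRing R) _ _).symm
  have hp' : (Polynomial.aeval (algebraMap A (FractionRing A) a)) p =
      algebraMap A (FractionRing A) b := hp
  rw [h1, h2, h3, hP, ← algebraMap_smul (FractionRing R) r p, map_smul, hp', algebraMap_smul]

/-- generic separability of the minimal polynomial of an element of `A` -/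
theorem exists_bezout [IsIntegrallyClosed R] (h : A) :
    ∃ (a b : Polynomial R) (g₂ : R), g₂ ≠ 0 ∧
      a * minpoly R h + b * (minpoly R h).derivative = Polynomial.C g₂ := by
  have hint : IsIntegral R h := Algebra.IsIntegral.isIntegral h
  have hinjL : Function.Injective (algebraMap A (FractionRing A)) :=
    IsFractionRing.injective A (FractionRing A)
  have hint' : IsIntegral R (algebraMap A (FractionRing A) h) := hint.algebraMap
  have hmin : minpoly (FractionRing R) (algebraMap A (FractionRing A) h) =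
      (minpoly R h).map (algebraMap R (FractionRing R)) := by
    rw [minpoly.isIntegrallyClosed_eq_field_fractions' (FractionRing R) hint',
      minpoly.algebraMap_eq hinjL]
  have hsep : (minpoly (FractionRing R) (algebraMap A (FractionRing A) h)).Separable :=
    Algebra.IsSeparable.isSeparable (FractionRing R) _
  rw [hmin] at hsep
  obtain ⟨a, b, hab⟩ := hsep
  rw [Polynomial.derivative_map] at hab
  obtain ⟨ra, hra, ha⟩ := IsLocalization.integerNormalization_spec R⁰ a
  obtain ⟨rb, hrb, hb⟩ := IsLocalization.integerNormalization_spec R⁰ b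
  refine ⟨Polynomial.C rb * IsLocalization.integerNormalization R⁰ a,
    Polynomial.C ra * IsLocalization.integerNormalization R⁰ b, ra * rb,
    mul_ne_zero (nonZeroDivisors.ne_zero hra) (nonZeroDivisors.ne_zero hrb), ?_⟩
  apply Polynomial.map_injective (algebraMap R (FractionRing R))
    (IsFractionRing.injective R (FractionRing R))
  have ha' : (IsLocalization.integerNormalization R⁰ a).map (algebraMap R (FractionRing R)) =
      Polynomial.C (algebraMap R (FractionRing R) ra) * a := by
    rw [ha, ← algebraMap_smul (FractionRing R) ra a, Polynomial.smul_eq_C_mul]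
  have hb' : (IsLocalization.integerNormalization R⁰ b).map (algebraMap R (FractionRing R)) =
      Polynomial.C (algebraMap R (FractionRing R) rb) * b := by
    rw [hb, ← algebraMap_smul (FractionRing R) rb b, Polynomial.smul_eq_C_mul]
  simp only [Polynomial.map_add, Polynomial.map_mul, Polynomial.map_C, ha', hb', map_mul]
  linear_combination (Polynomial.C (algebraMap R (FractionRing R) ra) *
    Polynomial.C (algebraMap R (FractionRing R) rb)) * hab

end PE

section main

variable {d : ℕ} {A : Type*} [CommRing A] [Algebra ℂ A]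
  [Algebra (MvPolynomial (Fin d) ℂ) A] [IsScalarTower ℂ (MvPolynomial (Fin d) ℂ) A]

theorem apply_aeval_R (φ : CPt A) (a : A) (P : Polynomial (MvPolynomial (Fin d) ℂ)) :
    φ (Polynomial.aeval a P) = (P.map (MvPolynomial.eval (CPt.proj φ))).eval (φ a) := by
  rw [Polynomial.eval_map]
  have h1 := Polynomial.hom_eval₂ P (algebraMap (MvPolynomial (Fin d) ℂ) A)
    (CPt.toAlgHom φ : A →+* ℂ) a
  rw [CPt.comp_algebraMap_R] at h1
  rw [Polynomial.aeval_def]
  exact h1

end main

/-- **The `ℂ`-points of a finite type `ℂ`-domain are connected.** -/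
theorem preconnectedSpace_of_isDomain (A : Type*) [CommRing A] [Algebra ℂ A] [IsDomain A]
    [Algebra.FiniteType ℂ A] : PreconnectedSpace (CPt A) := by
  classical
  obtain ⟨d, ν, hinj, hint⟩ := exists_integral_inj_algHom_of_fg ℂ A
  letI : Algebra (MvPolynomial (Fin d) ℂ) A := ν.toRingHom.toAlgebra
  haveI : IsScalarTower ℂ (MvPolynomial (Fin d) ℂ) A :=
    IsScalarTower.of_algebraMap_eq fun c => (ν.commutes c).symm
  haveI : Algebra.IsIntegral (MvPolynomial (Fin d) ℂ) A := Algebra.isIntegral_def.2 hint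
  have hinj' : Function.Injective (algebraMap (MvPolynomial (Fin d) ℂ) A) := hinj
  haveI : Module.IsTorsionFree (MvPolynomial (Fin d) ℂ) A :=
    Module.isTorsionFree_iff_algebraMap_injective.2 hinj'
  haveI : Algebra.FiniteType (MvPolynomial (Fin d) ℂ) A :=
    Algebra.FiniteType.of_restrictScalars_finiteType ℂ (MvPolynomial (Fin d) ℂ) A
  haveI : Module.Finite (MvPolynomial (Fin d) ℂ) A := Algebra.IsIntegral.finite
  obtain ⟨h, hprim⟩ := exists_primitive (MvPolynomial (Fin d) ℂ) A
  have hhint : IsIntegral (MvPolynomial (Fin d) ℂ) h := Algebra.IsIntegral.isIntegral h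
  have hFm : (minpoly (MvPolynomial (Fin d) ℂ) h).Monic := minpoly.monic hhint
  have hFirr : Irreducible (minpoly (MvPolynomial (Fin d) ℂ) h) := minpoly.irreducible hhint
  obtain ⟨a, b, g₂, hg₂, hab⟩ := exists_bezout (MvPolynomial (Fin d) ℂ) A h
  obtain ⟨s, hs⟩ := (Algebra.FiniteType.out : (⊤ : Subalgebra ℂ A).FG)
  choose r hr0 P hP using hprim
  set g : MvPolynomial (Fin d) ℂ := (∏ x ∈ s, r x) * g₂ with hgdef
  have hg0 : g ≠ 0 :=
    mul_ne_zero (Finset.prod_ne_zero_iff.2 fun x _ => hr0 x) hg₂
  -- separability on the locus `g ≠ 0`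
  have hsep : ∀ t, MvPolynomial.eval t g ≠ 0 →
      (Hyp.Ft (minpoly (MvPolynomial (Fin d) ℂ) h) t).Separable := by
    intro t ht
    have ht2 : MvPolynomial.eval t g₂ ≠ 0 := by
      intro h0
      apply ht
      rw [hgdef, map_mul, h0, mul_zero]
    have hab' := congrArg (Polynomial.map (MvPolynomial.eval t)) hab
    simp only [Polynomial.map_add, Polynomial.map_mul, Polynomial.map_C,
      ← Polynomial.derivative_map] at hab'
    refine ⟨Polynomial.C (MvPolynomial.eval t g₂)⁻¹ * a.map (MvPolynomial.eval t),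
      Polynomial.C (MvPolynomial.eval t g₂)⁻¹ * b.map (MvPolynomial.eval t), ?_⟩
    unfold Hyp.Ft
    calc Polynomial.C (MvPolynomial.eval t g₂)⁻¹ * a.map (MvPolynomial.eval t) *
          (minpoly (MvPolynomial (Fin d) ℂ) h).map (MvPolynomial.eval t) +
        Polynomial.C (MvPolynomial.eval t g₂)⁻¹ * b.map (MvPolynomial.eval t) *
          Polynomial.derivative ((minpoly (MvPolynomial (Fin d) ℂ) h).map (MvPolynomial.eval t))
        = Polynomial.C (MvPolynomial.eval t g₂)⁻¹ * Polynomial.C (MvPolynomial.eval t g₂) := by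
          rw [← hab']
          ring
      _ = 1 := by
          rw [← Polynomial.C_mul, inv_mul_cancel₀ ht2, Polynomial.C_1]
  have hS := Hyp.isPreconnected_hyp (g := g) hFm hFirr hsep
  -- the comparison map
  let Θ : CPt A → (Fin d → ℂ) × ℂ := fun φ => (CPt.proj φ, φ h)
  have hΘc : Continuous Θ := CPt.continuous_proj.prodMk (CPt.continuous_eval h)
  have hΘp : IsProperMap Θ :=
    isProperMap_of_comp_of_t2 hΘc continuous_fst (CPt.isProperMap_proj (A := A) (d := d))
  have hΘcl : IsClosedMap Θ := hΘp.isClosedMap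
  let W : Set (CPt A) := {φ | MvPolynomial.eval (CPt.proj φ) g ≠ 0}
  have hΘW : ∀ φ ∈ W, Θ φ ∈ Hyp.hyp (minpoly (MvPolynomial (Fin d) ℂ) h) g := by
    intro φ hφ
    exact ⟨hφ, CPt.isRoot_map φ h _ (minpoly.aeval (MvPolynomial (Fin d) ℂ) h)⟩
  have hΘinj : ∀ φ₁ ∈ W, ∀ φ₂ : CPt A, Θ φ₁ = Θ φ₂ → φ₁ = φ₂ := by
    intro φ₁ h₁ φ₂ h12
    have hproj : (CPt.proj φ₁ : Fin d → ℂ) = CPt.proj φ₂ := congrArg Prod.fst h12
    have hh : φ₁ h = φ₂ h := congrArg Prod.snd h12
    have hgen : ∀ x ∈ s, φ₁ x = φ₂ x := by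
      intro x hx
      have hrx : MvPolynomial.eval (CPt.proj φ₁) (r x) ≠ 0 := by
        intro h0
        apply h₁
        rw [hgdef, map_mul, map_prod, Finset.prod_eq_zero hx h0, zero_mul]
      have e1 : ∀ φ : CPt A, MvPolynomial.eval (CPt.proj φ) (r x) * φ x =
          ((P x).map (MvPolynomial.eval (CPt.proj φ))).eval (φ h) := by
        intro φ
        rw [← apply_aeval_R, ← hP x, Algebra.smul_def, map_mul, CPt.apply_algebraMap_R]
      have e2 := e1 φ₁
      have e3 := e1 φ₂
      rw [← hproj, ← hh, ← e2] at e3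
      exact (mul_left_cancel₀ hrx e3).symm
    have : CPt.toAlgHom φ₁ = CPt.toAlgHom φ₂ := AlgHom.ext_of_adjoin_eq_top hs hgen
    exact this
  have hW : IsPreconnected W := by
    rw [isPreconnected_closed_iff]
    intro t t' ht ht' hsub hne hne'
    have hS' := (isPreconnected_closed_iff.1 hS) (Θ '' t) (Θ '' t') (hΘcl t ht) (hΘcl t' ht') ?_ ?_ ?_
    · obtain ⟨p, hpS, ⟨φ₁, hφ₁, rfl⟩, ⟨φ₂, hφ₂, h21⟩⟩ := hS'
      have hφ₁W : φ₁ ∈ W := hpS.1
      have h12 : φ₁ = φ₂ := hΘinj φ₁ hφ₁W φ₂ h21.symm
      exact ⟨φ₁, hφ₁W, hφ₁, h12 ▸ hφ₂⟩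
    · rintro ⟨y, T⟩ ⟨hy, hT⟩
      obtain ⟨φ, hφ1, hφ2⟩ := CPt.exists_lift hinj' h y T hT
      have hφW : φ ∈ W := by
        show MvPolynomial.eval (CPt.proj φ) g ≠ 0
        rw [hφ1]
        exact hy
      have hΘφ : Θ φ = (y, T) := Prod.ext hφ1 hφ2
      rcases hsub hφW with h | h
      · exact Or.inl ⟨φ, h, hΘφ⟩
      · exact Or.inr ⟨φ, h, hΘφ⟩
    · obtain ⟨φ, hφW, hφt⟩ := hne
      exact ⟨Θ φ, hΘW φ hφW, φ, hφt, rfl⟩
    · obtain ⟨φ, hφW, hφt⟩ := hne'
      exact ⟨Θ φ, hΘW φ hφW, φ, hφt, rfl⟩
  have hcl : closure W = Set.univ := by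
    rw [Set.eq_univ_iff_forall]
    intro φ₀
    have hne : algebraMap (MvPolynomial (Fin d) ℂ) A g ≠ 0 := by
      rw [Ne, ← map_zero (algebraMap (MvPolynomial (Fin d) ℂ) A)]
      exact fun h0 => hg0 (hinj' h0)
    have := CPt.mem_closure_ne_zero (algebraMap (MvPolynomial (Fin d) ℂ) A g) hne φ₀
    refine closure_mono ?_ this
    intro φ hφ
    show MvPolynomial.eval (CPt.proj φ) g ≠ 0
    rw [← CPt.apply_algebraMap_R]
    exact hφ
  exact ⟨by rw [← hcl]; exact hW.closure⟩

/-- the points of a finite type `ℂ`-algebra killing a prime ideal form a preconnected set -/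
theorem isPreconnected_zeroLocus_of_isPrime {A : Type*} [CommRing A] [Algebra ℂ A]
    [Algebra.FiniteType ℂ A] (P : Ideal A) [P.IsPrime] :
    IsPreconnected {φ : CPt A | ∀ a ∈ P, φ a = 0} := by
  haveI : Algebra.FiniteType ℂ (A ⧸ P) :=
    Algebra.FiniteType.of_surjective (Ideal.Quotient.mkₐ ℂ P) (Ideal.Quotient.mkₐ_surjective ℂ P)
  haveI := preconnectedSpace_of_isDomain (A ⧸ P)
  have hrange : {φ : CPt A | ∀ a ∈ P, φ a = 0} =
      Set.range (CPt.comap (Ideal.Quotient.mkₐ ℂ P)) := by
    ext φ
    constructor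
    · intro hφ
      refine ⟨CPt.ofAlgHom (Ideal.Quotient.liftₐ P (CPt.toAlgHom φ) hφ), ?_⟩
      ext a
      show (Ideal.Quotient.liftₐ P (CPt.toAlgHom φ) hφ) (Ideal.Quotient.mkₐ ℂ P a) = φ a
      rw [Ideal.Quotient.mkₐ_eq_mk, Ideal.Quotient.liftₐ_apply, Ideal.Quotient.lift_mk]
      rfl
    · rintro ⟨ψ, rfl⟩ a ha
      show ψ (Ideal.Quotient.mkₐ ℂ P a) = 0
      rw [Ideal.Quotient.mkₐ_eq_mk, Ideal.Quotient.eq_zero_iff_mem.2 ha, map_zero]
  rw [hrange]
  exact isPreconnected_range (CPt.continuous_comap _)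

end CPtConn

end Groth.Agent.H21
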