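import Groth.Agent.H21.CPtFinite
import Mathlib.RingTheory.Etale.StandardEtale
import Mathlib.Algebra.Polynomial.Taylor
import Mathlib.Analysis.Calculus.MeanValue
import Mathlib.Analysis.Calculus.Deriv.Polynomial
import Mathlib.Topology.IsLocalHomeomorph

/-!
`ℂ`-points of a standard etale algebra: the restriction map to the points of the base is a local
homeomorphism.
-/

set_option autoImplicit false
open Topology TopologicalSpace Polynomial

noncomputable section

namespace Groth.Agent.H21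

namespace CPt

/-- a monic complex polynomial with a small value at `t₀` has a root close to `t₀` -/
theorem exists_root_near (q : ℂ[X]) (hq : q.Monic) (hd : 0 < q.natDegree) (t₀ : ℂ) (ε : ℝ)
    (hε : 0 < ε) (h : ‖q.eval t₀‖ < ε ^ q.natDegree) : ∃ t, q.IsRoot t ∧ ‖t - t₀‖ < ε := by
  have hmon : (taylor t₀ q).Monic := by
    rw [Polynomial.Monic, leadingCoeff_taylor]
    exact hq
  have hdeg : (taylor t₀ q).natDegree = q.natDegree := natDegree_taylor q t₀
  obtain ⟨s, hs, hsn⟩ := exists_small_root (taylor t₀ q) hmon (by rw [hdeg]; exact hd)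
  rw [hdeg, taylor_coeff_zero] at hsn
  refine ⟨s + t₀, ?_, ?_⟩
  · rw [Polynomial.IsRoot.def, ← taylor_eval]
    exact hs
  · rw [add_sub_cancel_right]
    exact lt_of_pow_lt_pow_left₀ q.natDegree hε.le (lt_of_le_of_lt hsn h)

section stdEtale

variable {R S : Type*} [CommRing R] [CommRing S] [Algebra ℂ R] [Algebra ℂ S] [Algebra R S]
  [IsScalarTower ℂ R S]

/-- restriction of points along `R → S` -/
def res (ψ : CPt S) : CPt R := comap (IsScalarTower.toAlgHom ℂ R S) ψ

theorem res_apply (ψ : CPt S) (r : R) : res ψ r = ψ (algebraMap R S r) := rfl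

theorem continuous_res : Continuous (res : CPt S → CPt R) := continuous_comap _

/-- the value of a polynomial with coefficients in `R` at a pair `(φ, t)` -/
def pev (q : R[X]) (a : CPt R × ℂ) : ℂ := q.eval₂ ((toAlgHom a.1 : R →ₐ[ℂ] ℂ) : R →+* ℂ) a.2

theorem pev_eq_sum (q : R[X]) (a : CPt R × ℂ) :
    pev q a = ∑ k ∈ Finset.range (q.natDegree + 1), a.1 (q.coeff k) * a.2 ^ k := by
  rw [pev, Polynomial.eval₂_eq_sum_range]
  rfl

theorem continuous_pev (q : R[X]) : Continuous (pev q) := by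
  have : pev q = fun a : CPt R × ℂ =>
      ∑ k ∈ Finset.range (q.natDegree + 1), a.1 (q.coeff k) * a.2 ^ k := by
    funext a
    exact pev_eq_sum q a
  rw [this]
  exact continuous_finsetSum _ fun k _ =>
    ((continuous_eval (q.coeff k)).comp continuous_fst).mul (continuous_snd.pow k)

theorem pev_eq_eval_map (q : R[X]) (φ : CPt R) (t : ℂ) :
    pev q (φ, t) = (q.map ((toAlgHom φ : R →ₐ[ℂ] ℂ) : R →+* ℂ)).eval t := by
  rw [pev, Polynomial.eval_map]

variable (P : StandardEtalePresentation R S)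

/-- the chart `ψ ↦ (ψ|_R, ψ x)` -/
def Phi (ψ : CPt S) : CPt R × ℂ := (res ψ, ψ P.x)

theorem apply_aeval_x (ψ : CPt S) (q : R[X]) : ψ (aeval P.x q) = pev q (Phi P ψ) := by
  rw [Polynomial.aeval_def]
  have h := Polynomial.hom_eval₂ q (algebraMap R S) ((toAlgHom ψ : S →ₐ[ℂ] ℂ) : S →+* ℂ) P.x
  exact h

theorem pev_f_eq_zero (ψ : CPt S) : pev P.f (Phi P ψ) = 0 := by
  rw [← apply_aeval_x, P.hasMap.1, map_zero]

theorem pev_g_ne_zero (ψ : CPt S) : pev P.g (Phi P ψ) ≠ 0 := by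
  rw [← apply_aeval_x]
  exact (P.hasMap.2.map (toAlgHom ψ)).ne_zero

theorem pev_f'_ne_zero (ψ : CPt S) : pev (derivative P.f) (Phi P ψ) ≠ 0 := by
  rw [← apply_aeval_x]
  exact (P.hasMap.isUnit_derivative_f.map (toAlgHom ψ)).ne_zero

theorem natDegree_f_pos [Nonempty (CPt S)] : 0 < P.f.natDegree := by
  obtain ⟨ψ⟩ := ‹Nonempty (CPt S)›
  rw [Nat.pos_iff_ne_zero]
  intro h0
  have h1 : P.f = 1 := (P.monic_f.natDegree_eq_zero).1 h0
  have h2 := pev_f_eq_zero P ψ
  rw [h1, pev, Polynomial.eval₂_one] at h2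
  exact one_ne_zero h2

theorem apply_eq_div (ψ : CPt S) (s : S) (p : R[X]) (n : ℕ)
    (h : s * aeval P.x P.g ^ n = aeval P.x p) :
    ψ s = pev p (Phi P ψ) / pev P.g (Phi P ψ) ^ n := by
  have h1 := congrArg ψ h
  rw [map_mul, map_pow, apply_aeval_x, apply_aeval_x] at h1
  rw [← h1, mul_div_assoc, div_self (pow_ne_zero n (pev_g_ne_zero P ψ)), mul_one]

theorem Phi_injective : Function.Injective (Phi P) := by
  intro ψ ψ' h
  ext s
  obtain ⟨p, n, hp⟩ := P.exists_mul_aeval_x_g_pow_eq_aeval_x s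
  rw [apply_eq_div P ψ s p n hp, apply_eq_div P ψ' s p n hp, h]

theorem continuous_Phi : Continuous (Phi P) :=
  continuous_res.prodMk (continuous_eval P.x)

theorem isInducing_Phi : IsInducing (Phi P) := by
  refine ⟨le_antisymm (continuous_iff_le_induced.1 (continuous_Phi P)) ?_⟩
  rw [← continuous_id_iff_le]
  have hΦ : @Continuous _ _ (TopologicalSpace.induced (Phi P) inferInstance) _ (Phi P) :=
    continuous_induced_dom
  refine @continuous_of_eval S _ _ (CPt S) (TopologicalSpace.induced (Phi P) inferInstance) id ?_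
  intro s
  obtain ⟨p, n, hp⟩ := P.exists_mul_aeval_x_g_pow_eq_aeval_x s
  have h1 : (fun ψ : CPt S => (id ψ) s) =
      (fun a : CPt R × ℂ => pev p a / pev P.g a ^ n) ∘ Phi P := by
    funext ψ
    exact apply_eq_div P ψ s p n hp
  rw [h1]
  refine @ContinuousOn.comp_continuous _ _ _ (TopologicalSpace.induced (Phi P) inferInstance) _ _
    _ _ {a | pev P.g a ≠ 0} ?_ hΦ (fun ψ => pev_g_ne_zero P ψ)
  exact (continuous_pev p).continuousOn.div ((continuous_pev P.g).pow n).continuousOn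
    (fun a ha => pow_ne_zero n ha)

theorem exists_of_root (φ : CPt R) (t : ℂ) (h1 : pev P.f (φ, t) = 0) (h2 : pev P.g (φ, t) ≠ 0) :
    ∃ ψ : CPt S, Phi P ψ = (φ, t) := by
  letI : Algebra R ℂ := ((toAlgHom φ : R →ₐ[ℂ] ℂ) : R →+* ℂ).toAlgebra
  have hmap : P.HasMap (t : ℂ) := by
    refine ⟨?_, ?_⟩
    · rw [Polynomial.aeval_def]
      exact h1
    · rw [Polynomial.aeval_def]
      exact isUnit_iff_ne_zero.2 h2
  let ψ₀ : S →ₐ[R] ℂ := (P.lift t hmap).comp P.equivRing.toAlgHom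
  have hx : ψ₀ P.x = t := by
    simp [ψ₀]
  have hcomm : ∀ r : R, ψ₀ (algebraMap R S r) = φ r := fun r => ψ₀.commutes r
  let ψ : S →ₐ[ℂ] ℂ :=
    { ψ₀.toRingHom with
      commutes' := fun c => by
        change ψ₀ (algebraMap ℂ S c) = c
        rw [IsScalarTower.algebraMap_apply ℂ R S, hcomm]
        exact apply_algebraMap φ c }
  refine ⟨ofAlgHom ψ, ?_⟩
  refine Prod.ext ?_ hx
  ext r
  exact hcomm r

include P in
theorem isOpenMap_res : IsOpenMap (res : CPt S → CPt R) := by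
  apply IsOpenMap.of_nhds_le
  intro ψ₀ N hN
  rw [Filter.mem_map, (isInducing_Phi P).nhds_eq_comap, Filter.mem_comap] at hN
  obtain ⟨M, hM, hMN⟩ := hN
  haveI : Nonempty (CPt S) := ⟨ψ₀⟩
  obtain ⟨V₁, hV₁, W, hW, hVW⟩ := mem_nhds_prod_iff.1 hM
  have hg : ∀ᶠ a in 𝓝 (Phi P ψ₀), pev P.g a ≠ 0 :=
    (continuous_pev P.g).continuousAt.eventually_ne (pev_g_ne_zero P ψ₀)
  obtain ⟨V₂, hV₂, W₂, hW₂, hVW₂⟩ := mem_nhds_prod_iff.1 hg
  obtain ⟨ε, hε, hball⟩ := Metric.mem_nhds_iff.1 (Filter.inter_mem hW hW₂)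
  have hn : 0 < P.f.natDegree := natDegree_f_pos P
  have hroot : ∀ᶠ φ in 𝓝 (res ψ₀), ‖pev P.f (φ, ψ₀ P.x)‖ < ε ^ P.f.natDegree := by
    have hc : Continuous fun φ : CPt R => ‖pev P.f (φ, ψ₀ P.x)‖ :=
      ((continuous_pev P.f).comp (Continuous.prodMk continuous_id continuous_const)).norm
    have h0 : ‖pev P.f (res ψ₀, ψ₀ P.x)‖ < ε ^ P.f.natDegree := by
      have := pev_f_eq_zero P ψ₀
      rw [Phi] at this
      rw [this, norm_zero]
      positivity
    exact hc.continuousAt.eventually_lt continuousAt_const h0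
  filter_upwards [hV₁, hV₂, hroot] with φ h1 h2 h3
  set q := P.f.map ((toAlgHom φ : R →ₐ[ℂ] ℂ) : R →+* ℂ) with hq
  have hqm : q.Monic := P.monic_f.map _
  have hqd : q.natDegree = P.f.natDegree := P.monic_f.natDegree_map _
  rw [pev_eq_eval_map, ← hq, ← hqd] at h3
  obtain ⟨t, htroot, htdist⟩ := exists_root_near q hqm (by rw [hqd]; exact hn) (ψ₀ P.x) ε hε h3
  have htW : t ∈ W ∩ W₂ := hball (by rwa [Metric.mem_ball, dist_eq_norm])
  have htroot' : pev P.f (φ, t) = 0 := by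
    rw [pev_eq_eval_map]
    exact htroot
  obtain ⟨ψ, hψ⟩ := exists_of_root P φ t htroot' (hVW₂ (Set.mk_mem_prod h2 htW.2))
  have h4 : ψ ∈ Phi P ⁻¹' M := by
    change Phi P ψ ∈ M
    rw [hψ]
    exact hVW (Set.mk_mem_prod h1 htW.1)
  have h5 : res ψ ∈ N := hMN h4
  have h6 : res ψ = φ := congrArg Prod.fst hψ
  rwa [h6] at h5

include P in
theorem exists_nhds_injOn (ψ₀ : CPt S) : ∃ N ∈ 𝓝 ψ₀, Set.InjOn (res : CPt S → CPt R) N := by
  set c := pev (derivative P.f) (Phi P ψ₀) with hc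
  have hc0 : c ≠ 0 := pev_f'_ne_zero P ψ₀
  have hcpos : 0 < ‖c‖ := norm_pos_iff.2 hc0
  have hev : ∀ᶠ a in 𝓝 (Phi P ψ₀), ‖pev (derivative P.f) a - c‖ < ‖c‖ / 3 := by
    have hcont := (continuous_pev (derivative P.f)).continuousAt (x := Phi P ψ₀)
    have := hcont (Metric.ball_mem_nhds c (by positivity : (0 : ℝ) < ‖c‖ / 3))
    filter_upwards [this] with a ha
    rwa [Set.mem_preimage, Metric.mem_ball, dist_eq_norm] at ha
  obtain ⟨V, hV, W, hW, hVW⟩ := mem_nhds_prod_iff.1 hev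
  obtain ⟨δ, hδ, hball⟩ := Metric.mem_nhds_iff.1 hW
  refine ⟨Phi P ⁻¹' (V ×ˢ Metric.ball (ψ₀ P.x) δ), ?_, ?_⟩
  · exact (continuous_Phi P).continuousAt (prod_mem_nhds hV (Metric.ball_mem_nhds _ hδ))
  · intro ψ hψ ψ' hψ' hres
    apply Phi_injective P
    refine Prod.ext hres ?_
    change ψ P.x = ψ' P.x
    set φ : CPt R := res ψ with hφ
    set t₀ := ψ₀ P.x with ht₀
    set q := P.f.map ((toAlgHom φ : R →ₐ[ℂ] ℂ) : R →+* ℂ) with hq
    have hqd : ∀ ξ, q.derivative.eval ξ = pev (derivative P.f) (φ, ξ) := by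
      intro ξ
      rw [pev_eq_eval_map, hq, Polynomial.derivative_map]
    have hφV : φ ∈ V := hψ.1
    have hbd : ∀ ξ ∈ Metric.ball t₀ δ, ‖q.derivative.eval ξ - c‖ < ‖c‖ / 3 := by
      intro ξ hξ
      rw [hqd]
      exact hVW (Set.mk_mem_prod hφV (hball hξ))
    have ht₀mem : t₀ ∈ Metric.ball t₀ δ := Metric.mem_ball_self hδ
    set d := q.derivative.eval t₀ with hd
    have hdc : ‖d - c‖ < ‖c‖ / 3 := hbd t₀ ht₀mem
    have hdlow : 2 * ‖c‖ / 3 < ‖d‖ := by
      have h1 : ‖c‖ ≤ ‖d‖ + ‖d - c‖ := by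
        have := norm_sub_le d (d - c)
        rw [sub_sub_cancel] at this
        exact this
      linarith
    have ht : ψ P.x ∈ Metric.ball t₀ δ := hψ.2
    have ht' : ψ' P.x ∈ Metric.ball t₀ δ := hψ'.2
    have hr : q.eval (ψ P.x) = 0 := by
      rw [hq, ← pev_eq_eval_map]
      exact pev_f_eq_zero P ψ
    have hr' : q.eval (ψ' P.x) = 0 := by
      rw [hq, ← pev_eq_eval_map, hres]
      exact pev_f_eq_zero P ψ'
    -- mean value inequality
    let F : ℂ → ℂ := fun ξ => q.eval ξ - d * ξ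
    have hF : ∀ ξ ∈ Metric.ball t₀ δ,
        HasDerivWithinAt F (q.derivative.eval ξ - d) (Metric.ball t₀ δ) ξ := by
      intro ξ _
      have h1 : HasDerivAt F (q.derivative.eval ξ - d * 1) ξ :=
        (q.hasDerivAt ξ).sub ((hasDerivAt_id ξ).const_mul d)
      rw [mul_one] at h1
      exact h1.hasDerivWithinAt
    have hbound : ∀ ξ ∈ Metric.ball t₀ δ, ‖q.derivative.eval ξ - d‖ ≤ 2 * ‖c‖ / 3 := by
      intro ξ hξ
      have h1 := hbd ξ hξ
      have h2 : ‖q.derivative.eval ξ - d‖ ≤ ‖q.derivative.eval ξ - c‖ + ‖d - c‖ := by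
        have := norm_sub_le (q.derivative.eval ξ - c) (d - c)
        rw [sub_sub_sub_cancel_right] at this
        exact this
      linarith
    have hmv := Convex.norm_image_sub_le_of_norm_hasDerivWithin_le hF hbound
      (convex_ball t₀ δ) ht' ht
    have hFF : F (ψ P.x) - F (ψ' P.x) = - (d * (ψ P.x - ψ' P.x)) := by
      simp only [F, hr, hr']
      ring
    rw [hFF, norm_neg, norm_mul] at hmv
    by_contra hne
    have hpos : 0 < ‖ψ P.x - ψ' P.x‖ := norm_pos_iff.2 (sub_ne_zero.2 hne)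
    have : ‖d‖ ≤ 2 * ‖c‖ / 3 := le_of_mul_le_mul_right hmv hpos
    linarith

include P in
theorem isLocalHomeomorph_res_of_presentation : IsLocalHomeomorph (res : CPt S → CPt R) := by
  rw [isLocalHomeomorph_iff_isOpenEmbedding_restrict]
  intro ψ₀
  obtain ⟨N, hN, hinj⟩ := exists_nhds_injOn P ψ₀
  obtain ⟨N', hN'N, hN'open, hmem⟩ := mem_nhds_iff.1 hN
  refine ⟨N', hN'open.mem_nhds hmem, ?_⟩
  rw [isOpenEmbedding_iff_continuous_injective_isOpenMap]
  refine ⟨continuous_res.comp continuous_subtype_val, ?_, ?_⟩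
  · intro a b hab
    exact Subtype.ext (hinj (hN'N a.2) (hN'N b.2) hab)
  · exact (isOpenMap_res P).comp hN'open.isOpenMap_subtype_val

end stdEtale

/-- the points of a standard etale algebra map by a local homeomorphism to the points of the base -/
theorem isLocalHomeomorph_res {R S : Type*} [CommRing R] [CommRing S] [Algebra ℂ R] [Algebra ℂ S]
    [Algebra R S] [IsScalarTower ℂ R S] [Algebra.IsStandardEtale R S] :
    IsLocalHomeomorph (res : CPt S → CPt R) :=
  isLocalHomeomorph_res_of_presentation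
    (Algebra.IsStandardEtale.nonempty_standardEtalePresentation (R := R) (S := S)).some

end CPt

end Groth.Agent.H21
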