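import Groth.Agent.H21.CPt
import Mathlib.Analysis.Polynomial.CauchyBound
import Mathlib.FieldTheory.Minpoly.IsIntegrallyClosed
import Mathlib.RingTheory.Ideal.GoingUp
import Mathlib.RingTheory.Polynomial.UniqueFactorization
import Mathlib.Topology.Maps.Proper.Basic
import Mathlib.Topology.Maps.Proper.CompactlyGenerated
import Mathlib.Algebra.Polynomial.Splits
import Mathlib.RingTheory.IntegralClosure.IsIntegralClosure.Basic
import Mathlib.RingTheory.Polynomial.RationalRoot
import Mathlib.Analysis.Analytic.Polynomial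
import Mathlib.Analysis.Analytic.Uniqueness
import Mathlib.Algebra.MvPolynomial.Funext

/-!
Finite (integral) algebras over a polynomial ring: the induced map on `ℂ`-points is proper with
finite fibres, and (for domains) open in the sense that preimages of closures are closures of
preimages.
-/

set_option autoImplicit false
open Topology

noncomputable section

namespace Groth.Agent.H21

namespace CPt

/-- bound for the roots of a monic complex polynomial -/
theorem norm_le_of_isRoot_monic (p : Polynomial ℂ) (hp : p.Monic) (t : ℂ) (ht : p.IsRoot t) :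
    ‖t‖ ≤ 1 + ∑ i ∈ Finset.range p.natDegree, ‖p.coeff i‖ := by
  have h1 := Polynomial.IsRoot.norm_lt_cauchyBound hp.ne_zero ht
  have h2 : Polynomial.cauchyBound p ≤ 1 + ∑ i ∈ Finset.range p.natDegree, ‖p.coeff i‖₊ := by
    unfold Polynomial.cauchyBound
    rw [hp.leadingCoeff, nnnorm_one, div_one, add_comm]
    refine add_le_add_right ?_ 1
    exact Finset.sup_le fun i hi =>
      Finset.single_le_sum_of_canonicallyOrdered (f := fun i => ‖p.coeff i‖₊) hi
  have h3 : (‖t‖₊ : ℝ) ≤ ((1 + ∑ i ∈ Finset.range p.natDegree, ‖p.coeff i‖₊ : NNReal) : ℝ) := by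
    exact_mod_cast (h1.le.trans h2)
  simpa using h3

/-- a monic complex polynomial of positive degree has a root whose norm is controlled by the
constant coefficient -/
theorem exists_small_root (p : Polynomial ℂ) (hp : p.Monic) (hd : 0 < p.natDegree) :
    ∃ t, p.IsRoot t ∧ ‖t‖ ^ p.natDegree ≤ ‖p.coeff 0‖ := by
  classical
  have hs : p.Splits := IsAlgClosed.splits p
  have hcard : p.roots.card = p.natDegree := (Polynomial.splits_iff_card_roots).1 hs
  have hne : p.roots.toFinset.Nonempty := by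
    rw [Multiset.toFinset_nonempty]
    intro h0
    rw [h0] at hcard
    simp at hcard
    omega
  obtain ⟨t, ht, hmin⟩ := Finset.exists_min_image p.roots.toFinset (fun r => ‖r‖) hne
  refine ⟨t, (Polynomial.mem_roots hp.ne_zero).1 (Multiset.mem_toFinset.1 ht), ?_⟩
  have hprod : p.coeff 0 = (-1) ^ p.natDegree * p.roots.prod :=
    hs.coeff_zero_eq_prod_roots_of_monic hp
  rw [hprod, norm_mul, norm_pow, norm_neg, norm_one, one_pow, one_mul, ← hcard]
  have h1 : ‖p.roots.prod‖ = (p.roots.map (fun r => ‖r‖)).prod := by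
    have := map_multiset_prod (normHom : ℂ →*₀ ℝ) p.roots
    simpa using this
  have h2 : ‖t‖ ^ p.roots.card = (p.roots.map (fun _ => ‖t‖)).prod := by
    simp [Multiset.map_const', Multiset.prod_replicate]
  rw [h1, h2]
  exact Multiset.prod_map_le_prod_map₀ _ _ (fun _ _ => norm_nonneg _)
    (fun r hr => hmin r (Multiset.mem_toFinset.2 hr))

/-- nonvanishing locus of a nonzero polynomial is dense -/
theorem dense_eval_ne_zero {d : ℕ} (c : MvPolynomial (Fin d) ℂ) (hc : c ≠ 0) :
    Dense {y : Fin d → ℂ | MvPolynomial.eval y c ≠ 0} := by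
  rw [dense_iff_inter_open]
  intro U hU hUne
  by_contra hcon
  rw [Set.not_nonempty_iff_eq_empty] at hcon
  obtain ⟨y₀, hy₀⟩ := hUne
  have hzero : ∀ y ∈ U, MvPolynomial.eval y c = 0 := by
    intro y hy
    by_contra h
    exact (Set.eq_empty_iff_forall_notMem.1 hcon y) ⟨hy, h⟩
  have han : AnalyticOnNhd ℂ (fun y : Fin d → ℂ => MvPolynomial.eval y c) Set.univ :=
    AnalyticOnNhd.eval_mvPolynomial c
  have hev : (fun y : Fin d → ℂ => MvPolynomial.eval y c) =ᶠ[𝓝 y₀] 0 :=
    Filter.eventually_of_mem (hU.mem_nhds hy₀) hzero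
  have h := han.eqOn_zero_of_preconnected_of_eventuallyEq_zero isPreconnected_univ
    (Set.mem_univ y₀) hev
  apply hc
  apply MvPolynomial.funext
  intro y
  simpa using h (Set.mem_univ y)

section finite

variable {d : ℕ} {A : Type*} [CommRing A] [Algebra ℂ A]
  [Algebra (MvPolynomial (Fin d) ℂ) A] [IsScalarTower ℂ (MvPolynomial (Fin d) ℂ) A]

/-- the projection to `ℂ^d` -/
def proj (φ : CPt A) : Fin d → ℂ :=
  evz (fun i => algebraMap (MvPolynomial (Fin d) ℂ) A (MvPolynomial.X i)) φ

omit [IsScalarTower ℂ (MvPolynomial (Fin d) ℂ) A] in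
theorem continuous_proj : Continuous (proj : CPt A → Fin d → ℂ) := continuous_evz _

theorem apply_algebraMap_R (φ : CPt A) (r : MvPolynomial (Fin d) ℂ) :
    φ (algebraMap (MvPolynomial (Fin d) ℂ) A r) = MvPolynomial.eval (proj φ) r := by
  have h := MvPolynomial.aeval_unique (IsScalarTower.toAlgHom ℂ (MvPolynomial (Fin d) ℂ) A)
  have h2 : algebraMap (MvPolynomial (Fin d) ℂ) A r =
      MvPolynomial.aeval (fun i => algebraMap (MvPolynomial (Fin d) ℂ) A (MvPolynomial.X i)) r := by
    have := congrArg (fun ψ : MvPolynomial (Fin d) ℂ →ₐ[ℂ] A => ψ r) h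
    simpa [Function.comp_def] using this
  rw [h2, apply_aeval]
  rfl

theorem comp_algebraMap_R (φ : CPt A) :
    ((toAlgHom φ : A →+* ℂ)).comp (algebraMap (MvPolynomial (Fin d) ℂ) A) =
      MvPolynomial.eval (proj φ) :=
  RingHom.ext fun r => apply_algebraMap_R φ r

theorem isRoot_map (φ : CPt A) (a : A) (P : Polynomial (MvPolynomial (Fin d) ℂ))
    (h : Polynomial.aeval a P = 0) :
    (P.map (MvPolynomial.eval (proj φ))).IsRoot (φ a) := by
  rw [Polynomial.IsRoot.def, Polynomial.eval_map]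
  have h1 := Polynomial.hom_eval₂ P (algebraMap (MvPolynomial (Fin d) ℂ) A)
    (toAlgHom φ : A →+* ℂ) a
  rw [← Polynomial.aeval_def, h, map_zero, comp_algebraMap_R] at h1
  exact h1.symm

omit [IsScalarTower ℂ (MvPolynomial (Fin d) ℂ) A] in
/-- coordinates on `A` together with integral equations -/
theorem exists_coords [Algebra.FiniteType ℂ A] [Algebra.IsIntegral (MvPolynomial (Fin d) ℂ) A] :
    ∃ (n : ℕ) (z : Fin n → A) (P : Fin n → Polynomial (MvPolynomial (Fin d) ℂ)),
      Function.Surjective (MvPolynomial.aeval z : MvPolynomial (Fin n) ℂ →ₐ[ℂ] A) ∧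
      ∀ j, (P j).Monic ∧ Polynomial.aeval (z j) (P j) = 0 := by
  obtain ⟨n, f, hf⟩ := Algebra.FiniteType.iff_quotient_mvPolynomial''.1
    (inferInstance : Algebra.FiniteType ℂ A)
  let z : Fin n → A := fun j => f (MvPolynomial.X j)
  have hz : Function.Surjective (MvPolynomial.aeval z : MvPolynomial (Fin n) ℂ →ₐ[ℂ] A) := by
    have : (MvPolynomial.aeval z : MvPolynomial (Fin n) ℂ →ₐ[ℂ] A) = f :=
      (MvPolynomial.aeval_unique f).symm
    rw [this]
    exact hf
  have hint : ∀ j, ∃ P : Polynomial (MvPolynomial (Fin d) ℂ),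
      P.Monic ∧ Polynomial.aeval (z j) P = 0 := fun j =>
    Algebra.IsIntegral.isIntegral (R := MvPolynomial (Fin d) ℂ) (z j)
  choose P hP using hint
  exact ⟨n, z, P, hz, hP⟩

theorem isProperMap_proj [Algebra.FiniteType ℂ A]
    [Algebra.IsIntegral (MvPolynomial (Fin d) ℂ) A] :
    IsProperMap (proj : CPt A → Fin d → ℂ) := by
  rw [isProperMap_iff_isCompact_preimage]
  refine ⟨continuous_proj, fun K hK => ?_⟩
  obtain ⟨n, z, P, hz, hP⟩ := exists_coords (d := d) (A := A)
  let B : Fin n → (Fin d → ℂ) → ℝ := fun j y =>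
    1 + ∑ i ∈ Finset.range (P j).natDegree, ‖MvPolynomial.eval y ((P j).coeff i)‖
  have hB : ∀ j, Continuous (B j) := fun j =>
    continuous_const.add (continuous_finsetSum _ fun i _ =>
      (MvPolynomial.continuous_eval _).norm)
  have hbound : ∀ φ : CPt A, ∀ j, ‖φ (z j)‖ ≤ B j (proj φ) := by
    intro φ j
    have hr := isRoot_map φ (z j) (P j) (hP j).2
    have hm : ((P j).map (MvPolynomial.eval (proj φ))).Monic := (hP j).1.map _
    have := norm_le_of_isRoot_monic _ hm _ hr
    rw [(hP j).1.natDegree_map] at this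
    simpa [B, Polynomial.coeff_map] using this
  have hM : ∀ j, ∃ M, ∀ y ∈ K, B j y ≤ M := fun j => by
    obtain ⟨M, hM⟩ := hK.exists_bound_of_continuousOn (hB j).continuousOn
    exact ⟨M, fun y hy => (le_abs_self _).trans (by simpa using hM y hy)⟩
  choose M hM using hM
  have hcpt : IsCompact (Set.pi Set.univ fun j => Metric.closedBall (0 : ℂ) (M j)) :=
    isCompact_univ_pi fun j => isCompact_closedBall _ _
  have hemb := isClosedEmbedding_evz z hz
  have h1 := hemb.isCompact_preimage hcpt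
  refine h1.of_isClosed_subset (hK.isClosed.preimage continuous_proj) ?_
  intro φ hφ
  simp only [Set.mem_preimage, Set.mem_pi, Set.mem_univ, forall_true_left,
    mem_closedBall_zero_iff]
  intro j
  exact (hbound φ j).trans (hM j _ hφ)

theorem finite_fibre [Algebra.FiniteType ℂ A] [Algebra.IsIntegral (MvPolynomial (Fin d) ℂ) A]
    (y : Fin d → ℂ) : {φ : CPt A | proj φ = y}.Finite := by
  obtain ⟨n, z, P, hz, hP⟩ := exists_coords (d := d) (A := A)
  have hfin : (Set.pi Set.univ fun j =>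
      {t : ℂ | ((P j).map (MvPolynomial.eval y)).IsRoot t}).Finite :=
    Set.Finite.pi fun j => Polynomial.finite_setOfPred_isRoot ((hP j).1.map _).ne_zero
  refine (hfin.preimage (evz_injective z hz).injOn).subset ?_
  intro φ hφ
  simp only [Set.mem_preimage, Set.mem_pi, Set.mem_univ, forall_true_left]
  intro j
  have := isRoot_map φ (z j) (P j) (hP j).2
  rw [hφ] at this
  exact this

theorem exists_sep [Algebra.FiniteType ℂ A] [Algebra.IsIntegral (MvPolynomial (Fin d) ℂ) A]
    (φ₀ : CPt A) :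
    ∃ f : A, φ₀ f = 0 ∧ ∀ φ : CPt A, proj φ = (proj φ₀ : Fin d → ℂ) → φ f = 0 → φ = φ₀ := by
  classical
  have hfin := finite_fibre (A := A) (proj φ₀ : Fin d → ℂ)
  let s : Finset (CPt A) := hfin.toFinset.erase φ₀
  by_contra hcon
  push Not at hcon
  have hsub : ((RingHom.ker (toAlgHom φ₀ : A →+* ℂ) : Ideal A) : Set A) ⊆
      ⋃ φ ∈ (s : Set (CPt A)), ((RingHom.ker (toAlgHom φ : A →+* ℂ) : Ideal A) : Set A) := by
    intro f hf
    obtain ⟨φ, h1, h2, h3⟩ := hcon f hf
    simp only [Set.mem_iUnion]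
    refine ⟨φ, ?_, h2⟩
    simp [s, h1, h3]
  obtain ⟨φ, hφs, hle⟩ := (Ideal.subset_union_prime (R := A)
    (f := fun φ : CPt A => (RingHom.ker (toAlgHom φ : A →+* ℂ) : Ideal A)) φ₀ φ₀
    (fun φ _ _ _ => RingHom.ker_isPrime _)).1 hsub
  have h : φ₀ = φ := eq_of_ker_le fun a ha => hle ha
  have hφs' : φ ∈ hfin.toFinset.erase φ₀ := hφs
  exact (Finset.mem_erase.1 hφs').1 h.symm

section domain

variable [IsDomain A] [Algebra.FiniteType ℂ A] [Algebra.IsIntegral (MvPolynomial (Fin d) ℂ) A]
  (hinj : Function.Injective (algebraMap (MvPolynomial (Fin d) ℂ) A))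

include hinj

theorem exists_lift (f : A) (y : Fin d → ℂ) (t : ℂ)
    (ht : ((minpoly (MvPolynomial (Fin d) ℂ) f).map (MvPolynomial.eval y)).IsRoot t) :
    ∃ φ : CPt A, proj φ = y ∧ φ f = t := by
  have hf : IsIntegral (MvPolynomial (Fin d) ℂ) f := Algebra.IsIntegral.isIntegral f
  haveI : Module.IsTorsionFree (MvPolynomial (Fin d) ℂ) A :=
    Module.isTorsionFree_iff_algebraMap_injective.2 hinj
  let ψ : Polynomial (MvPolynomial (Fin d) ℂ) →+* ℂ :=
    Polynomial.eval₂RingHom (MvPolynomial.eval y) t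
  have hψsurj : Function.Surjective ψ := fun c =>
    ⟨Polynomial.C (MvPolynomial.C c), by simp [ψ]⟩
  have hmax : (RingHom.ker ψ).IsMaximal := RingHom.ker_isMaximal_of_surjective ψ hψsurj
  let α : Polynomial (MvPolynomial (Fin d) ℂ) →+* A :=
    (Polynomial.aeval f : Polynomial (MvPolynomial (Fin d) ℂ) →ₐ[MvPolynomial (Fin d) ℂ] A).toRingHom
  have hker : RingHom.ker α ≤ RingHom.ker ψ := by
    rw [minpoly.ker_eval hf, Ideal.span_le]
    intro p hp
    rw [Set.mem_singleton_iff] at hp
    rw [hp]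
    change ψ (minpoly (MvPolynomial (Fin d) ℂ) f) = 0
    rw [Polynomial.IsRoot.def, Polynomial.eval_map] at ht
    exact ht
  have hαint : α.IsIntegral := by
    have h1 : (α.comp Polynomial.C) = algebraMap (MvPolynomial (Fin d) ℂ) A := by
      ext r <;> simp [α]
    have h2 : (algebraMap (MvPolynomial (Fin d) ℂ) A).IsIntegral :=
      fun x => Algebra.IsIntegral.isIntegral x
    exact RingHom.IsIntegral.tower_top Polynomial.C α (h1 ▸ h2)
  have hne : (RingHom.ker ψ).map α ≠ ⊤ := by
    rw [Ne, Ideal.map_eq_top_iff_of_ker_le α hker hαint]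
    exact hmax.ne_top
  obtain ⟨M, hM, hle⟩ := Ideal.exists_le_maximal _ hne
  obtain ⟨φ, hφ⟩ := exists_of_isMaximal M hM
  refine ⟨φ, ?_, ?_⟩
  · funext i
    have h1 : Polynomial.C (MvPolynomial.X i - MvPolynomial.C (y i)) ∈ RingHom.ker ψ := by
      simp [ψ, RingHom.mem_ker]
    have h2 : α (Polynomial.C (MvPolynomial.X i - MvPolynomial.C (y i))) ∈ M :=
      hle (Ideal.mem_map_of_mem α h1)
    have h3 := hφ _ h2
    have h4 : α (Polynomial.C (MvPolynomial.X i - MvPolynomial.C (y i))) =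
        algebraMap (MvPolynomial (Fin d) ℂ) A (MvPolynomial.X i) - algebraMap ℂ A (y i) := by
      simp only [α, AlgHom.toRingHom_eq_coe, RingHom.coe_coe, Polynomial.aeval_C, map_sub]
      rw [IsScalarTower.algebraMap_apply ℂ (MvPolynomial (Fin d) ℂ) A (y i)]
      rfl
    rw [h4, map_sub, apply_algebraMap, sub_eq_zero] at h3
    exact h3
  · have h1 : (Polynomial.X - Polynomial.C (MvPolynomial.C t)) ∈ RingHom.ker ψ := by
      simp [ψ, RingHom.mem_ker]
    have h2 : α (Polynomial.X - Polynomial.C (MvPolynomial.C t)) ∈ M :=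
      hle (Ideal.mem_map_of_mem α h1)
    have h3 := hφ _ h2
    have h4 : α (Polynomial.X - Polynomial.C (MvPolynomial.C t)) = f - algebraMap ℂ A t := by
      simp only [α, AlgHom.toRingHom_eq_coe, RingHom.coe_coe, Polynomial.aeval_C, map_sub,
        Polynomial.aeval_X]
      rw [IsScalarTower.algebraMap_apply ℂ (MvPolynomial (Fin d) ℂ) A t]
      rfl
    rw [h4, map_sub, apply_algebraMap, sub_eq_zero] at h3
    exact h3

/-- openness of the projection, in closure form -/
theorem mem_closure_preimage_proj (φ₀ : CPt A) (S : Set (Fin d → ℂ))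
    (hS : (proj φ₀ : Fin d → ℂ) ∈ closure S) : φ₀ ∈ closure (proj ⁻¹' S) := by
  obtain ⟨f, hf0, hfsep⟩ := exists_sep (d := d) φ₀
  have hfint : IsIntegral (MvPolynomial (Fin d) ℂ) f := Algebra.IsIntegral.isIntegral f
  have hFm : (minpoly (MvPolynomial (Fin d) ℂ) f).Monic := minpoly.monic hfint
  have hmpos : 0 < (minpoly (MvPolynomial (Fin d) ℂ) f).natDegree := minpoly.natDegree_pos hfint
  have ha0 : MvPolynomial.eval (proj φ₀) ((minpoly (MvPolynomial (Fin d) ℂ) f).coeff 0) = 0 := by
    have hr := isRoot_map φ₀ f _ (minpoly.aeval (MvPolynomial (Fin d) ℂ) f)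
    rw [hf0, Polynomial.IsRoot.def, ← Polynomial.coeff_zero_eq_eval_zero,
      Polynomial.coeff_map] at hr
    exact hr
  let E : Set (CPt A) := {φ | (proj φ : Fin d → ℂ) ∈ S ∧
    ‖φ f‖ ^ (minpoly (MvPolynomial (Fin d) ℂ) f).natDegree ≤
      ‖MvPolynomial.eval (proj φ) ((minpoly (MvPolynomial (Fin d) ℂ) f).coeff 0)‖}
  have hE1 : S ⊆ proj '' E := by
    intro y hy
    have hmon : ((minpoly (MvPolynomial (Fin d) ℂ) f).map (MvPolynomial.eval y)).Monic :=
      hFm.map _
    have hdeg : ((minpoly (MvPolynomial (Fin d) ℂ) f).map (MvPolynomial.eval y)).natDegree =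
        (minpoly (MvPolynomial (Fin d) ℂ) f).natDegree := hFm.natDegree_map _
    obtain ⟨t, ht, htn⟩ := exists_small_root _ hmon (by rw [hdeg]; exact hmpos)
    obtain ⟨φ, hφy, hφf⟩ := exists_lift hinj f y t ht
    refine ⟨φ, ⟨by rw [hφy]; exact hy, ?_⟩, hφy⟩
    rw [hφf, hφy]
    rw [hdeg, Polynomial.coeff_map] at htn
    exact htn
  have hclosed : IsClosedMap (proj : CPt A → Fin d → ℂ) := isProperMap_proj.isClosedMap
  have h2 : closure S ⊆ proj '' closure E :=
    (closure_mono hE1).trans (hclosed.closure_image_subset E)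
  obtain ⟨φ', hφ'E, hφ'y⟩ := h2 hS
  have hEc : closure E ⊆ {φ : CPt A |
      ‖φ f‖ ^ (minpoly (MvPolynomial (Fin d) ℂ) f).natDegree ≤
      ‖MvPolynomial.eval (proj φ) ((minpoly (MvPolynomial (Fin d) ℂ) f).coeff 0)‖} := by
    apply closure_minimal (fun φ hφ => hφ.2)
    exact isClosed_le ((continuous_eval f).norm.pow _)
      (((MvPolynomial.continuous_eval _).comp continuous_proj).norm)
  have h3 := hEc hφ'E
  simp only [Set.mem_ofPred_eq] at h3
  rw [hφ'y, ha0, norm_zero] at h3
  have h4 : φ' f = 0 := by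
    have h5 : ‖φ' f‖ ^ (minpoly (MvPolynomial (Fin d) ℂ) f).natDegree = 0 :=
      le_antisymm h3 (by positivity)
    exact norm_eq_zero.1 ((pow_eq_zero_iff hmpos.ne').1 h5)
  have h5 : φ' = φ₀ := hfsep φ' hφ'y h4
  rw [← h5]
  exact closure_mono (fun φ hφ => hφ.1) hφ'E

end domain

end finite

end CPt

end Groth.Agent.H21
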