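import Mathlib
import Groth.Agent.H8.QCohPush
import Groth.Agent.H18.Serre.Generation
import Groth.Agent.H22.QCohH1
import Groth.Agent.H22.QCohLimits

/-!
# Pushforward along an affine morphism preserves epimorphisms of quasi-coherent modules (helper21)
-/

set_option autoImplicit false
set_option linter.style.haveILetI false

universe u

open CategoryTheory CategoryTheory.Limits AlgebraicGeometry TopologicalSpace Opposite

namespace Groth.Agent.H21.EpiPush

/-- An epimorphism of quasi-coherent modules is surjective on sections over affine opens. -/
theorem app_surjective_of_epi {X : Scheme.{u}} {E N : X.Modules} [E.IsQuasicoherent]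
    [N.IsQuasicoherent] (π : E ⟶ N) [Epi π] {U : X.Opens} (hU : IsAffineOpen U) :
    Function.Surjective (π.app U) := by
  let S : ShortComplex X.Modules := ShortComplex.mk (kernel.ι π) π (kernel.condition π)
  have hS : S.ShortExact :=
    { exact := ShortComplex.exact_kernel π
      mono_f := inferInstanceAs (Mono (kernel.ι π))
      epi_g := inferInstanceAs (Epi π) }
  haveI : S.X₁.IsQuasicoherent := Groth.Agent.H22.QCohLimits.isQuasicoherent_kernel π
  exact Groth.Agent.H22.QCohH1.app_surjective S hS hU

theorem epi_pushforward_map {X Y : Scheme.{u}} (f : X ⟶ Y) [IsAffineHom f] {E N : X.Modules}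
    [E.IsQuasicoherent] [N.IsQuasicoherent] (π : E ⟶ N) [Epi π] :
    Epi ((Scheme.Modules.pushforward f).map π) := by
  haveI : ((Scheme.Modules.pushforward f).obj N).IsQuasicoherent :=
    Groth.Agent.H8.isQuasicoherent_pushforward f N
  refine Groth.Agent.H18.Serre.epi_of_surjective_affine_cover _
    (fun V : Y.affineOpens => V.1) ?_ (fun V => V.2) ?_
  · exact iSup_affineOpens_eq_top Y
  · intro V
    exact app_surjective_of_epi π (V.2.preimage f)

end Groth.Agent.H21.EpiPush
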