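import Mathlib
import Groth.Prelude
import Groth.Agent.H8.DevMain2
import Groth.Agent.H8.DevIS
import Groth.Agent.H9.Dev_TF

set_option autoImplicit false
set_option linter.style.haveILetI false
universe u
open CategoryTheory CategoryTheory.Limits AlgebraicGeometry TopologicalSpace Opposite
open scoped ZeroObject
open Coherent Groth.Agent.H8.Dev

namespace Groth.Agent.H21.Dev3_SMALL
variable {X : Scheme.{u}}

/-- (SMALL) -/
theorem SMALL (X : Scheme.{u}) [IsNoetherian X]
    (Z₀ : Set X) (hZ₀ : IsClosed Z₀) (ξ : X) (hξ : ξ ∈ Z₀ ∧ closure {ξ} = Z₀)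
    (P : X.Modules → Prop) (hP : ∀ M N : X.Modules, Nonempty (M ≅ N) → P M → P N)
    (h₀ : ∀ M : X.Modules, IsZero M → P M)
    (h₁ : ∀ S : ShortComplex X.Modules, S.ShortExact → Coh.IsCoh S.X₁ → Coh.IsCoh S.X₂ → Coh.IsCoh S.X₃ →
      P S.X₁ → P S.X₃ → P S.X₂)
    (h₃ : ∀ (Z : Scheme.{u}) (i : Z ⟶ X), IsClosedImmersion i → IsIntegral Z →
      Set.range ⇑i ⊆ Z₀ → Set.range ⇑i ≠ Z₀ →
      ∀ (I : Z.Modules) (ι : I ⟶ Coh.structureModule Z), Mono ι → Coh.IsQCoh I → P ((Coh.push i).obj I))
    (H27 : ∀ (P' : X.Modules → Prop), (∀ M N : X.Modules, Nonempty (M ≅ N) → P' M → P' N) →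
      (∀ S : ShortComplex X.Modules, S.ShortExact → Coh.IsCoh S.X₁ → Coh.IsCoh S.X₂ →
        Coh.IsCoh S.X₃ → P' S.X₁ → P' S.X₃ → P' S.X₂) →
      (∀ (Z : Scheme.{u}) (i : Z ⟶ X), IsClosedImmersion i → IsIntegral Z →
        ∀ (I : Z.Modules) (ι : I ⟶ Coh.structureModule Z), Mono ι → Coh.IsQCoh I →
          P' ((Coh.push i).obj I)) →
      ∀ M : X.Modules, Coh.IsCoh M → P' M)
    (N : X.Modules) (hN : Coh.IsCoh N) (hsupp : CohB1.support N ⊆ Z₀)
    (hNξ : Subsingleton ↑(N.presheaf.stalk ξ)) : P N := by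
  classical
  -- transfer of the two conditions along monos and epis
  have hmono : ∀ {A B : X.Modules} (f : A ⟶ B) [Mono f],
      (CohB1.support B ⊆ Z₀ ∧ Subsingleton ↑(B.presheaf.stalk ξ)) →
      (CohB1.support A ⊆ Z₀ ∧ Subsingleton ↑(A.presheaf.stalk ξ)) := by
    intro A B f _ h
    refine ⟨(supp_mono f).trans h.1, ?_⟩
    haveI := h.2
    exact (Groth.Agent.H17.StalkSeq.stalkMap_injective_of_mono f ξ).subsingleton
  have hepi : ∀ {A B : X.Modules} (f : A ⟶ B) [Epi f],
      (CohB1.support A ⊆ Z₀ ∧ Subsingleton ↑(A.presheaf.stalk ξ)) →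
      (CohB1.support B ⊆ Z₀ ∧ Subsingleton ↑(B.presheaf.stalk ξ)) := by
    intro A B f _ h
    refine ⟨(supp_epi f).trans h.1, ?_⟩
    haveI := h.2
    exact (Groth.Agent.H17.StalkSeq.stalkMap_surjective_of_epi f ξ).subsingleton
  refine H27 (fun M => (CohB1.support M ⊆ Z₀ ∧ Subsingleton ↑(M.presheaf.stalk ξ)) → P M)
    ?_ ?_ ?_ N hN ⟨hsupp, hNξ⟩
  · -- iso invariance
    rintro M N' ⟨e⟩ hM hN'
    exact hP M N' ⟨e⟩ (hM (hmono e.hom hN'))
  · -- extensions
    intro S hS c1 c2 c3 p1 p3 h2
    haveI := hS.mono_f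
    haveI := hS.epi_g
    exact h₁ S hS c1 c2 c3 (p1 (hmono S.f h2)) (p3 (hepi S.g h2))
  · -- ideals on integral closed subschemes
    intro Z i hi hZ I ι hι hI hcond
    haveI := hi
    haveI := hZ
    haveI := hι
    by_cases h : Set.range ⇑i ⊆ Z₀ ∧ Set.range ⇑i ≠ Z₀
    · exact h₃ Z i hi hZ h.1 h.2 I ι hι hI
    · apply h₀
      -- the generic point
      have hrange : Set.range ⇑i = closure {i (genericPoint Z)} := by
        have h1 : closure ({genericPoint Z} : Set Z) = Set.univ := genericPoint_spec Z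
        have h2 := i.isClosedEmbedding.closure_image_eq ({genericPoint Z} : Set Z)
        rw [h1, Set.image_univ, Set.image_singleton] at h2
        exact h2.symm
      have hstalk : Subsingleton
          ↑(((Coh.push i).obj I).presheaf.stalk (i (genericPoint Z))) := by
        by_contra hns
        have hmem : i (genericPoint Z) ∈ Z₀ := hcond.1 hns
        have hsub : Set.range ⇑i ⊆ Z₀ := by
          rw [hrange]
          exact hZ₀.closure_subset_iff.mpr (Set.singleton_subset_iff.mpr hmem)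
        have heq : Set.range ⇑i = Z₀ := by
          by_contra hne
          exact h ⟨hsub, hne⟩
        have hgen : i (genericPoint Z) = ξ := by
          have h1 : IsGenericPoint (i (genericPoint Z)) Z₀ := by
            rw [← heq, hrange]
            exact isGenericPoint_closure
          have h2 : IsGenericPoint ξ Z₀ := hξ.2
          exact h1.eq h2
        rw [hgen] at hns
        exact hns hcond.2
      haveI : (Coh.push i).PreservesMonomorphisms :=
        Functor.preservesMonomorphisms_of_adjunction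
          (Scheme.Modules.pullbackPushforwardAdjunction i)
      haveI : Mono ((Coh.push i).map ι) := inferInstance
      let g : (Coh.push i).obj I ⟶
          (Scheme.Modules.pushforward i).obj (Coh.structureModule Z) ⊞
            pw ((Scheme.Modules.pushforward i).obj (Coh.structureModule Z)) 0 :=
        (Coh.push i).map ι ≫ biprod.inl
      have hg : Mono g := mono_comp _ _
      exact @Groth.Agent.H9.Dev_TF.TF X Z i _ _ 1 _ g hg hstalk

end Groth.Agent.H21.Dev3_SMALL
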