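import Mathlib.Analysis.Complex.Liouville
import Mathlib.Analysis.Complex.RemovableSingularity
import Mathlib.LinearAlgebra.Lagrange
import Mathlib.Algebra.MvPolynomial.Funext
import Mathlib.Algebra.MvPolynomial.Equiv

/-!
Entire functions of polynomial growth are polynomials; functions on `ℂ^ι` which are separately
entire and of polynomial growth are polynomial functions.
-/

set_option autoImplicit false
open Topology Filter

noncomputable section

namespace Groth.Agent.H21

namespace EntirePoly

/-- an entire function of polynomial growth is a polynomial -/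
theorem exists_polynomial_of_growth : ∀ (N : ℕ) (f : ℂ → ℂ) (_ : Differentiable ℂ f) (C : ℝ)
    (_ : ∀ s, ‖f s‖ ≤ C * (1 + ‖s‖) ^ N),
    ∃ p : Polynomial ℂ, p.natDegree ≤ N ∧ ∀ s, f s = p.eval s := by
  intro N
  induction N with
  | zero =>
    intro f hf C hC
    have hb : Bornology.IsBounded (Set.range f) := by
      rw [isBounded_iff_forall_norm_le]
      refine ⟨C, ?_⟩
      rintro _ ⟨s, rfl⟩
      simpa using hC s
    obtain ⟨c, hc⟩ := hf.exists_const_forall_eq_of_bounded hb
    exact ⟨Polynomial.C c, by simp, fun s => by simp [hc s]⟩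
  | succ N ih =>
    intro f hf C hC
    have hgd : Differentiable ℂ (dslope f 0) := by
      have h1 : DifferentiableOn ℂ (dslope f 0) Set.univ :=
        (Complex.differentiableOn_dslope (Filter.univ_mem)).2 hf.differentiableOn
      exact differentiableOn_univ.1 h1
    obtain ⟨M, hM⟩ : ∃ M : ℝ, ∀ s ∈ Metric.closedBall (0 : ℂ) 1, ‖dslope f 0 s‖ ≤ M :=
      (isCompact_closedBall (0 : ℂ) 1).exists_bound_of_continuousOn hgd.continuous.continuousOn
    have hC0 : 0 ≤ C := by
      have h := hC 0
      simp only [norm_zero, add_zero, one_pow, mul_one] at h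
      exact le_trans (norm_nonneg _) h
    have hbound : ∀ s, ‖dslope f 0 s‖ ≤ (2 * C + ‖f 0‖ + |M|) * (1 + ‖s‖) ^ N := by
      intro s
      have hA : (1 : ℝ) ≤ (1 + ‖s‖) ^ N := one_le_pow₀ (by linarith [norm_nonneg s])
      have hf0 : 0 ≤ ‖f 0‖ := norm_nonneg _
      have hM0 : 0 ≤ |M| := abs_nonneg M
      by_cases hs : ‖s‖ ≤ 1
      · have h2 : ‖dslope f 0 s‖ ≤ M :=
          hM s (by simpa [Metric.mem_closedBall, dist_zero_right] using hs)
        have h3 : M ≤ |M| := le_abs_self M
        nlinarith
      · push Not at hs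
        have hs0 : s ≠ 0 := by
          intro h
          rw [h, norm_zero] at hs
          linarith
        have hgs : dslope f 0 s = (f s - f 0) / s := by
          rw [dslope_of_ne f hs0, slope_def_field, sub_zero]
        have hx : 0 < ‖s‖ := by linarith
        have h4 : ‖f s - f 0‖ ≤ C * (1 + ‖s‖) ^ N * (1 + ‖s‖) + ‖f 0‖ := by
          have h5 := hC s
          rw [pow_succ, ← mul_assoc] at h5
          exact (norm_sub_le _ _).trans (by linarith)
        rw [hgs, norm_div, div_le_iff₀ hx]
        have hCA : 0 ≤ C * (1 + ‖s‖) ^ N := by positivity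
        have h6 : C * (1 + ‖s‖) ^ N * (1 + ‖s‖) ≤ C * (1 + ‖s‖) ^ N * (2 * ‖s‖) :=
          mul_le_mul_of_nonneg_left (by linarith) hCA
        have h7 : ‖f 0‖ ≤ ‖f 0‖ * (1 + ‖s‖) ^ N * ‖s‖ := by
          have : ‖f 0‖ * 1 ≤ ‖f 0‖ * ((1 + ‖s‖) ^ N * ‖s‖) := by
            apply mul_le_mul_of_nonneg_left _ hf0
            nlinarith
          linarith
        have h8 : 0 ≤ |M| * (1 + ‖s‖) ^ N * ‖s‖ := by positivity
        nlinarith
    obtain ⟨q, hq1, hq2⟩ := ih (dslope f 0) hgd _ hbound
    refine ⟨Polynomial.C (f 0) + Polynomial.X * q, ?_, fun s => ?_⟩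
    · refine (Polynomial.natDegree_add_le _ _).trans ?_
      rw [Polynomial.natDegree_C]
      refine max_le (Nat.zero_le _) ?_
      refine (Polynomial.natDegree_mul_le).trans ?_
      have := Polynomial.natDegree_X_le (R := ℂ)
      omega
    · have h := sub_smul_dslope f 0 s
      rw [sub_zero, smul_eq_mul, hq2 s] at h
      simp only [Polynomial.eval_add, Polynomial.eval_C, Polynomial.eval_mul, Polynomial.eval_X]
      linear_combination -h

theorem eval_aeval_X {ι : Type*} (z : ι → ℂ) (i : ι) (L : Polynomial ℂ) :
    MvPolynomial.eval z (Polynomial.aeval (MvPolynomial.X i : MvPolynomial ι ℂ) L) =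
      L.eval (z i) := by
  induction L using Polynomial.induction_on' with
  | add p q hp hq => simp [hp, hq]
  | monomial n a => simp [Polynomial.aeval_monomial, MvPolynomial.algebraMap_eq]

/-- a function which is a polynomial of bounded degree in each variable separately is a
polynomial function -/
theorem exists_mvPolynomial_of_separately {ι : Type*} [Fintype ι] [DecidableEq ι] (N : ℕ)
    (f : (ι → ℂ) → ℂ)
    (hf : ∀ (z : ι → ℂ) (i : ι), ∃ p : Polynomial ℂ, p.natDegree ≤ N ∧
      ∀ s, f (Function.update z i s) = p.eval s) :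
    ∃ P : MvPolynomial ι ℂ, ∀ z, f z = MvPolynomial.eval z P := by
  have key : ∀ (J : Finset ι) (f : (ι → ℂ) → ℂ),
      (∀ (z : ι → ℂ) (i : ι), ∃ p : Polynomial ℂ, p.natDegree ≤ N ∧
        ∀ s, f (Function.update z i s) = p.eval s) →
      (∀ z z' : ι → ℂ, (∀ i ∈ J, z i = z' i) → f z = f z') →
      ∃ P : MvPolynomial ι ℂ, ∀ z, f z = MvPolynomial.eval z P := by
    intro J
    induction J using Finset.induction_on with
    | empty =>
      intro f _ hdep
      refine ⟨MvPolynomial.C (f 0), fun z => ?_⟩
      rw [MvPolynomial.eval_C]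
      exact hdep z 0 (by simp)
    | insert i J hi ih =>
      intro f hf hdep
      let v : ℕ → ℂ := fun k => (k : ℂ)
      have hv : Set.InjOn v (Finset.range (N + 1) : Set ℕ) :=
        fun a _ b _ h => Nat.cast_injective h
      have hslice : ∀ k : ℕ, ∃ P : MvPolynomial ι ℂ,
          ∀ z, f (Function.update z i (v k)) = MvPolynomial.eval z P := by
        intro k
        apply ih (fun z => f (Function.update z i (v k)))
        · intro z i'
          by_cases hii : i' = i
          · subst hii
            refine ⟨Polynomial.C (f (Function.update z i' (v k))), by simp, fun s => ?_⟩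
            simp only [Function.update_idem, Polynomial.eval_C]
          · obtain ⟨p, hp1, hp2⟩ := hf (Function.update z i (v k)) i'
            refine ⟨p, hp1, fun s => ?_⟩
            show f (Function.update (Function.update z i' s) i (v k)) = Polynomial.eval s p
            rw [Function.update_comm hii]
            exact hp2 s
        · intro z z' hzz'
          apply hdep
          intro j hj
          rcases Finset.mem_insert.1 hj with rfl | hj
          · simp
          · have hne : j ≠ i := fun h => hi (h ▸ hj)
            simp [Function.update_of_ne hne, hzz' j hj]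
      choose P hP using hslice
      refine ⟨∑ k ∈ Finset.range (N + 1),
        Polynomial.aeval (MvPolynomial.X i) (Lagrange.basis (Finset.range (N + 1)) v k) * P k,
        fun z => ?_⟩
      obtain ⟨p, hp1, hp2⟩ := hf z i
      have hdeg : p.degree < (Finset.range (N + 1)).card := by
        rw [Finset.card_range]
        refine lt_of_le_of_lt Polynomial.degree_le_natDegree ?_
        exact_mod_cast Nat.lt_succ_of_le hp1
      have hint := Lagrange.eq_interpolate hv hdeg
      have h1 : f z = p.eval (z i) := by
        have := hp2 (z i)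
        rwa [Function.update_eq_self] at this
      have h2 : p.eval (z i) =
          (Lagrange.interpolate (Finset.range (N + 1)) v fun k => p.eval (v k)).eval (z i) :=
        congrArg (Polynomial.eval (z i)) hint
      rw [h1, h2, map_sum, Lagrange.interpolate_apply, Polynomial.eval_finsetSum]
      refine Finset.sum_congr rfl fun k _ => ?_
      rw [map_mul, eval_aeval_X, Polynomial.eval_mul, Polynomial.eval_C, ← hP k z, ← hp2 (v k),
        mul_comm]
  exact key Finset.univ f hf (fun z z' h => by
    congr 1
    ext i
    exact h i (Finset.mem_univ i))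

/-- separately entire functions of polynomial growth are polynomial functions -/
theorem exists_mvPolynomial_of_differentiable_of_growth {ι : Type*} [Fintype ι] [DecidableEq ι]
    (f : (ι → ℂ) → ℂ)
    (hd : ∀ (z : ι → ℂ) (i : ι), Differentiable ℂ (fun s => f (Function.update z i s)))
    (C : ℝ) (N : ℕ) (hg : ∀ z, ‖f z‖ ≤ C * (1 + ‖z‖) ^ N) :
    ∃ P : MvPolynomial ι ℂ, ∀ z, f z = MvPolynomial.eval z P := by
  apply exists_mvPolynomial_of_separately N f
  intro z i
  apply exists_polynomial_of_growth N _ (hd z i) (C * (1 + ‖z‖) ^ N)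
  intro s
  have hC0 : 0 ≤ C := by
    have h := hg 0
    simp only [norm_zero, add_zero, one_pow, mul_one] at h
    exact le_trans (norm_nonneg _) h
  have h1 : ‖Function.update z i s‖ ≤ ‖z‖ + ‖s‖ := by
    rw [pi_norm_le_iff_of_nonneg (by positivity)]
    intro j
    by_cases hj : j = i
    · subst hj
      simp only [Function.update_self]
      linarith [norm_nonneg z]
    · rw [Function.update_of_ne hj]
      linarith [norm_le_pi_norm z j, norm_nonneg s]
  have h2 : (1 + ‖Function.update z i s‖) ≤ (1 + ‖z‖) * (1 + ‖s‖) := by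
    nlinarith [norm_nonneg z, norm_nonneg s]
  calc ‖f (Function.update z i s)‖ ≤ C * (1 + ‖Function.update z i s‖) ^ N := hg _
    _ ≤ C * ((1 + ‖z‖) * (1 + ‖s‖)) ^ N := by
        apply mul_le_mul_of_nonneg_left _ hC0
        exact pow_le_pow_left₀ (by positivity) h2 N
    _ = C * (1 + ‖z‖) ^ N * (1 + ‖s‖) ^ N := by rw [mul_pow]; ring

end EntirePoly

end Groth.Agent.H21
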