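import Mathlib

set_option autoImplicit false
set_option linter.style.haveILetI false
universe u
open TensorProduct IsLocalRing

namespace Groth.Agent.H21.FFComp

/-- descent of flatness along a faithfully flat module over the top ring -/
theorem flat_of_flat_module_of_faithfullyFlat (A B M : Type u) [CommRing A] [CommRing B]
    [Algebra A B] [AddCommGroup M] [Module A M] [Module B M] [IsScalarTower A B M]
    [Module.FaithfullyFlat B M] [Module.Flat A M] : Module.Flat A B := by
  rw [Module.Flat.iff_lTensor_preserves_injective_linearMap]
  intro N P _ _ _ _ f hf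
  have h1 : Function.Injective (LinearMap.lTensor M f) :=
    Module.Flat.lTensor_preserves_injective_linearMap f hf
  have h2 : Function.Injective
      (LinearMap.lTensor M (AlgebraTensorModule.lTensor B B f)) := by
    have hcomm : ∀ z : M ⊗[B] (B ⊗[A] N),
        AlgebraTensorModule.cancelBaseChange A B B M P
          (LinearMap.lTensor M (AlgebraTensorModule.lTensor B B f) z) =
        LinearMap.lTensor M f (AlgebraTensorModule.cancelBaseChange A B B M N z) := by
      intro z
      induction z using TensorProduct.induction_on with
      | zero => simp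
      | tmul c w =>
        induction w using TensorProduct.induction_on with
        | zero => simp
        | tmul b n =>
          simp [AlgebraTensorModule.cancelBaseChange_tmul]
        | add w1 w2 h1 h2 =>
          rw [TensorProduct.tmul_add, map_add, map_add, h1, h2, map_add, map_add]
      | add z1 z2 h1 h2 => rw [map_add, map_add, h1, h2, map_add, map_add]
    intro z1 z2 hz
    apply (AlgebraTensorModule.cancelBaseChange A B B M N).injective
    apply h1
    rw [← hcomm, ← hcomm, hz]
  exact (Module.FaithfullyFlat.lTensor_injective_iff_injective B M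
    (AlgebraTensorModule.lTensor B B f)).mp h2

variable {A B M : Type u} [CommRing A] [CommRing B] [AddCommGroup M] [Module A M] [Module B M]

theorem alg_forward (φ : A →+* B) (hsm : ∀ (a : A) (m : M), a • m = φ a • m) (hφ : φ.Flat)
    [Module.Flat B M] : Module.Flat A M := by
  letI := φ.toAlgebra
  haveI : IsScalarTower A B M := IsScalarTower.of_algebraMap_smul (fun a m => (hsm a m).symm)
  haveI : Module.Flat A B := hφ
  exact Module.Flat.trans A B M

theorem alg_ne_top [IsLocalRing A] [IsLocalRing B] (φ : A →+* B) [IsLocalHom φ]
    (hsm : ∀ (a : A) (m : M), a • m = φ a • m)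
    (h : maximalIdeal B • (⊤ : Submodule B M) ≠ ⊤) :
    maximalIdeal A • (⊤ : Submodule A M) ≠ ⊤ := by
  intro htop
  apply h
  rw [eq_top_iff]
  intro m _
  have hm : m ∈ maximalIdeal A • (⊤ : Submodule A M) := by rw [htop]; trivial
  refine Submodule.smul_induction_on hm ?_ ?_
  · intro a ha n _
    rw [hsm]
    refine Submodule.smul_mem_smul ?_ trivial
    rw [mem_maximalIdeal, mem_nonunits_iff] at ha ⊢
    intro hu
    exact ha (isUnit_of_map_unit φ a hu)
  · intro x y hx hy
    exact Submodule.add_mem _ hx hy

theorem alg_backward [IsLocalRing B] (φ : A →+* B)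
    (hsm : ∀ (a : A) (m : M), a • m = φ a • m) [Module.Flat B M]
    (h : maximalIdeal B • (⊤ : Submodule B M) ≠ ⊤) [Module.Flat A M] : φ.Flat := by
  letI := φ.toAlgebra
  haveI : IsScalarTower A B M := IsScalarTower.of_algebraMap_smul (fun a m => (hsm a m).symm)
  haveI : Module.FaithfullyFlat B M :=
    ⟨fun m hm => by rw [IsLocalRing.eq_maximalIdeal hm]; exact h⟩
  exact flat_of_flat_module_of_faithfullyFlat A B M

end Groth.Agent.H21.FFComp
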