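import Mathlib
import Groth.Prelude
import Groth.Agent.H18.GlobGen
import Groth.Agent.H18.GlobGenConv
import Groth.Agent.H18.TensorSec
import Groth.Agent.H18.TensorGen

/-!
# Global generation from surjectivity of multiplication maps (for S1647)
-/

set_option autoImplicit false
set_option linter.style.haveILetI false
universe u

open CategoryTheory CategoryTheory.Limits AlgebraicGeometry TopologicalSpace Opposite
open Groth.Agent.H8 (res_res res_smul)
open Groth.Agent.H18.SecTw Groth.Agent.H18.TensorGen Groth.Agent.H18.TensorSec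
open Groth.Agent.H18.GlobGen

noncomputable section

namespace Groth.Agent.H21.GG1647

variable {X : Scheme.{u}}

/-- bridge: the sheafification unit on a pure tensor is `tm` -/
theorem toSheafify_tmul (G N : X.Modules) (m : Γ(G, ⊤)) (p : Γ(N, ⊤)) :
    (toSheafify (Opens.grothendieckTopology X) (CohB1.tensorPre G N).presheaf).app (op ⊤)
      (TensorProduct.tmul ((X.sheaf.obj ⋙ forget₂ CommRingCat RingCat).obj (op ⊤))
        (show (CohB1.toPMod G).obj (op ⊤) from m) (show (CohB1.toPMod N).obj (op ⊤) from p)) =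
      tm G N m p := rfl

/-- every global section in the image of the multiplication map restricts, on an open where `N`
has a generator `ε`, to `s ⊗ ε` with `s` in the span of restrictions of global sections of `G`. -/
theorem exists_tm_of_image (G N : X.Modules) {V : X.Opens} (ε : Γ(N, V)) (hε : IsGen N V ε)
    (z : ↑((CohB1.tensorPre G N).presheaf.obj (op ⊤))) :
    ∃ s ∈ Submodule.span Γ(X, V)
        (Set.range fun g : Γ(G, ⊤) => G.presheaf.map (homOfLE (le_top : V ≤ ⊤)).op g),
      (CohB1.tensorMod G N).presheaf.map (homOfLE (le_top : V ≤ ⊤)).op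
        ((toSheafify (Opens.grothendieckTopology X) (CohB1.tensorPre G N).presheaf).app (op ⊤) z) =
        tm G N s ε := by
  refine @TensorProduct.induction_on ((X.sheaf.obj ⋙ forget₂ CommRingCat RingCat).obj (op ⊤)) _
    ((CohB1.toPMod G).obj (op ⊤)) ((CohB1.toPMod N).obj (op ⊤)) _ _ _ _
    (fun z => ∃ s ∈ Submodule.span Γ(X, V)
        (Set.range fun g : Γ(G, ⊤) => G.presheaf.map (homOfLE (le_top : V ≤ ⊤)).op g),
      (CohB1.tensorMod G N).presheaf.map (homOfLE (le_top : V ≤ ⊤)).op
        ((toSheafify (Opens.grothendieckTopology X) (CohB1.tensorPre G N).presheaf).app (op ⊤) z) =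
        tm G N s ε) z ?_ ?_ ?_
  · refine ⟨0, Submodule.zero_mem _, ?_⟩
    have h0 : (toSheafify (Opens.grothendieckTopology X) (CohB1.tensorPre G N).presheaf).app (op ⊤)
        (0 : ↑((CohB1.tensorPre G N).presheaf.obj (op ⊤))) = 0 := map_zero _
    refine (congrArg ((CohB1.tensorMod G N).presheaf.map (homOfLE (le_top : V ≤ ⊤)).op) h0).trans ?_
    exact (map_zero (ConcreteCategory.hom
      ((CohB1.tensorMod G N).presheaf.map (homOfLE (le_top : V ≤ ⊤)).op))).trans
      (tm_zero_left G N ε).symm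
  · intro m p
    obtain ⟨a, ha⟩ := hε.self.2 (N.presheaf.map (homOfLE (le_top : V ≤ ⊤)).op p)
    have ha' : a • ε = N.presheaf.map (homOfLE (le_top : V ≤ ⊤)).op p := ha
    refine ⟨a • G.presheaf.map (homOfLE (le_top : V ≤ ⊤)).op m,
      Submodule.smul_mem _ _ (Submodule.subset_span ⟨m, rfl⟩), ?_⟩
    have h1 := toSheafify_tmul G N m p
    refine (congrArg ((CohB1.tensorMod G N).presheaf.map (homOfLE (le_top : V ≤ ⊤)).op) h1).trans ?_
    rw [tm_res, ← ha', tm_smul_right, tm_smul_left]
  · rintro z₁ z₂ ⟨s₁, hs₁, h₁⟩ ⟨s₂, hs₂, h₂⟩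
    refine ⟨s₁ + s₂, Submodule.add_mem _ hs₁ hs₂, ?_⟩
    have hadd : (toSheafify (Opens.grothendieckTopology X) (CohB1.tensorPre G N).presheaf).app (op ⊤)
        ((z₁ : ↑((CohB1.tensorPre G N).presheaf.obj (op ⊤))) + z₂) =
        (toSheafify (Opens.grothendieckTopology X) (CohB1.tensorPre G N).presheaf).app (op ⊤) z₁ +
        (toSheafify (Opens.grothendieckTopology X) (CohB1.tensorPre G N).presheaf).app (op ⊤) z₂ :=
      map_add _ _ _
    refine (congrArg ((CohB1.tensorMod G N).presheaf.map (homOfLE (le_top : V ≤ ⊤)).op) hadd).trans ?_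
    exact (map_add (ConcreteCategory.hom
      ((CohB1.tensorMod G N).presheaf.map (homOfLE (le_top : V ≤ ⊤)).op)) _ _).trans
      ((congrArg₂ (· + ·) h₁ h₂).trans (tm_add_left G N s₁ s₂ ε).symm)

/-- if `G ⊗ N` is generated by global sections at `x`, `N` is invertible and the multiplication
map `Γ(G) ⊗ Γ(N) → Γ(G ⊗ N)` is onto, then `G` is generated by global sections at `x`. -/
theorem ggAt_of_surj (G N : X.Modules) (hN : PicF.IsInvertible N)
    (hsurj : Function.Surjective
      ((toSheafify (Opens.grothendieckTopology X) (CohB1.tensorPre G N).presheaf).app (op ⊤)))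
    (x : X) (hgg : GGAt (CohB1.tensorMod G N) x) : GGAt G x := by
  intro U t hxU
  obtain ⟨V₀, ε₀, hxV₀, hε₀⟩ := exists_isGen hN x
  have hWU : U ⊓ V₀ ≤ U := inf_le_left
  have hWV : U ⊓ V₀ ≤ V₀ := inf_le_right
  obtain ⟨V, hVW, hxV, hmem⟩ := hgg (U ⊓ V₀)
    (tm G N (G.presheaf.map (homOfLE hWU).op t) (N.presheaf.map (homOfLE hWV).op ε₀)) ⟨hxU, hxV₀⟩
  have hε : IsGen N V (N.presheaf.map (homOfLE (hVW.trans hWV)).op ε₀) := hε₀.res _
  refine ⟨V, hVW.trans hWU, hxV, ?_⟩
  -- every element of the span is of the form `s ⊗ ε`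
  have key : ∀ y ∈ Submodule.span Γ(X, V) (Set.range fun g : Γ(CohB1.tensorMod G N, ⊤) =>
      (CohB1.tensorMod G N).presheaf.map (homOfLE (le_top : V ≤ ⊤)).op g),
      ∃ s ∈ Submodule.span Γ(X, V)
        (Set.range fun g : Γ(G, ⊤) => G.presheaf.map (homOfLE (le_top : V ≤ ⊤)).op g),
        y = tm G N s (N.presheaf.map (homOfLE (hVW.trans hWV)).op ε₀) := by
    intro y hy
    induction hy using Submodule.span_induction with
    | mem y hy =>
      obtain ⟨g, rfl⟩ := hy
      obtain ⟨z, rfl⟩ := hsurj g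
      exact exists_tm_of_image G N _ hε z
    | zero => exact ⟨0, Submodule.zero_mem _, (tm_zero_left _ _ _).symm⟩
    | add y₁ y₂ _ _ h₁ h₂ =>
      obtain ⟨s₁, hs₁, rfl⟩ := h₁
      obtain ⟨s₂, hs₂, rfl⟩ := h₂
      exact ⟨s₁ + s₂, Submodule.add_mem _ hs₁ hs₂, (tm_add_left _ _ _ _ _).symm⟩
    | smul c y _ h =>
      obtain ⟨s, hs, rfl⟩ := h
      exact ⟨c • s, Submodule.smul_mem _ _ hs, (tm_smul_left _ _ _ _ _).symm⟩
  obtain ⟨s, hs, hs'⟩ := key _ hmem
  rw [tm_res, res_res, res_res] at hs'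
  have := injective_tm (F := G) hε hs'
  rw [this]
  exact hs

end Groth.Agent.H21.GG1647
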