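import Mathlib
import Groth.Prelude
import Groth.Agent.H21.GG1647
import Groth.Agent.H21.Hyp.Main
import Groth.Agent.H18.TensorCoh
import Groth.Agent.H18.TwistTensor
import Groth.Agent.H18.TensorModIso
import Groth.Agent.H8.TensorPow
import Groth.Agent.H22.VeryAmpleConv
import Groth.Agent.S2325

/-!
# S1647: an `m`-regular coherent module on `P^n_k` has `F(m)` globally generated
(from the surjectivity of the multiplication maps, S19605)
-/

set_option autoImplicit false
set_option linter.style.haveILetI false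
universe u

open CategoryTheory CategoryTheory.Limits AlgebraicGeometry TopologicalSpace Opposite
open Groth.Agent.H18.SecTw Groth.Agent.H18.TensorGen Groth.Agent.H18.TensorSec
open Groth.Agent.H18.GlobGen

noncomputable section

namespace Groth.Agent.H21.GG1647

/-- `O(1)^{⊗ e} ≅ O(e)` on projective space. -/
theorem nonempty_tensorPow_twist_one (k : Type u) [Field k] (n : ℕ) (e : ℕ) :
    Nonempty (CohB1.tensorPow (Twist.twistProjSpace n k 1) e ≅ Twist.twistProjSpace n k (e : ℤ)) := by
  induction e with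
  | zero =>
    obtain ⟨e0⟩ := Groth.Agent.H18.TwistTensor.nonempty_twist_zero_iso (CohB1.polyGrading n k)
    exact ⟨e0.symm⟩
  | succ e ih =>
    obtain ⟨a⟩ := ih
    obtain ⟨b⟩ := Groth.Agent.H18.TensorModIso.nonempty_tensorMod_congr a
      (Iso.refl (Twist.twistProjSpace n k 1))
    obtain ⟨c⟩ := Groth.Agent.H8.TensorPow.nonempty_twistProjSpace_tensor n k (e : ℤ) 1
    have he : ((e : ℤ) + 1) = ((e + 1 : ℕ) : ℤ) := by push_cast; ring
    rw [he] at c
    exact ⟨b ≪≫ c⟩

theorem isGloballyGenerated_of_iso {X : Scheme.{u}} {M N : X.Modules} (e : M ≅ N)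
    (h : Curv2.IsGloballyGenerated M) : Curv2.IsGloballyGenerated N := by
  obtain ⟨ι, p, hp⟩ := h
  exact ⟨ι, p ≫ e.hom, epi_comp _ _⟩

theorem main (k : Type u) [Field k] (n : ℕ) (F : (CohB1.ProjSpace n k).Modules)
    (hF : Coh.IsCoh F) (m : ℤ)
    (hS : ∀ e : ℕ, Function.Surjective
      ((toSheafify (Opens.grothendieckTopology (CohB1.ProjSpace n k))
        (CohB1.tensorPre (CohB1.tensorMod F (Twist.twistProjSpace n k m))
          (Twist.twistProjSpace n k (e : ℤ))).presheaf).app (Opposite.op ⊤))) :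
    Curv2.IsGloballyGenerated (CohB1.tensorMod F (Twist.twistProjSpace n k m)) := by
  have hamp : CohB1.IsAmple (Twist.twistProjSpace n k 1) :=
    Groth.Agent.H22.VeryAmpleConv.isAmple_N1 n k
  haveI : CompactSpace (CohB1.ProjSpace n k) := hamp.2.1
  haveI : Scheme.IsSeparated (CohB1.ProjSpace n k) :=
    inferInstanceAs (Scheme.IsSeparated (Proj (CohB1.polyGrading n k)))
  have hG : Coh.IsCoh (CohB1.tensorMod F (Twist.twistProjSpace n k m)) :=
    Groth.Agent.H18.TensorCoh.isCoh_tensorMod hF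
      (Groth.Agent.H21.Hyp.isInvertible_twistProjSpace k n m)
  obtain ⟨e₀, he₀⟩ := Groth.Agent.S2325.result (CohB1.ProjSpace n k)
    (Twist.twistProjSpace n k 1) hamp _ hG
  have h1 := he₀ e₀ le_rfl
  obtain ⟨a⟩ := nonempty_tensorPow_twist_one k n e₀
  obtain ⟨b⟩ := Groth.Agent.H18.TensorModIso.nonempty_tensorMod_congr
    (Iso.refl (CohB1.tensorMod F (Twist.twistProjSpace n k m))) a
  have h2 : Curv2.IsGloballyGenerated (CohB1.tensorMod
      (CohB1.tensorMod F (Twist.twistProjSpace n k m)) (Twist.twistProjSpace n k (e₀ : ℤ))) :=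
    isGloballyGenerated_of_iso b h1
  refine isGloballyGenerated_of_ggAt _ (fun x => ?_)
  exact ggAt_of_surj _ _ (Groth.Agent.H21.Hyp.isInvertible_twistProjSpace k n (e₀ : ℤ)) (hS e₀) x
    (Groth.Agent.H18.GlobGenConv.ggAt_of_isGloballyGenerated _ h2 x)

end Groth.Agent.H21.GG1647
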