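import Groth.Agent.H21.SegreCM
import Groth.Agent.H15.Depth

/-!
# ℤ-graded algebras over a field with `A_0 = k`: homogeneous prime avoidance, the irrelevant
ideal, homogeneous regular elements in Cohen–Macaulay graded rings (helper21)
-/

set_option autoImplicit false
universe u

open scoped TensorProduct

namespace Groth.Agent.H21.GrInt

open Groth.Agent.H21.SegreDim

variable {k : Type u} [Field k] {R : Type u} [CommRing R] [Algebra k R]
  (𝒜 : ℤ → Submodule k R) [GradedAlgebra 𝒜]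

theorem exists_homogeneous_notMem_of_not_le {q p : Ideal R} (hq : q.IsHomogeneous 𝒜)
    (h : ¬ q ≤ p) : ∃ (d : ℤ) (t : R), t ∈ 𝒜 d ∧ t ∈ q ∧ t ∉ p := by
  classical
  obtain ⟨r, hrq, hrp⟩ := SetLike.not_le_iff_exists.1 h
  by_contra hall
  push Not at hall
  apply hrp
  rw [← DirectSum.sum_support_decompose 𝒜 r]
  exact Ideal.sum_mem _ fun i _ => hall i _ (SetLike.coe_mem _) (hq i hrq)

/-- **Homogeneous prime avoidance** for ℤ-graded rings concentrated in non-negative degrees. -/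
theorem homogeneous_prime_avoidance_int (hneg : ∀ n : ℤ, n < 0 → 𝒜 n = ⊥) :
    ∀ (m : ℕ) (S : Finset (Ideal R)), S.card = m →
      (∀ p ∈ S, p.IsPrime ∧ p.IsHomogeneous 𝒜 ∧ ∃ (d : ℤ) (v : R), 0 < d ∧ v ∈ 𝒜 d ∧ v ∉ p) →
      ∃ (e : ℤ) (x : R), 0 < e ∧ x ∈ 𝒜 e ∧ ∀ p ∈ S, x ∉ p := by
  classical
  intro m
  induction m with
  | zero =>
    intro S hS _
    rw [Finset.card_eq_zero] at hS
    subst hS
    exact ⟨1, 0, one_pos, zero_mem _, fun p hp => absurd hp (Finset.notMem_empty p)⟩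
  | succ m ih =>
    intro S hS hprop
    have hne : S.Nonempty := Finset.card_pos.1 (by omega)
    obtain ⟨p, hpS, hpmin⟩ := S.exists_minimal hne
    obtain ⟨hpprime, hphom, dv, v, hdv, hv, hvp⟩ := hprop p hpS
    obtain ⟨e, y, he, hy, hyS⟩ := ih (S.erase p)
      (by rw [Finset.card_erase_of_mem hpS, hS]; rfl)
      (fun q hq => hprop q (Finset.mem_of_mem_erase hq))
    by_cases hyp : y ∈ p
    · have hex : ∀ q : Ideal R, q ∈ S.erase p →
          ∃ (d : ℤ) (t : R), t ∈ 𝒜 d ∧ t ∈ q ∧ t ∉ p := by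
        intro q hq
        refine exists_homogeneous_notMem_of_not_le 𝒜
          (hprop q (Finset.mem_of_mem_erase hq)).2.1 ?_
        intro hle
        have hpq : p ≤ q := hpmin (Finset.mem_of_mem_erase hq) hle
        exact (Finset.ne_of_mem_erase hq) (le_antisymm hle hpq)
      choose! d t ht using hex
      have hdnn : ∀ q ∈ S.erase p, 0 ≤ d q := by
        intro q hq
        by_contra hlt
        push Not at hlt
        apply (ht q hq).2.2
        rw [eq_zero_of_mem_of_neg 𝒜 hneg hlt (ht q hq).1]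
        exact zero_mem _
      have hprodp : ∏ q ∈ S.erase p, t q ∉ p := by
        intro hmem
        obtain ⟨q, hq, hqp⟩ := (Ideal.IsPrime.prod_mem_iff (hp := hpprime)).1 hmem
        exact (ht q hq).2.2 hqp
      have hzp : v * ∏ q ∈ S.erase p, t q ∉ p := by
        intro hmem
        rcases hpprime.mem_or_mem hmem with h | h
        · exact hvp h
        · exact hprodp h
      have hzdeg : v * ∏ q ∈ S.erase p, t q ∈ 𝒜 (dv + ∑ q ∈ S.erase p, d q) :=
        SetLike.mul_mem_graded hv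
          (SetLike.prod_mem_graded 𝒜 d t (fun q hq => (ht q hq).1))
      have hzq : ∀ q ∈ S.erase p, v * ∏ q ∈ S.erase p, t q ∈ q := by
        intro q hq
        refine q.mul_mem_left _ ?_
        rw [← Finset.mul_prod_erase (S.erase p) t hq]
        exact q.mul_mem_right _ (ht q hq).2.1
      have hdzpos : 0 < dv + ∑ q ∈ S.erase p, d q := by
        have h5 : 0 ≤ ∑ q ∈ S.erase p, d q := Finset.sum_nonneg hdnn
        omega
      obtain ⟨dz, hdz⟩ : ∃ dz : ℤ, dz = dv + ∑ q ∈ S.erase p, d q := ⟨_, rfl⟩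
      obtain ⟨z, hz⟩ : ∃ z : R, z = v * ∏ q ∈ S.erase p, t q := ⟨_, rfl⟩
      rw [← hdz] at hdzpos hzdeg
      rw [← hz] at hzp hzdeg hzq
      have h1 : y ^ dz.toNat ∈ 𝒜 (dz * e) := by
        have h6 := SetLike.pow_mem_graded dz.toNat hy
        rw [nsmul_eq_mul, Int.toNat_of_nonneg hdzpos.le] at h6
        exact h6
      have h2 : z ^ e.toNat ∈ 𝒜 (dz * e) := by
        have h6 := SetLike.pow_mem_graded e.toNat hzdeg
        rw [nsmul_eq_mul, Int.toNat_of_nonneg he.le, mul_comm] at h6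
        exact h6
      have hdzN : 0 < dz.toNat := by omega
      have heN : 0 < e.toNat := by omega
      refine ⟨dz * e, y ^ dz.toNat + z ^ e.toNat, mul_pos hdzpos he, add_mem h1 h2, ?_⟩
      intro q hq hxq
      by_cases hqp : q = p
      · subst hqp
        have h7 : y ^ dz.toNat ∈ q := Ideal.pow_mem_of_mem q hyp _ hdzN
        have h8 : z ^ e.toNat ∈ q := by
          have h9 := q.sub_mem hxq h7
          rwa [add_sub_cancel_left] at h9
        exact hzp (hpprime.mem_of_pow_mem _ h8)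
      · have hq' : q ∈ S.erase p := Finset.mem_erase.2 ⟨hqp, hq⟩
        have hqprime : q.IsPrime := (hprop q hq).1
        have h7 : z ^ e.toNat ∈ q := Ideal.pow_mem_of_mem q (hzq q hq') _ heN
        have h8 : y ^ dz.toNat ∈ q := by
          have h9 := q.sub_mem hxq h7
          rwa [add_sub_cancel_right] at h9
        exact hyS q hq' (hqprime.mem_of_pow_mem _ h8)
    · refine ⟨e, y, he, hy, fun q hq => ?_⟩
      by_cases hqp : q = p
      · rw [hqp]
        exact hyp
      · exact hyS q (Finset.mem_erase.2 ⟨hqp, hq⟩)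

section Irrel

variable (hneg : ∀ n : ℤ, n < 0 → 𝒜 n = ⊥)

theorem mem_irrel_iff (a : R) :
    a ∈ irrel 𝒜 hneg ↔ ∀ j : ℤ, j ≤ 0 → ((DirectSum.decompose 𝒜 a j : 𝒜 j) : R) = 0 :=
  Iff.rfl

theorem mem_irrel_of_mem_pos {n : ℤ} (hn : 0 < n) {a : R} (ha : a ∈ 𝒜 n) :
    a ∈ irrel 𝒜 hneg := by
  intro j hj
  exact DirectSum.decompose_of_mem_ne 𝒜 ha (by omega)

theorem irrel_eq_span :
    irrel 𝒜 hneg = Ideal.span (⋃ n ∈ Set.Ioi (0 : ℤ), (𝒜 n : Set R)) := by
  classical
  apply le_antisymm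
  · intro a ha
    rw [← DirectSum.sum_support_decompose 𝒜 a]
    refine Ideal.sum_mem _ fun i _ => ?_
    by_cases hi : i ≤ 0
    · rw [ha i hi]
      exact zero_mem _
    · exact Ideal.subset_span
        (Set.mem_biUnion (Set.mem_Ioi.mpr (by omega)) (SetLike.coe_mem _))
  · rw [Ideal.span_le]
    intro a ha
    obtain ⟨n, hn, han⟩ := Set.mem_iUnion₂.mp ha
    exact mem_irrel_of_mem_pos 𝒜 hneg hn han

theorem exists_sub_smul_one_mem_irrel (h0 : 𝒜 0 = Submodule.span k {(1 : R)}) (a : R) :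
    ∃ c : k, a - c • (1 : R) ∈ irrel 𝒜 hneg := by
  classical
  have hx0mem : ((DirectSum.decompose 𝒜 a 0 : 𝒜 0) : R) ∈ 𝒜 0 := SetLike.coe_mem _
  have h2 : ((DirectSum.decompose 𝒜 a 0 : 𝒜 0) : R) ∈ Submodule.span k {(1 : R)} := by
    rw [← h0]; exact hx0mem
  obtain ⟨c, hc⟩ := Submodule.mem_span_singleton.mp h2
  refine ⟨c, ?_⟩
  rw [hc]
  intro j hj
  rcases lt_or_eq_of_le hj with hlt | rfl
  · exact eq_zero_of_mem_of_neg 𝒜 hneg hlt (SetLike.coe_mem _)
  · rw [DirectSum.decompose_sub, DirectSum.sub_apply, Submodule.coe_sub,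
      DirectSum.decompose_of_mem_same 𝒜 hx0mem, sub_self]

theorem one_notMem_irrel [Nontrivial R] : (1 : R) ∉ irrel 𝒜 hneg := by
  intro h1
  have h2 := h1 0 le_rfl
  rw [DirectSum.decompose_of_mem_same 𝒜 (SetLike.GradedOne.one_mem)] at h2
  exact one_ne_zero h2

/-- The ideal of elements all of whose components in degrees `< n` vanish. -/
def irrelGE (n : ℤ) : Ideal R where
  carrier := {a | ∀ j : ℤ, j < n → ((DirectSum.decompose 𝒜 a j : 𝒜 j) : R) = 0}
  add_mem' := by
    intro a b ha hb j hj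
    rw [DirectSum.decompose_add, DirectSum.add_apply, Submodule.coe_add, ha j hj, hb j hj,
      add_zero]
  zero_mem' := by
    intro j _
    rw [DirectSum.decompose_zero]
    rfl
  smul_mem' := by
    intro c a ha j hj
    rw [smul_eq_mul]
    induction c using DirectSum.Decomposition.inductionOn 𝒜 with
    | zero =>
      rw [zero_mul, DirectSum.decompose_zero]
      rfl
    | @homogeneous i c =>
      by_cases hi : i < 0
      · rw [eq_zero_of_mem_of_neg 𝒜 hneg hi c.2, zero_mul, DirectSum.decompose_zero]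
        rfl
      · obtain ⟨j', rfl⟩ : ∃ j', j = i + j' := ⟨j - i, by ring⟩
        rw [DirectSum.coe_decompose_mul_add_of_left_mem 𝒜 c.2, ha j' (by omega), mul_zero]
    | add c c' hc hc' =>
      rw [add_mul, DirectSum.decompose_add, DirectSum.add_apply, Submodule.coe_add, hc, hc',
        add_zero]

theorem mem_irrelGE_iff (n : ℤ) (a : R) :
    a ∈ irrelGE 𝒜 hneg n ↔ ∀ j : ℤ, j < n → ((DirectSum.decompose 𝒜 a j : 𝒜 j) : R) = 0 :=
  Iff.rfl

theorem irrel_le_irrelGE_one : irrel 𝒜 hneg ≤ irrelGE 𝒜 hneg 1 := by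
  intro a ha j hj
  exact ha j (by omega)

theorem irrelGE_mul_le (m n : ℤ) :
    irrelGE 𝒜 hneg m * irrelGE 𝒜 hneg n ≤ irrelGE 𝒜 hneg (m + n) := by
  classical
  rw [Ideal.mul_le]
  intro a ha b hb j hj
  rw [← DirectSum.sum_support_decompose 𝒜 a, Finset.sum_mul, DirectSum.decompose_sum,
    DirectSum.sum_apply, Submodule.coe_sum]
  refine Finset.sum_eq_zero fun i _ => ?_
  by_cases hi : i < m
  · rw [ha i hi, zero_mul, DirectSum.decompose_zero]
    rfl
  · obtain ⟨j', rfl⟩ : ∃ j', j = i + j' := ⟨j - i, by ring⟩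
    rw [DirectSum.coe_decompose_mul_add_of_left_mem 𝒜 (SetLike.coe_mem _), hb j' (by omega),
      mul_zero]

theorem irrel_pow_le_irrelGE (N : ℕ) : irrel 𝒜 hneg ^ N ≤ irrelGE 𝒜 hneg (N : ℤ) := by
  induction N with
  | zero =>
    intro a _ j hj
    exact eq_zero_of_mem_of_neg 𝒜 hneg (by simpa using hj) (SetLike.coe_mem _)
  | succ N ih =>
    rw [pow_succ]
    refine le_trans (Ideal.mul_mono ih (irrel_le_irrelGE_one 𝒜 hneg)) ?_
    have h := irrelGE_mul_le 𝒜 hneg (N : ℤ) 1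
    rwa [show ((N : ℤ) + 1) = ((N + 1 : ℕ) : ℤ) by push_cast; ring] at h

end Irrel

section Regular

variable (hneg : ∀ n : ℤ, n < 0 → 𝒜 n = ⊥) (h0 : 𝒜 0 = Submodule.span k {(1 : R)})

include h0 in
/-- If the irrelevant ideal is not an associated prime of `R`, there is a homogeneous
non-zero-divisor of positive degree. -/
theorem exists_homogeneous_regular [IsNoetherianRing R] [Nontrivial R]
    (hass : irrel 𝒜 hneg ∉ associatedPrimes R R) :
    ∃ (e : ℤ) (a : R), 0 < e ∧ a ∈ 𝒜 e ∧ IsSMulRegular R a := by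
  classical
  haveI hmax : (irrel 𝒜 hneg).IsMaximal := irrel_isMaximal 𝒜 hneg h0
  obtain ⟨S, hSdef⟩ : ∃ S : Finset (Ideal R), S = (associatedPrimes.finite R R).toFinset.image
      (fun p => (p.homogeneousCore 𝒜).toIdeal) := ⟨_, rfl⟩
  have hS : ∀ p ∈ S, p.IsPrime ∧ p.IsHomogeneous 𝒜 ∧
      ∃ (d : ℤ) (v : R), 0 < d ∧ v ∈ 𝒜 d ∧ v ∉ p := by
    intro p hp
    rw [hSdef] at hp
    obtain ⟨p₀, hp₀, rfl⟩ := Finset.mem_image.1 hp
    rw [Set.Finite.mem_toFinset] at hp₀
    have hprime : p₀.IsPrime := hp₀.isPrime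
    refine ⟨Ideal.IsPrime.homogeneousCore hprime, (p₀.homogeneousCore 𝒜).isHomogeneous, ?_⟩
    have hnle : ¬ irrel 𝒜 hneg ≤ p₀ := by
      intro hle
      have heq : irrel 𝒜 hneg = p₀ := hmax.eq_of_le hprime.ne_top hle
      exact hass (heq ▸ hp₀)
    obtain ⟨r, hr, hrp⟩ := SetLike.not_le_iff_exists.1 hnle
    by_contra hall
    push Not at hall
    apply hrp
    rw [← DirectSum.sum_support_decompose 𝒜 r]
    refine Ideal.sum_mem _ fun i _ => ?_
    by_cases hi : i ≤ 0
    · rw [hr i hi]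
      exact zero_mem _
    · have h1 := hall i ((DirectSum.decompose 𝒜 r i : 𝒜 i) : R) (by omega) (SetLike.coe_mem _)
      exact Ideal.toIdeal_homogeneousCore_le 𝒜 p₀ h1
  obtain ⟨e, x, he, hx, hxS⟩ := homogeneous_prime_avoidance_int 𝒜 hneg S.card S rfl hS
  refine ⟨e, x, he, hx, ?_⟩
  by_contra hreg
  have h5 : x ∈ ({r : R | IsSMulRegular R r}ᶜ : Set R) := hreg
  rw [← biUnion_associatedPrimes_eq_compl_regular R R] at h5
  obtain ⟨p₀, hp₀, hxp⟩ := Set.mem_iUnion₂.1 h5
  have h6 : (p₀.homogeneousCore 𝒜).toIdeal ∈ S := by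
    rw [hSdef]
    exact Finset.mem_image.2 ⟨p₀, (Set.Finite.mem_toFinset _).2 hp₀, rfl⟩
  exact hxS (p₀.homogeneousCore 𝒜).toIdeal h6 (HomogeneousIdeal.mem_iff.2
    (Ideal.mem_homogeneousCore_of_homogeneous_of_mem ⟨e, hx⟩ hxp))

include h0 in
/-- If `dim R ≥ 1` the irrelevant ideal has positive height. -/
theorem one_le_height_irrel [Nontrivial R] (hdim : 1 ≤ ringKrullDim R) :
    1 ≤ (irrel 𝒜 hneg).height := by
  haveI hmax : (irrel 𝒜 hneg).IsMaximal := irrel_isMaximal 𝒜 hneg h0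
  haveI hprime : (irrel 𝒜 hneg).IsPrime := hmax.isPrime
  rw [Order.one_le_iff_ne_zero]
  intro hzero
  rw [Ideal.height_eq_zero_iff] at hzero
  -- every prime equals the irrelevant ideal
  have hall : ∀ P : PrimeSpectrum R, P.asIdeal = irrel 𝒜 hneg := by
    intro P
    obtain ⟨P', hP'min, hP'le⟩ := Ideal.exists_minimalPrimes_le (I := ⊥) (J := P.asIdeal) bot_le
    have hP'hom : P'.IsHomogeneous 𝒜 :=
      isHomogeneous_of_mem_minimalPrimes 𝒜 (Ideal.IsHomogeneous.bot 𝒜) hP'min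
    have hP'prime : P'.IsPrime := hP'min.1.1
    have hP'irr : P' ≤ irrel 𝒜 hneg := le_irrel_of_isHomogeneous 𝒜 hneg h0 hP'hom hP'prime.ne_top
    have hirrP' : irrel 𝒜 hneg ≤ P' := hzero.2 ⟨hP'prime, bot_le⟩ hP'irr
    exact (hmax.eq_of_le P.isPrime.ne_top (le_trans hirrP' hP'le)).symm
  haveI : Subsingleton (PrimeSpectrum R) :=
    ⟨fun P Q => PrimeSpectrum.ext ((hall P).trans (hall Q).symm)⟩
  have h1 : ringKrullDim R ≤ 0 := Order.krullDim_nonpos_of_subsingleton
  have h2 : (1 : WithBot ℕ∞) ≤ 0 := le_trans hdim h1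
  exact absurd h2 (by decide)

include h0 in
/-- In a graded Cohen–Macaulay ring of positive dimension the irrelevant ideal is not an
associated prime. -/
theorem irrel_notMem_associatedPrimes_of_cm [LocCoh.IsCohenMacaulayRing R] [Nontrivial R]
    (hdim : 1 ≤ ringKrullDim R) : irrel 𝒜 hneg ∉ associatedPrimes R R := by
  classical
  haveI hmax : (irrel 𝒜 hneg).IsMaximal := irrel_isMaximal 𝒜 hneg h0
  haveI hprime : (irrel 𝒜 hneg).IsPrime := hmax.isPrime
  haveI hcm : LocCoh.IsCohenMacaulayLocalRing (Localization.AtPrime (irrel 𝒜 hneg)) :=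
    LocCoh.IsCohenMacaulayRing.isCohenMacaulayLocalRing_localization (irrel 𝒜 hneg)
  have hht := one_le_height_irrel 𝒜 hneg h0 hdim
  have hdimA : ringKrullDim (Localization.AtPrime (irrel 𝒜 hneg)) =
      ((irrel 𝒜 hneg).height : WithBot ℕ∞) :=
    IsLocalization.AtPrime.ringKrullDim_eq_height (irrel 𝒜 hneg) _
  have hdepth : ((LocCoh.depth (Localization.AtPrime (irrel 𝒜 hneg))
      (Localization.AtPrime (irrel 𝒜 hneg)) : ℕ∞) : WithBot ℕ∞) =
      ((irrel 𝒜 hneg).height : WithBot ℕ∞) := by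
    rw [← hcm.supportDim_eq_depth, Module.supportDim_self_eq_ringKrullDim, hdimA]
  have hdepth1 : ((1 : ℕ) : ℕ∞) ≤ LocCoh.depth (Localization.AtPrime (irrel 𝒜 hneg))
      (Localization.AtPrime (irrel 𝒜 hneg)) := by
    have h1 : LocCoh.depth (Localization.AtPrime (irrel 𝒜 hneg))
        (Localization.AtPrime (irrel 𝒜 hneg)) = (irrel 𝒜 hneg).height := by
      exact_mod_cast hdepth
    rw [h1]
    exact_mod_cast hht
  have hne : (IsLocalRing.maximalIdeal (Localization.AtPrime (irrel 𝒜 hneg))) •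
      (⊤ : Submodule (Localization.AtPrime (irrel 𝒜 hneg))
        (Localization.AtPrime (irrel 𝒜 hneg))) ≠ ⊤ := by
    rw [Ideal.smul_top_eq_map, Algebra.algebraMap_self, Ideal.map_id]
    intro h
    have h1 : (1 : Localization.AtPrime (irrel 𝒜 hneg)) ∈ Submodule.restrictScalars
        (Localization.AtPrime (irrel 𝒜 hneg))
        (IsLocalRing.maximalIdeal (Localization.AtPrime (irrel 𝒜 hneg))) := by
      rw [h]; trivial
    exact (IsLocalRing.maximalIdeal.isMaximal _).ne_top ((Ideal.eq_top_iff_one _).mpr h1)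
  obtain ⟨t, htm, htreg, -⟩ := Groth.Agent.H15.Depth.hasSeq_succ_iff.mp
    ((Groth.Agent.H15.Depth.le_idealDepth_iff hne 1).mp hdepth1)
  intro hass
  obtain ⟨-, r, hr⟩ := isAssociatedPrime_iff.mp hass
  obtain ⟨u, s, hus⟩ := IsLocalization.exists_mk'_eq (irrel 𝒜 hneg).primeCompl t
  have hu : u ∈ irrel 𝒜 hneg := by
    rw [← hus] at htm
    exact (IsLocalization.AtPrime.mk'_mem_maximal_iff
      (Localization.AtPrime (irrel 𝒜 hneg)) (irrel 𝒜 hneg) u s).mp htm
  have hur : u * r = 0 := by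
    rw [hr, Submodule.mem_colon_singleton, Submodule.mem_bot, smul_eq_mul] at hu
    exact hu
  have htr : t • (algebraMap R (Localization.AtPrime (irrel 𝒜 hneg)) r) =
      t • (0 : Localization.AtPrime (irrel 𝒜 hneg)) := by
    rw [smul_zero, smul_eq_mul, ← hus, mul_comm, IsLocalization.mul_mk'_eq_mk'_of_mul,
      mul_comm r u, hur, IsLocalization.mk'_zero]
  have hr0 : algebraMap R (Localization.AtPrime (irrel 𝒜 hneg)) r = 0 := htreg htr
  have hmem : ∀ x : R, x * r = 0 → x ∈ irrel 𝒜 hneg := by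
    intro x hx
    rw [hr, Submodule.mem_colon_singleton, Submodule.mem_bot, smul_eq_mul]
    exact hx
  obtain ⟨m, hm⟩ := (IsLocalization.map_eq_zero_iff (irrel 𝒜 hneg).primeCompl
    (Localization.AtPrime (irrel 𝒜 hneg)) r).mp hr0
  exact m.2 (hmem (m : R) hm)

end Regular

end Groth.Agent.H21.GrInt
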