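import Mathlib
import Groth.Agent.H21.TrdegDim
import Groth.Agent.H21.GradedFG

/-!
# Graded domains of dimension one over an algebraically closed field are semigroup rings
(helper21).
-/

set_option autoImplicit false
universe u

namespace Groth.Agent.H21.SegreDim

section

variable {k : Type u} [Field k] [IsAlgClosed k] {R : Type u} [CommRing R] [IsDomain R]
  [Algebra k R] (𝒜 : ℤ → Submodule k R) [GradedAlgebra 𝒜]

include 𝒜 in
/-- Each graded piece has dimension at most one. -/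
theorem exists_smul_eq_of_mem_of_dim_one (hpos : ∀ n : ℤ, n < 0 → 𝒜 n = ⊥)
    (h0 : 𝒜 0 = Submodule.span k {(1 : R)}) [Algebra.FiniteType k R]
    (h1 : ringKrullDim R = 1) {n : ℤ} {x y : R} (hx : x ∈ 𝒜 n) (hy : y ∈ 𝒜 n) (hy0 : y ≠ 0) :
    ∃ c : k, x = c • y := by
  classical
  rcases lt_trichotomy n 0 with hn | hn | hn
  · rw [hpos n hn] at hy
    exact absurd ((Submodule.mem_bot k).mp hy) hy0
  · subst hn
    rw [h0] at hx hy
    obtain ⟨α, rfl⟩ := Submodule.mem_span_singleton.mp hx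
    obtain ⟨β, rfl⟩ := Submodule.mem_span_singleton.mp hy
    have hβ : β ≠ 0 := by
      rintro rfl
      exact hy0 (zero_smul _ _)
    exact ⟨α / β, by rw [smul_smul, div_mul_cancel₀ _ hβ]⟩
  · -- positive degree
    have hdep : ¬ AlgebraicIndependent k ![x, y] := by
      intro hind
      have h2 := natCast_le_ringKrullDim_of_algebraicIndependent hind
      rw [h1, Fintype.card_fin] at h2
      have h3 : (2 : ℕ) ≤ 1 := by exact_mod_cast h2
      omega
    rw [algebraicIndependent_iff] at hdep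
    push Not at hdep
    obtain ⟨F, hF, hF0⟩ := hdep
    have hsum : MvPolynomial.aeval ![x, y] F =
        ∑ m ∈ F.support, F.coeff m • (x ^ m 0 * y ^ m 1) := by
      rw [MvPolynomial.aeval_def, MvPolynomial.eval₂_eq']
      refine Finset.sum_congr rfl fun m _ => ?_
      rw [Fin.prod_univ_two, Algebra.smul_def]
      rfl
    have hmem : ∀ m : Fin 2 →₀ ℕ, x ^ m 0 * y ^ m 1 ∈ 𝒜 (((m 0 + m 1 : ℕ) : ℤ) * n) := by
      intro m
      have h2 := SetLike.mul_mem_graded (SetLike.pow_mem_graded (m 0) hx)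
        (SetLike.pow_mem_graded (m 1) hy)
      have h3 : m 0 • n + m 1 • n = ((m 0 + m 1 : ℕ) : ℤ) * n := by
        rw [nsmul_eq_mul, nsmul_eq_mul]; push_cast; ring
      rwa [h3] at h2
    have hd : ∀ d : ℕ, ∑ m ∈ F.support.filter (fun m => m 0 + m 1 = d),
        F.coeff m • (x ^ m 0 * y ^ m 1) = 0 := by
      intro d
      have h2 := congrArg (GradedAlgebra.proj 𝒜 ((d : ℤ) * n)) (hsum.symm.trans hF)
      rw [map_sum, map_zero] at h2
      rw [Finset.sum_filter]
      refine Eq.trans (Finset.sum_congr rfl fun m _ => ?_) h2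
      rw [map_smul, GradedAlgebra.proj_apply]
      split_ifs with hm
      · rw [DirectSum.decompose_of_mem_same 𝒜 (hm ▸ hmem m)]
      · rw [DirectSum.decompose_of_mem_ne 𝒜 (hmem m), smul_zero]
        intro heq
        apply hm
        exact_mod_cast mul_right_cancel₀ hn.ne' heq
    -- pass to the fraction field
    have hι : Function.Injective (algebraMap R (FractionRing R)) :=
      IsFractionRing.injective R (FractionRing R)
    have hy' : algebraMap R (FractionRing R) y ≠ 0 := (map_ne_zero_iff _ hι).mpr hy0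
    obtain ⟨m₀, hm₀⟩ : F.support.Nonempty := by
      rw [Finset.nonempty_iff_ne_empty, Ne, MvPolynomial.support_eq_empty]
      exact hF0
    have hcoef : ∀ m ∈ F.support.filter (fun m => m 0 + m 1 = m₀ 0 + m₀ 1),
        m ≠ m₀ → m 0 ≠ m₀ 0 := by
      intro m hm hne h
      apply hne
      have hm' := (Finset.mem_filter.mp hm).2
      ext i
      fin_cases i
      · exact h
      · show m 1 = m₀ 1
        omega
    let f : Polynomial k := ∑ m ∈ F.support.filter (fun m => m 0 + m 1 = m₀ 0 + m₀ 1),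
      Polynomial.monomial (m 0) (F.coeff m)
    have hf0 : f ≠ 0 := by
      intro hf
      have h3 : Polynomial.coeff f (m₀ 0) = 0 := by rw [hf, Polynomial.coeff_zero]
      simp only [f, Polynomial.finsetSum_coeff, Polynomial.coeff_monomial] at h3
      rw [Finset.sum_eq_single m₀] at h3
      · rw [if_pos rfl] at h3
        exact (MvPolynomial.mem_support_iff.mp hm₀) h3
      · intro m hm hne
        rw [if_neg (hcoef m hm hne)]
      · intro hnot
        exact absurd (Finset.mem_filter.mpr ⟨hm₀, rfl⟩ :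
          m₀ ∈ F.support.filter (fun m => m 0 + m 1 = m₀ 0 + m₀ 1)) hnot
    obtain ⟨t, ht⟩ : ∃ t : FractionRing R,
        t * algebraMap R (FractionRing R) y = algebraMap R (FractionRing R) x :=
      ⟨_, div_mul_cancel₀ _ hy'⟩
    have haeval : Polynomial.aeval t f = 0 := by
      have h4 : (algebraMap R (FractionRing R) y) ^ (m₀ 0 + m₀ 1) * Polynomial.aeval t f = 0 := by
        have h5 : ∑ m ∈ F.support.filter (fun m => m 0 + m 1 = m₀ 0 + m₀ 1),
            algebraMap R (FractionRing R) (F.coeff m • (x ^ m 0 * y ^ m 1)) = 0 := by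
          rw [← map_sum, hd, map_zero]
        rw [← h5]
        simp only [f, map_sum, Finset.mul_sum]
        refine Finset.sum_congr rfl fun m hm => ?_
        have hm' := (Finset.mem_filter.mp hm).2
        rw [Polynomial.aeval_monomial, Algebra.smul_def, map_mul, map_mul, map_pow, map_pow,
          ← IsScalarTower.algebraMap_apply, ← hm', ← ht]
        ring
      rcases mul_eq_zero.mp h4 with h5 | h5
      · exact absurd h5 (pow_ne_zero _ hy')
      · exact h5
    -- an algebraic element of a field extension of `k` lies in `k`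
    have halg : IsAlgebraic k t := ⟨f, hf0, haeval⟩
    have hint := halg.isIntegral
    have hdeg := IsAlgClosed.degree_eq_one_of_irreducible k (minpoly.irreducible hint)
    obtain ⟨c, hc⟩ := minpoly.mem_range_of_degree_eq_one k _ hdeg
    refine ⟨c, hι ?_⟩
    have hc' : algebraMap k (FractionRing R) c = t := hc
    rw [Algebra.smul_def, map_mul, ← IsScalarTower.algebraMap_apply, ← ht, hc']

include 𝒜 in
/-- A `k`-point not vanishing on any nonzero homogeneous element. -/
theorem exists_algHom_ne_zero_of_dim_one (hpos : ∀ n : ℤ, n < 0 → 𝒜 n = ⊥)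
    (h0 : 𝒜 0 = Submodule.span k {(1 : R)}) [Algebra.FiniteType k R]
    (h1 : ringKrullDim R = 1) :
    ∃ χ : R →ₐ[k] k, ∀ n : ℤ, ∀ x ∈ 𝒜 n, x ≠ 0 → χ x ≠ 0 := by
  classical
  haveI : IsNoetherianRing R := Algebra.FiniteType.isNoetherianRing k R
  obtain ⟨F, hFhom, hFtop⟩ := exists_finset_homogeneous_adjoin_eq_top 𝒜 hpos h0
  have hg : (∏ f ∈ F.filter (· ≠ 0), f) ≠ 0 :=
    Finset.prod_ne_zero_iff.mpr (fun f hf => (Finset.mem_filter.mp hf).2)
  haveI : IsJacobsonRing R := isJacobsonRing_of_finiteType (A := k)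
  have hjac : (⊥ : Ideal R).jacobson = ⊥ :=
    IsJacobsonRing.out inferInstance (Ideal.IsPrime.isRadical Ideal.isPrime_bot)
  obtain ⟨𝔪, h𝔪, hg𝔪⟩ : ∃ 𝔪 : Ideal R, 𝔪.IsMaximal ∧ (∏ f ∈ F.filter (· ≠ 0), f) ∉ 𝔪 := by
    by_contra hcon
    push Not at hcon
    apply hg
    have h2 : (∏ f ∈ F.filter (· ≠ 0), f) ∈ (⊥ : Ideal R).jacobson := by
      rw [Ideal.jacobson, Ideal.mem_sInf]
      rintro J ⟨-, hJ⟩
      exact hcon J hJ
    rw [hjac] at h2
    exact (Ideal.mem_bot).mp h2
  haveI := h𝔪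
  letI : Field (R ⧸ 𝔪) := Ideal.Quotient.field 𝔪
  haveI : Algebra.FiniteType k (R ⧸ 𝔪) :=
    Algebra.FiniteType.of_surjective (Ideal.Quotient.mkₐ k 𝔪) (Ideal.Quotient.mkₐ_surjective k 𝔪)
  haveI : Module.Finite k (R ⧸ 𝔪) := finite_of_finite_type_of_isJacobsonRing k (R ⧸ 𝔪)
  have hbij : Function.Bijective (algebraMap k (R ⧸ 𝔪)) :=
    IsAlgClosed.algebraMap_bijective_of_isIntegral
  let e : k ≃ₐ[k] (R ⧸ 𝔪) := AlgEquiv.ofBijective (Algebra.ofId k (R ⧸ 𝔪)) hbij
  let χ : R →ₐ[k] k := (e.symm : (R ⧸ 𝔪) →ₐ[k] k).comp (Ideal.Quotient.mkₐ k 𝔪)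
  have hχ : ∀ z : R, χ z = 0 → z ∈ 𝔪 := by
    intro z hz
    have h2 : e.symm (Ideal.Quotient.mk 𝔪 z) = 0 := hz
    rw [map_eq_zero_iff _ e.symm.injective] at h2
    exact Ideal.Quotient.eq_zero_iff_mem.mp h2
  refine ⟨χ, ?_⟩
  have hQ : ∀ z : R, ∀ n : ℤ, GradedAlgebra.proj 𝒜 n z ≠ 0 → ∃ w ∈ 𝒜 n, χ w ≠ 0 := by
    intro z
    have hz : z ∈ Algebra.adjoin k (F : Set R) := by rw [hFtop]; trivial
    induction hz using Algebra.adjoin_induction with
    | mem f hf =>
      intro n hn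
      obtain ⟨d, -, hfd⟩ := hFhom f hf
      rw [GradedAlgebra.proj_apply] at hn
      by_cases hdn : d = n
      · subst hdn
        rw [DirectSum.decompose_of_mem_same 𝒜 hfd] at hn
        refine ⟨f, hfd, fun hχf => hg𝔪 ?_⟩
        have hdvd : f ∣ ∏ f ∈ F.filter (· ≠ 0), f :=
          Finset.dvd_prod_of_mem _ (Finset.mem_filter.mpr ⟨hf, hn⟩)
        obtain ⟨c, hc⟩ := hdvd
        rw [hc]
        exact Ideal.mul_mem_right _ _ (hχ f hχf)
      · rw [DirectSum.decompose_of_mem_ne 𝒜 hfd hdn] at hn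
        exact absurd rfl hn
    | algebraMap c =>
      intro n hn
      rw [GradedAlgebra.proj_apply] at hn
      have hc0 : algebraMap k R c ∈ 𝒜 0 := SetLike.algebraMap_mem_graded 𝒜 c
      by_cases hdn : (0 : ℤ) = n
      · subst hdn
        exact ⟨1, SetLike.GradedOne.one_mem, by rw [map_one]; exact one_ne_zero⟩
      · rw [DirectSum.decompose_of_mem_ne 𝒜 hc0 hdn] at hn
        exact absurd rfl hn
    | add a b _ _ ha hb =>
      intro n hn
      rw [map_add] at hn
      by_cases ha0 : GradedAlgebra.proj 𝒜 n a = 0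
      · rw [ha0, zero_add] at hn
        exact hb n hn
      · exact ha n ha0
    | mul a b _ _ ha hb =>
      intro n hn
      rw [GradedAlgebra.proj_apply, DirectSum.decompose_mul, DirectSum.coe_mul_apply] at hn
      obtain ⟨ij, hij, -⟩ := Finset.exists_ne_zero_of_sum_ne_zero hn
      rw [Finset.mem_filter, Finset.mem_product, DFinsupp.mem_support_iff,
        DFinsupp.mem_support_iff] at hij
      obtain ⟨⟨hi, hj⟩, hsum⟩ := hij
      have hi' : GradedAlgebra.proj 𝒜 ij.1 a ≠ 0 := by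
        rw [GradedAlgebra.proj_apply]
        intro h
        exact hi (Subtype.ext h)
      have hj' : GradedAlgebra.proj 𝒜 ij.2 b ≠ 0 := by
        rw [GradedAlgebra.proj_apply]
        intro h
        exact hj (Subtype.ext h)
      obtain ⟨w, hw, hχw⟩ := ha ij.1 hi'
      obtain ⟨w', hw', hχw'⟩ := hb ij.2 hj'
      refine ⟨w * w', hsum ▸ SetLike.mul_mem_graded hw hw', ?_⟩
      rw [map_mul]
      exact mul_ne_zero hχw hχw'
  intro n x hx hx0
  have hpx : GradedAlgebra.proj 𝒜 n x ≠ 0 := by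
    rw [GradedAlgebra.proj_apply, DirectSum.decompose_of_mem_same 𝒜 hx]
    exact hx0
  obtain ⟨w, hw, hχw⟩ := hQ x n hpx
  have hw0 : w ≠ 0 := by
    rintro rfl
    exact hχw (map_zero χ)
  obtain ⟨c, hc⟩ := exists_smul_eq_of_mem_of_dim_one 𝒜 hpos h0 h1 hx hw hw0
  have hc0 : c ≠ 0 := by
    rintro rfl
    exact hx0 (by rw [hc, zero_smul])
  rw [hc, map_smul, smul_eq_mul]
  exact mul_ne_zero hc0 hχw

include 𝒜 in
/-- The structure theorem: `R` is the semigroup ring of the submonoid of degrees of nonzero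
pieces. -/
theorem exists_ringEquiv_addMonoidAlgebra_of_dim_one (hpos : ∀ n : ℤ, n < 0 → 𝒜 n = ⊥)
    (h0 : 𝒜 0 = Submodule.span k {(1 : R)}) [Algebra.FiniteType k R]
    (h1 : ringKrullDim R = 1) :
    ∃ H : AddSubmonoid ℕ, (∀ n : ℕ, n ∈ H ↔ 𝒜 (n : ℤ) ≠ ⊥) ∧
      Nonempty (R ≃+* AddMonoidAlgebra k H) := by
  classical
  obtain ⟨χ, hχ⟩ := exists_algHom_ne_zero_of_dim_one 𝒜 hpos h0 h1
  have hE : ∀ n : ℕ, 𝒜 (n : ℤ) ≠ ⊥ → ∃ e ∈ 𝒜 (n : ℤ), χ e = 1 := by
    intro n hn
    obtain ⟨w, hw, hw0⟩ := (Submodule.ne_bot_iff _).mp hn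
    refine ⟨(χ w)⁻¹ • w, Submodule.smul_mem _ _ hw, ?_⟩
    rw [map_smul, smul_eq_mul, inv_mul_cancel₀ (hχ _ w hw hw0)]
  choose! E hEmem hEχ using hE
  have hE0 : ∀ n : ℕ, 𝒜 (n : ℤ) ≠ ⊥ → E n ≠ 0 := by
    intro n hn h
    have h2 := hEχ n hn
    rw [h, map_zero] at h2
    exact zero_ne_one h2
  have huniq : ∀ (n : ℕ) (z : R), z ∈ 𝒜 (n : ℤ) → χ z = 1 → z = E n := by
    intro n z hz hz1
    have hz0 : z ≠ 0 := by
      rintro rfl
      rw [map_zero] at hz1
      exact zero_ne_one hz1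
    have hn : 𝒜 (n : ℤ) ≠ ⊥ := (Submodule.ne_bot_iff _).mpr ⟨z, hz, hz0⟩
    obtain ⟨c, hc⟩ := exists_smul_eq_of_mem_of_dim_one 𝒜 hpos h0 h1 hz (hEmem n hn) (hE0 n hn)
    have hc1 : c = 1 := by
      have h2 := congrArg χ hc
      rw [map_smul, hEχ n hn, hz1, smul_eq_mul, mul_one] at h2
      exact h2.symm
    rw [hc, hc1, one_smul]
  let H : AddSubmonoid ℕ :=
    { carrier := {n | 𝒜 (n : ℤ) ≠ ⊥}
      zero_mem' := by
        show 𝒜 ((0 : ℕ) : ℤ) ≠ ⊥
        rw [Nat.cast_zero]
        exact (Submodule.ne_bot_iff _).mpr ⟨1, SetLike.GradedOne.one_mem, one_ne_zero⟩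
      add_mem' := by
        intro a b ha hb
        show 𝒜 ((a + b : ℕ) : ℤ) ≠ ⊥
        obtain ⟨x, hx, hx0⟩ := (Submodule.ne_bot_iff _).mp ha
        obtain ⟨y, hy, hy0⟩ := (Submodule.ne_bot_iff _).mp hb
        rw [Nat.cast_add]
        exact (Submodule.ne_bot_iff _).mpr
          ⟨x * y, SetLike.mul_mem_graded hx hy, mul_ne_zero hx0 hy0⟩ }
  have hHmem : ∀ n : ℕ, n ∈ H ↔ 𝒜 (n : ℤ) ≠ ⊥ := fun n => Iff.rfl
  refine ⟨H, hHmem, ?_⟩
  let Fm : Multiplicative H →* R :=
    { toFun := fun h => E (Multiplicative.toAdd h).1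
      map_one' := by
        show E 0 = 1
        refine (huniq 0 1 ?_ (map_one χ)).symm
        rw [Nat.cast_zero]
        exact SetLike.GradedOne.one_mem
      map_mul' := by
        intro a b
        show E ((Multiplicative.toAdd a).1 + (Multiplicative.toAdd b).1) =
          E (Multiplicative.toAdd a).1 * E (Multiplicative.toAdd b).1
        refine (huniq _ _ ?_ ?_).symm
        · rw [Nat.cast_add]
          exact SetLike.mul_mem_graded (hEmem _ (Multiplicative.toAdd a).2)
            (hEmem _ (Multiplicative.toAdd b).2)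
        · rw [map_mul, hEχ _ (Multiplicative.toAdd a).2, hEχ _ (Multiplicative.toAdd b).2,
            one_mul] }
  let φ : AddMonoidAlgebra k H →ₐ[k] R := AddMonoidAlgebra.lift k R H Fm
  have hsurj : Function.Surjective φ := by
    have hhom : ∀ (n : ℤ) (z : R), z ∈ 𝒜 n → z ∈ φ.range := by
      intro n z hz
      by_cases hz0 : z = 0
      · rw [hz0]; exact zero_mem _
      rcases lt_or_ge n 0 with hn | hn
      · rw [hpos n hn] at hz
        exact absurd ((Submodule.mem_bot k).mp hz) hz0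
      · obtain ⟨m, rfl⟩ := Int.eq_ofNat_of_zero_le hn
        have hm : 𝒜 (m : ℤ) ≠ ⊥ := (Submodule.ne_bot_iff _).mpr ⟨z, hz, hz0⟩
        obtain ⟨c, hc⟩ := exists_smul_eq_of_mem_of_dim_one 𝒜 hpos h0 h1 hz (hEmem m hm)
          (hE0 m hm)
        refine ⟨AddMonoidAlgebra.single ⟨m, hm⟩ c, ?_⟩
        rw [hc]
        exact AddMonoidAlgebra.lift_single Fm ⟨m, hm⟩ c
    intro x
    have hx : x ∈ φ.range := by
      rw [← DirectSum.sum_support_decompose 𝒜 x]
      exact Subalgebra.sum_mem _ fun n _ => hhom n _ (SetLike.coe_mem _)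
    exact hx
  have hinj : Function.Injective φ := by
    rw [injective_iff_map_eq_zero]
    intro f hf
    rw [← AddMonoidAlgebra.coeff_eq_zero]
    ext h
    rw [Finsupp.zero_apply]
    have h2 : φ f = ∑ a ∈ f.coeff.support, f.coeff a • E a.1 := by
      show AddMonoidAlgebra.lift k R H Fm f = _
      rw [AddMonoidAlgebra.lift_apply]
      rfl
    rw [h2] at hf
    have h3 := congrArg (GradedAlgebra.proj 𝒜 ((h.1 : ℕ) : ℤ)) hf
    rw [map_sum, map_zero] at h3
    have h4 : ∀ a ∈ f.coeff.support,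
        GradedAlgebra.proj 𝒜 ((h.1 : ℕ) : ℤ) (f.coeff a • E a.1) =
          if a = h then f.coeff a • E a.1 else 0 := by
      intro a _
      rw [map_smul, GradedAlgebra.proj_apply]
      split_ifs with hah
      · rw [hah, DirectSum.decompose_of_mem_same 𝒜 (hEmem h.1 h.2)]
      · rw [DirectSum.decompose_of_mem_ne 𝒜 (hEmem a.1 a.2), smul_zero]
        intro heq
        apply hah
        exact Subtype.ext (by exact_mod_cast heq)
    rw [Finset.sum_congr rfl h4, Finset.sum_ite_eq'] at h3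
    by_cases hh : h ∈ f.coeff.support
    · rw [if_pos hh] at h3
      rcases smul_eq_zero.mp h3 with h5 | h5
      · exact h5
      · exact absurd h5 (hE0 h.1 h.2)
    · exact Finsupp.notMem_support_iff.mp hh
  exact ⟨(RingEquiv.ofBijective φ.toRingHom ⟨hinj, hsurj⟩).symm⟩

end

end Groth.Agent.H21.SegreDim
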