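import Mathlib
import Groth.Prelude.Def_CohB1

/-!
# Topology of the projective spectrum: irreducible closed subsets and Krull dimension

For a graded algebra `𝒜`, the space `ProjectiveSpectrum 𝒜` is sober (it is the underlying space of
the scheme `Proj 𝒜`), so the irreducible closed subsets correspond to points and the topological
Krull dimension of a closed subset is the Krull dimension of the poset of its points.
-/

set_option autoImplicit false
universe u
open AlgebraicGeometry TopologicalSpace Topology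

namespace Groth.Agent.H21.ProjTop

variable {R A : Type u} [CommRing R] [CommRing A] [Algebra R A] (𝒜 : ℕ → Submodule R A)
  [GradedAlgebra 𝒜]

theorem quasiSober : QuasiSober (ProjectiveSpectrum 𝒜) :=
  inferInstanceAs (QuasiSober (Proj 𝒜))

theorem t0Space : T0Space (ProjectiveSpectrum 𝒜) :=
  inferInstanceAs (T0Space (Proj 𝒜))

variable {𝒜}

theorem specializes_iff_le (x y : ProjectiveSpectrum 𝒜) : x ⤳ y ↔ x ≤ y := by
  rw [specializes_iff_mem_closure, ProjectiveSpectrum.le_iff_mem_closure]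

theorem closure_singleton (q : ProjectiveSpectrum 𝒜) :
    closure ({q} : Set (ProjectiveSpectrum 𝒜)) = {x | q ≤ x} := by
  ext x
  rw [Set.mem_setOf_eq, ProjectiveSpectrum.le_iff_mem_closure]

theorem zeroLocus_eq_Ici (q : ProjectiveSpectrum 𝒜) :
    ProjectiveSpectrum.zeroLocus 𝒜 (q.asHomogeneousIdeal.toIdeal : Set A) = {x | q ≤ x} := by
  ext x
  rw [ProjectiveSpectrum.mem_zeroLocus, Set.mem_setOf_eq]
  exact Iff.rfl

theorem isClosed_Ici (q : ProjectiveSpectrum 𝒜) :
    IsClosed {x : ProjectiveSpectrum 𝒜 | q ≤ x} := by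
  rw [← closure_singleton]
  exact isClosed_closure

theorem isIrreducible_Ici (q : ProjectiveSpectrum 𝒜) :
    IsIrreducible {x : ProjectiveSpectrum 𝒜 | q ≤ x} := by
  rw [← closure_singleton]
  exact isIrreducible_singleton.closure

/-- Every irreducible closed subset of the projective spectrum is the set of points above a
(unique) point. -/
theorem exists_eq_Ici_of_isIrreducible {Z : Set (ProjectiveSpectrum 𝒜)} (hZ : IsClosed Z)
    (hZi : IsIrreducible Z) : ∃ q : ProjectiveSpectrum 𝒜, Z = {x | q ≤ x} := by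
  haveI := quasiSober 𝒜
  obtain ⟨q, hq⟩ := QuasiSober.sober hZi hZ
  exact ⟨q, by rw [← closure_singleton, hq.def]⟩

/-- The topological Krull dimension of a closed subset of the projective spectrum is the Krull
dimension of the poset of its points. -/
theorem topologicalKrullDim_subtype (Z : Set (ProjectiveSpectrum 𝒜)) (hZ : IsClosed Z) :
    topologicalKrullDim ↥Z = Order.krullDim ↥Z := by
  haveI := quasiSober 𝒜
  haveI := t0Space 𝒜
  haveI : QuasiSober ↥Z := hZ.isClosedEmbedding_subtypeVal.quasiSober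
  let e := irreducibleSetEquivPoints (α := ↥Z)
  have hrel : ∀ s t : IrreducibleCloseds ↥Z, (e t : ↥Z) ⤳ (e s : ↥Z) ↔ s ≤ t :=
    fun s t => @OrderIso.le_iff_le (IrreducibleCloseds ↥Z) ↥Z _
      (specializationOrder ↥Z).toPreorder.toLE e s t
  have hrel' : ∀ s t : IrreducibleCloseds ↥Z, (e t : ↥Z) ≤ (e s : ↥Z) ↔ s ≤ t := by
    intro s t
    rw [← hrel s t, subtype_specializes_iff, specializes_iff_le]
    exact Iff.rfl
  let e' : IrreducibleCloseds ↥Z ≃o (↥Z)ᵒᵈ :=
    { toEquiv := e.toEquiv.trans OrderDual.toDual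
      map_rel_iff' := by
        intro s t
        exact hrel' s t }
  rw [topologicalKrullDim, Order.krullDim_eq_of_orderIso e', Order.krullDim_orderDual]

/-- An irreducible component of a closed subset `W` of the projective spectrum is the set of points
above a point `q` of `W` that is minimal in `W`. -/
theorem exists_minimal_of_mem_irreducibleComponents (W : Set (ProjectiveSpectrum 𝒜))
    (hW : IsClosed W) (C : Set ↥W) (hC : C ∈ irreducibleComponents ↥W) :
    ∃ q : ProjectiveSpectrum 𝒜, q ∈ W ∧ (∀ q' ∈ W, q' ≤ q → q' = q) ∧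
      topologicalKrullDim ↥C = Order.krullDim ↥{x : ProjectiveSpectrum 𝒜 | q ≤ x} := by
  have hCirr : IsIrreducible C := hC.prop
  have hCcl : IsClosed C := isClosed_of_mem_irreducibleComponents C hC
  have hemb : IsClosedEmbedding (Subtype.val : ↥W → ProjectiveSpectrum 𝒜) :=
    hW.isClosedEmbedding_subtypeVal
  have hDcl : IsClosed (Subtype.val '' C) := hemb.isClosedMap C hCcl
  have hDirr : IsIrreducible (Subtype.val '' C) :=
    hCirr.image Subtype.val continuous_subtype_val.continuousOn
  obtain ⟨q, hq⟩ := exists_eq_Ici_of_isIrreducible hDcl hDirr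
  have hqD : q ∈ Subtype.val '' C := by
    rw [hq]
    exact le_refl q
  obtain ⟨c₀, hc₀C, hc₀q⟩ := hqD
  have hqW : q ∈ W := hc₀q ▸ c₀.2
  refine ⟨q, hqW, ?_, ?_⟩
  · intro q' hq'W hq'q
    -- the closure of `q'` in `W` is irreducible and contains `C`
    have hsub : C ⊆ closure ({⟨q', hq'W⟩} : Set ↥W) := by
      intro c hc
      have hcD : (c : ProjectiveSpectrum 𝒜) ∈ Subtype.val '' C := ⟨c, hc, rfl⟩
      rw [hq] at hcD
      have hle : q' ≤ (c : ProjectiveSpectrum 𝒜) := le_trans hq'q hcD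
      rw [← specializes_iff_mem_closure, subtype_specializes_iff, specializes_iff_le]
      exact hle
    have hirr : IsIrreducible (closure ({⟨q', hq'W⟩} : Set ↥W)) :=
      isIrreducible_singleton.closure
    have hle : closure ({⟨q', hq'W⟩} : Set ↥W) ⊆ C := hC.le_of_ge hirr hsub
    have hmem : (⟨q', hq'W⟩ : ↥W) ∈ C := hle (subset_closure rfl)
    have hq'D : q' ∈ Subtype.val '' C := ⟨⟨q', hq'W⟩, hmem, rfl⟩
    rw [hq] at hq'D
    exact le_antisymm hq'q hq'D
  · have h1 : topologicalKrullDim ↥C = topologicalKrullDim ↥(Subtype.val '' C) :=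
      IsHomeomorph.topologicalKrullDim_eq _
        (hemb.isEmbedding.homeomorphImage C).isHomeomorph
    rw [h1, topologicalKrullDim_subtype _ hDcl, hq]

theorem toIdeal_le_iff (x y : ProjectiveSpectrum 𝒜) :
    x.asHomogeneousIdeal.toIdeal ≤ y.asHomogeneousIdeal.toIdeal ↔ x ≤ y := by
  rw [toIdeal_le_toIdeal_iff, ProjectiveSpectrum.as_ideal_le_as_ideal]

theorem toIdeal_lt_iff (x y : ProjectiveSpectrum 𝒜) :
    x.asHomogeneousIdeal.toIdeal < y.asHomogeneousIdeal.toIdeal ↔ x < y := by
  rw [lt_iff_le_and_ne, lt_iff_le_and_ne, toIdeal_le_iff]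
  refine and_congr_right (fun _ => not_congr ?_)
  constructor
  · intro h
    exact ProjectiveSpectrum.ext (HomogeneousIdeal.toIdeal_injective h)
  · intro h
    rw [h]

/-- The order isomorphism between irreducible closed subsets of the projective spectrum and the
(order dual of the) poset of points. -/
noncomputable def irreducibleClosedsOrderIso :
    IrreducibleCloseds (ProjectiveSpectrum 𝒜) ≃o (ProjectiveSpectrum 𝒜)ᵒᵈ :=
  haveI := quasiSober 𝒜
  haveI := t0Space 𝒜
  { toEquiv := (irreducibleSetEquivPoints (α := ProjectiveSpectrum 𝒜)).toEquiv.trans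
      OrderDual.toDual
    map_rel_iff' := by
      intro s t
      have h := @OrderIso.le_iff_le (IrreducibleCloseds (ProjectiveSpectrum 𝒜))
        (ProjectiveSpectrum 𝒜) _ (specializationOrder (ProjectiveSpectrum 𝒜)).toPreorder.toLE
        (irreducibleSetEquivPoints (α := ProjectiveSpectrum 𝒜)) s t
      rw [← h]
      exact (specializes_iff_le _ _).symm }

theorem coe_irreducibleClosedsOrderIso_symm (x : ProjectiveSpectrum 𝒜) :
    ((irreducibleClosedsOrderIso (𝒜 := 𝒜)).symm (OrderDual.toDual x) : Set (ProjectiveSpectrum 𝒜)) =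
      {y | x ≤ y} := by
  rw [← closure_singleton]
  rfl

/-- A minimal point of the zero locus of a homogeneous ideal `I` is a minimal prime over `I`. -/
theorem toIdeal_mem_minimalPrimes_of_minimal {I : Ideal A} (hI : I.IsHomogeneous 𝒜)
    (q : ProjectiveSpectrum 𝒜) (hq : I ≤ q.asHomogeneousIdeal.toIdeal)
    (hmin : ∀ q' : ProjectiveSpectrum 𝒜, I ≤ q'.asHomogeneousIdeal.toIdeal → q' ≤ q → q' = q) :
    q.asHomogeneousIdeal.toIdeal ∈ I.minimalPrimes := by
  refine ⟨⟨q.isPrime, hq⟩, ?_⟩
  rintro P ⟨hP, hIP⟩ hPq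
  have hprime : (Ideal.homogeneousCore 𝒜 P).toIdeal.IsPrime := Ideal.IsPrime.homogeneousCore hP
  have hle : (Ideal.homogeneousCore 𝒜 P).toIdeal ≤ P := Ideal.toIdeal_homogeneousCore_le 𝒜 P
  have hI' : I ≤ (Ideal.homogeneousCore 𝒜 P).toIdeal := by
    rw [← hI.toIdeal_homogeneousCore_eq_self]
    exact toIdeal_le_toIdeal_iff.mpr (Ideal.homogeneousCore_mono 𝒜 hIP)
  let q' : ProjectiveSpectrum 𝒜 := ⟨Ideal.homogeneousCore 𝒜 P, hprime, fun hirr =>
    q.not_irrelevant_le (le_trans hirr
      (toIdeal_le_toIdeal_iff.mp (le_trans hle hPq)))⟩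
  have hq'q : q' ≤ q := (toIdeal_le_iff q' q).mp (le_trans hle hPq)
  have heq : q' = q := hmin q' hI' hq'q
  rw [← heq]
  exact hle

/-- Minimal primes over a homogeneous ideal are homogeneous. -/
theorem isHomogeneous_of_mem_minimalPrimes {I q : Ideal A} (hI : I.IsHomogeneous 𝒜)
    (hq : q ∈ I.minimalPrimes) : q.IsHomogeneous 𝒜 := by
  have hqprime : q.IsPrime := hq.1.1
  have hprime : (Ideal.homogeneousCore 𝒜 q).toIdeal.IsPrime := Ideal.IsPrime.homogeneousCore hqprime
  have hle : (Ideal.homogeneousCore 𝒜 q).toIdeal ≤ q := Ideal.toIdeal_homogeneousCore_le 𝒜 q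
  have hI' : I ≤ (Ideal.homogeneousCore 𝒜 q).toIdeal := by
    rw [← hI.toIdeal_homogeneousCore_eq_self]
    exact toIdeal_le_toIdeal_iff.mpr (Ideal.homogeneousCore_mono 𝒜 hq.1.2)
  have hge : q ≤ (Ideal.homogeneousCore 𝒜 q).toIdeal := hq.2 ⟨hprime, hI'⟩ hle
  have heq : (Ideal.homogeneousCore 𝒜 q).toIdeal = q := le_antisymm hle hge
  rw [← heq]
  exact (Ideal.homogeneousCore 𝒜 q).isHomogeneous

/-- An irreducible component `C` of the zero locus of a homogeneous ideal `I` corresponds to a
point `q` whose ideal is a minimal prime over `I`. -/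
theorem exists_minimalPrime_of_mem_irreducibleComponents {I : Ideal A} (hI : I.IsHomogeneous 𝒜)
    (W : Set (ProjectiveSpectrum 𝒜)) (hW : W = ProjectiveSpectrum.zeroLocus 𝒜 (I : Set A))
    (C : Set ↥W) (hC : C ∈ irreducibleComponents ↥W) :
    ∃ q : ProjectiveSpectrum 𝒜, q.asHomogeneousIdeal.toIdeal ∈ I.minimalPrimes ∧
      topologicalKrullDim ↥C = Order.krullDim ↥{x : ProjectiveSpectrum 𝒜 | q ≤ x} := by
  subst hW
  obtain ⟨q, hqW, hmin, hdim⟩ := exists_minimal_of_mem_irreducibleComponents _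
    (ProjectiveSpectrum.isClosed_zeroLocus 𝒜 _) C hC
  refine ⟨q, ?_, hdim⟩
  have hq : I ≤ q.asHomogeneousIdeal.toIdeal := by
    rw [ProjectiveSpectrum.mem_zeroLocus] at hqW
    exact hqW
  refine toIdeal_mem_minimalPrimes_of_minimal hI q hq ?_
  intro q' hq' hq'q
  exact hmin q' (by rw [ProjectiveSpectrum.mem_zeroLocus]; exact hq') hq'q

/-- Monotonicity of the Krull dimension of the poset of points. -/
theorem krullDim_subtype_mono {Z W : Set (ProjectiveSpectrum 𝒜)} (h : Z ⊆ W) :
    Order.krullDim ↥Z ≤ Order.krullDim ↥W :=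
  Order.krullDim_le_of_strictMono (fun z : ↥Z => (⟨z.1, h z.2⟩ : ↥W)) (fun _ _ hab => hab)

end Groth.Agent.H21.ProjTop
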