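import Mathlib
import Groth.Prelude.Def_CohB1
import Groth.Agent.S10915
import Groth.Agent.H54.AffineDim2
import Groth.Agent.H21.ProjTop

/-!
# Dimension theory of projective space over a field

For `S = k[X_0, …, X_n]` graded by degree we relate chains of points of `ProjectiveSpectrum` (relevant
homogeneous primes) to Krull dimensions of quotients of `S`.  The main result is
`krullDim_Ici_add_one`: for a point `x`, the poset of points above `x` has Krull dimension
`dim S/x - 1`.
-/

set_option autoImplicit false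
universe u
open AlgebraicGeometry TopologicalSpace Topology MvPolynomial

namespace Groth.Agent.H21.ProjDim

open Groth.Agent.S10915 (irr mem_irr_iff irr_isMaximal le_irr_of_isHomogeneous)
open Groth.Agent.H21.ProjTop

section Arith

theorem eq_of_add_one_eq {a : WithBot ℕ∞} {e : ℕ}
    (h : a + 1 = ((e + 1 : ℕ) : WithBot ℕ∞)) : a = (e : WithBot ℕ∞) := by
  induction a using WithBot.recBotCoe with
  | bot =>
    exfalso
    rw [WithBot.bot_add] at h
    exact WithBot.bot_ne_natCast _ h
  | coe b =>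
    induction b using ENat.recTopCoe with
    | top =>
      exfalso
      have h' : ((⊤ : ℕ∞) + 1 : ℕ∞) = ((e + 1 : ℕ) : ℕ∞) := by exact_mod_cast h
      rw [top_add] at h'
      exact ENat.top_ne_natCast _ h'
    | coe m =>
      have h' : m + 1 = e + 1 := by exact_mod_cast h
      have : m = e := by omega
      rw [this]
      rfl

end Arith

section Poly

variable (k : Type u) [Field k] (n : ℕ)

theorem irrelevant_toIdeal_eq :
    (HomogeneousIdeal.irrelevant (CohB1.polyGrading n k)).toIdeal = irr k n := by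
  ext a
  have h5 : (DirectSum.decompose (CohB1.polyGrading n k) a 0 : MvPolynomial (Fin (n + 1)) k) =
      MvPolynomial.homogeneousComponent 0 a :=
    MvPolynomial.decomposition.decompose'_apply a 0
  rw [HomogeneousIdeal.mem_iff, HomogeneousIdeal.mem_irrelevant_iff, GradedRing.proj_apply, h5,
    MvPolynomial.homogeneousComponent_zero, mem_irr_iff,
    map_eq_zero_iff _ (MvPolynomial.C_injective _ _)]

theorem ringKrullDim_poly :
    ringKrullDim (MvPolynomial (Fin (n + 1)) k) = ((n + 1 : ℕ) : WithBot ℕ∞) := by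
  rw [MvPolynomial.ringKrullDim_of_isNoetherianRing, ringKrullDim_eq_zero_of_field, zero_add,
    Nat.card_eq_fintype_card, Fintype.card_fin]

theorem dim_irr : ringKrullDim (MvPolynomial (Fin (n + 1)) k ⧸ irr k n) = 0 :=
  ringKrullDim_eq_zero_of_isField
    ((Ideal.Quotient.maximal_ideal_iff_isField_quotient _).mp (irr_isMaximal k n))

theorem exists_nat_dim (p : Ideal (MvPolynomial (Fin (n + 1)) k)) (hp : p ≠ ⊤) :
    ∃ d : ℕ, ringKrullDim (MvPolynomial (Fin (n + 1)) k ⧸ p) = (d : WithBot ℕ∞) ∧ d ≤ n + 1 := by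
  haveI : Nontrivial (MvPolynomial (Fin (n + 1)) k ⧸ p) := Ideal.Quotient.nontrivial_iff.mpr hp
  have h1 : ringKrullDim (MvPolynomial (Fin (n + 1)) k ⧸ p) ≤ ((n + 1 : ℕ) : WithBot ℕ∞) :=
    (ringKrullDim_quotient_le p).trans (ringKrullDim_poly k n).le
  have h0 : ringKrullDim (MvPolynomial (Fin (n + 1)) k ⧸ p) ≠ ⊥ :=
    ne_bot_of_le_ne_bot (WithBot.coe_ne_bot : ((0 : ℕ∞) : WithBot ℕ∞) ≠ ⊥)
      ringKrullDim_nonneg_of_nontrivial
  obtain ⟨d, hd⟩ := Groth.Agent.H54.exists_nat_eq_of_le h0 h1
  refine ⟨d, hd, ?_⟩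
  rw [hd] at h1
  exact_mod_cast h1

/-- Dimension formula: for primes `p ≤ q` of the polynomial ring, `ht(q/p) + dim S/q = dim S/p`. -/
theorem height_map_add_dim {p q : Ideal (MvPolynomial (Fin (n + 1)) k)} [hp : p.IsPrime]
    [hq : q.IsPrime] (hpq : p ≤ q) :
    ((q.map (Ideal.Quotient.mk p)).height : WithBot ℕ∞) +
        ringKrullDim (MvPolynomial (Fin (n + 1)) k ⧸ q) =
      ringKrullDim (MvPolynomial (Fin (n + 1)) k ⧸ p) := by
  have hprime : (q.map (Ideal.Quotient.mk p)).IsPrime :=
    Ideal.map_isPrime_of_surjective Ideal.Quotient.mk_surjective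
      (by rw [Ideal.mk_ker]; exact hpq)
  have h := Groth.Agent.H54.height_add_ringKrullDim_quotient k
    (MvPolynomial (Fin (n + 1)) k ⧸ p) ⟨q.map (Ideal.Quotient.mk p), hprime⟩
  have he : ringKrullDim ((MvPolynomial (Fin (n + 1)) k ⧸ p) ⧸ q.map (Ideal.Quotient.mk p)) =
      ringKrullDim (MvPolynomial (Fin (n + 1)) k ⧸ q) :=
    ringKrullDim_eq_of_ringEquiv (DoubleQuot.quotQuotEquivQuotOfLE hpq)
  rw [← he]
  exact h

/-- Dimension formula for the polynomial ring itself. -/
theorem height_add_dim (p : Ideal (MvPolynomial (Fin (n + 1)) k)) [hp : p.IsPrime] :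
    (p.height : WithBot ℕ∞) + ringKrullDim (MvPolynomial (Fin (n + 1)) k ⧸ p) =
      ((n + 1 : ℕ) : WithBot ℕ∞) := by
  rw [← ringKrullDim_poly k n]
  exact Groth.Agent.H54.height_add_ringKrullDim_quotient k (MvPolynomial (Fin (n + 1)) k) ⟨p, hp⟩

theorem one_le_height_map_of_lt {p q : Ideal (MvPolynomial (Fin (n + 1)) k)} [hp : p.IsPrime]
    [hq : q.IsPrime] (hpq : p < q) : 1 ≤ (q.map (Ideal.Quotient.mk p)).height := by
  have hprime : (q.map (Ideal.Quotient.mk p)).IsPrime :=
    Ideal.map_isPrime_of_surjective Ideal.Quotient.mk_surjective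
      (by rw [Ideal.mk_ker]; exact hpq.le)
  rw [Order.one_le_iff_ne_zero]
  intro h0
  rw [Ideal.height_eq_zero_iff, IsDomain.minimalPrimes_eq_singleton_bot, Set.mem_singleton_iff,
    Ideal.map_eq_bot_iff_le_ker, Ideal.mk_ker] at h0
  exact not_le_of_gt hpq h0

theorem dim_succ_le_of_lt {p q : Ideal (MvPolynomial (Fin (n + 1)) k)} [hp : p.IsPrime]
    [hq : q.IsPrime] (hpq : p < q) :
    ringKrullDim (MvPolynomial (Fin (n + 1)) k ⧸ q) + 1 ≤
      ringKrullDim (MvPolynomial (Fin (n + 1)) k ⧸ p) := by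
  rw [← height_map_add_dim k n hpq.le, add_comm]
  have h1 : (1 : WithBot ℕ∞) ≤ ((q.map (Ideal.Quotient.mk p)).height : WithBot ℕ∞) := by
    exact_mod_cast one_le_height_map_of_lt k n hpq
  exact add_le_add_left h1 _

/-- Krull's height theorem in the quotient by a prime. -/
theorem height_map_le_of_mem_minimalPrimes {r : ℕ} (p : Ideal (MvPolynomial (Fin (n + 1)) k))
    (f : Fin r → MvPolynomial (Fin (n + 1)) k) {q : Ideal (MvPolynomial (Fin (n + 1)) k)}
    (hq : q ∈ (p ⊔ Ideal.span (Set.range f)).minimalPrimes) :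
    (q.map (Ideal.Quotient.mk p)).height ≤ r := by
  classical
  have hmem : q.map (Ideal.Quotient.mk p) ∈
      ((Ideal.span (Set.range f)).map (Ideal.Quotient.mk p)).minimalPrimes := by
    rw [Ideal.minimalPrimes_map_of_surjective Ideal.Quotient.mk_surjective, Ideal.mk_ker,
      sup_comm]
    exact ⟨q, hq, rfl⟩
  have hspan : (Ideal.span (Set.range f)).map (Ideal.Quotient.mk p) =
      Ideal.span ((Finset.univ.image (fun i => Ideal.Quotient.mk p (f i)) : Finset _) : Set _) := by
    rw [Ideal.map_span, Finset.coe_image, Finset.coe_univ, Set.image_univ, ← Set.range_comp]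
    rfl
  rw [hspan] at hmem
  refine le_trans (Ideal.height_le_card_of_mem_minimalPrimes_span_finset hmem) ?_
  have hcard : (Finset.univ.image (fun i => Ideal.Quotient.mk p (f i))).card ≤ r := by
    refine le_trans Finset.card_image_le ?_
    rw [Finset.card_univ, Fintype.card_fin]
  exact_mod_cast hcard

variable {k n}

theorem point_ne_irr (x : ProjectiveSpectrum (CohB1.polyGrading n k)) :
    x.asHomogeneousIdeal.toIdeal ≠ irr k n := by
  intro h
  apply x.not_irrelevant_le
  rw [← toIdeal_le_toIdeal_iff, irrelevant_toIdeal_eq, h]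

theorem point_lt_irr (x : ProjectiveSpectrum (CohB1.polyGrading n k)) :
    x.asHomogeneousIdeal.toIdeal < irr k n :=
  lt_of_le_of_ne (le_irr_of_isHomogeneous k n x.asHomogeneousIdeal.isHomogeneous
    x.isPrime.ne_top) (point_ne_irr x)

/-- The point of the projective spectrum given by a homogeneous prime other than the irrelevant
ideal. -/
noncomputable def mkPoint (p : Ideal (MvPolynomial (Fin (n + 1)) k)) (hp : p.IsPrime)
    (hph : p.IsHomogeneous (CohB1.polyGrading n k)) (hne : p ≠ irr k n) :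
    ProjectiveSpectrum (CohB1.polyGrading n k) :=
  ⟨⟨p, hph⟩, hp, fun hle => hne (by
    have h1 : irr k n ≤ p := by
      rw [← irrelevant_toIdeal_eq]
      exact toIdeal_le_toIdeal_iff.mpr hle
    exact ((irr_isMaximal k n).eq_of_le hp.ne_top h1).symm)⟩

@[simp]
theorem mkPoint_toIdeal (p : Ideal (MvPolynomial (Fin (n + 1)) k)) (hp : p.IsPrime)
    (hph : p.IsHomogeneous (CohB1.polyGrading n k)) (hne : p ≠ irr k n) :
    (mkPoint p hp hph hne).asHomogeneousIdeal.toIdeal = p := rfl

/-- A homogeneous prime with zero-dimensional quotient is the irrelevant ideal. -/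
theorem eq_irr_of_dim_le_zero {p : Ideal (MvPolynomial (Fin (n + 1)) k)} [hp : p.IsPrime]
    (hph : p.IsHomogeneous (CohB1.polyGrading n k))
    (hdim : ringKrullDim (MvPolynomial (Fin (n + 1)) k ⧸ p) ≤ 0) : p = irr k n := by
  by_contra hne
  have hlt : p < irr k n :=
    lt_of_le_of_ne (le_irr_of_isHomogeneous k n hph hp.ne_top) hne
  haveI := (irr_isMaximal k n).isPrime
  have h := dim_succ_le_of_lt k n hlt
  rw [dim_irr] at h
  have h2 : ((0 : ℕ) : WithBot ℕ∞) + 1 ≤ ((0 : ℕ) : WithBot ℕ∞) := by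
    simpa using h.trans hdim
  have h3 : 0 + 1 ≤ 0 := by exact_mod_cast h2
  omega

/-- Given a point `x` with `dim S/x = e + 1`, there is a chain of `e + 1` points starting at `x`. -/
theorem exists_ltSeries_of_dim (e : ℕ) :
    ∀ x : ProjectiveSpectrum (CohB1.polyGrading n k),
      ringKrullDim (MvPolynomial (Fin (n + 1)) k ⧸ x.asHomogeneousIdeal.toIdeal) =
        ((e + 1 : ℕ) : WithBot ℕ∞) →
      ∃ s : LTSeries (ProjectiveSpectrum (CohB1.polyGrading n k)), s.length = e ∧ s.head = x := by
  induction e with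
  | zero =>
    intro x _
    exact ⟨RelSeries.singleton _ x, rfl, rfl⟩
  | succ e ih =>
    intro x hx
    haveI hpprime : x.asHomogeneousIdeal.toIdeal.IsPrime := x.isPrime
    obtain ⟨i, hi⟩ : ∃ i : Fin (n + 1),
        (X i : MvPolynomial (Fin (n + 1)) k) ∉ x.asHomogeneousIdeal.toIdeal := by
      by_contra hcon
      push Not at hcon
      apply point_ne_irr x
      refine le_antisymm (point_lt_irr x).le ?_
      refine Ideal.span_le.mpr ?_
      rintro _ ⟨i, rfl⟩
      exact hcon i
    have hIhom : (x.asHomogeneousIdeal.toIdeal ⊔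
        Ideal.span {(X i : MvPolynomial (Fin (n + 1)) k)}).IsHomogeneous
          (CohB1.polyGrading n k) := by
      refine x.asHomogeneousIdeal.isHomogeneous.sup (Ideal.homogeneous_span _ _ ?_)
      rintro _ rfl
      exact ⟨1, MvPolynomial.isHomogeneous_X k i⟩
    have hIle : x.asHomogeneousIdeal.toIdeal ⊔
        Ideal.span {(X i : MvPolynomial (Fin (n + 1)) k)} ≤ irr k n := by
      refine sup_le (point_lt_irr x).le (Ideal.span_le.mpr ?_)
      rintro _ rfl
      exact Ideal.subset_span ⟨i, rfl⟩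
    have hIne : x.asHomogeneousIdeal.toIdeal ⊔
        Ideal.span {(X i : MvPolynomial (Fin (n + 1)) k)} ≠ ⊤ := by
      intro h
      rw [h] at hIle
      exact (irr_isMaximal k n).ne_top (top_le_iff.mp hIle)
    obtain ⟨⟨q, hq⟩⟩ := Ideal.nonempty_minimalPrimes hIne
    haveI hqprime : q.IsPrime := hq.1.1
    have hqhom : q.IsHomogeneous (CohB1.polyGrading n k) :=
      isHomogeneous_of_mem_minimalPrimes hIhom hq
    have hpq : x.asHomogeneousIdeal.toIdeal ≤ q := le_sup_left.trans hq.1.2
    have hXq : (X i : MvPolynomial (Fin (n + 1)) k) ∈ q :=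
      hq.1.2 (Ideal.mem_sup_right (Ideal.subset_span rfl))
    have hpq' : x.asHomogeneousIdeal.toIdeal < q :=
      lt_of_le_of_ne hpq (fun h => hi (h ▸ hXq))
    have hht1 : (q.map (Ideal.Quotient.mk x.asHomogeneousIdeal.toIdeal)).height ≤ 1 :=
      Ideal.map_height_le_one_of_mem_minimalPrimes hq
    have hdim := height_map_add_dim k n hpq
    have hdrop := dim_succ_le_of_lt k n hpq'
    obtain ⟨dq, hdq, -⟩ := exists_nat_dim k n q hqprime.ne_top
    rw [hdq, hx] at hdim hdrop
    have hht1' : ((q.map (Ideal.Quotient.mk x.asHomogeneousIdeal.toIdeal)).height : WithBot ℕ∞) ≤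
        ((1 : ℕ) : WithBot ℕ∞) := by exact_mod_cast hht1
    have h1 : ((e + 1 + 1 : ℕ) : WithBot ℕ∞) ≤ ((1 + dq : ℕ) : WithBot ℕ∞) := by
      rw [← hdim]
      push_cast
      exact add_le_add_left hht1' _
    have h1' : e + 1 + 1 ≤ 1 + dq := by exact_mod_cast h1
    have h2' : dq + 1 ≤ e + 1 + 1 := by exact_mod_cast hdrop
    have hdq' : dq = e + 1 := by omega
    have hqne : q ≠ irr k n := by
      intro h
      rw [h, dim_irr] at hdq
      have : (0 : ℕ) = dq := by exact_mod_cast hdq
      omega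
    obtain ⟨s', hs'len, hs'head⟩ := ih (mkPoint q hqprime hqhom hqne) (by
      rw [mkPoint_toIdeal, hdq, hdq'])
    have hxy : x < mkPoint q hqprime hqhom hqne := (toIdeal_lt_iff _ _).mp hpq'
    refine ⟨s'.cons x (by rw [hs'head]; exact hxy), ?_, ?_⟩
    · rw [RelSeries.cons_length, hs'len]
    · exact RelSeries.head_cons _ _ _

/-- For a point `x` of projective space, the poset of points above `x` has Krull dimension
`dim S/x - 1`. -/
theorem krullDim_Ici_add_one (x : ProjectiveSpectrum (CohB1.polyGrading n k)) :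
    Order.krullDim ↥{y : ProjectiveSpectrum (CohB1.polyGrading n k) | x ≤ y} + 1 =
      ringKrullDim (MvPolynomial (Fin (n + 1)) k ⧸ x.asHomogeneousIdeal.toIdeal) := by
  haveI hpprime : x.asHomogeneousIdeal.toIdeal.IsPrime := x.isPrime
  haveI := (irr_isMaximal k n).isPrime
  obtain ⟨d, hd, -⟩ := exists_nat_dim k n x.asHomogeneousIdeal.toIdeal x.isPrime.ne_top
  have hdrop := dim_succ_le_of_lt k n (point_lt_irr x)
  rw [dim_irr, hd] at hdrop
  have hd1 : 0 + 1 ≤ d := by exact_mod_cast hdrop
  obtain ⟨e, rfl⟩ : ∃ e, d = e + 1 := ⟨d - 1, by omega⟩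
  rw [hd]
  apply le_antisymm
  · have hub : Order.krullDim ↥{y : ProjectiveSpectrum (CohB1.polyGrading n k) | x ≤ y} ≤
        (e : WithBot ℕ∞) := by
      rw [Order.krullDim, iSup_le_iff]
      intro l
      let f : ↥{y : ProjectiveSpectrum (CohB1.polyGrading n k) | x ≤ y} →
          ↥(PrimeSpectrum.zeroLocus
            (x.asHomogeneousIdeal.toIdeal : Set (MvPolynomial (Fin (n + 1)) k))) :=
        fun y => ⟨⟨y.1.asHomogeneousIdeal.toIdeal, y.1.isPrime⟩,
          (PrimeSpectrum.mem_zeroLocus _ _).mpr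
            (SetLike.coe_subset_coe.mpr ((toIdeal_le_iff x y.1).mpr y.2))⟩
      have hf : StrictMono f := fun a b hab => (toIdeal_lt_iff a.1 b.1).mpr hab
      let top : ↥(PrimeSpectrum.zeroLocus
          (x.asHomogeneousIdeal.toIdeal : Set (MvPolynomial (Fin (n + 1)) k))) :=
        ⟨⟨irr k n, (irr_isMaximal k n).isPrime⟩,
          (PrimeSpectrum.mem_zeroLocus _ _).mpr (SetLike.coe_subset_coe.mpr (point_lt_irr x).le)⟩
      have hlast : (l.map f hf).last < top := point_lt_irr l.last.1
      have h3 := Order.LTSeries.length_le_krullDim ((l.map f hf).snoc top hlast)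
      rw [← ringKrullDim_quotient, hd] at h3
      have h4 : l.length + 1 ≤ e + 1 := by
        have : ((l.length + 1 : ℕ) : WithBot ℕ∞) ≤ ((e + 1 : ℕ) : WithBot ℕ∞) := by
          simpa using h3
        exact_mod_cast this
      exact_mod_cast (by omega : l.length ≤ e)
    calc Order.krullDim ↥{y : ProjectiveSpectrum (CohB1.polyGrading n k) | x ≤ y} + 1
        ≤ (e : WithBot ℕ∞) + 1 := add_le_add_left hub 1
      _ = ((e + 1 : ℕ) : WithBot ℕ∞) := by push_cast; rfl
  · obtain ⟨s, hslen, hshead⟩ := exists_ltSeries_of_dim e x hd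
    let s' : LTSeries ↥{y : ProjectiveSpectrum (CohB1.polyGrading n k) | x ≤ y} :=
      { length := s.length
        toFun := fun i => ⟨s i, by
          have := LTSeries.head_le s i
          rw [hshead] at this
          exact this⟩
        step := fun i => s.step i }
    have h := Order.LTSeries.length_le_krullDim s'
    have h' : (e : WithBot ℕ∞) ≤
        Order.krullDim ↥{y : ProjectiveSpectrum (CohB1.polyGrading n k) | x ≤ y} := by
      have : s'.length = e := hslen
      rw [this] at h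
      exact h
    calc ((e + 1 : ℕ) : WithBot ℕ∞) = (e : WithBot ℕ∞) + 1 := by push_cast; rfl
      _ ≤ _ := add_le_add_left h' 1

/-- Natural-number form of `krullDim_Ici_add_one`. -/
theorem exists_dim_Ici (x : ProjectiveSpectrum (CohB1.polyGrading n k)) :
    ∃ e : ℕ, ringKrullDim (MvPolynomial (Fin (n + 1)) k ⧸ x.asHomogeneousIdeal.toIdeal) =
        ((e + 1 : ℕ) : WithBot ℕ∞) ∧
      Order.krullDim ↥{y : ProjectiveSpectrum (CohB1.polyGrading n k) | x ≤ y} =
        (e : WithBot ℕ∞) ∧
      topologicalKrullDim ↥{y : ProjectiveSpectrum (CohB1.polyGrading n k) | x ≤ y} =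
        (e : WithBot ℕ∞) := by
  haveI hpprime : x.asHomogeneousIdeal.toIdeal.IsPrime := x.isPrime
  haveI := (irr_isMaximal k n).isPrime
  obtain ⟨d, hd, -⟩ := exists_nat_dim k n x.asHomogeneousIdeal.toIdeal x.isPrime.ne_top
  have hdrop := dim_succ_le_of_lt k n (point_lt_irr x)
  rw [dim_irr, hd] at hdrop
  have hd1 : 0 + 1 ≤ d := by exact_mod_cast hdrop
  obtain ⟨e, rfl⟩ : ∃ e, d = e + 1 := ⟨d - 1, by omega⟩
  have h := krullDim_Ici_add_one x
  rw [hd] at h
  have h' := eq_of_add_one_eq h
  exact ⟨e, hd, h', by rw [topologicalKrullDim_subtype _ (isClosed_Ici x), h']⟩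

end Poly

end Groth.Agent.H21.ProjDim
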