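import Groth.Agent.S10904
import Groth.Agent.H21.ProjDim
import Groth.Agent.H21.HilbertCI
import Groth.Agent.H79.LenLoc
import Groth.Agent.H21.SegreCM

/-!
# Hilbert polynomials through graded prime filtrations (helper21)

For `R = k[X_0, …, X_n]` and a homogeneous ideal `I`:

* `HasFilt I L`: a chain `I = I_0 ⊂ I_1 ⊂ ⋯ ⊂ I_N = R` with `I_{j+1} = I_j + (g_j)`, `g_j` homogeneous of
  degree `e_j` and `(I_j : g_j) = p_j` a homogeneous prime; `L` is the list of the `(p_j, e_j)`.
* `exists_hasFilt`: such a chain exists.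
* `hf_step`: `h_I(m) = h_{I+(g)}(m) + h_p(m - e)`.
* `exists_hp_prime`: a homogeneous prime `p` with `dim R/p = δ` has a Hilbert polynomial, zero when
  `δ = 0`, and of degree `δ - 1` with positive leading coefficient otherwise.
* `length_localized_filt`: for a prime `q` minimal over `I`, the length of `(R/I)_q` is the number of
  `j` with `p_j = q`.
-/

set_option autoImplicit false
set_option linter.style.haveILetI false
universe u

open Polynomial

namespace Groth.Agent.H21.HilbFilt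

section Poly

/-- `h` is eventually given by the polynomial `P`. -/
def IsHP (h : ℕ → ℚ) (P : ℚ[X]) : Prop := ∃ m₀ : ℕ, ∀ m : ℕ, m₀ ≤ m → P.eval (m : ℚ) = h m

theorem IsHP.unique {h : ℕ → ℚ} {P P' : ℚ[X]} (hP : IsHP h P) (hP' : IsHP h P') : P = P' := by
  obtain ⟨m₀, h0⟩ := hP
  obtain ⟨m₁, h1⟩ := hP'
  apply Polynomial.eq_of_infinite_eval_eq
  apply Set.infinite_of_injective_forall_mem (f := fun i : ℕ => ((i + (m₀ + m₁) : ℕ) : ℚ))
  · intro a b hab
    have hab' : ((a + (m₀ + m₁) : ℕ) : ℚ) = ((b + (m₀ + m₁) : ℕ) : ℚ) := hab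
    have h2 : (a + (m₀ + m₁) : ℕ) = b + (m₀ + m₁) := by exact_mod_cast hab'
    omega
  · intro i
    show eval _ P = eval _ P'
    rw [h0 _ (by omega), h1 _ (by omega)]

theorem IsHP.add {h h' : ℕ → ℚ} {P P' : ℚ[X]} (hP : IsHP h P) (hP' : IsHP h' P') :
    IsHP (fun m => h m + h' m) (P + P') := by
  obtain ⟨m₀, h0⟩ := hP
  obtain ⟨m₁, h1⟩ := hP'
  refine ⟨max m₀ m₁, fun m hm => ?_⟩
  rw [eval_add, h0 m (le_trans (le_max_left _ _) hm), h1 m (le_trans (le_max_right _ _) hm)]

theorem IsHP.congr {h h' : ℕ → ℚ} {P : ℚ[X]} (hP : IsHP h P)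
    (hh : ∃ m₀ : ℕ, ∀ m : ℕ, m₀ ≤ m → h m = h' m) : IsHP h' P := by
  obtain ⟨m₀, h0⟩ := hP
  obtain ⟨m₁, h1⟩ := hh
  refine ⟨max m₀ m₁, fun m hm => ?_⟩
  rw [h0 m (le_trans (le_max_left _ _) hm), h1 m (le_trans (le_max_right _ _) hm)]

/-- The shift `Q(X - e)`. -/
noncomputable def sh (e : ℕ) (Q : ℚ[X]) : ℚ[X] := taylor (-(e : ℚ)) Q

theorem natDegree_sh (e : ℕ) (Q : ℚ[X]) : (sh e Q).natDegree = Q.natDegree := natDegree_taylor _ _

theorem leadingCoeff_sh (e : ℕ) (Q : ℚ[X]) : (sh e Q).leadingCoeff = Q.leadingCoeff :=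
  leadingCoeff_taylor _ _

theorem sh_zero (e : ℕ) : sh e 0 = 0 := map_zero _

theorem sh_eq_zero_iff (e : ℕ) (Q : ℚ[X]) : sh e Q = 0 ↔ Q = 0 := taylor_eq_zero _ _

theorem IsHP.shift {h : ℕ → ℚ} {P : ℚ[X]} (e : ℕ) (hP : IsHP h P) :
    IsHP (fun m => h (m - e)) (sh e P) := by
  obtain ⟨m₀, h0⟩ := hP
  refine ⟨m₀ + e, fun m hm => ?_⟩
  have hem : e ≤ m := by omega
  show eval (m : ℚ) (sh e P) = h (m - e)
  rw [sh, taylor_eval, ← h0 (m - e) (by omega), Nat.cast_sub hem, sub_eq_add_neg]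

theorem exists_antidiff : ∀ (d : ℕ) (Q : ℚ[X]), Q.degree < d → ∃ P : ℚ[X], taylor 1 P - P = Q := by
  intro d
  induction d with
  | zero =>
    intro Q hQ
    have hQ0 : Q = 0 := by
      by_contra hne
      have h1 := Polynomial.zero_le_degree_iff.mpr hne
      have h2 : (0 : WithBot ℕ) < ((0 : ℕ) : WithBot ℕ) := lt_of_le_of_lt h1 hQ
      exact absurd h2 (lt_irrefl _)
    exact ⟨0, by rw [hQ0, map_zero, sub_zero]⟩
  | succ d ih =>
    intro Q hQ
    by_cases hlt : Q.degree < d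
    · exact ih Q hlt
    · have hQ0 : Q ≠ 0 := by
        rintro rfl
        apply hlt
        rw [degree_zero]
        exact WithBot.bot_lt_coe _
      have hdeg : Q.degree = (d : WithBot ℕ) := by
        rw [degree_eq_natDegree hQ0] at hQ hlt ⊢
        have h1 : Q.natDegree < d + 1 := by exact_mod_cast hQ
        have h2 : ¬ Q.natDegree < d := by exact_mod_cast hlt
        have h3 : Q.natDegree = d := by omega
        rw [h3]
      have hnat : Q.natDegree = d := natDegree_eq_of_degree_eq_some hdeg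
      obtain ⟨M, hM⟩ : ∃ M : ℚ[X], M = C (Q.leadingCoeff / ((d : ℚ) + 1)) * X ^ (d + 1) := ⟨_, rfl⟩
      have hc : Q.leadingCoeff / ((d : ℚ) + 1) ≠ 0 := by
        apply div_ne_zero (leadingCoeff_ne_zero.mpr hQ0)
        positivity
      have hMnat : M.natDegree = d + 1 := by
        rw [hM, natDegree_C_mul_X_pow _ _ hc]
      have hMlc : M.leadingCoeff = Q.leadingCoeff / ((d : ℚ) + 1) := by
        rw [hM, leadingCoeff_mul, leadingCoeff_C, leadingCoeff_X_pow, mul_one]
      obtain ⟨h1, h2⟩ := Groth.Agent.S10904.taylor_sub_self M 1 one_pos (by rw [hMnat]; omega)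
      rw [Nat.cast_one] at h1 h2
      have hΔnat : (taylor 1 M - M).natDegree = d := by rw [hMnat] at h1; omega
      have hΔlc : (taylor 1 M - M).leadingCoeff = Q.leadingCoeff := by
        rw [h2, hMnat, hMlc]
        push_cast
        field_simp
      have hΔ0 : taylor 1 M - M ≠ 0 := by
        intro h0
        rw [h0, leadingCoeff_zero] at hΔlc
        exact leadingCoeff_ne_zero.mpr hQ0 hΔlc.symm
      have hlt' : (Q - (taylor 1 M - M)).degree < d := by
        have h3 : Q.degree = (taylor 1 M - M).degree := by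
          rw [degree_eq_natDegree hQ0, degree_eq_natDegree hΔ0, hnat, hΔnat]
        have h4 := degree_sub_lt_left h3 hQ0 hΔlc.symm
        rwa [hdeg] at h4
      obtain ⟨P', hP'⟩ := ih _ hlt'
      refine ⟨P' + M, ?_⟩
      rw [map_add, add_sub_add_comm, hP']
      ring

theorem antidiff_props {P Q : ℚ[X]} (h : taylor 1 P - P = Q) :
    (Q = 0 → P.natDegree = 0) ∧
      (Q ≠ 0 → P.natDegree = Q.natDegree + 1 ∧
        Q.leadingCoeff = (P.natDegree : ℚ) * P.leadingCoeff) := by
  by_cases hP : 1 ≤ P.natDegree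
  · obtain ⟨h1, h2⟩ := Groth.Agent.S10904.taylor_sub_self P 1 one_pos hP
    rw [Nat.cast_one, h] at h1 h2
    rw [mul_one] at h2
    have hP0 : P ≠ 0 := by
      rintro rfl
      rw [natDegree_zero] at hP
      omega
    have hQ0 : Q ≠ 0 := by
      intro hQ
      rw [hQ, leadingCoeff_zero] at h2
      have h3 : (P.natDegree : ℚ) ≠ 0 := by
        have : 0 < P.natDegree := hP
        positivity
      rcases mul_eq_zero.mp h2.symm with h4 | h4
      · exact h3 h4
      · exact hP0 (leadingCoeff_eq_zero.mp h4)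
    exact ⟨fun hQ => absurd hQ hQ0, fun _ => ⟨h1.symm, h2⟩⟩
  · have hP0 : P.natDegree = 0 := by omega
    have hQ0 : Q = 0 := by
      rw [← h, eq_C_of_natDegree_eq_zero hP0, taylor_C, sub_self]
    exact ⟨fun _ => hP0, fun hQ => absurd hQ0 hQ⟩

theorem IsHP.of_diff {h : ℕ → ℚ} {Q P : ℚ[X]} (hQ : IsHP (fun m => h (m + 1) - h m) Q)
    (hP : taylor 1 P - P = Q) : ∃ c : ℚ, IsHP h (P + C c) := by
  obtain ⟨m₀, h0⟩ := hQ
  refine ⟨h m₀ - P.eval (m₀ : ℚ), m₀, fun m hm => ?_⟩
  induction m, hm using Nat.le_induction with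
  | base => rw [eval_add, eval_C]; ring
  | succ m hm ih =>
    have h1 := h0 m hm
    rw [← hP, eval_sub, taylor_eval] at h1
    rw [eval_add, eval_C] at ih ⊢
    push_cast
    linarith

end Poly

section SumPoly

/-- Sum of shifted polynomials. -/
noncomputable def sumSh (L : List (ℚ[X] × ℕ)) : ℚ[X] := (L.map fun x => sh x.2 x.1).sum

theorem sumSh_nil : sumSh [] = 0 := rfl

theorem sumSh_cons (x : ℚ[X] × ℕ) (L : List (ℚ[X] × ℕ)) :
    sumSh (x :: L) = sh x.2 x.1 + sumSh L := by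
  simp [sumSh]

theorem coeff_sh_of_le (e : ℕ) (Q : ℚ[X]) {t : ℕ} (h : Q.natDegree ≤ t) :
    (sh e Q).coeff t = if Q.natDegree = t then Q.leadingCoeff else 0 := by
  split_ifs with h1
  · rw [← h1, ← leadingCoeff_sh e Q, ← natDegree_sh e Q]
    rfl
  · apply coeff_eq_zero_of_natDegree_lt
    rw [natDegree_sh]
    omega

theorem coeff_sumSh (L : List (ℚ[X] × ℕ)) (t : ℕ) (hle : ∀ x ∈ L, x.1.natDegree ≤ t) :
    (sumSh L).coeff t = (L.map fun x => if x.1.natDegree = t then x.1.leadingCoeff else 0).sum ∧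
      (sumSh L).natDegree ≤ t := by
  induction L with
  | nil => simp [sumSh]
  | cons x L ih =>
    obtain ⟨ih1, ih2⟩ := ih (fun y hy => hle y (List.mem_cons_of_mem _ hy))
    have hx := hle x List.mem_cons_self
    rw [sumSh_cons, coeff_add, coeff_sh_of_le _ _ hx, ih1, List.map_cons, List.sum_cons]
    refine ⟨rfl, ?_⟩
    refine le_trans (natDegree_add_le _ _) (max_le ?_ ih2)
    rw [natDegree_sh]
    exact hx

theorem sum_lc_nonneg (L : List (ℚ[X] × ℕ)) (t : ℕ)
    (hpos : ∀ x ∈ L, x.1 = 0 ∨ 0 < x.1.leadingCoeff) :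
    0 ≤ (L.map fun x => if x.1.natDegree = t then x.1.leadingCoeff else 0).sum ∧
      ((∃ x ∈ L, x.1 ≠ 0 ∧ x.1.natDegree = t) →
        0 < (L.map fun x => if x.1.natDegree = t then x.1.leadingCoeff else 0).sum) := by
  induction L with
  | nil => simp
  | cons x L ih =>
    obtain ⟨ih1, ih2⟩ := ih (fun y hy => hpos y (List.mem_cons_of_mem _ hy))
    have hx := hpos x List.mem_cons_self
    have hx0 : 0 ≤ (if x.1.natDegree = t then x.1.leadingCoeff else 0) := by
      split_ifs
      · rcases hx with h | h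
        · rw [h, leadingCoeff_zero]
        · exact h.le
      · exact le_rfl
    rw [List.map_cons, List.sum_cons]
    refine ⟨add_nonneg hx0 ih1, ?_⟩
    rintro ⟨y, hy, hy0, hyt⟩
    rcases List.mem_cons.mp hy with rfl | hyL
    · rw [if_pos hyt]
      rcases hx with h | h
      · exact absurd h hy0
      · exact add_pos_of_pos_of_nonneg h ih1
    · exact add_pos_of_nonneg_of_pos hx0 (ih2 ⟨y, hyL, hy0, hyt⟩)

theorem sumSh_eq_zero_of_forall (L : List (ℚ[X] × ℕ)) (h : ∀ x ∈ L, x.1 = 0) : sumSh L = 0 := by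
  induction L with
  | nil => rfl
  | cons x L ih =>
    rw [sumSh_cons, h x List.mem_cons_self, sh_zero, zero_add]
    exact ih (fun y hy => h y (List.mem_cons_of_mem _ hy))

theorem sumSh_main (L : List (ℚ[X] × ℕ)) (hpos : ∀ x ∈ L, x.1 = 0 ∨ 0 < x.1.leadingCoeff) :
    (∀ x ∈ L, x.1 ≠ 0 → x.1.natDegree ≤ (sumSh L).natDegree) ∧
    (sumSh L = 0 ∨ 0 < (sumSh L).leadingCoeff) ∧
    (sumSh L ≠ 0 → ∃ x ∈ L, x.1 ≠ 0 ∧ x.1.natDegree = (sumSh L).natDegree) ∧
    ((∃ x ∈ L, x.1 ≠ 0) → sumSh L ≠ 0) ∧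
    ((sumSh L).natDegree.factorial : ℚ) * (sumSh L).leadingCoeff =
      (L.map fun x => if x.1.natDegree = (sumSh L).natDegree then
        (x.1.natDegree.factorial : ℚ) * x.1.leadingCoeff else 0).sum := by
  classical
  by_cases hall : ∀ x ∈ L, x.1 = 0
  · have h0 := sumSh_eq_zero_of_forall L hall
    refine ⟨fun x hx hx0 => absurd (hall x hx) hx0, Or.inl h0, fun h => absurd h0 h,
      fun ⟨x, hx, hx0⟩ => absurd (hall x hx) hx0, ?_⟩
    rw [h0, leadingCoeff_zero, mul_zero]
    symm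
    apply List.sum_eq_zero
    intro y hy
    obtain ⟨x, hx, rfl⟩ := List.mem_map.mp hy
    rw [hall x hx, leadingCoeff_zero, mul_zero, ite_self]
  · push Not at hall
    obtain ⟨x₀, hx₀L, hx₀⟩ := hall
    obtain ⟨T, hT⟩ : ∃ T : ℕ, T = L.toFinset.sup (fun x => x.1.natDegree) := ⟨_, rfl⟩
    have hle : ∀ x ∈ L, x.1.natDegree ≤ T := by
      intro x hx
      rw [hT]
      exact Finset.le_sup (f := fun x : ℚ[X] × ℕ => x.1.natDegree) (List.mem_toFinset.mpr hx)
    have hne : L.toFinset.Nonempty := ⟨x₀, List.mem_toFinset.mpr hx₀L⟩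
    obtain ⟨x₁, hx₁, hx₁T⟩ := Finset.exists_mem_eq_sup L.toFinset hne (fun x => x.1.natDegree)
    rw [← hT] at hx₁T
    have hx₁L : x₁ ∈ L := List.mem_toFinset.mp hx₁
    have hex : ∃ x ∈ L, x.1 ≠ 0 ∧ x.1.natDegree = T := by
      by_cases h1 : x₁.1 = 0
      · have hT0 : T = 0 := by rw [hx₁T, h1, natDegree_zero]
        refine ⟨x₀, hx₀L, hx₀, ?_⟩
        have := hle x₀ hx₀L
        omega
      · exact ⟨x₁, hx₁L, h1, hx₁T.symm⟩
    obtain ⟨hc1, hc2⟩ := coeff_sumSh L T hle
    obtain ⟨-, hs2⟩ := sum_lc_nonneg L T hpos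
    have hσ := hs2 hex
    rw [← hc1] at hσ
    have hnat : (sumSh L).natDegree = T :=
      le_antisymm hc2 (le_natDegree_of_ne_zero hσ.ne')
    have hlc : (sumSh L).leadingCoeff = (sumSh L).coeff T := by rw [leadingCoeff, hnat]
    have hS0 : sumSh L ≠ 0 := by
      intro h0
      rw [h0, coeff_zero] at hσ
      exact lt_irrefl _ hσ
    refine ⟨fun x hx _ => by rw [hnat]; exact hle x hx, Or.inr (by rw [hlc]; exact hσ),
      fun _ => by rw [hnat]; exact hex, fun _ => hS0, ?_⟩
    rw [hnat, hlc, hc1, ← List.sum_map_mul_left]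
    congr 1
    apply List.map_congr_left
    intro x _
    split_ifs with h
    · rw [h]
    · rw [mul_zero]

end SumPoly

section Filt

open Groth.Agent.S10915 (irr mem_irr_iff irr_isMaximal le_irr_of_isHomogeneous)

variable (k : Type u) [Field k] (n : ℕ)

/-- The Hilbert function of (the quotient by) an ideal. -/
noncomputable def hf (I : Ideal (MvPolynomial (Fin (n + 1)) k)) (m : ℕ) : ℚ :=
  (Module.finrank k ↥(CohB1.polyGrading n k m) : ℚ) -
    Module.finrank k ↥(Submodule.restrictScalars k I ⊓ CohB1.polyGrading n k m)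

/-- A graded prime filtration from `I` up to the unit ideal: `I_{j+1} = I_j + (g_j)` with
`(I_j : g_j) = p_j` prime and `deg g_j = e_j`. -/
inductive HasFilt : Ideal (MvPolynomial (Fin (n + 1)) k) →
    List (Ideal (MvPolynomial (Fin (n + 1)) k) × ℕ) → Prop
  | top : HasFilt ⊤ []
  | step (I : Ideal (MvPolynomial (Fin (n + 1)) k)) (g : MvPolynomial (Fin (n + 1)) k) (e : ℕ)
      (p : Ideal (MvPolynomial (Fin (n + 1)) k))
      (L : List (Ideal (MvPolynomial (Fin (n + 1)) k) × ℕ)) :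
      I.IsHomogeneous (CohB1.polyGrading n k) → g ∈ CohB1.polyGrading n k e → p.IsPrime →
      p.IsHomogeneous (CohB1.polyGrading n k) → (∀ a, a ∈ p ↔ g * a ∈ I) →
      HasFilt (I ⊔ Ideal.span {g}) L → HasFilt I ((p, e) :: L)

/-- The colon ideal `(I : g)`. -/
noncomputable def col (I : Ideal (MvPolynomial (Fin (n + 1)) k)) (g : MvPolynomial (Fin (n + 1)) k) :
    Ideal (MvPolynomial (Fin (n + 1)) k) :=
  Submodule.comap (LinearMap.mulLeft (MvPolynomial (Fin (n + 1)) k) g) I

theorem mem_col (I : Ideal (MvPolynomial (Fin (n + 1)) k)) (g a : MvPolynomial (Fin (n + 1)) k) :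
    a ∈ col k n I g ↔ g * a ∈ I := Iff.rfl

theorem exists_hasFilt (I : Ideal (MvPolynomial (Fin (n + 1)) k))
    (hI : I.IsHomogeneous (CohB1.polyGrading n k)) : ∃ L, HasFilt k n I L := by
  classical
  revert hI
  induction I using IsNoetherian.induction with
  | hgt I ih =>
  intro hI
  by_cases htop : I = ⊤
  · exact ⟨[], htop ▸ HasFilt.top⟩
  have h1I : (1 : MvPolynomial (Fin (n + 1)) k) ∉ I := fun h => htop ((Ideal.eq_top_iff_one I).mpr h)
  obtain ⟨𝒮, h𝒮⟩ : ∃ 𝒮 : Set (Ideal (MvPolynomial (Fin (n + 1)) k)),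
      𝒮 = {J | ∃ (e : ℕ) (g : MvPolynomial (Fin (n + 1)) k),
        g ∈ CohB1.polyGrading n k e ∧ g ∉ I ∧ J = col k n I g} := ⟨_, rfl⟩
  have hne : 𝒮.Nonempty := by
    rw [h𝒮]
    exact ⟨_, 0, 1, SetLike.GradedOne.one_mem, h1I, rfl⟩
  obtain ⟨p, hp𝒮, hmax⟩ := set_has_maximal_iff_noetherian.mpr inferInstance 𝒮 hne
  rw [h𝒮] at hp𝒮
  obtain ⟨e, g, hg, hgI, rfl⟩ := hp𝒮
  have hphom : (col k n I g).IsHomogeneous (CohB1.polyGrading n k) := by
    intro i a ha
    rw [mem_col] at ha ⊢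
    rw [← DirectSum.coe_decompose_mul_add_of_left_mem (CohB1.polyGrading n k) hg]
    exact hI (e + i) ha
  have hpne : col k n I g ≠ ⊤ := by
    intro h
    have h1 : (1 : MvPolynomial (Fin (n + 1)) k) ∈ col k n I g := by rw [h]; trivial
    rw [mem_col, mul_one] at h1
    exact hgI h1
  have hprime : (col k n I g).IsPrime := by
    refine Ideal.IsHomogeneous.isPrime_of_homogeneous_mem_or_mem hphom hpne ?_
    intro x y _ hy hxy
    by_contra hcon
    push Not at hcon
    obtain ⟨hx, hy'⟩ := hcon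
    obtain ⟨i, hyi⟩ := hy
    have hgy : g * y ∉ I := hy'
    have hmem : col k n I (g * y) ∈ 𝒮 := by
      rw [h𝒮]
      exact ⟨e + i, g * y, SetLike.mul_mem_graded hg hyi, hgy, rfl⟩
    have hle : col k n I g ≤ col k n I (g * y) := by
      intro a ha
      rw [mem_col] at ha ⊢
      have h2 : g * y * a = y * (g * a) := by ring
      rw [h2]
      exact Ideal.mul_mem_left _ _ ha
    have heq : col k n I g = col k n I (g * y) :=
      (eq_or_lt_of_le hle).resolve_right (hmax _ hmem)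
    apply hx
    rw [heq, mem_col]
    have h2 : g * y * x = g * (x * y) := by ring
    rw [h2]
    exact hxy
  have hlt : I < I ⊔ Ideal.span {g} :=
    SetLike.lt_iff_le_and_exists.mpr
      ⟨le_sup_left, g, Ideal.mem_sup_right (Ideal.mem_span_singleton_self g), hgI⟩
  have hJhom : (I ⊔ Ideal.span {g}).IsHomogeneous (CohB1.polyGrading n k) := by
    apply hI.sup
    apply Ideal.homogeneous_span
    rintro x rfl
    exact ⟨e, hg⟩
  obtain ⟨L', hL'⟩ := ih _ hlt hJhom
  exact ⟨(col k n I g, e) :: L',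
    HasFilt.step I g e _ L' hI hg hprime hphom (fun a => Iff.rfl) hL'⟩

variable {k n}

theorem HasFilt.isHomogeneous {I : Ideal (MvPolynomial (Fin (n + 1)) k)}
    {L : List (Ideal (MvPolynomial (Fin (n + 1)) k) × ℕ)} (h : HasFilt k n I L) :
    I.IsHomogeneous (CohB1.polyGrading n k) := by
  cases h with
  | top => exact Ideal.IsHomogeneous.top _
  | step I g e p L hI _ _ _ _ _ => exact hI

/-- Every prime of the filtration is a homogeneous prime containing `I`. -/
theorem HasFilt.mem_props {I : Ideal (MvPolynomial (Fin (n + 1)) k)}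
    {L : List (Ideal (MvPolynomial (Fin (n + 1)) k) × ℕ)} (h : HasFilt k n I L) :
    ∀ x ∈ L, x.1.IsPrime ∧ x.1.IsHomogeneous (CohB1.polyGrading n k) ∧ I ≤ x.1 := by
  induction h with
  | top => intro x hx; cases hx
  | step I g e p L hI hg hp hph hcol _ ih =>
    intro x hx
    rcases List.mem_cons.mp hx with rfl | hxL
    · refine ⟨hp, hph, fun a ha => ?_⟩
      rw [hcol]
      exact Ideal.mul_mem_left _ _ ha
    · obtain ⟨h1, h2, h3⟩ := ih x hxL
      exact ⟨h1, h2, le_trans le_sup_left h3⟩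

/-- Every prime containing `I` contains a prime of the filtration. -/
theorem HasFilt.exists_le {I : Ideal (MvPolynomial (Fin (n + 1)) k)}
    {L : List (Ideal (MvPolynomial (Fin (n + 1)) k) × ℕ)} (h : HasFilt k n I L)
    (q : Ideal (MvPolynomial (Fin (n + 1)) k)) [hq : q.IsPrime] (hIq : I ≤ q) :
    ∃ x ∈ L, x.1 ≤ q := by
  induction h with
  | top => exact absurd (top_le_iff.mp hIq) hq.ne_top
  | step I g e p L hI hg hp hph hcol _ ih =>
    by_cases hgq : g ∈ q
    · have h1 : I ⊔ Ideal.span {g} ≤ q :=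
        sup_le hIq ((Ideal.span_singleton_le_iff_mem q).mpr hgq)
      obtain ⟨x, hx, hxq⟩ := ih h1
      exact ⟨x, List.mem_cons_of_mem _ hx, hxq⟩
    · refine ⟨(p, e), List.mem_cons_self, fun a ha => ?_⟩
      have h1 : g * a ∈ q := hIq ((hcol a).mp ha)
      exact (hq.mem_or_mem h1).resolve_left hgq

/-- Minimal primes of `I` occur in the filtration. -/
theorem HasFilt.mem_of_mem_minimalPrimes {I : Ideal (MvPolynomial (Fin (n + 1)) k)}
    {L : List (Ideal (MvPolynomial (Fin (n + 1)) k) × ℕ)} (h : HasFilt k n I L)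
    {q : Ideal (MvPolynomial (Fin (n + 1)) k)} (hq : q ∈ I.minimalPrimes) :
    ∃ x ∈ L, x.1 = q := by
  haveI : q.IsPrime := hq.1.1
  obtain ⟨x, hx, hxq⟩ := h.exists_le q hq.1.2
  obtain ⟨h1, -, h3⟩ := h.mem_props x hx
  exact ⟨x, hx, le_antisymm hxq (hq.2 ⟨h1, h3⟩ hxq)⟩

end Filt

section HilbRec

variable {k : Type u} [Field k] {n : ℕ}

/-- Degree pieces of `I + (f)` when the colon `(I : f)` is `p` in degree `m`. -/
theorem finrank_piece_colon (I p : Ideal (MvPolynomial (Fin (n + 1)) k))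
    (hI : I.IsHomogeneous (CohB1.polyGrading n k)) (f : MvPolynomial (Fin (n + 1)) k) (d : ℕ)
    (hfmem : f ∈ CohB1.polyGrading n k d) (hf0 : f ≠ 0) (m : ℕ)
    (hcol : ∀ g ∈ CohB1.polyGrading n k m, (f * g ∈ I ↔ g ∈ p)) :
    Module.finrank k ↥(Submodule.restrictScalars k (I ⊔ Ideal.span {f}) ⊓
        CohB1.polyGrading n k (d + m)) +
      Module.finrank k ↥(Submodule.restrictScalars k p ⊓ CohB1.polyGrading n k m) =
    Module.finrank k ↥(Submodule.restrictScalars k I ⊓ CohB1.polyGrading n k (d + m)) +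
      Module.finrank k ↥(CohB1.polyGrading n k m) := by
  classical
  obtain ⟨μ, hμ⟩ : ∃ μ : MvPolynomial (Fin (n + 1)) k →ₗ[k] MvPolynomial (Fin (n + 1)) k,
      ∀ g, μ g = f * g := ⟨LinearMap.mulLeft k f, fun g => rfl⟩
  have hμinj : Function.Injective μ := by
    intro a b h
    rw [hμ, hμ] at h
    exact mul_left_cancel₀ hf0 h
  obtain ⟨U, hU⟩ : ∃ U : Submodule k (MvPolynomial (Fin (n + 1)) k),
      U = Submodule.restrictScalars k I ⊓ CohB1.polyGrading n k (d + m) := ⟨_, rfl⟩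
  obtain ⟨M, hM⟩ : ∃ M : Submodule k (MvPolynomial (Fin (n + 1)) k),
      M = (CohB1.polyGrading n k m).map μ := ⟨_, rfl⟩
  have hmulmem : ∀ g ∈ CohB1.polyGrading n k m, f * g ∈ CohB1.polyGrading n k (d + m) := by
    intro g hg
    exact SetLike.mul_mem_graded hfmem hg
  have hW : Submodule.restrictScalars k (I ⊔ Ideal.span {f}) ⊓ CohB1.polyGrading n k (d + m) =
      U ⊔ M := by
    apply le_antisymm
    · rintro w ⟨hw1, hw2⟩
      have hw1' : w ∈ I ⊔ Ideal.span {f} := hw1
      obtain ⟨a, ha, c, hc, rfl⟩ := Submodule.mem_sup.mp hw1'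
      obtain ⟨b, rfl⟩ := Ideal.mem_span_singleton'.mp hc
      have hw2' : a + b * f ∈ CohB1.polyGrading n k (d + m) := hw2
      have hdec : a + b * f =
          (DirectSum.decompose (CohB1.polyGrading n k) a (d + m) :
            MvPolynomial (Fin (n + 1)) k) +
          μ (DirectSum.decompose (CohB1.polyGrading n k) b m : MvPolynomial (Fin (n + 1)) k) := by
        calc a + b * f = (DirectSum.decompose (CohB1.polyGrading n k) (a + b * f) (d + m) :
              MvPolynomial (Fin (n + 1)) k) :=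
              (DirectSum.decompose_of_mem_same (CohB1.polyGrading n k) hw2').symm
          _ = _ := by
              rw [DirectSum.decompose_add, DirectSum.add_apply, Submodule.coe_add, mul_comm b f,
                DirectSum.coe_decompose_mul_add_of_left_mem (CohB1.polyGrading n k) hfmem, hμ]
      rw [hdec, hU, hM]
      refine Submodule.add_mem_sup (Submodule.mem_inf.mpr ⟨?_, SetLike.coe_mem _⟩)
        (Submodule.mem_map_of_mem (SetLike.coe_mem _))
      exact hI (d + m) ha
    · rw [hU, hM]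
      refine sup_le (inf_le_inf_right _ ?_) ?_
      · intro x hx
        exact Ideal.mem_sup_left hx
      · rintro _ ⟨g, hg, rfl⟩
        rw [hμ]
        exact Submodule.mem_inf.mpr
          ⟨Ideal.mem_sup_right (Ideal.mul_mem_right g _ (Ideal.mem_span_singleton_self f)),
            hmulmem g hg⟩
  have hUM : U ⊓ M = (Submodule.restrictScalars k p ⊓ CohB1.polyGrading n k m).map μ := by
    rw [hU, hM]
    apply le_antisymm
    · rintro x ⟨⟨hx1, -⟩, ⟨g, hg, rfl⟩⟩
      rw [hμ] at hx1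
      exact Submodule.mem_map_of_mem (Submodule.mem_inf.mpr ⟨(hcol g hg).mp hx1, hg⟩)
    · rintro _ ⟨g, ⟨hg1, hg2⟩, rfl⟩
      refine Submodule.mem_inf.mpr ⟨Submodule.mem_inf.mpr ⟨?_, ?_⟩, Submodule.mem_map_of_mem hg2⟩
      · rw [hμ]; exact (hcol g hg2).mpr hg1
      · rw [hμ]; exact hmulmem g hg2
  haveI hfinU : Module.Finite k U := by
    rw [hU]; exact Submodule.finiteDimensional_of_le inf_le_right
  haveI hfinM : Module.Finite k M := by
    rw [hM]; infer_instance
  have key := Submodule.finrank_sup_add_finrank_inf_eq U M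
  rw [← hW, hUM] at key
  have e1 : Module.finrank k
      ↥((Submodule.restrictScalars k p ⊓ CohB1.polyGrading n k m).map μ) =
      Module.finrank k ↥(Submodule.restrictScalars k p ⊓ CohB1.polyGrading n k m) :=
    (LinearEquiv.finrank_eq (Submodule.equivMapOfInjective μ hμinj _)).symm
  have e2 : Module.finrank k ↥M = Module.finrank k ↥(CohB1.polyGrading n k m) := by
    rw [hM]
    exact (LinearEquiv.finrank_eq (Submodule.equivMapOfInjective μ hμinj _)).symm
  rw [e1, e2, hU] at key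
  exact key

theorem hf_step (I p : Ideal (MvPolynomial (Fin (n + 1)) k))
    (hI : I.IsHomogeneous (CohB1.polyGrading n k)) (g : MvPolynomial (Fin (n + 1)) k) (e : ℕ)
    (hg : g ∈ CohB1.polyGrading n k e) (hg0 : g ≠ 0) (hcol : ∀ a, a ∈ p ↔ g * a ∈ I) (m : ℕ) :
    hf k n I (e + m) = hf k n (I ⊔ Ideal.span {g}) (e + m) + hf k n p m := by
  have h := finrank_piece_colon I p hI g e hg hg0 m (fun a _ => (hcol a).symm)
  have h' : ((Module.finrank k ↥(Submodule.restrictScalars k (I ⊔ Ideal.span {g}) ⊓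
        CohB1.polyGrading n k (e + m)) : ℕ) : ℚ) +
      (Module.finrank k ↥(Submodule.restrictScalars k p ⊓ CohB1.polyGrading n k m) : ℕ) =
    (Module.finrank k ↥(Submodule.restrictScalars k I ⊓ CohB1.polyGrading n k (e + m)) : ℕ) +
      (Module.finrank k ↥(CohB1.polyGrading n k m) : ℕ) := by exact_mod_cast h
  unfold hf
  linarith

theorem hf_top (m : ℕ) : hf k n ⊤ m = 0 := by
  unfold hf
  rw [Submodule.restrictScalars_top, top_inf_eq, sub_self]

variable (k n) in
/-- A chosen Hilbert polynomial (zero if none exists). -/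
noncomputable def hpoly (p : Ideal (MvPolynomial (Fin (n + 1)) k)) : ℚ[X] := by
  classical
  exact if h : ∃ Q, IsHP (hf k n p) Q then h.choose else 0

theorem isHP_hpoly {p : Ideal (MvPolynomial (Fin (n + 1)) k)} (h : ∃ Q, IsHP (hf k n p) Q) :
    IsHP (hf k n p) (hpoly k n p) := by
  classical
  unfold hpoly
  rw [dif_pos h]
  exact h.choose_spec

theorem hpoly_eq {p : Ideal (MvPolynomial (Fin (n + 1)) k)} {Q : ℚ[X]} (h : IsHP (hf k n p) Q) :
    hpoly k n p = Q :=
  (isHP_hpoly ⟨Q, h⟩).unique h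

/-- The Hilbert polynomial of `I` is the sum of the shifted Hilbert polynomials of the primes of a
filtration. -/
theorem isHP_of_hasFilt {I : Ideal (MvPolynomial (Fin (n + 1)) k)}
    {L : List (Ideal (MvPolynomial (Fin (n + 1)) k) × ℕ)} (h : HasFilt k n I L)
    (hL : ∀ x ∈ L, ∃ Q, IsHP (hf k n x.1) Q) :
    IsHP (hf k n I) (sumSh (L.map fun x => (hpoly k n x.1, x.2))) := by
  induction h with
  | top =>
    refine ⟨0, fun m _ => ?_⟩
    rw [hf_top, List.map_nil, sumSh_nil, eval_zero]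
  | step I g e p L hI hg hp' hph hcol _ ih =>
    have ih' := ih (fun x hx => hL x (List.mem_cons_of_mem _ hx))
    have hp1 := isHP_hpoly (hL (p, e) List.mem_cons_self)
    have hg0 : g ≠ 0 := by
      rintro rfl
      apply hp'.ne_top
      rw [Ideal.eq_top_iff_one, hcol, zero_mul]
      exact I.zero_mem
    rw [List.map_cons, sumSh_cons]
    refine ((hp1.shift e).add ih').congr ⟨e, fun m hm => ?_⟩
    obtain ⟨m', rfl⟩ : ∃ m', m = e + m' := ⟨m - e, by omega⟩
    show hf k n p (e + m' - e) + hf k n (I ⊔ Ideal.span {g}) (e + m') = hf k n I (e + m')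
    rw [hf_step I p hI g e hg hg0 hcol m', Nat.add_sub_cancel_left, add_comm]

end HilbRec

section Primes

open Groth.Agent.S10915 (irr mem_irr_iff irr_isMaximal le_irr_of_isHomogeneous)
open Groth.Agent.H21.ProjDim

variable {k : Type u} [Field k] {n : ℕ}

theorem piece_le_irr {m : ℕ} (hm : 1 ≤ m) :
    CohB1.polyGrading n k m ≤ Submodule.restrictScalars k (irr k n) := by
  intro f hf
  show f ∈ irr k n
  rw [mem_irr_iff]
  apply MvPolynomial.IsHomogeneous.coeff_eq_zero hf
  rw [map_zero]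
  omega

theorem hf_irr {m : ℕ} (hm : 1 ≤ m) : hf k n (irr k n) m = 0 := by
  unfold hf
  rw [inf_eq_right.mpr (piece_le_irr hm), sub_self]

theorem hf_pos {p : Ideal (MvPolynomial (Fin (n + 1)) k)} [hp : p.IsPrime] {i : Fin (n + 1)}
    (hi : (MvPolynomial.X i : MvPolynomial (Fin (n + 1)) k) ∉ p) (m : ℕ) : 0 < hf k n p m := by
  have h1 : (MvPolynomial.X i : MvPolynomial (Fin (n + 1)) k) ^ m ∈ CohB1.polyGrading n k m := by
    have h2 := (MvPolynomial.isHomogeneous_X k i).pow m
    rwa [one_mul] at h2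
  have h3 : (MvPolynomial.X i : MvPolynomial (Fin (n + 1)) k) ^ m ∉ p :=
    fun h => hi (hp.mem_of_pow_mem m h)
  have hlt : Submodule.restrictScalars k p ⊓ CohB1.polyGrading n k m < CohB1.polyGrading n k m := by
    refine lt_of_le_of_ne inf_le_right (fun h => h3 ?_)
    have h4 : (MvPolynomial.X i : MvPolynomial (Fin (n + 1)) k) ^ m ∈
        Submodule.restrictScalars k p ⊓ CohB1.polyGrading n k m := by rw [h]; exact h1
    exact h4.1
  have h5 := Submodule.finrank_lt_finrank_of_lt hlt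
  unfold hf
  have h6 : ((Module.finrank k ↥(Submodule.restrictScalars k p ⊓ CohB1.polyGrading n k m) : ℕ) : ℚ) <
      (Module.finrank k ↥(CohB1.polyGrading n k m) : ℕ) := by exact_mod_cast h5
  linarith

/-- A homogeneous prime `p` with `dim R/p = δ` has a Hilbert polynomial; it vanishes for `δ = 0` and
has degree `δ - 1` and positive leading coefficient for `δ ≥ 1`. -/
theorem exists_hp_prime : ∀ (δ : ℕ) (p : Ideal (MvPolynomial (Fin (n + 1)) k)) [p.IsPrime],
    p.IsHomogeneous (CohB1.polyGrading n k) →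
    ringKrullDim (MvPolynomial (Fin (n + 1)) k ⧸ p) = (δ : WithBot ℕ∞) →
    ∃ Q : ℚ[X], IsHP (hf k n p) Q ∧ (δ = 0 → Q = 0) ∧
      (1 ≤ δ → Q.natDegree + 1 = δ ∧ 0 < Q.leadingCoeff) := by
  classical
  intro δ
  induction δ using Nat.strong_induction_on with
  | _ δ ih =>
  intro p hp hph hdim
  haveI := hp
  haveI hirrprime : (irr k n).IsPrime := (irr_isMaximal k n).isPrime
  rcases Nat.eq_zero_or_pos δ with hδ0 | hδpos
  · -- `p` is the irrelevant ideal
    have hpirr : p = irr k n := eq_irr_of_dim_le_zero hph (by rw [hdim, hδ0]; rfl)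
    refine ⟨0, ⟨1, fun m hm => ?_⟩, fun _ => rfl, fun h => by omega⟩
    rw [hpirr, hf_irr hm, eval_zero]
  -- `p` is relevant
  have hpne : p ≠ irr k n := by
    intro h
    rw [h, dim_irr] at hdim
    have h1 : (0 : ℕ) = δ := by exact_mod_cast hdim
    omega
  obtain ⟨i, hi⟩ : ∃ i : Fin (n + 1), (MvPolynomial.X i : MvPolynomial (Fin (n + 1)) k) ∉ p := by
    by_contra hall
    push Not at hall
    apply hpne
    have hle : irr k n ≤ p := by
      rw [Ideal.span_le]
      rintro _ ⟨i, rfl⟩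
      exact hall i
    exact ((irr_isMaximal k n).eq_of_le hp.ne_top hle).symm
  have hX1 : (MvPolynomial.X i : MvPolynomial (Fin (n + 1)) k) ∈ CohB1.polyGrading n k 1 :=
    MvPolynomial.isHomogeneous_X k i
  have hX0 : (MvPolynomial.X i : MvPolynomial (Fin (n + 1)) k) ≠ 0 := MvPolynomial.X_ne_zero i
  have hcol : ∀ a, a ∈ p ↔ (MvPolynomial.X i : MvPolynomial (Fin (n + 1)) k) * a ∈ p :=
    fun a => ⟨fun ha => Ideal.mul_mem_left _ _ ha, fun ha => (hp.mem_or_mem ha).resolve_left hi⟩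
  obtain ⟨I', hI'⟩ : ∃ I' : Ideal (MvPolynomial (Fin (n + 1)) k),
      I' = p ⊔ Ideal.span {(MvPolynomial.X i : MvPolynomial (Fin (n + 1)) k)} := ⟨_, rfl⟩
  have hI'hom : I'.IsHomogeneous (CohB1.polyGrading n k) := by
    rw [hI']
    apply hph.sup
    apply Ideal.homogeneous_span
    rintro x rfl
    exact ⟨1, hX1⟩
  have hXI' : (MvPolynomial.X i : MvPolynomial (Fin (n + 1)) k) ∈ I' := by
    rw [hI']
    exact Ideal.mem_sup_right (Ideal.mem_span_singleton_self _)
  have hpI' : p ≤ I' := by rw [hI']; exact le_sup_left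
  have hI'irr : I' ≤ irr k n := by
    rw [hI']
    exact sup_le (le_irr_of_isHomogeneous k n hph hp.ne_top)
      ((Ideal.span_singleton_le_iff_mem _).mpr (Ideal.subset_span ⟨i, rfl⟩))
  obtain ⟨L, hL⟩ := exists_hasFilt k n I' hI'hom
  -- the primes of the filtration have smaller dimension
  have hLdim : ∀ x ∈ L, ∃ δx : ℕ, δx + 1 ≤ δ ∧
      ringKrullDim (MvPolynomial (Fin (n + 1)) k ⧸ x.1) = (δx : WithBot ℕ∞) := by
    intro x hx
    obtain ⟨hxp, -, hxI⟩ := hL.mem_props x hx
    haveI := hxp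
    obtain ⟨δx, hδx, -⟩ := exists_nat_dim k n x.1 hxp.ne_top
    have hlt : p < x.1 :=
      SetLike.lt_iff_le_and_exists.mpr ⟨le_trans hpI' hxI, _, hxI hXI', hi⟩
    have h1 := dim_succ_le_of_lt k n hlt
    rw [hδx, hdim] at h1
    refine ⟨δx, ?_, hδx⟩
    exact_mod_cast h1
  have hLQ : ∀ x ∈ L, ∃ Q : ℚ[X], IsHP (hf k n x.1) Q ∧
      (Q = 0 ∨ 0 < Q.leadingCoeff) ∧
      ∀ δx : ℕ, ringKrullDim (MvPolynomial (Fin (n + 1)) k ⧸ x.1) = (δx : WithBot ℕ∞) →
        (δx = 0 → Q = 0) ∧ (1 ≤ δx → Q.natDegree + 1 = δx ∧ 0 < Q.leadingCoeff) := by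
    intro x hx
    obtain ⟨δx, hδxlt, hδx⟩ := hLdim x hx
    obtain ⟨hxp, hxh, -⟩ := hL.mem_props x hx
    haveI := hxp
    obtain ⟨Q, hQ1, hQ2, hQ3⟩ := ih δx (by omega) x.1 hxh hδx
    refine ⟨Q, hQ1, ?_, ?_⟩
    · rcases Nat.eq_zero_or_pos δx with h0 | h1
      · exact Or.inl (hQ2 h0)
      · exact Or.inr (hQ3 h1).2
    · intro δx' hδx'
      have h2 : δx' = δx := by
        rw [hδx] at hδx'
        exact_mod_cast hδx'.symm
      rw [h2]
      exact ⟨hQ2, hQ3⟩
  have hLex : ∀ x ∈ L, ∃ Q, IsHP (hf k n x.1) Q := fun x hx =>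
    let ⟨Q, hQ, _⟩ := hLQ x hx
    ⟨Q, hQ⟩
  obtain ⟨L', hL'⟩ : ∃ L' : List (ℚ[X] × ℕ), L' = L.map fun x => (hpoly k n x.1, x.2) := ⟨_, rfl⟩
  have hS := isHP_of_hasFilt hL hLex
  rw [← hL'] at hS
  have hposL' : ∀ y ∈ L', y.1 = 0 ∨ 0 < y.1.leadingCoeff := by
    intro y hy
    rw [hL'] at hy
    obtain ⟨x, hx, rfl⟩ := List.mem_map.mp hy
    obtain ⟨Q, hQ1, hQ2, -⟩ := hLQ x hx
    show hpoly k n x.1 = 0 ∨ 0 < (hpoly k n x.1).leadingCoeff
    rw [hpoly_eq hQ1]
    exact hQ2
  obtain ⟨hm1, hm2, hm3, hm4, -⟩ := sumSh_main L' hposL'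
  -- a minimal prime over `I'` has dimension `δ - 1`
  obtain ⟨q, hqmin, -⟩ := Ideal.exists_minimalPrimes_le hI'irr
  haveI hqprime : q.IsPrime := hqmin.1.1
  have hpq : p < q :=
    SetLike.lt_iff_le_and_exists.mpr ⟨le_trans hpI' hqmin.1.2, _, hqmin.1.2 hXI', hi⟩
  obtain ⟨δq, hδq, -⟩ := exists_nat_dim k n q hqprime.ne_top
  have hδqδ : δq + 1 = δ := by
    have h1 : (q.map (Ideal.Quotient.mk p)).height ≤ 1 := by
      have h2 := height_map_le_of_mem_minimalPrimes (k := k) (n := n) (r := 1) p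
        (fun _ => (MvPolynomial.X i : MvPolynomial (Fin (n + 1)) k)) (q := q)
        (by rw [Set.range_const, ← hI']; exact hqmin)
      exact_mod_cast h2
    have h3 := one_le_height_map_of_lt k n hpq
    have h4 : (q.map (Ideal.Quotient.mk p)).height = 1 := le_antisymm h1 h3
    have h5 := height_map_add_dim k n hpq.le
    rw [h4, hδq, hdim] at h5
    have h6 : 1 + δq = δ := by exact_mod_cast h5
    omega
  obtain ⟨xq, hxqL, hxq⟩ := hL.mem_of_mem_minimalPrimes hqmin
  obtain ⟨Qq, hQq1, -, hQq3⟩ := hLQ xq hxqL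
  have hQq := hQq3 δq (by rw [hxq]; exact hδq)
  have hxqL' : (hpoly k n xq.1, xq.2) ∈ L' := by
    rw [hL']
    exact List.mem_map.mpr ⟨xq, hxqL, rfl⟩
  -- the difference equation
  have hdiff : IsHP (fun m => hf k n p (m + 1) - hf k n p m) (taylor 1 (sumSh L')) := by
    obtain ⟨m₀, hm₀⟩ := hS
    refine ⟨m₀, fun m hm => ?_⟩
    have h1 := hf_step p p hph _ 1 hX1 hX0 hcol m
    rw [← hI'] at h1
    rw [taylor_eval]
    have h2 := hm₀ (1 + m) (by omega)
    have h3 : ((1 + m : ℕ) : ℚ) = (m : ℚ) + 1 := by push_cast; ring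
    rw [h3] at h2
    show eval ((m : ℚ) + 1) (sumSh L') = hf k n p (m + 1) - hf k n p m
    rw [h2, add_comm m 1, h1]
    ring
  obtain ⟨P₀, hP₀⟩ := exists_antidiff ((taylor 1 (sumSh L')).natDegree + 1) (taylor 1 (sumSh L'))
    (lt_of_le_of_lt degree_le_natDegree (by exact_mod_cast Nat.lt_succ_self _))
  obtain ⟨c, hc⟩ := hdiff.of_diff hP₀
  obtain ⟨hA1, hA2⟩ := antidiff_props hP₀
  refine ⟨P₀ + C c, hc, fun h => by omega, fun _ => ?_⟩
  by_cases hS0 : sumSh L' = 0
  · -- all primes of the filtration are irrelevant, `δ = 1`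
    have hδq0 : δq = 0 := by
      by_contra hne
      have h1 := (hQq.2 (by omega)).2
      apply hm4 ⟨_, hxqL', ?_⟩ hS0
      show hpoly k n xq.1 ≠ 0
      rw [hpoly_eq hQq1]
      intro h0
      rw [h0, leadingCoeff_zero] at h1
      exact lt_irrefl _ h1
    have hP₀nat : P₀.natDegree = 0 := hA1 (by rw [hS0, map_zero])
    have hconst : P₀ + C c = C ((P₀ + C c).coeff 0) := by
      apply eq_C_of_natDegree_eq_zero
      rw [natDegree_add_C, hP₀nat]
    obtain ⟨m₀, hm₀⟩ := hc
    have h2 := hm₀ m₀ le_rfl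
    rw [hconst, eval_C] at h2
    have h3 : 0 < (P₀ + C c).coeff 0 := by
      rw [h2]
      exact hf_pos hi m₀
    rw [hconst, natDegree_C, leadingCoeff_C]
    exact ⟨by omega, h3⟩
  · -- `δ ≥ 2`
    obtain ⟨x₁, hx₁L', hx₁0, hx₁nat⟩ := hm3 hS0
    have hlcS : 0 < (sumSh L').leadingCoeff := hm2.resolve_left hS0
    -- upper bound on the degree
    have hup : (sumSh L').natDegree + 2 ≤ δ := by
      rw [hL'] at hx₁L'
      obtain ⟨x, hx, rfl⟩ := List.mem_map.mp hx₁L'
      obtain ⟨Q, hQ1, -, hQ3⟩ := hLQ x hx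
      obtain ⟨δx, hδxlt, hδx⟩ := hLdim x hx
      have hx₁0' : hpoly k n x.1 ≠ 0 := hx₁0
      have hx₁nat' : (hpoly k n x.1).natDegree = (sumSh L').natDegree := hx₁nat
      rw [hpoly_eq hQ1] at hx₁0' hx₁nat'
      obtain ⟨h1, h2⟩ := hQ3 δx hδx
      have h3 : 1 ≤ δx := by
        by_contra hlt
        exact hx₁0' (h1 (by omega))
      have h4 := (h2 h3).1
      omega
    have hlow : δ ≤ (sumSh L').natDegree + 2 := by
      have h1 : 1 ≤ δq := by omega
      have h2 := hQq.2 h1
      have h3 : hpoly k n xq.1 ≠ 0 := by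
        rw [hpoly_eq hQq1]
        intro h0
        rw [h0, leadingCoeff_zero] at h2
        exact lt_irrefl _ h2.2
      have h4 := hm1 _ hxqL' h3
      have h5 : (hpoly k n xq.1).natDegree = Qq.natDegree := by rw [hpoly_eq hQq1]
      rw [h5] at h4
      omega
    have hT0 : taylor 1 (sumSh L') ≠ 0 := by
      rw [Ne, taylor_eq_zero]
      exact hS0
    obtain ⟨hB1, hB2⟩ := hA2 hT0
    rw [natDegree_taylor] at hB1
    rw [leadingCoeff_taylor] at hB2
    have hP₀pos : 1 ≤ P₀.natDegree := by omega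
    have hlcP₀ : 0 < P₀.leadingCoeff := by
      have h1 : (0 : ℚ) < (P₀.natDegree : ℚ) := by exact_mod_cast hP₀pos
      rw [hB2] at hlcS
      exact (pos_iff_pos_of_mul_pos hlcS).mp h1
    have hdeg : (C c : ℚ[X]).degree < P₀.degree := by
      refine lt_of_le_of_lt degree_C_le ?_
      rw [← natDegree_pos_iff_degree_pos]
      exact hP₀pos
    rw [natDegree_add_C, leadingCoeff_add_of_degree_lt' hdeg]
    exact ⟨by omega, hlcP₀⟩

end Primes

section Data

open Groth.Agent.H21.ProjDim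

variable {k : Type u} [Field k] {n : ℕ}

/-- A filtration of a homogeneous ideal together with the Hilbert polynomials of its primes. -/
theorem exists_filt_data (I : Ideal (MvPolynomial (Fin (n + 1)) k))
    (hI : I.IsHomogeneous (CohB1.polyGrading n k)) :
    ∃ L : List (Ideal (MvPolynomial (Fin (n + 1)) k) × ℕ), HasFilt k n I L ∧
      (∀ x ∈ L, ∃ δ : ℕ, ringKrullDim (MvPolynomial (Fin (n + 1)) k ⧸ x.1) = (δ : WithBot ℕ∞) ∧
        IsHP (hf k n x.1) (hpoly k n x.1) ∧ (δ = 0 → hpoly k n x.1 = 0) ∧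
        (1 ≤ δ → (hpoly k n x.1).natDegree + 1 = δ ∧ 0 < (hpoly k n x.1).leadingCoeff)) ∧
      (∀ y ∈ L.map (fun x => (hpoly k n x.1, x.2)), y.1 = 0 ∨ 0 < y.1.leadingCoeff) ∧
      IsHP (hf k n I) (sumSh (L.map fun x => (hpoly k n x.1, x.2))) := by
  obtain ⟨L, hL⟩ := exists_hasFilt k n I hI
  have hdata : ∀ x ∈ L, ∃ δ : ℕ,
      ringKrullDim (MvPolynomial (Fin (n + 1)) k ⧸ x.1) = (δ : WithBot ℕ∞) ∧
      IsHP (hf k n x.1) (hpoly k n x.1) ∧ (δ = 0 → hpoly k n x.1 = 0) ∧
      (1 ≤ δ → (hpoly k n x.1).natDegree + 1 = δ ∧ 0 < (hpoly k n x.1).leadingCoeff) := by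
    intro x hx
    obtain ⟨hxp, hxh, -⟩ := hL.mem_props x hx
    haveI := hxp
    obtain ⟨δ, hδ, -⟩ := exists_nat_dim k n x.1 hxp.ne_top
    obtain ⟨Q, hQ1, hQ2, hQ3⟩ := exists_hp_prime δ x.1 hxh hδ
    refine ⟨δ, hδ, ?_, ?_, ?_⟩
    · rw [hpoly_eq hQ1]; exact hQ1
    · rw [hpoly_eq hQ1]; exact hQ2
    · rw [hpoly_eq hQ1]; exact hQ3
  refine ⟨L, hL, hdata, ?_, isHP_of_hasFilt hL (fun x hx => ?_)⟩
  · intro y hy
    obtain ⟨x, hx, rfl⟩ := List.mem_map.mp hy
    obtain ⟨δ, -, -, h0, h1⟩ := hdata x hx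
    rcases Nat.eq_zero_or_pos δ with h | h
    · exact Or.inl (h0 h)
    · exact Or.inr (h1 h).2
  · obtain ⟨δ, -, h, -⟩ := hdata x hx
    exact ⟨_, h⟩

theorem dim_le_of_le {I J : Ideal (MvPolynomial (Fin (n + 1)) k)} (h : I ≤ J) :
    ringKrullDim (MvPolynomial (Fin (n + 1)) k ⧸ J) ≤
      ringKrullDim (MvPolynomial (Fin (n + 1)) k ⧸ I) :=
  ringKrullDim_le_of_surjective (Ideal.Quotient.factor h) (Ideal.Quotient.factor_surjective h)

/-- `dim R/I = deg P + 1` for a homogeneous ideal with nonzero Hilbert polynomial `P`. -/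
theorem ringKrullDim_eq_natDegree_add_one (I : Ideal (MvPolynomial (Fin (n + 1)) k))
    (hI : I.IsHomogeneous (CohB1.polyGrading n k)) (P : ℚ[X]) (hP0 : P ≠ 0)
    (hP : IsHP (hf k n I) P) :
    ringKrullDim (MvPolynomial (Fin (n + 1)) k ⧸ I) = (P.natDegree : WithBot ℕ∞) + 1 := by
  classical
  have hne : I ≠ ⊤ := by
    rintro rfl
    apply hP0
    exact hP.unique ⟨0, fun m _ => by rw [hf_top, eval_zero]⟩
  obtain ⟨L, hL, hdata, hpos, hS⟩ := exists_filt_data I hI
  have hPS := hP.unique hS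
  obtain ⟨hm1, -, hm3, -, -⟩ := sumSh_main _ hpos
  rw [← hPS] at hm1 hm3
  obtain ⟨D, hD, -⟩ := exists_nat_dim k n I hne
  rw [hD]
  have key : D = P.natDegree + 1 := by
    apply le_antisymm
    · obtain ⟨q, hqmin, hq⟩ := Groth.Agent.H21.SegreDim.exists_minimalPrimes_le_ringKrullDim I D
        (le_of_eq hD.symm)
      obtain ⟨x, hxL, rfl⟩ := hL.mem_of_mem_minimalPrimes hqmin
      obtain ⟨δ, hδ, -, h0, h1⟩ := hdata x hxL
      rw [hδ] at hq
      have hDδ : D ≤ δ := by exact_mod_cast hq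
      -- `D ≥ 1`
      obtain ⟨y, hyL', hy0, hynat⟩ := hm3 hP0
      obtain ⟨x', hx'L, rfl⟩ := List.mem_map.mp hyL'
      obtain ⟨δ', hδ', -, h0', h1'⟩ := hdata x' hx'L
      have hδ'pos : 1 ≤ δ' := by
        by_contra hlt
        exact hy0 (h0' (by omega))
      have hδ'D : δ' ≤ D := by
        have h2 := dim_le_of_le (hL.mem_props x' hx'L).2.2
        rw [hδ', hD] at h2
        exact_mod_cast h2
      have hδpos : 1 ≤ δ := by omega
      obtain ⟨h3, h4⟩ := h1 hδpos
      have h5 : hpoly k n x.1 ≠ 0 := by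
        intro h
        rw [h, leadingCoeff_zero] at h4
        exact lt_irrefl _ h4
      have h6 := hm1 _ (List.mem_map.mpr ⟨x, hxL, rfl⟩) h5
      have h6' : (hpoly k n x.1).natDegree ≤ P.natDegree := h6
      omega
    · obtain ⟨y, hyL', hy0, hynat⟩ := hm3 hP0
      obtain ⟨x', hx'L, rfl⟩ := List.mem_map.mp hyL'
      obtain ⟨δ', hδ', -, h0', h1'⟩ := hdata x' hx'L
      have hδ'pos : 1 ≤ δ' := by
        by_contra hlt
        exact hy0 (h0' (by omega))
      have hδ'D : δ' ≤ D := by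
        have h2 := dim_le_of_le (hL.mem_props x' hx'L).2.2
        rw [hδ', hD] at h2
        exact_mod_cast h2
      have h3 := (h1' hδ'pos).1
      have hynat' : (hpoly k n x'.1).natDegree = P.natDegree := hynat
      omega
  rw [key]
  push_cast
  rfl

end Data

section Mult

theorem length_localized_quotient_self {A : Type*} [CommRing A] (q : Ideal A) [q.IsPrime] :
    Module.length (Localization.AtPrime q) (LocalizedModule q.primeCompl (A ⧸ q)) = 1 := by
  haveI : IsSimpleModule (Localization.AtPrime q) (LocalizedModule q.primeCompl (A ⧸ q)) := by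
    rw [isSimpleModule_iff_toSpanSingleton_surjective]
    constructor
    · rw [← not_subsingleton_iff_nontrivial, LocalizedModule.subsingleton_iff]
      intro h
      obtain ⟨r, hr, hr0⟩ := h (Ideal.Quotient.mk q 1)
      apply hr
      show r ∈ q
      rw [← Ideal.Quotient.eq_zero_iff_mem]
      rw [← hr0, Algebra.smul_def, map_one, mul_one]
      rfl
    · intro x hx y
      induction x using LocalizedModule.induction_on with
      | h a s =>
        induction y using LocalizedModule.induction_on with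
        | h b t =>
          obtain ⟨a', rfl⟩ := Ideal.Quotient.mk_surjective a
          obtain ⟨b', rfl⟩ := Ideal.Quotient.mk_surjective b
          have ha' : a' ∉ q := by
            intro h
            apply hx
            rw [Ideal.Quotient.eq_zero_iff_mem.mpr h, LocalizedModule.zero_mk]
          refine ⟨Localization.mk (b' * s) ⟨a' * t, q.primeCompl.mul_mem ha' t.2⟩, ?_⟩
          rw [LinearMap.toSpanSingleton_apply, LocalizedModule.mk_smul_mk, LocalizedModule.mk_eq]
          refine ⟨1, ?_⟩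
          rw [one_smul, one_smul]
          simp only [Submonoid.smul_def, Submonoid.coe_mul, Algebra.smul_def,
            Ideal.Quotient.algebraMap_eq, ← map_mul]
          congr 1
          ring
  exact Module.length_eq_one _ _

theorem length_localized_quotient_of_not_le {A : Type*} [CommRing A] (p q : Ideal A) [q.IsPrime]
    (h : ¬ p ≤ q) :
    Module.length (Localization.AtPrime q) (LocalizedModule q.primeCompl (A ⧸ p)) = 0 := by
  obtain ⟨s, hsp, hsq⟩ := SetLike.not_le_iff_exists.mp h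
  haveI : Subsingleton (LocalizedModule q.primeCompl (A ⧸ p)) := by
    rw [LocalizedModule.subsingleton_iff]
    intro m
    obtain ⟨a, rfl⟩ := Ideal.Quotient.mk_surjective m
    refine ⟨s, hsq, ?_⟩
    rw [Algebra.smul_def, Ideal.Quotient.algebraMap_eq, ← map_mul, Ideal.Quotient.eq_zero_iff_mem]
    exact Ideal.mul_mem_right _ _ hsp
  exact Module.length_eq_zero

open Classical in
theorem length_step {A : Type*} [CommRing A] (I p : Ideal A) (g : A)
    (hcol : ∀ a, a ∈ p ↔ g * a ∈ I) (q : Ideal A) [q.IsPrime] :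
    Module.length (Localization.AtPrime q) (LocalizedModule q.primeCompl (A ⧸ I)) =
      Module.length (Localization.AtPrime q) (LocalizedModule q.primeCompl (A ⧸ p)) +
      Module.length (Localization.AtPrime q)
        (LocalizedModule q.primeCompl (A ⧸ (I ⊔ Ideal.span {g}))) := by
  have hle : p ≤ LinearMap.ker ((Submodule.mkQ I).comp (LinearMap.mulLeft A g)) := by
    intro a ha
    rw [LinearMap.mem_ker, LinearMap.comp_apply, LinearMap.mulLeft_apply, Submodule.mkQ_apply,
      Submodule.Quotient.mk_eq_zero]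
    exact (hcol a).mp ha
  have hIJ : I ≤ I ⊔ Ideal.span {g} := le_sup_left
  refine Groth.Agent.H79.LenLoc.length_localized_exact q.primeCompl
    (Submodule.liftQ p ((Submodule.mkQ I).comp (LinearMap.mulLeft A g)) hle)
    (Submodule.factor hIJ) ?_ (Submodule.factor_surjective hIJ) ?_
  · rw [← LinearMap.ker_eq_bot, Submodule.ker_liftQ_eq_bot']
    apply le_antisymm hle
    intro a ha
    rw [LinearMap.mem_ker, LinearMap.comp_apply, LinearMap.mulLeft_apply, Submodule.mkQ_apply,
      Submodule.Quotient.mk_eq_zero] at ha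
    exact (hcol a).mpr ha
  · intro y
    constructor
    · intro hy
      obtain ⟨b, rfl⟩ := Submodule.mkQ_surjective I y
      rw [Submodule.factor_mk, Submodule.mkQ_apply, Submodule.Quotient.mk_eq_zero] at hy
      obtain ⟨i, hi, c, hc, rfl⟩ := Submodule.mem_sup.mp hy
      obtain ⟨c', rfl⟩ := Ideal.mem_span_singleton'.mp hc
      refine ⟨Submodule.mkQ p c', ?_⟩
      rw [Submodule.mkQ_apply, Submodule.liftQ_apply, LinearMap.comp_apply,
        LinearMap.mulLeft_apply, Submodule.mkQ_apply, Submodule.mkQ_apply, eq_comm,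
        Submodule.Quotient.eq]
      rw [mul_comm c' g, add_sub_cancel_right]
      exact hi
    · rintro ⟨x, rfl⟩
      obtain ⟨a, rfl⟩ := Submodule.mkQ_surjective p x
      rw [Submodule.mkQ_apply, Submodule.liftQ_apply, LinearMap.comp_apply,
        LinearMap.mulLeft_apply, Submodule.factor_mk, Submodule.mkQ_apply,
        Submodule.Quotient.mk_eq_zero]
      exact Ideal.mem_sup_right (Ideal.mul_mem_right _ _ (Ideal.mem_span_singleton_self g))

variable {k : Type u} [Field k] {n : ℕ}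

open Classical in
/-- For a prime `q` such that the only prime of the filtration inside `q` is `q` itself (e.g. `q`
minimal over `I`), the length of `(R/I)_q` counts the occurrences of `q` in the filtration. -/
theorem length_localized_filt {I : Ideal (MvPolynomial (Fin (n + 1)) k)}
    {L : List (Ideal (MvPolynomial (Fin (n + 1)) k) × ℕ)} (h : HasFilt k n I L)
    (q : Ideal (MvPolynomial (Fin (n + 1)) k)) [q.IsPrime] (hq : ∀ x ∈ L, x.1 ≤ q → x.1 = q) :
    Module.length (Localization.AtPrime q)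
        (LocalizedModule q.primeCompl (MvPolynomial (Fin (n + 1)) k ⧸ I)) =
      ((L.countP (fun x => decide (x.1 = q)) : ℕ) : ℕ∞) := by
  induction h with
  | top =>
    haveI : Subsingleton (MvPolynomial (Fin (n + 1)) k ⧸ (⊤ : Ideal (MvPolynomial (Fin (n + 1)) k))) :=
      Ideal.Quotient.subsingleton_iff.mpr rfl
    rw [Module.length_eq_zero]
    rfl
  | step I g e p L hI hg hp hph hcol _ ih =>
    rw [length_step I p g hcol q, ih (fun x hx => hq x (List.mem_cons_of_mem _ hx)),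
      List.countP_cons]
    by_cases hpq : p = q
    · subst hpq
      rw [length_localized_quotient_self]
      simp only [decide_true, if_true]
      push_cast
      rw [add_comm]
    · have h1 : ¬ p ≤ q := fun hle => hpq (hq (p, e) List.mem_cons_self hle)
      rw [length_localized_quotient_of_not_le p q h1]
      simp only [hpq, decide_false, Bool.false_eq_true, if_false, add_zero, zero_add]

end Mult

end Groth.Agent.H21.HilbFilt
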