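import Groth.Agent.H21.EntirePoly
import Groth.Agent.H21.CPtFinite
import Mathlib.Analysis.Calculus.ImplicitFunction.ProdDomain
import Mathlib.Analysis.Calculus.ContDiff.RCLike
import Mathlib.Analysis.Calculus.ContDiff.Operations
import Mathlib.Analysis.Calculus.Deriv.Polynomial
import Mathlib.Analysis.Calculus.Deriv.Mul
import Mathlib.Analysis.Calculus.Deriv.Slope
import Mathlib.Analysis.Analytic.Polynomial
import Mathlib.FieldTheory.Separable
import Mathlib.RingTheory.Polynomial.UniqueFactorization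
import Mathlib.Topology.Algebra.MvPolynomial
import Mathlib.Topology.Connected.Basic

/-!
Connectedness of the `ℂ`-points of an irreducible hypersurface `F(t, T) = 0`, monic in `T`, over
the locus `g(t) ≠ 0` where it is unramified over `ℂ^n`.
-/

set_option autoImplicit false
open Topology Filter

noncomputable section

namespace Groth.Agent.H21

section PG

variable {E : Type*} [SeminormedAddCommGroup E]

/-- polynomial growth -/
def PG (b : E → ℝ) : Prop := ∃ (C : ℝ) (N : ℕ), 0 ≤ C ∧ ∀ z, |b z| ≤ C * (1 + ‖z‖) ^ N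

theorem one_le_base (z : E) : (1 : ℝ) ≤ 1 + ‖z‖ := by linarith [norm_nonneg z]

theorem PG.const (c : ℝ) : PG (fun _ : E => c) := ⟨|c|, 0, abs_nonneg c, fun z => by simp⟩

theorem PG.add {b₁ b₂ : E → ℝ} (h₁ : PG b₁) (h₂ : PG b₂) : PG (fun z => b₁ z + b₂ z) := by
  obtain ⟨C₁, N₁, hC₁, h₁⟩ := h₁
  obtain ⟨C₂, N₂, hC₂, h₂⟩ := h₂
  refine ⟨C₁ + C₂, max N₁ N₂, by positivity, fun z => ?_⟩
  have hb := one_le_base z
  have e1 : (1 + ‖z‖) ^ N₁ ≤ (1 + ‖z‖) ^ max N₁ N₂ := pow_le_pow_right₀ hb (le_max_left _ _)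
  have e2 : (1 + ‖z‖) ^ N₂ ≤ (1 + ‖z‖) ^ max N₁ N₂ := pow_le_pow_right₀ hb (le_max_right _ _)
  calc |b₁ z + b₂ z| ≤ |b₁ z| + |b₂ z| := abs_add_le _ _
    _ ≤ C₁ * (1 + ‖z‖) ^ N₁ + C₂ * (1 + ‖z‖) ^ N₂ := add_le_add (h₁ z) (h₂ z)
    _ ≤ C₁ * (1 + ‖z‖) ^ max N₁ N₂ + C₂ * (1 + ‖z‖) ^ max N₁ N₂ :=
        add_le_add (mul_le_mul_of_nonneg_left e1 hC₁) (mul_le_mul_of_nonneg_left e2 hC₂)
    _ = (C₁ + C₂) * (1 + ‖z‖) ^ max N₁ N₂ := by ring

theorem PG.mul {b₁ b₂ : E → ℝ} (h₁ : PG b₁) (h₂ : PG b₂) : PG (fun z => b₁ z * b₂ z) := by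
  obtain ⟨C₁, N₁, hC₁, h₁⟩ := h₁
  obtain ⟨C₂, N₂, hC₂, h₂⟩ := h₂
  refine ⟨C₁ * C₂, N₁ + N₂, by positivity, fun z => ?_⟩
  have hb := one_le_base z
  have hpos : 0 ≤ C₁ * (1 + ‖z‖) ^ N₁ := by positivity
  rw [abs_mul, pow_add]
  calc |b₁ z| * |b₂ z| ≤ (C₁ * (1 + ‖z‖) ^ N₁) * (C₂ * (1 + ‖z‖) ^ N₂) :=
        mul_le_mul (h₁ z) (h₂ z) (abs_nonneg _) hpos
    _ = C₁ * C₂ * ((1 + ‖z‖) ^ N₁ * (1 + ‖z‖) ^ N₂) := by ring

theorem PG.pow {b : E → ℝ} (h : PG b) (k : ℕ) : PG (fun z => b z ^ k) := by
  induction k with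
  | zero => simpa using PG.const (E := E) 1
  | succ k ih => simpa [pow_succ] using ih.mul h

theorem PG.sum {ι : Type*} (s : Finset ι) {b : ι → E → ℝ} (h : ∀ i ∈ s, PG (b i)) :
    PG (fun z => ∑ i ∈ s, b i z) := by
  classical
  induction s using Finset.induction_on with
  | empty => simpa using PG.const (E := E) 0
  | insert a s ha ih =>
    simp only [Finset.sum_insert ha]
    exact (h a (Finset.mem_insert_self a s)).add
      (ih fun i hi => h i (Finset.mem_insert_of_mem hi))

theorem PG.of_le {b b' : E → ℝ} (h : PG b') (hle : ∀ z, |b z| ≤ |b' z|) : PG b := by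
  obtain ⟨C, N, hC, h⟩ := h
  exact ⟨C, N, hC, fun z => (hle z).trans (h z)⟩

end PG

theorem PG.norm_eval {σ : Type*} [Fintype σ] (P : MvPolynomial σ ℂ) :
    PG (fun z : σ → ℂ => ‖MvPolynomial.eval z P‖) := by
  induction P using MvPolynomial.induction_on with
  | C a => simpa using PG.const (E := σ → ℂ) ‖a‖
  | add p q hp hq =>
    refine (hp.add hq).of_le fun z => ?_
    show |‖MvPolynomial.eval z (p + q)‖| ≤ |‖MvPolynomial.eval z p‖ + ‖MvPolynomial.eval z q‖|
    rw [map_add, abs_norm, abs_of_nonneg (by positivity)]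
    exact norm_add_le _ _
  | mul_X p i hp =>
    have hX : PG (fun z : σ → ℂ => ‖z i‖) :=
      ⟨1, 1, zero_le_one, fun z => by
        rw [abs_norm, pow_one, one_mul]
        linarith [norm_le_pi_norm z i]⟩
    refine (hp.mul hX).of_le fun z => ?_
    show |‖MvPolynomial.eval z (p * MvPolynomial.X i)‖| ≤ |‖MvPolynomial.eval z p‖ * ‖z i‖|
    rw [map_mul, MvPolynomial.eval_X, norm_mul]

/-- product rule when the differentiable factor vanishes and the other is only continuous -/
theorem differentiableAt_mul_of_eq_zero {u v : ℂ → ℂ} {s₀ : ℂ} (hu : DifferentiableAt ℂ u s₀)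
    (hu0 : u s₀ = 0) (hv : ContinuousAt v s₀) : DifferentiableAt ℂ (fun s => u s * v s) s₀ := by
  have h1 := hu.hasDerivAt
  have h2 : HasDerivAt (fun s => u s * v s) (deriv u s₀ * v s₀) s₀ := by
    rw [hasDerivAt_iff_tendsto_slope] at h1 ⊢
    have h3 : Tendsto v (𝓝[≠] s₀) (𝓝 (v s₀)) := hv.tendsto.mono_left nhdsWithin_le_nhds
    refine (h1.mul h3).congr fun s => ?_
    simp only [slope_def_field, hu0, zero_mul, sub_zero]
    ring
  exact h2.differentiableAt

theorem differentiable_eval_update {n : ℕ} (P : MvPolynomial (Fin n) ℂ) (t : Fin n → ℂ)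
    (j : Fin n) : Differentiable ℂ (fun s : ℂ => MvPolynomial.eval (Function.update t j s) P) := by
  have h1 : Differentiable ℂ (fun x : Fin n → ℂ => MvPolynomial.eval x P) := fun x =>
    ((AnalyticOnNhd.eval_mvPolynomial P) x (Set.mem_univ x)).differentiableAt
  have h2 : Differentiable ℂ (fun s : ℂ => Function.update t j s) :=
    (contDiff_update 1 t j).differentiable one_ne_zero
  exact h1.comp h2

namespace Hyp

variable {n : ℕ} (F : Polynomial (MvPolynomial (Fin n) ℂ)) (g : MvPolynomial (Fin n) ℂ)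

/-- the specialisation of `F` at `t` -/
def Ft (t : Fin n → ℂ) : Polynomial ℂ := F.map (MvPolynomial.eval t)

variable {F} in
theorem Ft_monic (hF : F.Monic) (t : Fin n → ℂ) : (Ft F t).Monic := hF.map _

variable {F} in
theorem Ft_natDegree (hF : F.Monic) (t : Fin n → ℂ) : (Ft F t).natDegree = F.natDegree :=
  hF.natDegree_map _

theorem Ft_coeff (t : Fin n → ℂ) (k : ℕ) :
    (Ft F t).coeff k = MvPolynomial.eval t (F.coeff k) := Polynomial.coeff_map _ _

theorem eval_Ft (t : Fin n → ℂ) (T : ℂ) : (Ft F t).eval T =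
    ∑ k ∈ Finset.range (F.natDegree + 1), MvPolynomial.eval t (F.coeff k) * T ^ k := by
  rw [Ft, Polynomial.eval_map, Polynomial.eval₂_eq_sum_range]

/-- the hypersurface over the locus `g ≠ 0` -/
def hyp : Set ((Fin n → ℂ) × ℂ) :=
  {p | MvPolynomial.eval p.1 g ≠ 0 ∧ (Ft F p.1).eval p.2 = 0}

open Classical in
/-- the roots of `F_t` lying in `w` -/
def rin (w : Set ((Fin n → ℂ) × ℂ)) (t : Fin n → ℂ) : Finset ℂ :=
  (Ft F t).roots.toFinset.filter (fun r => (t, r) ∈ w)

/-- the partial product -/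
def Phi (w : Set ((Fin n → ℂ) × ℂ)) (t : Fin n → ℂ) (T : ℂ) : ℂ :=
  (MvPolynomial.eval t g) ^ 2 * ∏ r ∈ rin F w t, (T - r)

variable {F} {g}

theorem mem_rootsF (hF : F.Monic) (t : Fin n → ℂ) (r : ℂ) :
    r ∈ (Ft F t).roots.toFinset ↔ (Ft F t).eval r = 0 := by
  rw [Multiset.mem_toFinset, Polynomial.mem_roots (Ft_monic hF t).ne_zero, Polynomial.IsRoot.def]

theorem mem_rin (hF : F.Monic) (w : Set ((Fin n → ℂ) × ℂ)) (t : Fin n → ℂ) (r : ℂ) :
    r ∈ rin F w t ↔ (Ft F t).eval r = 0 ∧ (t, r) ∈ w := by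
  classical
  rw [rin, Finset.mem_filter, mem_rootsF hF]

theorem card_roots_le (hF : F.Monic) (t : Fin n → ℂ) :
    (Ft F t).roots.toFinset.card ≤ F.natDegree := by
  calc (Ft F t).roots.toFinset.card ≤ (Ft F t).roots.card := Multiset.toFinset_card_le _
    _ ≤ (Ft F t).natDegree := Polynomial.card_roots' _
    _ = F.natDegree := Ft_natDegree hF t

theorem card_rin_le (hF : F.Monic) (w : Set ((Fin n → ℂ) × ℂ)) (t : Fin n → ℂ) :
    (rin F w t).card ≤ F.natDegree := by
  classical
  exact (Finset.card_filter_le _ _).trans (card_roots_le hF t)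

theorem card_roots_of_separable (hF : F.Monic) (t : Fin n → ℂ) (hs : (Ft F t).Separable) :
    (Ft F t).roots.toFinset.card = F.natDegree := by
  rw [Multiset.toFinset_card_of_nodup (Polynomial.nodup_roots hs),
    (Polynomial.splits_iff_card_roots).1 (IsAlgClosed.splits _), Ft_natDegree hF t]

variable (F) in
/-- bound for `|T - r|`, `r` a root of `F_t` -/
def bnd (t : Fin n → ℂ) (T : ℂ) : ℝ :=
  ‖T‖ + 1 + ∑ k ∈ Finset.range F.natDegree, ‖MvPolynomial.eval t (F.coeff k)‖

theorem one_le_bnd (t : Fin n → ℂ) (T : ℂ) : 1 ≤ bnd F t T := by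
  unfold bnd
  have : 0 ≤ ∑ k ∈ Finset.range F.natDegree, ‖MvPolynomial.eval t (F.coeff k)‖ :=
    Finset.sum_nonneg fun _ _ => norm_nonneg _
  linarith [norm_nonneg T]

theorem norm_prod_rin_le (hF : F.Monic) (w : Set ((Fin n → ℂ) × ℂ)) (t : Fin n → ℂ) (T : ℂ) :
    ‖∏ r ∈ rin F w t, (T - r)‖ ≤ bnd F t T ^ F.natDegree := by
  have h1 : ∀ r ∈ rin F w t, ‖T - r‖ ≤ bnd F t T := by
    intro r hr
    have hroot : (Ft F t).IsRoot r := ((mem_rin hF w t r).1 hr).1
    have h2 := CPt.norm_le_of_isRoot_monic (Ft F t) (Ft_monic hF t) r hroot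
    rw [Ft_natDegree hF t] at h2
    simp only [Ft_coeff] at h2
    unfold bnd
    calc ‖T - r‖ ≤ ‖T‖ + ‖r‖ := norm_sub_le _ _
      _ ≤ _ := by linarith
  calc ‖∏ r ∈ rin F w t, (T - r)‖ = ∏ r ∈ rin F w t, ‖T - r‖ := norm_prod _ _
    _ ≤ ∏ _r ∈ rin F w t, bnd F t T := Finset.prod_le_prod (fun _ _ => norm_nonneg _) h1
    _ = bnd F t T ^ (rin F w t).card := by rw [Finset.prod_const]
    _ ≤ bnd F t T ^ F.natDegree := pow_le_pow_right₀ (one_le_bnd t T) (card_rin_le hF w t)

theorem eval_Ft_eq_prod (hF : F.Monic) (t : Fin n → ℂ) (hs : (Ft F t).Separable) (T : ℂ) :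
    (Ft F t).eval T = ∏ r ∈ (Ft F t).roots.toFinset, (T - r) := by
  have hcard : (Ft F t).roots.card = (Ft F t).natDegree :=
    (Polynomial.splits_iff_card_roots).1 (IsAlgClosed.splits _)
  have h1 := Polynomial.prod_multiset_X_sub_C_of_monic_of_roots_card_eq (Ft_monic hF t) hcard
  have hnd : (Ft F t).roots.Nodup := Polynomial.nodup_roots hs
  have h2 : ∏ r ∈ (Ft F t).roots.toFinset, (Polynomial.X - Polynomial.C r) = Ft F t := by
    rw [Finset.prod_eq_multiset_prod, Multiset.toFinset_val, Multiset.dedup_eq_self.2 hnd]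
    exact h1
  conv_lhs => rw [← h2]
  rw [Polynomial.eval_prod]
  simp

section cover

variable (hF : F.Monic) (hsep : ∀ t, MvPolynomial.eval t g ≠ 0 → (Ft F t).Separable)
  {u v : Set ((Fin n → ℂ) × ℂ)} (hu : IsOpen u) (hv : IsOpen v)
  (hcov : hyp F g ⊆ u ∪ v) (hdisj : hyp F g ∩ (u ∩ v) = ∅)

include hF hcov hdisj in
theorem prod_rin_mul (t : Fin n → ℂ) (hg : MvPolynomial.eval t g ≠ 0)
    (hs : (Ft F t).Separable) (T : ℂ) :
    (∏ r ∈ rin F u t, (T - r)) * (∏ r ∈ rin F v t, (T - r)) = (Ft F t).eval T := by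
  classical
  have h1 : rin F v t = (Ft F t).roots.toFinset.filter (fun r => ¬ (t, r) ∈ u) := by
    unfold rin
    apply Finset.filter_congr
    intro r hr
    have hr0 := (mem_rootsF hF t r).1 hr
    have hmem : (t, r) ∈ hyp F g := ⟨hg, hr0⟩
    constructor
    · intro hv' hu'
      have : (t, r) ∈ hyp F g ∩ (u ∩ v) := ⟨hmem, hu', hv'⟩
      rw [hdisj] at this
      exact this
    · intro hnu
      rcases hcov hmem with h | h
      · exact absurd h hnu
      · exact h
  rw [h1, eval_Ft_eq_prod hF t hs T]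
  unfold rin
  exact Finset.prod_filter_mul_prod_filter_not _ _ _

include hF hsep hcov hdisj in
theorem Phi_mul (t : Fin n → ℂ) (T : ℂ) :
    Phi F g u t T * Phi F g v t T = (MvPolynomial.eval t g) ^ 4 * (Ft F t).eval T := by
  by_cases hg : MvPolynomial.eval t g = 0
  · simp [Phi, hg]
  · rw [← prod_rin_mul (g := g) hF hcov hdisj t hg (hsep t hg) T]
    unfold Phi
    ring

end cover

theorem contDiff_G (F : Polynomial (MvPolynomial (Fin n) ℂ)) (t : Fin n → ℂ) (j : Fin n) :
    ContDiff ℂ 1 (fun p : ℂ × ℂ => (Ft F (Function.update t j p.1)).eval p.2) := by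
  simp only [eval_Ft]
  apply ContDiff.sum
  intro k _
  apply ContDiff.mul
  · have h1 : ContDiff ℂ 1 (fun x : Fin n → ℂ => MvPolynomial.eval x (F.coeff k)) :=
      (AnalyticOnNhd.eval_mvPolynomial (F.coeff k)).contDiff
    exact h1.comp ((contDiff_update 1 t j).comp contDiff_fst)
  · exact contDiff_snd.pow k

/-- a simple root of `F_t` moves holomorphically when one coordinate of `t` varies -/
theorem exists_root_fun (F : Polynomial (MvPolynomial (Fin n) ℂ)) (t : Fin n → ℂ) (j : Fin n)
    (r : ℂ) (h0 : (Ft F t).eval r = 0) (h1 : (Ft F t).derivative.eval r ≠ 0) :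
    ∃ ρ : ℂ → ℂ, ρ (t j) = r ∧ DifferentiableAt ℂ ρ (t j) ∧
      ∀ᶠ s in 𝓝 (t j), (Ft F (Function.update t j s)).eval (ρ s) = 0 := by
  let G : ℂ × ℂ → ℂ := fun p => (Ft F (Function.update t j p.1)).eval p.2
  have hGc : ContDiff ℂ 1 G := contDiff_G F t j
  have dfu : HasStrictFDerivAt G (fderiv ℂ G (t j, r)) (t j, r) :=
    hGc.contDiffAt.hasStrictFDerivAt one_ne_zero
  have hGu : G (t j, r) = 0 := by
    show (Ft F (Function.update t j (t j))).eval r = 0
    rw [Function.update_eq_self]
    exact h0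
  have hpart : HasFDerivAt (fun T : ℂ => G (t j, T))
      ((fderiv ℂ G (t j, r)).comp (ContinuousLinearMap.inr ℂ ℂ ℂ)) r :=
    dfu.hasFDerivAt.comp r (hasFDerivAt_prodMk_right (t j) r)
  have hpart' : HasDerivAt (fun T : ℂ => G (t j, T)) ((Ft F t).derivative.eval r) r := by
    have : (fun T : ℂ => G (t j, T)) = fun T => (Ft F t).eval T := by
      funext T
      show (Ft F (Function.update t j (t j))).eval T = _
      rw [Function.update_eq_self]
    rw [this]
    exact (Ft F t).hasDerivAt r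
  have heq : (fderiv ℂ G (t j, r)).comp (ContinuousLinearMap.inr ℂ ℂ ℂ) =
      ContinuousLinearMap.smulRight (1 : ℂ →L[ℂ] ℂ) ((Ft F t).derivative.eval r) :=
    hpart.unique hpart'.hasFDerivAt
  have hinv : ((fderiv ℂ G (t j, r)).comp (ContinuousLinearMap.inr ℂ ℂ ℂ)).IsInvertible := by
    rw [heq]
    refine ⟨ContinuousLinearEquiv.unitsEquivAut ℂ (Units.mk0 _ h1), ?_⟩
    apply ContinuousLinearMap.ext_ring
    simp
  refine ⟨dfu.implicitFunctionOfProdDomain hinv, ?_, ?_, ?_⟩
  · have h := (dfu.eventually_apply_eq_iff_implicitFunctionOfProdDomain hinv).self_of_nhds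
    exact h.1 rfl
  · exact (dfu.hasStrictFDerivAt_implicitFunctionOfProdDomain hinv).hasFDerivAt.differentiableAt
  · have h := dfu.eventually_apply_implicitFunctionOfProdDomain hinv
    refine h.mono fun s hs => ?_
    rw [hGu] at hs
    exact hs

theorem continuous_bnd_update (t : Fin n → ℂ) (j : Fin n) (T : ℂ) :
    Continuous (fun s : ℂ => bnd F (Function.update t j s) T) := by
  unfold bnd
  refine continuous_const.add (continuous_finsetSum _ fun k _ => ?_)
  exact (differentiable_eval_update (F.coeff k) t j).continuous.norm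

/-- differentiability of the partial product along a coordinate line: ramified points -/
theorem differentiableAt_Phi_of_eq (hF : F.Monic) (w : Set ((Fin n → ℂ) × ℂ)) (t₀ : Fin n → ℂ)
    (j : Fin n) (T₀ : ℂ) (hg : MvPolynomial.eval t₀ g = 0) :
    DifferentiableAt ℂ (fun s => Phi F g w (Function.update t₀ j s) T₀) (t₀ j) := by
  have hupd : Function.update t₀ j (t₀ j) = t₀ := Function.update_eq_self j t₀
  let uu : ℂ → ℂ := fun s => MvPolynomial.eval (Function.update t₀ j s) g
  have hud : Differentiable ℂ uu := differentiable_eval_update g t₀ j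
  have hu0 : uu (t₀ j) = 0 := by
    show MvPolynomial.eval (Function.update t₀ j (t₀ j)) g = 0
    rw [hupd]
    exact hg
  let vv : ℂ → ℂ := fun s => uu s * ∏ r ∈ rin F w (Function.update t₀ j s), (T₀ - r)
  have hv0 : vv (t₀ j) = 0 := by
    show uu (t₀ j) * _ = 0
    rw [hu0, zero_mul]
  have hvc : ContinuousAt vv (t₀ j) := by
    rw [ContinuousAt, hv0]
    apply squeeze_zero_norm
      (a := fun s => ‖uu s‖ * bnd F (Function.update t₀ j s) T₀ ^ F.natDegree)
    · intro s
      show ‖uu s * ∏ r ∈ rin F w (Function.update t₀ j s), (T₀ - r)‖ ≤ _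
      rw [norm_mul]
      exact mul_le_mul_of_nonneg_left (norm_prod_rin_le hF w _ T₀) (norm_nonneg _)
    · have hc : Continuous
          (fun s => ‖uu s‖ * bnd F (Function.update t₀ j s) T₀ ^ F.natDegree) :=
        hud.continuous.norm.mul ((continuous_bnd_update t₀ j T₀).pow _)
      have h := hc.tendsto (t₀ j)
      simpa [hu0] using h
  have hmain := differentiableAt_mul_of_eq_zero hud.differentiableAt hu0 hvc
  refine hmain.congr_of_eventuallyEq (Filter.Eventually.of_forall fun s => ?_)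
  show Phi F g w (Function.update t₀ j s) T₀ = uu s * vv s
  show (MvPolynomial.eval (Function.update t₀ j s) g) ^ 2 * _ = uu s * (uu s * _)
  ring

section cover2

variable (hF : F.Monic) (hsep : ∀ t, MvPolynomial.eval t g ≠ 0 → (Ft F t).Separable)
  {u v : Set ((Fin n → ℂ) × ℂ)} (hu : IsOpen u) (hv : IsOpen v)
  (hcov : hyp F g ⊆ u ∪ v) (hdisj : hyp F g ∩ (u ∩ v) = ∅)

include hF hsep hu hv hcov hdisj in
/-- differentiability of the partial product along a coordinate line: unramified points -/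
theorem differentiableAt_Phi_of_ne (t₀ : Fin n → ℂ) (j : Fin n) (T₀ : ℂ)
    (hg : MvPolynomial.eval t₀ g ≠ 0) :
    DifferentiableAt ℂ (fun s => Phi F g u (Function.update t₀ j s) T₀) (t₀ j) := by
  classical
  have hs := hsep t₀ hg
  have hex : ∀ r ∈ (Ft F t₀).roots.toFinset, ∃ ρ : ℂ → ℂ, ρ (t₀ j) = r ∧
      DifferentiableAt ℂ ρ (t₀ j) ∧
      ∀ᶠ s in 𝓝 (t₀ j), (Ft F (Function.update t₀ j s)).eval (ρ s) = 0 := by
    intro r hr
    have hr0 := (mem_rootsF hF t₀ r).1 hr
    apply exists_root_fun F t₀ j r hr0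
    obtain ⟨a, b, hab⟩ := hs
    have h := congrArg (Polynomial.eval r) hab
    simp only [Polynomial.eval_add, Polynomial.eval_mul, hr0, mul_zero, zero_add,
      Polynomial.eval_one] at h
    intro h0
    rw [h0, mul_zero] at h
    exact zero_ne_one h
  choose! ρ hρ1 hρ2 hρ3 using hex
  have hupd : Function.update t₀ j (t₀ j) = t₀ := Function.update_eq_self j t₀
  have hcγ : Continuous (fun s : ℂ => Function.update t₀ j s) :=
    continuous_const.update j continuous_id
  have E1 : ∀ᶠ s in 𝓝 (t₀ j), MvPolynomial.eval (Function.update t₀ j s) g ≠ 0 := by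
    have hc : ContinuousAt (fun s : ℂ => MvPolynomial.eval (Function.update t₀ j s) g) (t₀ j) :=
      (differentiable_eval_update g t₀ j).continuous.continuousAt
    apply hc.eventually_ne
    rw [hupd]
    exact hg
  have E2 : ∀ᶠ s in 𝓝 (t₀ j), ∀ r ∈ (Ft F t₀).roots.toFinset,
      (Ft F (Function.update t₀ j s)).eval (ρ r s) = 0 :=
    (Filter.eventually_all_finset _).2 fun r hr => hρ3 r hr
  have E3 : ∀ᶠ s in 𝓝 (t₀ j), ∀ r ∈ (Ft F t₀).roots.toFinset,
      ∀ r' ∈ (Ft F t₀).roots.toFinset, r ≠ r' → ρ r s ≠ ρ r' s := by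
    refine (Filter.eventually_all_finset _).2 fun r hr =>
      (Filter.eventually_all_finset _).2 fun r' hr' => ?_
    by_cases hne : r = r'
    · exact Filter.Eventually.of_forall fun s h => absurd hne h
    · have hc : ContinuousAt (fun s => ρ r s - ρ r' s) (t₀ j) :=
        (hρ2 r hr).continuousAt.sub (hρ2 r' hr').continuousAt
      have h0 : ρ r (t₀ j) - ρ r' (t₀ j) ≠ 0 := by
        rw [hρ1 r hr, hρ1 r' hr']
        exact sub_ne_zero.2 hne
      exact (hc.eventually_ne h0).mono fun s hs _ => sub_ne_zero.1 hs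
  have E4 : ∀ w : Set ((Fin n → ℂ) × ℂ), IsOpen w →
      ∀ᶠ s in 𝓝 (t₀ j), ∀ r ∈ (Ft F t₀).roots.toFinset,
        (t₀, r) ∈ w → (Function.update t₀ j s, ρ r s) ∈ w := by
    intro w hw
    refine (Filter.eventually_all_finset _).2 fun r hr => ?_
    by_cases hrw : (t₀, r) ∈ w
    · have hc : ContinuousAt (fun s => (Function.update t₀ j s, ρ r s)) (t₀ j) :=
        hcγ.continuousAt.prodMk (hρ2 r hr).continuousAt
      have hmem : w ∈ 𝓝 ((fun s => (Function.update t₀ j s, ρ r s)) (t₀ j)) := by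
        show w ∈ 𝓝 (Function.update t₀ j (t₀ j), ρ r (t₀ j))
        rw [hupd, hρ1 r hr]
        exact hw.mem_nhds hrw
      exact (hc.eventually hmem).mono fun s hs _ => hs
    · exact Filter.Eventually.of_forall fun s h => absurd h hrw
  have hev : (fun s => Phi F g u (Function.update t₀ j s) T₀) =ᶠ[𝓝 (t₀ j)]
      fun s => (MvPolynomial.eval (Function.update t₀ j s) g) ^ 2 *
        ∏ r ∈ rin F u t₀, (T₀ - ρ r s) := by
    filter_upwards [E1, E2, E3, E4 u hu, E4 v hv] with s h1 h2 h3 h4u h4v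
    have hsub : (Ft F t₀).roots.toFinset.image (fun r => ρ r s) ⊆
        (Ft F (Function.update t₀ j s)).roots.toFinset := by
      intro x hx
      obtain ⟨r, hr, rfl⟩ := Finset.mem_image.1 hx
      exact (mem_rootsF hF _ _).2 (h2 r hr)
    have hinj : Set.InjOn (fun r => ρ r s) ((Ft F t₀).roots.toFinset : Set ℂ) := by
      intro r hr r' hr' h
      by_contra hne
      exact h3 r hr r' hr' hne h
    have hcard : ((Ft F t₀).roots.toFinset.image (fun r => ρ r s)).card = F.natDegree := by
      rw [Finset.card_image_of_injOn hinj]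
      exact card_roots_of_separable hF t₀ hs
    have hall : (Ft F t₀).roots.toFinset.image (fun r => ρ r s) =
        (Ft F (Function.update t₀ j s)).roots.toFinset :=
      Finset.eq_of_subset_of_card_le hsub (by rw [hcard]; exact card_roots_le hF _)
    have hrin : rin F u (Function.update t₀ j s) = (rin F u t₀).image (fun r => ρ r s) := by
      ext x
      rw [mem_rin hF, Finset.mem_image]
      constructor
      · rintro ⟨hx0, hxu⟩
        have hx : x ∈ (Ft F t₀).roots.toFinset.image (fun r => ρ r s) := by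
          rw [hall]
          exact (mem_rootsF hF _ _).2 hx0
        obtain ⟨r, hr, rfl⟩ := Finset.mem_image.1 hx
        have hr0 := (mem_rootsF hF t₀ r).1 hr
        refine ⟨r, (mem_rin hF u t₀ r).2 ⟨hr0, ?_⟩, rfl⟩
        by_contra hnu
        have hmem₀ : (t₀, r) ∈ hyp F g := ⟨hg, hr0⟩
        have hv' : (t₀, r) ∈ v := (hcov hmem₀).resolve_left hnu
        have hv'' := h4v r hr hv'
        have hmem : (Function.update t₀ j s, ρ r s) ∈ hyp F g ∩ (u ∩ v) :=
          ⟨⟨h1, h2 r hr⟩, hxu, hv''⟩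
        rw [hdisj] at hmem
        exact hmem
      · rintro ⟨r, hr, rfl⟩
        obtain ⟨hr0, hru⟩ := (mem_rin hF u t₀ r).1 hr
        have hr' : r ∈ (Ft F t₀).roots.toFinset := (mem_rootsF hF t₀ r).2 hr0
        exact ⟨h2 r hr', h4u r hr' hru⟩
    have hinj' : ∀ x ∈ rin F u t₀, ∀ y ∈ rin F u t₀, ρ x s = ρ y s → x = y := by
      intro x hx y hy hxy
      have hx' : x ∈ (Ft F t₀).roots.toFinset :=
        (mem_rootsF hF t₀ x).2 ((mem_rin hF u t₀ x).1 hx).1
      have hy' : y ∈ (Ft F t₀).roots.toFinset :=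
        (mem_rootsF hF t₀ y).2 ((mem_rin hF u t₀ y).1 hy).1
      exact hinj hx' hy' hxy
    show (MvPolynomial.eval (Function.update t₀ j s) g) ^ 2 *
        ∏ r ∈ rin F u (Function.update t₀ j s), (T₀ - r) = _
    rw [hrin, Finset.prod_image hinj']
  refine DifferentiableAt.congr_of_eventuallyEq ?_ hev
  refine ((differentiable_eval_update g t₀ j).differentiableAt.pow 2).mul ?_
  refine DifferentiableAt.fun_finsetProd fun r hr => ?_
  have hr' : r ∈ (Ft F t₀).roots.toFinset :=
    (mem_rootsF hF t₀ r).2 ((mem_rin hF u t₀ r).1 hr).1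
  exact (differentiableAt_const _).sub (hρ2 r hr')

end cover2

theorem exists_growth (hF : F.Monic) (w : Set ((Fin n → ℂ) × ℂ)) :
    ∃ (C : ℝ) (N : ℕ), ∀ z : Option (Fin n) → ℂ,
      ‖Phi F g w (fun j => z (some j)) (z none)‖ ≤ C * (1 + ‖z‖) ^ N := by
  have hP : ∀ P : MvPolynomial (Fin n) ℂ,
      PG (fun z : Option (Fin n) → ℂ => ‖MvPolynomial.eval (fun j => z (some j)) P‖) := by
    intro P
    have h := PG.norm_eval (MvPolynomial.rename (some : Fin n → Option (Fin n)) P)
    refine h.of_le fun z => ?_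
    rw [MvPolynomial.eval_rename]
    rfl
  have hT : PG (fun z : Option (Fin n) → ℂ => ‖z none‖) :=
    ⟨1, 1, zero_le_one, fun z => by
      rw [abs_norm, pow_one, one_mul]
      linarith [norm_le_pi_norm z none]⟩
  have hb : PG (fun z : Option (Fin n) → ℂ => bnd F (fun j => z (some j)) (z none)) := by
    unfold bnd
    exact (hT.add (PG.const 1)).add (PG.sum _ fun k _ => hP (F.coeff k))
  obtain ⟨C, N, _, h⟩ := ((hP g).pow 2).mul (hb.pow F.natDegree)
  refine ⟨C, N, fun z => ?_⟩
  refine le_trans ?_ ((le_abs_self _).trans (h z))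
  unfold Phi
  rw [norm_mul, norm_pow]
  exact mul_le_mul_of_nonneg_left (norm_prod_rin_le hF w _ _) (by positivity)

section cover3

variable (hF : F.Monic) (hsep : ∀ t, MvPolynomial.eval t g ≠ 0 → (Ft F t).Separable)
  {u v : Set ((Fin n → ℂ) × ℂ)} (hu : IsOpen u) (hv : IsOpen v)
  (hcov : hyp F g ⊆ u ∪ v) (hdisj : hyp F g ∩ (u ∩ v) = ∅)

include hF hsep hu hv hcov hdisj in
theorem exists_poly : ∃ P : Polynomial (MvPolynomial (Fin n) ℂ),
    ∀ t T, Phi F g u t T = (P.map (MvPolynomial.eval t)).eval T := by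
  obtain ⟨C, N, hCN⟩ := exists_growth (g := g) hF u
  have hd : ∀ (z : Option (Fin n) → ℂ) (i : Option (Fin n)), Differentiable ℂ
      (fun s => (fun z : Option (Fin n) → ℂ => Phi F g u (fun j => z (some j)) (z none))
        (Function.update z i s)) := by
    intro z i
    cases i with
    | none =>
      have h1 : (fun s => Phi F g u (fun j => Function.update z none s (some j))
          (Function.update z none s none)) = fun s => Phi F g u (fun j => z (some j)) s := by
        funext s
        have e1 : (fun j => Function.update z none s (some j)) = fun j => z (some j) := by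
          funext j
          exact Function.update_of_ne (by simp) _ _
        rw [e1, Function.update_self]
      rw [h1]
      unfold Phi
      exact (differentiable_const _).mul
        (Differentiable.fun_finsetProd fun r _ => differentiable_id.sub (differentiable_const r))
    | some j =>
      have h1 : (fun s => Phi F g u (fun j' => Function.update z (some j) s (some j'))
          (Function.update z (some j) s none)) =
          fun s => Phi F g u (Function.update (fun j' => z (some j')) j s) (z none) := by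
        funext s
        have e1 : (fun j' => Function.update z (some j) s (some j')) =
            Function.update (fun j' => z (some j')) j s := by
          funext j'
          by_cases h : j' = j
          · subst h
            simp
          · rw [Function.update_of_ne h, Function.update_of_ne (by simpa using h)]
        have e2 : Function.update z (some j) s none = z none :=
          Function.update_of_ne (by simp) _ _
        rw [e1, e2]
      rw [h1]
      intro s₀
      have h2 : (fun s => Phi F g u (Function.update (fun j' => z (some j')) j s) (z none)) =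
          fun s => Phi F g u
            (Function.update (Function.update (fun j' => z (some j')) j s₀) j s) (z none) := by
        funext s
        rw [Function.update_idem]
      have h3 : (Function.update (fun j' => z (some j')) j s₀) j = s₀ := Function.update_self ..
      rw [h2]
      by_cases hg : MvPolynomial.eval (Function.update (fun j' => z (some j')) j s₀) g = 0
      · have := differentiableAt_Phi_of_eq (g := g) hF u
          (Function.update (fun j' => z (some j')) j s₀) j (z none) hg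
        rwa [h3] at this
      · have := differentiableAt_Phi_of_ne hF hsep hu hv hcov hdisj
          (Function.update (fun j' => z (some j')) j s₀) j (z none) hg
        rwa [h3] at this
  obtain ⟨P', hP'⟩ := EntirePoly.exists_mvPolynomial_of_differentiable_of_growth
    (fun z : Option (Fin n) → ℂ => Phi F g u (fun j => z (some j)) (z none)) hd C N hCN
  refine ⟨MvPolynomial.optionEquivLeft ℂ (Fin n) P', fun t T => ?_⟩
  have h := hP' (fun o => Option.elim o T t)
  rw [MvPolynomial.optionEquivLeft_elim_eval] at h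
  exact h

end cover3

theorem poly_ext {Q Q' : Polynomial (MvPolynomial (Fin n) ℂ)}
    (h : ∀ (t : Fin n → ℂ) (T : ℂ), (Q.map (MvPolynomial.eval t)).eval T =
      (Q'.map (MvPolynomial.eval t)).eval T) : Q = Q' := by
  apply (MvPolynomial.optionEquivLeft ℂ (Fin n)).symm.injective
  apply MvPolynomial.funext
  intro z
  have hz : z = fun o => Option.elim o (z none) (fun j => z (some j)) := by
    funext o
    cases o <;> rfl
  rw [hz, MvPolynomial.optionEquivLeft_elim_eval, MvPolynomial.optionEquivLeft_elim_eval,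
    AlgEquiv.apply_symm_apply, AlgEquiv.apply_symm_apply]
  exact h _ _

theorem subset_of_dvd (hF : F.Monic) (w : Set ((Fin n → ℂ) × ℂ))
    (P : Polynomial (MvPolynomial (Fin n) ℂ))
    (hP : ∀ t T, Phi F g w t T = (P.map (MvPolynomial.eval t)).eval T) (hdvd : F ∣ P) :
    hyp F g ⊆ w := by
  rintro ⟨t, r'⟩ ⟨hg, hr'⟩
  obtain ⟨H, rfl⟩ := hdvd
  have h1 := hP t r'
  rw [Polynomial.map_mul, Polynomial.eval_mul] at h1
  have h2 : (Ft F t).eval r' = 0 := hr'
  unfold Ft at h2
  rw [h2, zero_mul] at h1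
  unfold Phi at h1
  rcases mul_eq_zero.1 h1 with h | h
  · exact absurd ((pow_eq_zero_iff two_ne_zero).1 h) hg
  · obtain ⟨r, hr, hr0⟩ := Finset.prod_eq_zero_iff.1 h
    have : r' = r := sub_eq_zero.1 hr0
    rw [this]
    exact ((mem_rin hF w t r).1 hr).2

/-- **Connectedness of irreducible hypersurfaces**, over the unramified locus. -/
theorem isPreconnected_hyp (hF : F.Monic) (hirr : Irreducible F)
    (hsep : ∀ t, MvPolynomial.eval t g ≠ 0 → (Ft F t).Separable) :
    IsPreconnected (hyp F g) := by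
  rw [isPreconnected_iff_subset_of_disjoint]
  intro u v hu hv hcov hdisj
  have hcov' : hyp F g ⊆ v ∪ u := by rwa [Set.union_comm]
  have hdisj' : hyp F g ∩ (v ∩ u) = ∅ := by rwa [Set.inter_comm v u]
  obtain ⟨Pu, hPu⟩ := exists_poly hF hsep hu hv hcov hdisj
  obtain ⟨Pv, hPv⟩ := exists_poly hF hsep hv hu hcov' hdisj'
  have hprod : Pu * Pv = Polynomial.C (g ^ 4) * F := by
    apply poly_ext
    intro t T
    rw [Polynomial.map_mul, Polynomial.eval_mul, ← hPu, ← hPv, Polynomial.map_mul,
      Polynomial.eval_mul, Polynomial.map_C, Polynomial.eval_C, map_pow,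
      Phi_mul hF hsep hcov hdisj t T]
    rfl
  have hprime : Prime F := hirr.prime
  have hdvd : F ∣ Pu * Pv := ⟨Polynomial.C (g ^ 4), by rw [hprod, mul_comm]⟩
  rcases hprime.dvd_or_dvd hdvd with h | h
  · exact Or.inl (subset_of_dvd hF u Pu hPu h)
  · exact Or.inr (subset_of_dvd hF v Pv hPv h)

end Hyp

end Groth.Agent.H21
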