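import Mathlib
import Groth.Agent.S3844
import Groth.Agent.H17.NormalRefl
import Groth.Agent.H17.KerLocFree
import Groth.Agent.H17.Hartogs
import Groth.Agent.H8.UnitIso
import Groth.Agent.H8.StructureCoh
import Groth.Agent.H22.GenLocus
import Groth.Agent.H29.FlatCM

set_option autoImplicit false
set_option linter.style.haveILetI false
universe u
open CategoryTheory AlgebraicGeometry CategoryTheory.Limits TopologicalSpace

namespace Groth.Agent.H21.InvRes

open Groth.Agent.H8

/-- sections of an invertible module restrict injectively to a schematically dense open -/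
theorem injective_res_of_invertible {A : Scheme.{u}} (L : A.Modules) (hL : PicF.IsInvertible L)
    (U' : A.Opens) (hU' : CInt.IsSchematicallyDense U') (W' : A.Opens) :
    Function.Injective (L.presheaf.map (homOfLE (inf_le_left : W' ⊓ U' ≤ W')).op) := by
  rw [injective_iff_map_eq_zero]
  intro t ht
  apply section_eq_of_cover L t 0
  intro x hxW
  obtain ⟨U₀, hxU₀, ⟨e⟩⟩ := hL x
  obtain ⟨σ, hσ⟩ := Groth.Agent.H22.GenLocus.exists_generator L U₀ e
  refine ⟨W' ⊓ U₀, inf_le_left, ⟨hxW, hxU₀⟩, ?_⟩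
  rw [map_zero]
  obtain ⟨r, hr⟩ := (hσ (W' ⊓ U₀) inf_le_right).2
    (L.presheaf.map (homOfLE (inf_le_left : W' ⊓ U₀ ≤ W')).op t)
  have hr' : r • L.presheaf.map (homOfLE (inf_le_right : W' ⊓ U₀ ≤ U₀)).op σ =
      L.presheaf.map (homOfLE (inf_le_left : W' ⊓ U₀ ≤ W')).op t := hr
  have h0 : L.presheaf.map (homOfLE (inf_le_left : (W' ⊓ U₀) ⊓ U' ≤ W' ⊓ U₀)).op
      (L.presheaf.map (homOfLE (inf_le_left : W' ⊓ U₀ ≤ W')).op t) = 0 := by
    rw [res_res]
    rw [← res_res L (le_inf (inf_le_left.trans inf_le_left) inf_le_right :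
      (W' ⊓ U₀) ⊓ U' ≤ W' ⊓ U') inf_le_left, ht, map_zero]
  rw [← hr', res_smul, res_res] at h0
  have hr0 : A.presheaf.map (homOfLE (inf_le_left : (W' ⊓ U₀) ⊓ U' ≤ W' ⊓ U₀)).op r = 0 := by
    apply (hσ ((W' ⊓ U₀) ⊓ U') (inf_le_left.trans inf_le_right)).1
    simp only [zero_smul]
    exact h0
  have hr1 : r = 0 := by
    apply hU' (W' ⊓ U₀)
    rw [map_zero]
    exact hr0
  rw [← hr', hr1, zero_smul]

end Groth.Agent.H21.InvRes
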