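import Mathlib

/-!
# `k`-points of finitely generated algebras over an algebraically closed field (helper21)

* `exists_algHom_ker_eq`: Nullstellensatz — every maximal ideal of a finitely generated algebra
  over an algebraically closed field is the kernel of a `k`-point.
* `exists_isMaximal_ne`: in a Jacobson ring, a prime strictly below a maximal ideal `𝔪` lies in a
  maximal ideal different from `𝔪`.
* `exists_prime_lt_of_card_lt_height`: Krull's height theorem in the form: fewer than `ht 𝔪`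
  elements of a prime `𝔪` are contained in a prime strictly below `𝔪`.
-/

set_option autoImplicit false

namespace Groth.Agent.H21.KPoint

/-- Nullstellensatz: every maximal ideal of a finitely generated algebra over an algebraically
closed field is the kernel of a `k`-point. -/
theorem exists_algHom_ker_eq (k : Type*) [Field k] [IsAlgClosed k] {T : Type*} [CommRing T]
    [Algebra k T] [Algebra.FiniteType k T] (𝔫 : Ideal T) [h𝔫 : 𝔫.IsMaximal] :
    ∃ χ : T →ₐ[k] k, RingHom.ker χ = 𝔫 := by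
  letI : Field (T ⧸ 𝔫) := Ideal.Quotient.field 𝔫
  haveI : Algebra.FiniteType k (T ⧸ 𝔫) :=
    Algebra.FiniteType.of_surjective (Ideal.Quotient.mkₐ k 𝔫) (Ideal.Quotient.mkₐ_surjective k 𝔫)
  haveI : Module.Finite k (T ⧸ 𝔫) := finite_of_finite_type_of_isJacobsonRing k (T ⧸ 𝔫)
  have hbij : Function.Bijective (algebraMap k (T ⧸ 𝔫)) :=
    IsAlgClosed.algebraMap_bijective_of_isIntegral
  let e : k ≃ₐ[k] (T ⧸ 𝔫) := AlgEquiv.ofBijective (Algebra.ofId k (T ⧸ 𝔫)) hbij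
  let χ : T →ₐ[k] k := (e.symm : (T ⧸ 𝔫) →ₐ[k] k).comp (Ideal.Quotient.mkₐ k 𝔫)
  refine ⟨χ, ?_⟩
  ext t
  rw [RingHom.mem_ker]
  constructor
  · intro hz
    have h2 : e.symm (Ideal.Quotient.mk 𝔫 t) = 0 := hz
    rw [map_eq_zero_iff _ e.symm.injective] at h2
    exact Ideal.Quotient.eq_zero_iff_mem.mp h2
  · intro hz
    have h2 : Ideal.Quotient.mk 𝔫 t = 0 := Ideal.Quotient.eq_zero_iff_mem.mpr hz
    show e.symm (Ideal.Quotient.mk 𝔫 t) = 0
    rw [h2, map_zero]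

/-- In a Jacobson ring, a prime strictly contained in a maximal ideal `𝔪` is contained in a
maximal ideal different from `𝔪`. -/
theorem exists_isMaximal_ne {T : Type*} [CommRing T] [IsJacobsonRing T] {𝔭 𝔪 : Ideal T}
    [h𝔭 : 𝔭.IsPrime] (hlt : 𝔭 < 𝔪) :
    ∃ 𝔫 : Ideal T, 𝔫.IsMaximal ∧ 𝔭 ≤ 𝔫 ∧ 𝔫 ≠ 𝔪 := by
  by_contra hcon
  push Not at hcon
  have hjac : 𝔭.jacobson = 𝔭 := IsJacobsonRing.out inferInstance h𝔭.isRadical
  have h1 : 𝔪 ≤ 𝔭.jacobson := by
    rw [Ideal.jacobson]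
    refine le_sInf ?_
    rintro J ⟨hJ1, hJ2⟩
    exact (hcon J hJ2 hJ1).ge
  rw [hjac] at h1
  exact absurd hlt (not_lt_of_ge h1)

/-- Krull's height theorem: a finite subset of a prime `𝔪` with fewer than `ht 𝔪` elements is
contained in a prime strictly below `𝔪`. -/
theorem exists_prime_lt_of_card_lt_height {T : Type*} [CommRing T] [IsNoetherianRing T]
    (𝔪 : Ideal T) [h𝔪 : 𝔪.IsPrime] (s : Finset T) (hs : (s : Set T) ⊆ 𝔪)
    (hcard : (s.card : ℕ∞) < 𝔪.height) :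
    ∃ 𝔭 : Ideal T, 𝔭.IsPrime ∧ (s : Set T) ⊆ 𝔭 ∧ 𝔭 < 𝔪 := by
  have hle : Ideal.span (s : Set T) ≤ 𝔪 := Ideal.span_le.mpr hs
  obtain ⟨𝔭, h𝔭, h𝔭𝔪⟩ := Ideal.exists_minimalPrimes_le hle
  have hht : 𝔭.height ≤ s.card := Ideal.height_le_card_of_mem_minimalPrimes_span_finset h𝔭
  refine ⟨𝔭, h𝔭.1.1, fun x hx => h𝔭.1.2 (Ideal.subset_span hx), lt_of_le_of_ne h𝔭𝔪 ?_⟩
  intro heq
  rw [heq] at hht
  exact absurd hcard (not_lt_of_ge hht)

end Groth.Agent.H21.KPoint
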