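import Mathlib.CategoryTheory.Functor.Flat
import Mathlib.CategoryTheory.Limits.FilteredColimitCommutesFiniteLimit
import Mathlib.Algebra.Category.Grp.FilteredColimits
import Mathlib.Algebra.Category.Grp.Limits
import Mathlib.Algebra.Category.Grp.Colimits
import Mathlib.CategoryTheory.Category.ULift

/-!
Left Kan extension along (the opposite of) a representably flat functor preserves finite limits, for
presheaves of abelian groups on large sites with small hom-sets (objects in `Type 1`, morphisms in
`Type`), values in `AddCommGrpCat.{1}`.
-/

set_option autoImplicit false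
open CategoryTheory Limits

universe v₁ v₂ v₃ u₁ u₂ u₃

noncomputable section

namespace Groth.Agent.H21

section lanEval

variable {C : Type u₁} [Category.{v₁} C] {D : Type u₂} [Category.{v₂} D]
  (E : Type u₃) [Category.{v₃} E]

set_option backward.defeqAttrib.useBackward true in
set_option backward.isDefEq.respectTransparency false in
/-- The evaluation of `F.lan` at `X` is the colimit over the costructured arrows over `X`
(general universes). -/
def lanEvaluationIsoColim' (F : C ⥤ D) (X : D)
    [∀ X : D, HasColimitsOfShape (CostructuredArrow F X) E]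
    [∀ G : C ⥤ E, F.HasLeftKanExtension G] :
    F.lan ⋙ (evaluation D E).obj X ≅
      (Functor.whiskeringLeft _ _ E).obj (CostructuredArrow.proj F X) ⋙ colim :=
  NatIso.ofComponents (fun G =>
    IsColimit.coconePointUniqueUpToIso
    (Functor.isPointwiseLeftKanExtensionLeftKanExtensionUnit F G X)
    (colimit.isColimit _)) (fun {G₁ G₂} φ => by
      apply (Functor.isPointwiseLeftKanExtensionLeftKanExtensionUnit F G₁ X).hom_ext
      intro T
      have h₁ := fun (G : C ⥤ E) => IsColimit.comp_coconePointUniqueUpToIso_hom
        (Functor.isPointwiseLeftKanExtensionLeftKanExtensionUnit F G X) (colimit.isColimit _) T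
      have h₂ := congr_app (F.lanUnit.naturality φ) T.left
      dsimp at h₁ h₂ ⊢
      simp only [Category.assoc] at h₁ ⊢
      simp only [Functor.lan, Functor.lanUnit] at h₂ ⊢
      rw [reassoc_of% h₁, NatTrans.naturality_assoc, ← reassoc_of% h₂, h₁,
        ι_colimMap, Functor.whiskerLeft_app]
      rfl)

end lanEval

section filtered

variable {K : Type 1} [Category.{0} K] [IsFiltered K]

instance preservesColimitsOfShape_forget_of_filtered :
    PreservesColimitsOfShape K (forget AddCommGrpCat.{1}) := by
  have : IsFiltered (ULiftHom.{1} K) := IsFiltered.of_equivalence ULiftHom.equiv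
  exact preservesColimitsOfShape_of_equiv (ULiftHom.equiv (C := K)).symm _

example : PreservesFiniteLimits (colim : (K ⥤ AddCommGrpCat.{1}) ⥤ _) := inferInstance

end filtered

section lanFlat

variable {C : Type 1} [Category.{0} C] {D : Type 1} [Category.{0} D]

/-- left Kan extension along a flat functor preserves finite limits of presheaves of abelian
groups -/
theorem lan_preservesFiniteLimits_of_flat' (F : C ⥤ D) [RepresentablyFlat F] :
    PreservesFiniteLimits (F.op.lan : (Cᵒᵖ ⥤ AddCommGrpCat.{1}) ⥤ Dᵒᵖ ⥤ AddCommGrpCat.{1}) := by
  apply preservesFiniteLimits_of_preservesFiniteLimitsOfSize.{0}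
  intro J _ _
  apply preservesLimitsOfShape_of_evaluation
    (F.op.lan : (Cᵒᵖ ⥤ AddCommGrpCat.{1}) ⥤ Dᵒᵖ ⥤ AddCommGrpCat.{1}) J
  intro A
  have : IsFiltered (CostructuredArrow F.op A) :=
    IsFiltered.of_equivalence (structuredArrowOpEquivalence F (Opposite.unop A))
  exact preservesLimitsOfShape_of_natIso (lanEvaluationIsoColim' _ _ _).symm

end lanFlat

end Groth.Agent.H21
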