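import Mathlib
import Groth.Prelude
import Groth.Agent.H82.HHLES
import Groth.Agent.H22.SerreH1

/-!
# (HL) long exact resolution + vanishing ⇒ surjectivity on global sections (piece for S11739)
-/

set_option autoImplicit false
set_option linter.style.haveILetI false
universe u
open CategoryTheory CategoryTheory.Limits AlgebraicGeometry Opposite TopologicalSpace

namespace Groth.Agent.H21.Mumford_HL

variable {X : Scheme.{u}}

lemma subsingleton_HH_of_isZero {M : X.Modules} (hM : IsZero M) (q : ℕ) :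
    Subsingleton (Coh.HH X M q) := by
  have h0 : (𝟙 (Coh.toAb M)) = 0 := by
    have h1 : (𝟙 M : M ⟶ M) = 0 := hM.eq_of_src _ _
    have h2 := congrArg (SheafOfModules.toSheaf X.ringCatSheaf).map h1
    exact ((SheafOfModules.toSheaf X.ringCatSheaf).map_id M).symm.trans
      (h2.trans ((SheafOfModules.toSheaf X.ringCatSheaf).map_zero _ _))
  have key : ∀ x : Coh.HH X M q, x = 0 := fun x => by
    have h1 := Sheaf.H.map_id_apply (F := Coh.toAb M) (n := q) x
    rw [h0] at h1
    rw [← h1]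
    change ((Sheaf.functorH _ q).map (0 : Coh.toAb M ⟶ Coh.toAb M)).hom x = 0
    rw [CategoryTheory.Functor.map_zero]
    rfl
  exact ⟨fun a b => (key a).trans (key b).symm⟩

section

variable (A : ℕ → X.Modules) (d : ∀ k, A k ⟶ A (k + 1)) (hd : ∀ k, d k ≫ d (k + 1) = 0)

/-- the map `A k ⟶ Z (k+1)` -/
noncomputable abbrev gk (k : ℕ) : A k ⟶ kernel (d (k + 1)) := kernel.lift (d (k + 1)) (d k) (hd k)

lemma ι_gk (k : ℕ) : kernel.ι (d k) ≫ gk A d hd k = 0 := by
  rw [← cancel_mono (kernel.ι (d (k + 1)))]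
  simp [gk]

/-- the short complex `Z k ⟶ A k ⟶ Z (k+1)` -/
noncomputable abbrev Sk (k : ℕ) : ShortComplex X.Modules :=
  ShortComplex.mk (kernel.ι (d k)) (gk A d hd k) (ι_gk A d hd k)

lemma Sk_shortExact (hex : ∀ k, (ShortComplex.mk (d k) (d (k + 1)) (hd k)).Exact) (k : ℕ) :
    (Sk A d hd k).ShortExact := by
  have hepi : Epi (gk A d hd k) := (ShortComplex.exact_iff_epi_kernel_lift _).1 (hex k)
  have hex2 : (ShortComplex.mk (kernel.ι (d k)) (d k) (kernel.condition (d k))).Exact :=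
    ShortComplex.exact_of_f_is_kernel _ (kernelIsKernel (d k))
  let φ : Sk A d hd k ⟶ ShortComplex.mk (kernel.ι (d k)) (d k) (kernel.condition (d k)) :=
    { τ₁ := 𝟙 _
      τ₂ := 𝟙 _
      τ₃ := kernel.ι (d (k + 1))
      comm₁₂ := by simp [Sk]
      comm₂₃ := by simp [Sk, gk] }
  haveI : Epi φ.τ₁ := by dsimp [φ]; infer_instance
  haveI : IsIso φ.τ₂ := by dsimp [φ]; infer_instance
  haveI : Mono φ.τ₃ := by dsimp [φ]; infer_instance
  exact
    { exact := (ShortComplex.exact_iff_of_epi_of_isIso_of_mono φ).2 hex2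
      mono_f := by dsimp [Sk]; infer_instance
      epi_g := hepi }

end

/-- (HL) -/
theorem HL (n : ℕ) (A : ℕ → X.Modules) (d : ∀ k, A k ⟶ A (k + 1))
    (hd : ∀ k, d k ≫ d (k + 1) = 0)
    (hex : ∀ k, (ShortComplex.mk (d k) (d (k + 1)) (hd k)).Exact)
    (h0 : IsZero (A 0)) (hN : IsZero (A (n + 3)))
    (hvan : ∀ i, 1 ≤ i → i ≤ n → Subsingleton (Coh.HH X (A i) (n + 1 - i))) :
    Function.Surjective ((d (n + 1)).app ⊤) := by
  -- `Z 1 = 0`
  have hZ1 : IsZero (kernel (d 1)) := by
    have hepi : Epi (gk A d hd 0) := (ShortComplex.exact_iff_epi_kernel_lift _).1 (hex 0)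
    rw [IsZero.iff_id_eq_zero, ← cancel_epi (gk A d hd 0)]
    rw [comp_zero, Category.comp_id]
    exact h0.eq_of_src _ _
  -- the inductive claim
  have claim : ∀ k, 1 ≤ k → k ≤ n + 1 →
      Subsingleton (Coh.HH X (kernel (d k)) (n + 2 - k)) := by
    intro k hk1
    induction k, hk1 using Nat.le_induction with
    | base =>
      intro _
      exact subsingleton_HH_of_isZero hZ1 _
    | succ k hk ih =>
      intro hkn
      have ih' := ih (by omega)
      have hv := hvan k hk (by omega)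
      have hS := Sk_shortExact A d hd hex k
      have e1 : n + 2 - k = (n + 1 - k) + 1 := by omega
      have e2 : n + 2 - (k + 1) = n + 1 - k := by omega
      rw [e2]
      rw [e1] at ih'
      exact Groth.Agent.H82.HHLES.subsingleton_right (Sk A d hd k) hS (n + 1 - k) hv ih'
  have h1 : Subsingleton (Coh.HH X (kernel (d (n + 1))) 1) := by
    have := claim (n + 1) (by omega) le_rfl
    rwa [show n + 2 - (n + 1) = 1 by omega] at this
  have hS := Sk_shortExact A d hd hex (n + 1)
  have hsurj : Function.Surjective ((gk A d hd (n + 1)).app ⊤) :=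
    Groth.Agent.H22.SerreH1.app_top_surjective_of_H1 (Sk A d hd (n + 1)) hS h1
  -- `kernel.ι (d (n+2))` is an isomorphism
  have hd0 : d (n + 2) = 0 := hN.eq_of_tgt _ _
  haveI : IsIso (kernel.ι (d (n + 2))) := by
    have hmono : Mono (kernel.ι (d (n + 2))) := inferInstance
    have hepi : Epi (kernel.ι (d (n + 2))) := by
      rw [hd0]
      infer_instance
    exact isIso_of_mono_of_epi _
  have hfac : gk A d hd (n + 1) ≫ kernel.ι (d (n + 2)) = d (n + 1) := kernel.lift_ι _ _ _
  intro t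
  let ι := kernel.ι (d (n + 2))
  obtain ⟨y, hy⟩ := hsurj ((inv ι).app ⊤ t)
  refine ⟨y, ?_⟩
  have h2 : (d (n + 1)).app ⊤ y = ι.app ⊤ ((gk A d hd (n + 1)).app ⊤ y) := by
    rw [← hfac]
    rfl
  rw [h2, hy]
  have h3 : ι.app ⊤ ((inv ι).app ⊤ t) = (inv ι ≫ ι).app ⊤ t := rfl
  rw [h3, IsIso.inv_hom_id]
  rfl

end Groth.Agent.H21.Mumford_HL
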