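import Mathlib
import Groth.Prelude

/-!
# (RET) `H^i` of a direct summand (piece for S19605)
-/

set_option autoImplicit false
universe u
open CategoryTheory CategoryTheory.Limits AlgebraicGeometry Opposite TopologicalSpace

namespace Groth.Agent.H21.Mumford_RET

variable {X : Scheme.{u}}

/-- vanishing of cohomology passes to retracts -/
theorem subsingleton_HH_of_retract {M N : X.Modules} (ι : M ⟶ N) (r : N ⟶ M) (h : ι ≫ r = 𝟙 M)
    (q : ℕ) (hN : Subsingleton (Coh.HH X N q)) : Subsingleton (Coh.HH X M q) := by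
  let a : Coh.toAb M ⟶ Coh.toAb N := (SheafOfModules.toSheaf X.ringCatSheaf).map ι
  let b : Coh.toAb N ⟶ Coh.toAb M := (SheafOfModules.toSheaf X.ringCatSheaf).map r
  have hab : a ≫ b = 𝟙 _ :=
    ((SheafOfModules.toSheaf X.ringCatSheaf).map_comp ι r).symm.trans
      ((congrArg (SheafOfModules.toSheaf X.ringCatSheaf).map h).trans
        ((SheafOfModules.toSheaf X.ringCatSheaf).map_id M))
  have hinj : Function.Injective (Sheaf.H.map a q) := by
    intro x y hxy
    have := congrArg (Sheaf.H.map b q) hxy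
    rw [← Sheaf.H.map_comp_apply, ← Sheaf.H.map_comp_apply, hab, Sheaf.H.map_id_apply,
      Sheaf.H.map_id_apply] at this
    exact this
  exact hinj.subsingleton

/-- (RET) -/
theorem RET (M : X.Modules) (p i : ℕ) (hp : 0 < p)
    (h : Subsingleton (Coh.HH X (∐ fun _ : Fin p => M) i)) : Subsingleton (Coh.HH X M i) := by
  refine subsingleton_HH_of_retract (Sigma.ι (fun _ : Fin p => M) ⟨0, hp⟩)
    (Sigma.desc (fun _ => 𝟙 M)) ?_ i h
  simp

end Groth.Agent.H21.Mumford_RET
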