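import Mathlib
import Groth.Agent.H21.ProjTop

/-!
# Homogeneous prime avoidance and cutting a closed subset of `Proj` by hypersurfaces

* `homogeneous_prime_avoidance`: a homogeneous ideal `I` not contained in any of finitely many
  relevant homogeneous primes contains a homogeneous element of positive degree avoiding them all.
* `exists_homogeneous_cutting`: for closed subsets `X`, `Y` of `Proj` (Noetherian) with
  `dim X ≤ r`, there are `r + 1` homogeneous elements of positive degree vanishing on `Y` whose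
  common zeros on `X` lie in `Y`.
-/

set_option autoImplicit false
universe u
open AlgebraicGeometry TopologicalSpace Topology

namespace Groth.Agent.H21.ProjAvoid

variable {R A : Type u} [CommRing R] [CommRing A] [Algebra R A] (𝒜 : ℕ → Submodule R A)
  [GradedAlgebra 𝒜]

theorem exists_homogeneous_mem_notMem_of_not_le {q p : Ideal A} (hq : q.IsHomogeneous 𝒜)
    (h : ¬ q ≤ p) : ∃ (d : ℕ) (t : A), t ∈ 𝒜 d ∧ t ∈ q ∧ t ∉ p := by
  classical
  obtain ⟨r, hrq, hrp⟩ := SetLike.not_le_iff_exists.1 h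
  by_contra hall
  push_neg at hall
  apply hrp
  rw [← DirectSum.sum_support_decompose 𝒜 r]
  exact Ideal.sum_mem _ fun i _ => hall i _ (SetLike.coe_mem _) (hq i hrq)

theorem exists_pos_homogeneous_notMem {p : Ideal A}
    (h : ¬ (HomogeneousIdeal.irrelevant 𝒜).toIdeal ≤ p) :
    ∃ (d : ℕ) (t : A), 0 < d ∧ t ∈ 𝒜 d ∧ t ∉ p := by
  classical
  obtain ⟨r, hr, hrp⟩ := SetLike.not_le_iff_exists.1 h
  by_contra hall
  push_neg at hall
  apply hrp
  rw [← DirectSum.sum_support_decompose 𝒜 r]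
  refine Ideal.sum_mem _ fun i _ => ?_
  rcases Nat.eq_zero_or_pos i with hi | hi
  · subst hi
    have h0 : (DirectSum.decompose 𝒜 r 0 : A) = 0 := by
      have h1 := (HomogeneousIdeal.mem_irrelevant_iff 𝒜 r).mp hr
      rwa [GradedRing.proj_apply] at h1
    rw [h0]
    exact zero_mem _
  · exact hall i _ hi (SetLike.coe_mem _)

/-- **Homogeneous prime avoidance.** -/
theorem homogeneous_prime_avoidance (I : Ideal A) (hI : I.IsHomogeneous 𝒜) :
    ∀ (m : ℕ) (S : Finset (Ideal A)), S.card = m →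
      (∀ p ∈ S, p.IsPrime ∧ p.IsHomogeneous 𝒜 ∧ ¬ I ≤ p ∧
        ¬ (HomogeneousIdeal.irrelevant 𝒜).toIdeal ≤ p) →
      ∃ (e : ℕ) (x : A), 0 < e ∧ x ∈ 𝒜 e ∧ x ∈ I ∧ ∀ p ∈ S, x ∉ p := by
  classical
  intro m
  induction m with
  | zero =>
    intro S hS _
    rw [Finset.card_eq_zero] at hS
    subst hS
    exact ⟨1, 0, one_pos, zero_mem _, zero_mem _,
      fun p hp => absurd hp (Finset.notMem_empty p)⟩
  | succ m ih =>
    intro S hS hprop
    have hne : S.Nonempty := Finset.card_pos.1 (by omega)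
    obtain ⟨p, hpS, hpmin⟩ := S.exists_minimal hne
    obtain ⟨hpprime, hphom, hpI, hpirr⟩ := hprop p hpS
    obtain ⟨e, y, he, hy, hyI, hyS⟩ := ih (S.erase p)
      (by rw [Finset.card_erase_of_mem hpS, hS]; rfl)
      (fun q hq => hprop q (Finset.mem_of_mem_erase hq))
    by_cases hyp : y ∈ p
    · have hex : ∀ q : Ideal A, q ∈ S.erase p →
          ∃ (d : ℕ) (t : A), t ∈ 𝒜 d ∧ t ∈ q ∧ t ∉ p := by
        intro q hq
        refine exists_homogeneous_mem_notMem_of_not_le 𝒜
          (hprop q (Finset.mem_of_mem_erase hq)).2.1 ?_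
        intro hle
        have hpq : p ≤ q := hpmin (Finset.mem_of_mem_erase hq) hle
        exact (Finset.ne_of_mem_erase hq) (le_antisymm hle hpq)
      choose! d t ht using hex
      obtain ⟨du, u, hu, huI, hup⟩ := exists_homogeneous_mem_notMem_of_not_le 𝒜 hI hpI
      obtain ⟨dv, v, hdv, hv, hvp⟩ := exists_pos_homogeneous_notMem 𝒜 hpirr
      have hprodp : ∏ q ∈ S.erase p, t q ∉ p := by
        intro hmem
        obtain ⟨q, hq, hqp⟩ := (Ideal.IsPrime.prod_mem_iff (hp := hpprime)).1 hmem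
        exact (ht q hq).2.2 hqp
      have hzp : u * v * ∏ q ∈ S.erase p, t q ∉ p := by
        intro hmem
        rcases hpprime.mem_or_mem hmem with h | h
        · rcases hpprime.mem_or_mem h with h' | h'
          · exact hup h'
          · exact hvp h'
        · exact hprodp h
      have hzdeg : u * v * ∏ q ∈ S.erase p, t q ∈ 𝒜 (du + dv + ∑ q ∈ S.erase p, d q) :=
        SetLike.mul_mem_graded (SetLike.mul_mem_graded hu hv)
          (SetLike.prod_mem_graded 𝒜 d t (fun q hq => (ht q hq).1))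
      have hzI : u * v * ∏ q ∈ S.erase p, t q ∈ I :=
        I.mul_mem_right _ (I.mul_mem_right _ huI)
      have hzq : ∀ q ∈ S.erase p, u * v * ∏ q ∈ S.erase p, t q ∈ q := by
        intro q hq
        refine q.mul_mem_left _ ?_
        rw [← Finset.mul_prod_erase (S.erase p) t hq]
        exact q.mul_mem_right _ (ht q hq).2.1
      have hdzpos : 0 < du + dv + ∑ q ∈ S.erase p, d q := by omega
      obtain ⟨dz, hdz⟩ : ∃ dz : ℕ, dz = du + dv + ∑ q ∈ S.erase p, d q := ⟨_, rfl⟩
      obtain ⟨z, hz⟩ : ∃ z : A, z = u * v * ∏ q ∈ S.erase p, t q := ⟨_, rfl⟩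
      rw [← hdz] at hdzpos hzdeg
      rw [← hz] at hzp hzdeg hzq hzI
      have h1 : y ^ dz ∈ 𝒜 (dz * e) := by
        have h6 := SetLike.pow_mem_graded dz hy
        rwa [smul_eq_mul] at h6
      have h2 : z ^ e ∈ 𝒜 (dz * e) := by
        have h6 := SetLike.pow_mem_graded e hzdeg
        rwa [smul_eq_mul, mul_comm] at h6
      refine ⟨dz * e, y ^ dz + z ^ e, Nat.mul_pos hdzpos he, add_mem h1 h2,
        I.add_mem (Ideal.pow_mem_of_mem I hyI _ hdzpos) (Ideal.pow_mem_of_mem I hzI _ he), ?_⟩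
      intro q hq hxq
      by_cases hqp : q = p
      · subst hqp
        have h7 : y ^ dz ∈ q := Ideal.pow_mem_of_mem q hyp _ hdzpos
        have h8 : z ^ e ∈ q := by
          have h9 := q.sub_mem hxq h7
          rwa [add_sub_cancel_left] at h9
        exact hzp (hpprime.mem_of_pow_mem _ h8)
      · have hq' : q ∈ S.erase p := Finset.mem_erase.2 ⟨hqp, hq⟩
        have hqprime : q.IsPrime := (hprop q hq).1
        have h7 : z ^ e ∈ q := Ideal.pow_mem_of_mem q (hzq q hq') _ he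
        have h8 : y ^ dz ∈ q := by
          have h9 := q.sub_mem hxq h7
          rwa [add_sub_cancel_right] at h9
        exact hyS q hq' (hqprime.mem_of_pow_mem _ h8)
    · refine ⟨e, y, he, hy, hyI, fun q hq => ?_⟩
      by_cases hqp : q = p
      · rw [hqp]
        exact hyp
      · exact hyS q (Finset.mem_erase.2 ⟨hqp, hq⟩)

variable {𝒜}

theorem mem_of_isClosed_of_le {X : Set (ProjectiveSpectrum 𝒜)} (hX : IsClosed X)
    {x y : ProjectiveSpectrum 𝒜} (hx : x ∈ X) (hxy : x ≤ y) : y ∈ X := by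
  have h1 : closure ({x} : Set (ProjectiveSpectrum 𝒜)) ⊆ X :=
    (hX.closure_subset_iff).mpr (Set.singleton_subset_iff.mpr hx)
  exact h1 ((ProjectiveSpectrum.le_iff_mem_closure _ x y).mp hxy)

theorem mem_of_isClosed_of_vanishingIdeal_le {X : Set (ProjectiveSpectrum 𝒜)} (hX : IsClosed X)
    {x : ProjectiveSpectrum 𝒜}
    (h : (ProjectiveSpectrum.vanishingIdeal X).toIdeal ≤ x.asHomogeneousIdeal.toIdeal) :
    x ∈ X := by
  have h1 : x ∈ ProjectiveSpectrum.zeroLocus 𝒜
      ((ProjectiveSpectrum.vanishingIdeal X : HomogeneousIdeal 𝒜) : Set A) := by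
    rw [ProjectiveSpectrum.mem_zeroLocus]
    exact h
  rw [ProjectiveSpectrum.zeroLocus_vanishingIdeal_eq_closure, hX.closure_eq] at h1
  exact h1

/-- Inductive step: `j` homogeneous elements vanishing on `Y` such that the points of `X ∖ Y` where
they all vanish have coheight at most `r - j` in `X`. -/
theorem exists_sections_cutting [IsNoetherianRing A] (X Y : Set (ProjectiveSpectrum 𝒜))
    (hX : IsClosed X) (hY : IsClosed Y) (r : ℕ)
    (hr : Order.krullDim ↥X ≤ (r : WithBot ℕ∞)) :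
    ∀ j : ℕ, ∃ h : Fin j → A, (∀ i, ∃ d : ℕ, 0 < d ∧ h i ∈ 𝒜 d) ∧
      (∀ i, h i ∈ (ProjectiveSpectrum.vanishingIdeal Y).toIdeal) ∧
      ∀ x : ↥X, (∀ i, h i ∈ x.1.asHomogeneousIdeal.toIdeal) → x.1 ∉ Y →
        Order.coheight x + (j : ℕ∞) ≤ (r : ℕ∞) := by
  classical
  intro j
  induction j with
  | zero =>
    refine ⟨fun i => i.elim0, fun i => i.elim0, fun i => i.elim0, ?_⟩
    intro x _ _
    have h1 : ((Order.coheight x : ℕ∞) : WithBot ℕ∞) ≤ ((r : ℕ) : WithBot ℕ∞) :=
      le_trans (Order.coheight_le_krullDim x) hr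
    have h2 : Order.coheight x ≤ (r : ℕ∞) := by exact_mod_cast h1
    simpa using h2
  | succ j ih =>
    obtain ⟨h, hhom, hIY, hco⟩ := ih
    have hIXhom : (ProjectiveSpectrum.vanishingIdeal X).toIdeal.IsHomogeneous 𝒜 :=
      (ProjectiveSpectrum.vanishingIdeal X).isHomogeneous
    have hIYhom : (ProjectiveSpectrum.vanishingIdeal Y).toIdeal.IsHomogeneous 𝒜 :=
      (ProjectiveSpectrum.vanishingIdeal Y).isHomogeneous
    have hspanhom : (Ideal.span (Set.range h)).IsHomogeneous 𝒜 := by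
      apply Ideal.homogeneous_span
      rintro _ ⟨i, rfl⟩
      obtain ⟨d, _, hd⟩ := hhom i
      exact ⟨d, hd⟩
    obtain ⟨J, hJ⟩ : ∃ J : Ideal A,
        J = (ProjectiveSpectrum.vanishingIdeal X).toIdeal ⊔ Ideal.span (Set.range h) := ⟨_, rfl⟩
    have hJhom : J.IsHomogeneous 𝒜 := by
      rw [hJ]
      exact hIXhom.sup hspanhom
    have hIXJ : (ProjectiveSpectrum.vanishingIdeal X).toIdeal ≤ J := by
      rw [hJ]
      exact le_sup_left
    have hhJ : ∀ i, h i ∈ J := by
      intro i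
      rw [hJ]
      exact Ideal.mem_sup_right (Ideal.subset_span ⟨i, rfl⟩)
    have hfin : J.minimalPrimes.Finite := Ideal.finite_minimalPrimes_of_isNoetherianRing A J
    obtain ⟨𝒮, h𝒮def⟩ : ∃ 𝒮 : Finset (Ideal A), 𝒮 = hfin.toFinset.filter
        (fun p => ¬ (ProjectiveSpectrum.vanishingIdeal Y).toIdeal ≤ p ∧
          ¬ (HomogeneousIdeal.irrelevant 𝒜).toIdeal ≤ p) := ⟨_, rfl⟩
    have hmem𝒮 : ∀ p, p ∈ 𝒮 ↔ p ∈ J.minimalPrimes ∧
        (¬ (ProjectiveSpectrum.vanishingIdeal Y).toIdeal ≤ p ∧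
          ¬ (HomogeneousIdeal.irrelevant 𝒜).toIdeal ≤ p) := by
      intro p
      rw [h𝒮def, Finset.mem_filter, Set.Finite.mem_toFinset]
    have h𝒮 : ∀ p ∈ 𝒮, p.IsPrime ∧ p.IsHomogeneous 𝒜 ∧
        ¬ (ProjectiveSpectrum.vanishingIdeal Y).toIdeal ≤ p ∧
        ¬ (HomogeneousIdeal.irrelevant 𝒜).toIdeal ≤ p := by
      intro p hp
      rw [hmem𝒮] at hp
      exact ⟨hp.1.1.1, ProjTop.isHomogeneous_of_mem_minimalPrimes hJhom hp.1, hp.2.1, hp.2.2⟩
    obtain ⟨e, f, he, hfe, hfIY, hf𝒮⟩ :=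
      homogeneous_prime_avoidance 𝒜 _ hIYhom _ 𝒮 rfl h𝒮
    refine ⟨Fin.snoc h f, ?_, ?_, ?_⟩
    · intro i
      refine Fin.lastCases ?_ (fun i => ?_) i
      · rw [Fin.snoc_last]
        exact ⟨e, he, hfe⟩
      · rw [Fin.snoc_castSucc]
        exact hhom i
    · intro i
      refine Fin.lastCases ?_ (fun i => ?_) i
      · rw [Fin.snoc_last]
        exact hfIY
      · rw [Fin.snoc_castSucc]
        exact hIY i
    · intro x hx hxY
      have hxh : ∀ i, h i ∈ x.1.asHomogeneousIdeal.toIdeal := by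
        intro i
        have h1 := hx i.castSucc
        rwa [Fin.snoc_castSucc] at h1
      have hxf : f ∈ x.1.asHomogeneousIdeal.toIdeal := by
        have h1 := hx (Fin.last j)
        rwa [Fin.snoc_last] at h1
      have hIXx : (ProjectiveSpectrum.vanishingIdeal X).toIdeal ≤
          x.1.asHomogeneousIdeal.toIdeal := by
        intro a ha
        exact (ProjectiveSpectrum.mem_vanishingIdeal X a).mp ha x.1 x.2
      have hJx : J ≤ x.1.asHomogeneousIdeal.toIdeal := by
        rw [hJ]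
        refine sup_le hIXx (Ideal.span_le.mpr ?_)
        rintro _ ⟨i, rfl⟩
        exact hxh i
      haveI := x.1.isPrime
      obtain ⟨p, hpmin, hpx⟩ := Ideal.exists_minimalPrimes_le hJx
      have hpprime : p.IsPrime := hpmin.1.1
      have hphom : p.IsHomogeneous 𝒜 := ProjTop.isHomogeneous_of_mem_minimalPrimes hJhom hpmin
      have hpirr : ¬ (HomogeneousIdeal.irrelevant 𝒜).toIdeal ≤ p := fun hle =>
        x.1.not_irrelevant_le (toIdeal_le_toIdeal_iff.mp (le_trans hle hpx))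
      obtain ⟨x', hx'⟩ : ∃ x' : ProjectiveSpectrum 𝒜, x'.asHomogeneousIdeal.toIdeal = p :=
        ⟨⟨⟨p, hphom⟩, hpprime, fun hle => hpirr (toIdeal_le_toIdeal_iff.mpr hle)⟩, rfl⟩
      have hx'le : x' ≤ x.1 := (ProjTop.toIdeal_le_iff x' x.1).mp (by rw [hx']; exact hpx)
      have hx'X : x' ∈ X := mem_of_isClosed_of_vanishingIdeal_le hX
        (by rw [hx']; exact le_trans hIXJ hpmin.1.2)
      have hx'Y : x' ∉ Y := fun hmem => hxY (mem_of_isClosed_of_le hY hmem hx'le)
      have hpIY : ¬ (ProjectiveSpectrum.vanishingIdeal Y).toIdeal ≤ p := fun hle =>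
        hx'Y (mem_of_isClosed_of_vanishingIdeal_le hY (by rw [hx']; exact hle))
      have hp𝒮 : p ∈ 𝒮 := (hmem𝒮 p).mpr ⟨hpmin, hpIY, hpirr⟩
      have hfp : f ∉ p := hf𝒮 p hp𝒮
      have hlt : (⟨x', hx'X⟩ : ↥X) < x := by
        refine lt_of_le_of_ne (show (⟨x', hx'X⟩ : ↥X) ≤ x from hx'le) ?_
        intro heq
        apply hfp
        have h1 : x' = x.1 := congrArg Subtype.val heq
        rw [← hx', h1]
        exact hxf
      have h1 := hco ⟨x', hx'X⟩ (fun i => by
        show h i ∈ x'.asHomogeneousIdeal.toIdeal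
        rw [hx']
        exact hpmin.1.2 (hhJ i)) hx'Y
      have h2 := Order.coheight_add_one_le hlt
      calc Order.coheight x + ((j + 1 : ℕ) : ℕ∞)
          = (Order.coheight x + 1) + (j : ℕ∞) := by push_cast; ring
        _ ≤ Order.coheight (⟨x', hx'X⟩ : ↥X) + (j : ℕ∞) := by gcongr
        _ ≤ (r : ℕ∞) := h1

/-- For closed subsets `X`, `Y` of the projective spectrum of a Noetherian graded ring with
`dim X ≤ r`, there are `r + 1` homogeneous elements of positive degree vanishing on `Y` whose common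
zeros on `X` lie in `Y`. -/
theorem exists_homogeneous_cutting [IsNoetherianRing A] (X Y : Set (ProjectiveSpectrum 𝒜))
    (hX : IsClosed X) (hY : IsClosed Y) (r : ℕ)
    (hr : Order.krullDim ↥X ≤ (r : WithBot ℕ∞)) :
    ∃ h : Fin (r + 1) → A, (∀ i, ∃ d : ℕ, 0 < d ∧ h i ∈ 𝒜 d) ∧
      (∀ i, ∀ y ∈ Y, h i ∈ y.asHomogeneousIdeal.toIdeal) ∧
      ∀ x ∈ X, x ∉ Y → ∃ i, h i ∉ x.asHomogeneousIdeal.toIdeal := by
  obtain ⟨h, hhom, hIY, hco⟩ := exists_sections_cutting X Y hX hY r hr (r + 1)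
  refine ⟨h, hhom,
    fun i y hy => (ProjectiveSpectrum.mem_vanishingIdeal Y (h i)).mp (hIY i) y hy, ?_⟩
  intro x hxX hxY
  by_contra hall
  push_neg at hall
  have h1 := hco ⟨x, hxX⟩ hall hxY
  have h2 : ((r + 1 : ℕ) : ℕ∞) ≤ (r : ℕ∞) := le_trans le_add_self h1
  have h3 : r + 1 ≤ r := by exact_mod_cast h2
  omega

end Groth.Agent.H21.ProjAvoid
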