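import Mathlib
import Groth.Prelude.Def_CohB1
import Groth.Agent.H21.ProjDim

/-!
# Intersections with hypersurfaces in projective space

Helper lemmas on `X ∩ V_+(f_1, …, f_r)` for an irreducible closed subset `X` of projective space.
-/

set_option autoImplicit false
universe u
open AlgebraicGeometry TopologicalSpace Topology MvPolynomial

namespace Groth.Agent.H21.ProjInter

open Groth.Agent.S10915 (irr mem_irr_iff irr_isMaximal le_irr_of_isHomogeneous)
open Groth.Agent.H21.ProjTop Groth.Agent.H21.ProjDim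

section General

variable {R A : Type u} [CommRing R] [CommRing A] [Algebra R A] {𝒜 : ℕ → Submodule R A}
  [GradedAlgebra 𝒜]

theorem Ici_inter_zeroLocus (x : ProjectiveSpectrum 𝒜) (s : Set A) :
    {y : ProjectiveSpectrum 𝒜 | x ≤ y} ∩ ProjectiveSpectrum.zeroLocus 𝒜 s =
      ProjectiveSpectrum.zeroLocus 𝒜
        ((x.asHomogeneousIdeal.toIdeal ⊔ Ideal.span s : Ideal A) : Set A) := by
  rw [ProjectiveSpectrum.zeroLocus_sup_ideal, ProjectiveSpectrum.zeroLocus_span, zeroLocus_eq_Ici]

end General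

section Poly

variable {k : Type u} [Field k] {n : ℕ}

/-- A homogeneous polynomial of positive degree lies in the irrelevant ideal. -/
theorem mem_irr_of_isHomogeneous {f : MvPolynomial (Fin (n + 1)) k} {d : ℕ}
    (hf : f.IsHomogeneous d) (hd : 0 < d) : f ∈ irr k n := by
  rw [mem_irr_iff]
  apply hf.coeff_eq_zero
  simp only [map_zero]
  omega

/-- Cutting an integral quotient by one more equation which is not already zero drops the dimension
by exactly one (for every minimal prime). -/
theorem dim_of_mem_minimalPrimes_sup_singleton {p q : Ideal (MvPolynomial (Fin (n + 1)) k)}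
    [hp : p.IsPrime] {f : MvPolynomial (Fin (n + 1)) k} (hfp : f ∉ p)
    (hq : q ∈ (p ⊔ Ideal.span {f}).minimalPrimes) (e : ℕ)
    (he : ringKrullDim (MvPolynomial (Fin (n + 1)) k ⧸ p) = ((e + 1 : ℕ) : WithBot ℕ∞)) :
    ringKrullDim (MvPolynomial (Fin (n + 1)) k ⧸ q) = (e : WithBot ℕ∞) := by
  haveI hqprime : q.IsPrime := hq.1.1
  have hpq : p ≤ q := le_sup_left.trans hq.1.2
  have hfq : f ∈ q := hq.1.2 (Ideal.mem_sup_right (Ideal.subset_span rfl))
  have hpq' : p < q := lt_of_le_of_ne hpq (fun h => hfp (h ▸ hfq))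
  have hht1 : (q.map (Ideal.Quotient.mk p)).height ≤ 1 :=
    Ideal.map_height_le_one_of_mem_minimalPrimes hq
  have hdim := height_map_add_dim k n hpq
  have hdrop := dim_succ_le_of_lt k n hpq'
  obtain ⟨dq, hdq, -⟩ := exists_nat_dim k n q hqprime.ne_top
  rw [hdq, he] at hdim hdrop
  have hht1' : ((q.map (Ideal.Quotient.mk p)).height : WithBot ℕ∞) ≤
      ((1 : ℕ) : WithBot ℕ∞) := by exact_mod_cast hht1
  have h1 : ((e + 1 : ℕ) : WithBot ℕ∞) ≤ ((1 + dq : ℕ) : WithBot ℕ∞) := by
    rw [← hdim]
    push_cast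
    exact add_le_add_left hht1' _
  have h1' : e + 1 ≤ 1 + dq := by exact_mod_cast h1
  have h2' : dq + 1 ≤ e + 1 := by exact_mod_cast hdrop
  have hdq' : dq = e := by omega
  rw [hdq, hdq']

/-- Cutting an integral quotient by `r` equations drops the dimension by at most `r` (for every
minimal prime). -/
theorem dim_le_of_mem_minimalPrimes_sup_span {r : ℕ} {p q : Ideal (MvPolynomial (Fin (n + 1)) k)}
    [hp : p.IsPrime] (f : Fin r → MvPolynomial (Fin (n + 1)) k)
    (hq : q ∈ (p ⊔ Ideal.span (Set.range f)).minimalPrimes) :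
    ringKrullDim (MvPolynomial (Fin (n + 1)) k ⧸ p) ≤
      ringKrullDim (MvPolynomial (Fin (n + 1)) k ⧸ q) + (r : WithBot ℕ∞) := by
  haveI hqprime : q.IsPrime := hq.1.1
  have hpq : p ≤ q := le_sup_left.trans hq.1.2
  have hht : (q.map (Ideal.Quotient.mk p)).height ≤ r :=
    height_map_le_of_mem_minimalPrimes k n p f hq
  have hht' : ((q.map (Ideal.Quotient.mk p)).height : WithBot ℕ∞) ≤ (r : WithBot ℕ∞) := by
    exact_mod_cast hht
  rw [← height_map_add_dim k n hpq, add_comm]
  exact add_le_add_right hht' _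

/-- A minimal prime over a homogeneous ideal with positive-dimensional quotient gives a point of the
zero locus. -/
theorem zeroLocus_nonempty_of_minimalPrime {I q : Ideal (MvPolynomial (Fin (n + 1)) k)}
    (hI : I.IsHomogeneous (CohB1.polyGrading n k)) (hq : q ∈ I.minimalPrimes) (hne : q ≠ irr k n) :
    (ProjectiveSpectrum.zeroLocus (CohB1.polyGrading n k)
      (I : Set (MvPolynomial (Fin (n + 1)) k))).Nonempty := by
  refine ⟨mkPoint q hq.1.1 (isHomogeneous_of_mem_minimalPrimes hI hq) hne, ?_⟩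
  rw [ProjectiveSpectrum.mem_zeroLocus]
  exact hq.1.2

theorem ne_irr_of_dim {q : Ideal (MvPolynomial (Fin (n + 1)) k)} {e : ℕ}
    (hq : ringKrullDim (MvPolynomial (Fin (n + 1)) k ⧸ q) = (e : WithBot ℕ∞)) (he : 1 ≤ e) :
    q ≠ irr k n := by
  intro h
  rw [h, dim_irr] at hq
  have : (0 : ℕ) = e := by exact_mod_cast hq
  omega

end Poly

end Groth.Agent.H21.ProjInter
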