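import Mathlib
import Groth.Prelude.Def_CohB1
import Groth.Agent.H21.ProjInter

/-!
# Hypersurfaces in projective space

Height-one primes of the polynomial ring, generators of principal homogeneous ideals, and the
bottom point of projective space.
-/

set_option autoImplicit false
universe u
open AlgebraicGeometry TopologicalSpace Topology MvPolynomial

namespace Groth.Agent.H21.ProjHyper

open Groth.Agent.S10915 (irr mem_irr_iff irr_isMaximal le_irr_of_isHomogeneous)
open Groth.Agent.H21.ProjTop Groth.Agent.H21.ProjDim Groth.Agent.H21.ProjInter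

section General

/-- In a Noetherian UFD, a nonzero prime of height at most one is generated by a prime element. -/
theorem exists_prime_span_of_height_le_one {R : Type*} [CommRing R] [IsDomain R]
    [UniqueFactorizationMonoid R] [IsNoetherianRing R] {p : Ideal R} [hp : p.IsPrime]
    (hp0 : p ≠ ⊥) (hht : p.height ≤ 1) : ∃ π : R, Prime π ∧ p = Ideal.span {π} := by
  obtain ⟨π, hπp, hπ⟩ := Ideal.IsPrime.exists_mem_prime_of_ne_bot hp hp0
  refine ⟨π, hπ, ?_⟩
  haveI hprime : (Ideal.span {π}).IsPrime := (Ideal.span_singleton_prime hπ.ne_zero).mpr hπ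
  have hle : Ideal.span {π} ≤ p := Ideal.span_le.mpr (Set.singleton_subset_iff.mpr hπp)
  by_contra hne
  have hlt : Ideal.span {π} < p := lt_of_le_of_ne hle (fun h => hne h.symm)
  have h1 : (Ideal.span {π}).height < p.height := Ideal.height_strict_mono_of_isPrime hlt
  have h2 : (Ideal.span {π}).height = 0 := by
    have : (Ideal.span {π}).height < 1 := lt_of_lt_of_le h1 hht
    exact ENat.lt_one_iff_eq_zero.mp this
  rw [Ideal.height_eq_zero_iff, IsDomain.minimalPrimes_eq_singleton_bot, Set.mem_singleton_iff,
    Ideal.span_singleton_eq_bot] at h2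
  exact hπ.ne_zero h2

variable {R A : Type u} [CommRing R] [CommRing A] [Algebra R A] {𝒜 : ℕ → Submodule R A}
  [GradedAlgebra 𝒜]

/-- The order-theoretic height of a point of the projective spectrum is bounded by the height of
its ideal. -/
theorem height_le_ideal_height (x : ProjectiveSpectrum 𝒜) :
    Order.height x ≤ x.asHomogeneousIdeal.toIdeal.height := by
  let f : ProjectiveSpectrum 𝒜 → PrimeSpectrum A :=
    fun y => ⟨y.asHomogeneousIdeal.toIdeal, y.isPrime⟩
  have hf : StrictMono f := fun a b hab => (toIdeal_lt_iff a b).mpr hab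
  have h := Order.height_le_height_apply_of_strictMono f hf x
  rw [← PrimeSpectrum.height_eq_orderHeight] at h
  exact h

end General

section Poly

variable {k : Type u} [Field k] {n : ℕ}

/-- A generator of a principal homogeneous ideal of a polynomial ring over a field is
homogeneous. -/
theorem isHomogeneous_of_span_singleton_isHomogeneous {f : MvPolynomial (Fin (n + 1)) k}
    (hf : (Ideal.span {f}).IsHomogeneous (CohB1.polyGrading n k)) :
    f.IsHomogeneous f.totalDegree := by
  by_cases hf0 : f = 0
  · rw [hf0]
    exact MvPolynomial.isHomogeneous_zero _ _ _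
  have key : ∀ i, MvPolynomial.homogeneousComponent i f ≠ 0 → i = f.totalDegree := by
    intro i hi
    have hmem : MvPolynomial.homogeneousComponent i f ∈ Ideal.span {f} :=
      MvPolynomial.homogeneousComponent_mem_of_mem hf (Ideal.mem_span_singleton_self f) i
    obtain ⟨c, hc⟩ := Ideal.mem_span_singleton'.mp hmem
    have hc0 : c ≠ 0 := by
      rintro rfl
      rw [zero_mul] at hc
      exact hi hc.symm
    have h1 : (MvPolynomial.homogeneousComponent i f).totalDegree = i :=
      (MvPolynomial.homogeneousComponent_isHomogeneous i f).totalDegree hi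
    have h2 : (c * f).totalDegree = c.totalDegree + f.totalDegree :=
      MvPolynomial.totalDegree_mul_of_isDomain hc0 hf0
    rw [hc, h1] at h2
    have h3 : i ≤ f.totalDegree := by
      by_contra hlt
      push Not at hlt
      exact hi (MvPolynomial.homogeneousComponent_eq_zero _ _ hlt)
    omega
  have hsum := MvPolynomial.sum_homogeneousComponent f
  rw [Finset.sum_eq_single f.totalDegree] at hsum
  · have h := MvPolynomial.homogeneousComponent_isHomogeneous f.totalDegree f
    rw [hsum] at h
    exact h
  · intro i _ hi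
    by_contra hne
    exact hi (key i hne)
  · intro h
    exact absurd (Finset.mem_range.mpr (Nat.lt_succ_self _)) h

theorem bot_ne_irr : (⊥ : Ideal (MvPolynomial (Fin (n + 1)) k)) ≠ irr k n := by
  intro h
  have hX : (MvPolynomial.X 0 : MvPolynomial (Fin (n + 1)) k) ∈ irr k n :=
    Ideal.subset_span ⟨0, rfl⟩
  rw [← h, Ideal.mem_bot] at hX
  exact MvPolynomial.X_ne_zero (0 : Fin (n + 1)) hX

variable (k n) in
/-- The generic point of projective space. -/
noncomputable def botPoint : ProjectiveSpectrum (CohB1.polyGrading n k) :=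
  mkPoint ⊥ Ideal.isPrime_bot (Ideal.IsHomogeneous.bot _) bot_ne_irr

theorem botPoint_le (y : ProjectiveSpectrum (CohB1.polyGrading n k)) : botPoint k n ≤ y :=
  (toIdeal_le_iff (botPoint k n) y).mp bot_le

theorem botPoint_lt_of_ne_bot {y : ProjectiveSpectrum (CohB1.polyGrading n k)}
    (hy : y.asHomogeneousIdeal.toIdeal ≠ ⊥) : botPoint k n < y :=
  (toIdeal_lt_iff (botPoint k n) y).mp (bot_lt_iff_ne_bot.mpr hy)

/-- A nonzero homogeneous ideal contains a nonzero homogeneous element. -/
theorem exists_homogeneous_mem_of_ne_bot {I : Ideal (MvPolynomial (Fin (n + 1)) k)}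
    (hI : I.IsHomogeneous (CohB1.polyGrading n k)) (hI0 : I ≠ ⊥) :
    ∃ (i : ℕ) (g : MvPolynomial (Fin (n + 1)) k), g ∈ I ∧ g ≠ 0 ∧ g.IsHomogeneous i := by
  obtain ⟨a, haI, ha0⟩ := Submodule.exists_mem_ne_zero_of_ne_bot hI0
  obtain ⟨i, hi⟩ : ∃ i, MvPolynomial.homogeneousComponent i a ≠ 0 := by
    by_contra hcon
    push Not at hcon
    apply ha0
    rw [← MvPolynomial.sum_homogeneousComponent a]
    exact Finset.sum_eq_zero (fun i _ => hcon i)
  exact ⟨i, MvPolynomial.homogeneousComponent i a,
    MvPolynomial.homogeneousComponent_mem_of_mem hI haI i, hi,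
    MvPolynomial.homogeneousComponent_isHomogeneous i a⟩

/-- The point attached to a prime (irreducible) homogeneous polynomial, when `n ≥ 1` or more
generally when `(f)` is not the irrelevant ideal. -/
theorem span_singleton_isHomogeneous {f : MvPolynomial (Fin (n + 1)) k} {d : ℕ}
    (hf : f.IsHomogeneous d) : (Ideal.span {f}).IsHomogeneous (CohB1.polyGrading n k) := by
  refine Ideal.homogeneous_span _ _ ?_
  rintro _ rfl
  exact ⟨d, hf⟩

end Poly

end Groth.Agent.H21.ProjHyper
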