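import Mathlib
import Groth.Prelude.Def_CohB1
import Groth.Agent.H21.ProjHyper
import Groth.Agent.S10820

/-!
# Chains of points in projective space

Further helper lemmas: dimensions versus heights, zero-dimensional closed subsets, hyperplane
sections of positive-dimensional closed subsets.
-/

set_option autoImplicit false
universe u
open AlgebraicGeometry TopologicalSpace Topology MvPolynomial

namespace Groth.Agent.H21.ProjChain

open Groth.Agent.S10915 (irr mem_irr_iff irr_isMaximal le_irr_of_isHomogeneous)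
open Groth.Agent.H21.ProjTop Groth.Agent.H21.ProjDim Groth.Agent.H21.ProjInter
  Groth.Agent.H21.ProjHyper

section General

variable {R A : Type u} [CommRing R] [CommRing A] [Algebra R A] {𝒜 : ℕ → Submodule R A}
  [GradedAlgebra 𝒜]

theorem krullDim_subtype_le_zero {W : Set (ProjectiveSpectrum 𝒜)}
    (h : ∀ z₁ ∈ W, ∀ z₂ ∈ W, ¬ z₁ < z₂) : Order.krullDim ↥W ≤ 0 := by
  rw [Order.krullDim_nonpos_iff_forall_isMax]
  intro z₁ z₂ hle
  by_contra hn
  exact h z₁.1 z₁.2 z₂.1 z₂.2 (lt_of_le_not_ge hle hn)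

theorem krullDim_subtype_eq_zero {W : Set (ProjectiveSpectrum 𝒜)} (hne : W.Nonempty)
    (h : ∀ z₁ ∈ W, ∀ z₂ ∈ W, ¬ z₁ < z₂) : Order.krullDim ↥W = 0 := by
  haveI : Nonempty ↥W := hne.to_subtype
  exact le_antisymm (krullDim_subtype_le_zero h) Order.krullDim_nonneg

end General

section Poly

variable {k : Type u} [Field k] {n : ℕ}

theorem dim_ge_of_height_le {P : Ideal (MvPolynomial (Fin (n + 1)) k)} [hP : P.IsPrime] {h : ℕ}
    (hh : P.height ≤ h) :
    ∃ e : ℕ, ringKrullDim (MvPolynomial (Fin (n + 1)) k ⧸ P) = (e : WithBot ℕ∞) ∧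
      n + 1 ≤ h + e := by
  obtain ⟨e, he, -⟩ := exists_nat_dim k n P hP.ne_top
  refine ⟨e, he, ?_⟩
  have h1 := height_add_dim k n P
  rw [he] at h1
  have h' : (P.height : WithBot ℕ∞) ≤ ((h : ℕ) : WithBot ℕ∞) := by exact_mod_cast hh
  have h2 : ((n + 1 : ℕ) : WithBot ℕ∞) ≤ ((h + e : ℕ) : WithBot ℕ∞) := by
    rw [← h1]
    push_cast
    exact add_le_add_left h' _
  exact_mod_cast h2

theorem height_le_of_dim_ge {P : Ideal (MvPolynomial (Fin (n + 1)) k)} [hP : P.IsPrime] {e h : ℕ}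
    (he : ringKrullDim (MvPolynomial (Fin (n + 1)) k ⧸ P) = (e : WithBot ℕ∞))
    (hle : n + 1 ≤ h + e) : P.height ≤ h := by
  have hfin : P.height ≠ ⊤ := Ideal.height_ne_top_of_isPrime
  obtain ⟨a, ha⟩ := ENat.ne_top_iff_exists.mp hfin
  have h1 := height_add_dim k n P
  rw [he, ← ha] at h1
  have h2 : a + e = n + 1 := by exact_mod_cast h1
  rw [← ha]
  exact_mod_cast (by omega : a ≤ h)

theorem dim_ge_two_of_lt {z₁ z₂ : ProjectiveSpectrum (CohB1.polyGrading n k)} (h : z₁ < z₂) :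
    ∃ e : ℕ, ringKrullDim (MvPolynomial (Fin (n + 1)) k ⧸ z₁.asHomogeneousIdeal.toIdeal) =
      (e : WithBot ℕ∞) ∧ 2 ≤ e := by
  haveI h1prime : z₁.asHomogeneousIdeal.toIdeal.IsPrime := z₁.isPrime
  haveI h2prime : z₂.asHomogeneousIdeal.toIdeal.IsPrime := z₂.isPrime
  haveI := (irr_isMaximal k n).isPrime
  obtain ⟨e₁, he₁, -⟩ := exists_nat_dim k n z₁.asHomogeneousIdeal.toIdeal h1prime.ne_top
  obtain ⟨e₂, he₂, -⟩ := exists_nat_dim k n z₂.asHomogeneousIdeal.toIdeal h2prime.ne_top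
  have hd1 := dim_succ_le_of_lt k n ((toIdeal_lt_iff z₁ z₂).mpr h)
  have hd2 := dim_succ_le_of_lt k n (point_lt_irr z₂)
  rw [he₁, he₂] at hd1
  rw [dim_irr, he₂] at hd2
  have hd1' : e₂ + 1 ≤ e₁ := by exact_mod_cast hd1
  have hd2' : 0 + 1 ≤ e₂ := by exact_mod_cast hd2
  exact ⟨e₁, he₁, by omega⟩

/-- A positive-dimensional closed irreducible subset meets every hypersurface: if `z₁ < z₂` are
points and `g` is homogeneous of positive degree then some point above `z₁` contains `g`. -/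
theorem exists_point_ge_of_lt {z₁ z₂ : ProjectiveSpectrum (CohB1.polyGrading n k)} (h : z₁ < z₂)
    {g : MvPolynomial (Fin (n + 1)) k} {d : ℕ} (hg : g.IsHomogeneous d) (hd : 0 < d) :
    ∃ w : ProjectiveSpectrum (CohB1.polyGrading n k),
      z₁ ≤ w ∧ g ∈ w.asHomogeneousIdeal.toIdeal := by
  haveI h1prime : z₁.asHomogeneousIdeal.toIdeal.IsPrime := z₁.isPrime
  obtain ⟨e₁, he₁, h2⟩ := dim_ge_two_of_lt h
  have hIhom : (z₁.asHomogeneousIdeal.toIdeal ⊔ Ideal.span {g}).IsHomogeneous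
      (CohB1.polyGrading n k) :=
    z₁.asHomogeneousIdeal.isHomogeneous.sup (span_singleton_isHomogeneous hg)
  have hIle : z₁.asHomogeneousIdeal.toIdeal ⊔ Ideal.span {g} ≤ irr k n := by
    refine sup_le (point_lt_irr z₁).le (Ideal.span_le.mpr ?_)
    rintro _ rfl
    exact mem_irr_of_isHomogeneous hg hd
  have hIne : z₁.asHomogeneousIdeal.toIdeal ⊔ Ideal.span {g} ≠ ⊤ := by
    intro h'
    rw [h'] at hIle
    exact (irr_isMaximal k n).ne_top (top_le_iff.mp hIle)
  obtain ⟨⟨Q, hQ⟩⟩ := Ideal.nonempty_minimalPrimes hIne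
  haveI hQprime : Q.IsPrime := hQ.1.1
  have hQhom : Q.IsHomogeneous (CohB1.polyGrading n k) :=
    isHomogeneous_of_mem_minimalPrimes hIhom hQ
  obtain ⟨eQ, heQ, -⟩ := exists_nat_dim k n Q hQprime.ne_top
  have hdim := Groth.Agent.S10820.dim_le_of_mem_minimalPrimes_sup_singleton hQ
  rw [he₁, heQ] at hdim
  have hdim' : e₁ ≤ eQ + 1 := by exact_mod_cast hdim
  have hQne : Q ≠ irr k n := ne_irr_of_dim heQ (by omega)
  refine ⟨mkPoint Q hQprime hQhom hQne, ?_, ?_⟩
  · exact (toIdeal_le_iff _ _).mp (le_sup_left.trans hQ.1.2)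
  · rw [mkPoint_toIdeal]
    exact hQ.1.2 (Ideal.mem_sup_right (Ideal.mem_span_singleton_self g))

/-- If an ideal contains all the variables except `X_0`, its quotient has dimension at most 1. -/
theorem dim_quotient_le_one_of_vars {L : Ideal (MvPolynomial (Fin (n + 1)) k)}
    (hL : ∀ j : Fin (n + 1), j ≠ 0 → (X j : MvPolynomial (Fin (n + 1)) k) ∈ L) :
    ringKrullDim (MvPolynomial (Fin (n + 1)) k ⧸ L) ≤ 1 := by
  let ψ : Polynomial k →ₐ[k] (MvPolynomial (Fin (n + 1)) k ⧸ L) :=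
    Polynomial.aeval (Ideal.Quotient.mk L (X 0))
  have hsurj : Function.Surjective ψ := by
    intro b
    obtain ⟨a, rfl⟩ := Ideal.Quotient.mk_surjective b
    induction a using MvPolynomial.induction_on with
    | C c =>
      refine ⟨Polynomial.C c, ?_⟩
      rw [Polynomial.aeval_C]
      rfl
    | add p q hp hq =>
      obtain ⟨a, ha⟩ := hp
      obtain ⟨b, hb⟩ := hq
      exact ⟨a + b, by rw [map_add, ha, hb, map_add]⟩
    | mul_X p j hp =>
      obtain ⟨a, ha⟩ := hp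
      by_cases hj : j = 0
      · subst hj
        exact ⟨a * Polynomial.X, by rw [map_mul, ha, Polynomial.aeval_X, map_mul]⟩
      · refine ⟨0, ?_⟩
        rw [map_zero, map_mul, Ideal.Quotient.eq_zero_iff_mem.mpr (hL j hj), mul_zero]
  have h := ringKrullDim_le_of_surjective (ψ.toRingHom) (by exact hsurj)
  rw [Polynomial.ringKrullDim_of_isNoetherianRing, ringKrullDim_eq_zero_of_field, zero_add] at h
  exact h

end Poly

end Groth.Agent.H21.ProjChain
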