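import Mathlib
import Groth.Agent.H21.ProjAvoid

/-!
# Cutting a locally closed subset of `Proj` by hypersurfaces through its boundary

Generalisation of `ProjAvoid.exists_homogeneous_cutting` to subsets `X` of the projective spectrum
with `closure X ∖ Y ⊆ X` for a closed set `Y` (for instance `X` locally closed and
`Y = closure X ∖ X`).
-/

set_option autoImplicit false
universe u
open AlgebraicGeometry TopologicalSpace Topology

namespace Groth.Agent.H21.ProjCut

open Groth.Agent.H21.ProjAvoid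

variable {R A : Type u} [CommRing R] [CommRing A] [Algebra R A] {𝒜 : ℕ → Submodule R A}
  [GradedAlgebra 𝒜]

theorem mem_closure_of_vanishingIdeal_le {X : Set (ProjectiveSpectrum 𝒜)}
    {x : ProjectiveSpectrum 𝒜}
    (h : (ProjectiveSpectrum.vanishingIdeal X).toIdeal ≤ x.asHomogeneousIdeal.toIdeal) :
    x ∈ closure X := by
  have h1 : x ∈ ProjectiveSpectrum.zeroLocus 𝒜
      ((ProjectiveSpectrum.vanishingIdeal X : HomogeneousIdeal 𝒜) : Set A) := by
    rw [ProjectiveSpectrum.mem_zeroLocus]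
    exact h
  rwa [ProjectiveSpectrum.zeroLocus_vanishingIdeal_eq_closure] at h1

/-- For any subset of the projective spectrum, the Krull dimension of its poset of points is at
most its topological Krull dimension. -/
theorem krullDim_le_topologicalKrullDim (Z : Set (ProjectiveSpectrum 𝒜)) :
    Order.krullDim ↥Z ≤ topologicalKrullDim ↥Z := by
  have hspec : ∀ u v : ↥Z, u ⤳ v ↔ u ≤ v := fun u v =>
    (subtype_specializes_iff u v).trans (ProjTop.specializes_iff_le _ _)
  rw [topologicalKrullDim, ← Order.krullDim_orderDual (α := ↥Z)]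
  refine Order.krullDim_le_of_strictMono
    (fun z : (↥Z)ᵒᵈ => (⟨closure {OrderDual.ofDual z}, isIrreducible_singleton.closure,
      isClosed_closure⟩ : IrreducibleCloseds ↥Z)) ?_
  intro a b hab
  have hlt : OrderDual.ofDual b < OrderDual.ofDual a := hab
  refine lt_of_le_of_ne ?_ ?_
  · show closure ({OrderDual.ofDual a} : Set ↥Z) ⊆ closure ({OrderDual.ofDual b} : Set ↥Z)
    apply closure_minimal _ isClosed_closure
    rw [Set.singleton_subset_iff, ← specializes_iff_mem_closure, hspec]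
    exact hlt.le
  · intro heq
    have h0 : closure ({OrderDual.ofDual a} : Set ↥Z) = closure ({OrderDual.ofDual b} : Set ↥Z) :=
      congrArg (fun s : IrreducibleCloseds ↥Z => (s : Set ↥Z)) heq
    have h1 : OrderDual.ofDual b ∈ closure ({OrderDual.ofDual a} : Set ↥Z) := by
      rw [h0]
      exact subset_closure rfl
    rw [← specializes_iff_mem_closure, hspec] at h1
    exact absurd hlt (not_lt_of_ge h1)

/-- Inductive step: `j` homogeneous elements vanishing on `Y` such that the points of `X ∖ Y` where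
they all vanish have coheight at most `r - j` in `X`. -/
theorem exists_sections_cutting' [IsNoetherianRing A] (X Y : Set (ProjectiveSpectrum 𝒜))
    (hXY : ∀ x ∈ closure X, x ∉ Y → x ∈ X) (hY : IsClosed Y) (r : ℕ)
    (hr : Order.krullDim ↥X ≤ (r : WithBot ℕ∞)) :
    ∀ j : ℕ, ∃ h : Fin j → A, (∀ i, ∃ d : ℕ, 0 < d ∧ h i ∈ 𝒜 d) ∧
      (∀ i, h i ∈ (ProjectiveSpectrum.vanishingIdeal Y).toIdeal) ∧
      ∀ x : ↥X, (∀ i, h i ∈ x.1.asHomogeneousIdeal.toIdeal) → x.1 ∉ Y →
        Order.coheight x + (j : ℕ∞) ≤ (r : ℕ∞) := by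
  classical
  intro j
  induction j with
  | zero =>
    refine ⟨fun i => i.elim0, fun i => i.elim0, fun i => i.elim0, ?_⟩
    intro x _ _
    have h1 : ((Order.coheight x : ℕ∞) : WithBot ℕ∞) ≤ ((r : ℕ) : WithBot ℕ∞) :=
      le_trans (Order.coheight_le_krullDim x) hr
    have h2 : Order.coheight x ≤ (r : ℕ∞) := by exact_mod_cast h1
    simpa using h2
  | succ j ih =>
    obtain ⟨h, hhom, hIY, hco⟩ := ih
    have hIXhom : (ProjectiveSpectrum.vanishingIdeal X).toIdeal.IsHomogeneous 𝒜 :=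
      (ProjectiveSpectrum.vanishingIdeal X).isHomogeneous
    have hIYhom : (ProjectiveSpectrum.vanishingIdeal Y).toIdeal.IsHomogeneous 𝒜 :=
      (ProjectiveSpectrum.vanishingIdeal Y).isHomogeneous
    have hspanhom : (Ideal.span (Set.range h)).IsHomogeneous 𝒜 := by
      apply Ideal.homogeneous_span
      rintro _ ⟨i, rfl⟩
      obtain ⟨d, _, hd⟩ := hhom i
      exact ⟨d, hd⟩
    obtain ⟨J, hJ⟩ : ∃ J : Ideal A,
        J = (ProjectiveSpectrum.vanishingIdeal X).toIdeal ⊔ Ideal.span (Set.range h) := ⟨_, rfl⟩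
    have hJhom : J.IsHomogeneous 𝒜 := by
      rw [hJ]
      exact hIXhom.sup hspanhom
    have hIXJ : (ProjectiveSpectrum.vanishingIdeal X).toIdeal ≤ J := by
      rw [hJ]
      exact le_sup_left
    have hhJ : ∀ i, h i ∈ J := by
      intro i
      rw [hJ]
      exact Ideal.mem_sup_right (Ideal.subset_span ⟨i, rfl⟩)
    have hfin : J.minimalPrimes.Finite := Ideal.finite_minimalPrimes_of_isNoetherianRing A J
    obtain ⟨𝒮, h𝒮def⟩ : ∃ 𝒮 : Finset (Ideal A), 𝒮 = hfin.toFinset.filter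
        (fun p => ¬ (ProjectiveSpectrum.vanishingIdeal Y).toIdeal ≤ p ∧
          ¬ (HomogeneousIdeal.irrelevant 𝒜).toIdeal ≤ p) := ⟨_, rfl⟩
    have hmem𝒮 : ∀ p, p ∈ 𝒮 ↔ p ∈ J.minimalPrimes ∧
        (¬ (ProjectiveSpectrum.vanishingIdeal Y).toIdeal ≤ p ∧
          ¬ (HomogeneousIdeal.irrelevant 𝒜).toIdeal ≤ p) := by
      intro p
      rw [h𝒮def, Finset.mem_filter, Set.Finite.mem_toFinset]
    have h𝒮 : ∀ p ∈ 𝒮, p.IsPrime ∧ p.IsHomogeneous 𝒜 ∧
        ¬ (ProjectiveSpectrum.vanishingIdeal Y).toIdeal ≤ p ∧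
        ¬ (HomogeneousIdeal.irrelevant 𝒜).toIdeal ≤ p := by
      intro p hp
      rw [hmem𝒮] at hp
      exact ⟨hp.1.1.1, ProjTop.isHomogeneous_of_mem_minimalPrimes hJhom hp.1, hp.2.1, hp.2.2⟩
    obtain ⟨e, f, he, hfe, hfIY, hf𝒮⟩ :=
      homogeneous_prime_avoidance 𝒜 _ hIYhom _ 𝒮 rfl h𝒮
    refine ⟨Fin.snoc h f, ?_, ?_, ?_⟩
    · intro i
      refine Fin.lastCases ?_ (fun i => ?_) i
      · rw [Fin.snoc_last]
        exact ⟨e, he, hfe⟩
      · rw [Fin.snoc_castSucc]
        exact hhom i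
    · intro i
      refine Fin.lastCases ?_ (fun i => ?_) i
      · rw [Fin.snoc_last]
        exact hfIY
      · rw [Fin.snoc_castSucc]
        exact hIY i
    · intro x hx hxY
      have hxh : ∀ i, h i ∈ x.1.asHomogeneousIdeal.toIdeal := by
        intro i
        have h1 := hx i.castSucc
        rwa [Fin.snoc_castSucc] at h1
      have hxf : f ∈ x.1.asHomogeneousIdeal.toIdeal := by
        have h1 := hx (Fin.last j)
        rwa [Fin.snoc_last] at h1
      have hIXx : (ProjectiveSpectrum.vanishingIdeal X).toIdeal ≤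
          x.1.asHomogeneousIdeal.toIdeal := by
        intro a ha
        exact (ProjectiveSpectrum.mem_vanishingIdeal X a).mp ha x.1 x.2
      have hJx : J ≤ x.1.asHomogeneousIdeal.toIdeal := by
        rw [hJ]
        refine sup_le hIXx (Ideal.span_le.mpr ?_)
        rintro _ ⟨i, rfl⟩
        exact hxh i
      haveI := x.1.isPrime
      obtain ⟨p, hpmin, hpx⟩ := Ideal.exists_minimalPrimes_le hJx
      have hpprime : p.IsPrime := hpmin.1.1
      have hphom : p.IsHomogeneous 𝒜 := ProjTop.isHomogeneous_of_mem_minimalPrimes hJhom hpmin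
      have hpirr : ¬ (HomogeneousIdeal.irrelevant 𝒜).toIdeal ≤ p := fun hle =>
        x.1.not_irrelevant_le (toIdeal_le_toIdeal_iff.mp (le_trans hle hpx))
      obtain ⟨x', hx'⟩ : ∃ x' : ProjectiveSpectrum 𝒜, x'.asHomogeneousIdeal.toIdeal = p :=
        ⟨⟨⟨p, hphom⟩, hpprime, fun hle => hpirr (toIdeal_le_toIdeal_iff.mpr hle)⟩, rfl⟩
      have hx'le : x' ≤ x.1 := (ProjTop.toIdeal_le_iff x' x.1).mp (by rw [hx']; exact hpx)
      have hx'Y : x' ∉ Y := fun hmem => hxY (mem_of_isClosed_of_le hY hmem hx'le)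
      have hx'X : x' ∈ X := hXY x' (mem_closure_of_vanishingIdeal_le
        (by rw [hx']; exact le_trans hIXJ hpmin.1.2)) hx'Y
      have hpIY : ¬ (ProjectiveSpectrum.vanishingIdeal Y).toIdeal ≤ p := fun hle =>
        hx'Y (mem_of_isClosed_of_vanishingIdeal_le hY (by rw [hx']; exact hle))
      have hp𝒮 : p ∈ 𝒮 := (hmem𝒮 p).mpr ⟨hpmin, hpIY, hpirr⟩
      have hfp : f ∉ p := hf𝒮 p hp𝒮
      have hlt : (⟨x', hx'X⟩ : ↥X) < x := by
        refine lt_of_le_of_ne (show (⟨x', hx'X⟩ : ↥X) ≤ x from hx'le) ?_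
        intro heq
        apply hfp
        have h1 : x' = x.1 := congrArg Subtype.val heq
        rw [← hx', h1]
        exact hxf
      have h1 := hco ⟨x', hx'X⟩ (fun i => by
        show h i ∈ x'.asHomogeneousIdeal.toIdeal
        rw [hx']
        exact hpmin.1.2 (hhJ i)) hx'Y
      have h2 := Order.coheight_add_one_le hlt
      calc Order.coheight x + ((j + 1 : ℕ) : ℕ∞)
          = (Order.coheight x + 1) + (j : ℕ∞) := by push_cast; ring
        _ ≤ Order.coheight (⟨x', hx'X⟩ : ↥X) + (j : ℕ∞) := by gcongr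
        _ ≤ (r : ℕ∞) := h1

/-- For a subset `X` of the projective spectrum of a Noetherian graded ring with `dim X ≤ r` and a
closed subset `Y` with `closure X ∖ Y ⊆ X`, there are `r + 1` homogeneous elements of positive
degree vanishing on `Y` whose common zeros on `X` lie in `Y`. -/
theorem exists_homogeneous_cutting' [IsNoetherianRing A] (X Y : Set (ProjectiveSpectrum 𝒜))
    (hXY : ∀ x ∈ closure X, x ∉ Y → x ∈ X) (hY : IsClosed Y) (r : ℕ)
    (hr : Order.krullDim ↥X ≤ (r : WithBot ℕ∞)) :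
    ∃ h : Fin (r + 1) → A, (∀ i, ∃ d : ℕ, 0 < d ∧ h i ∈ 𝒜 d) ∧
      (∀ i, ∀ y ∈ Y, h i ∈ y.asHomogeneousIdeal.toIdeal) ∧
      ∀ x ∈ X, x ∉ Y → ∃ i, h i ∉ x.asHomogeneousIdeal.toIdeal := by
  obtain ⟨h, hhom, hIY, hco⟩ := exists_sections_cutting' X Y hXY hY r hr (r + 1)
  refine ⟨h, hhom,
    fun i y hy => (ProjectiveSpectrum.mem_vanishingIdeal Y (h i)).mp (hIY i) y hy, ?_⟩
  intro x hxX hxY
  by_contra hall
  push Not at hall
  have h1 := hco ⟨x, hxX⟩ hall hxY
  have h2 : ((r + 1 : ℕ) : ℕ∞) ≤ (r : ℕ∞) := le_trans le_add_self h1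
  have h3 : r + 1 ≤ r := by exact_mod_cast h2
  omega

end Groth.Agent.H21.ProjCut
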