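import Mathlib
import Groth.Prelude.Def_CohB1
import Groth.Agent.H21.ProjChain
import Groth.Agent.H21.TensorDim
import Groth.Agent.H24.CatenaryOrder

/-!
# Reduction to the diagonal for projective space

For homogeneous primes `p`, `q` of `A = k[X_0, …, X_n]` there is a prime `P ⊇ p + q` with
`dim A/P ≥ dim A/p + dim A/q - (n + 1)`.  The proof passes to `B = k[Z_0, …, Z_{2n+1}]`, uses that
`A/p ⊗ A/q` has dimension `dim A/p + dim A/q` and cuts with the `n + 1` linear forms
`Z_i - Z_{n+1+i}`.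
-/

set_option autoImplicit false
universe u
open AlgebraicGeometry TopologicalSpace Topology MvPolynomial
open scoped TensorProduct

namespace Groth.Agent.H21.ProjDiag

open Groth.Agent.S10915 (irr mem_irr_iff irr_isMaximal le_irr_of_isHomogeneous)
open Groth.Agent.H21.ProjTop Groth.Agent.H21.ProjDim Groth.Agent.H21.ProjInter
  Groth.Agent.H21.ProjHyper Groth.Agent.H21.ProjChain

section Tensor

/-- The Krull dimension of a tensor product of finitely generated algebras over a field. -/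
theorem ringKrullDim_tensorProduct_eq {k : Type u} [Field k] (R S : Type u) [CommRing R]
    [CommRing S] [Algebra k R] [Algebra k S] [Algebra.FiniteType k R] [Algebra.FiniteType k S]
    [Nontrivial S] (r s : ℕ) (hr : ringKrullDim R = r) (hs : ringKrullDim S = s) :
    ringKrullDim (R ⊗[k] S) = ((r + s : ℕ) : WithBot ℕ∞) := by
  obtain ⟨s', g, hinj, hfin⟩ := exists_finite_inj_algHom_of_fg k S
  have hint : g.toRingHom.IsIntegral := RingHom.Finite.to_isIntegral hfin
  have hs' : s' = s := by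
    have h1 := Groth.Agent.H54.ringKrullDim_eq_of_ringHom_isIntegral_of_injective g.toRingHom
      hint hinj
    rw [Groth.Agent.H54.ringKrullDim_mvPolynomial_field, hs] at h1
    exact_mod_cast h1.symm
  subst hs'
  let Φ : R ⊗[k] MvPolynomial (Fin s') k →ₐ[k] R ⊗[k] S :=
    Algebra.TensorProduct.map (AlgHom.id k R) g
  have hΦ : Φ.toRingHom.IsIntegral := by
    intro z
    induction z using TensorProduct.induction_on with
    | zero => exact RingHom.isIntegralElem_zero _
    | add x y hx hy => exact RingHom.IsIntegralElem.add _ hx hy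
    | tmul a b =>
      have h1 : a ⊗ₜ[k] b = (a ⊗ₜ[k] (1 : S)) * ((1 : R) ⊗ₜ[k] b) := by
        rw [Algebra.TensorProduct.tmul_mul_tmul, mul_one, one_mul]
      rw [h1]
      refine RingHom.IsIntegralElem.mul _ ?_ ?_
      · have h2 : a ⊗ₜ[k] (1 : S) = Φ.toRingHom (a ⊗ₜ[k] (1 : MvPolynomial (Fin s') k)) := by
          simp [Φ]
        rw [h2]
        exact RingHom.isIntegralElem_map _
      · obtain ⟨p, hp, hpb⟩ := hint b
        refine ⟨p.map (Algebra.TensorProduct.includeRight :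
          MvPolynomial (Fin s') k →ₐ[k] R ⊗[k] MvPolynomial (Fin s') k).toRingHom, hp.map _, ?_⟩
        rw [Polynomial.eval₂_map]
        have h2 : Φ.toRingHom.comp (Algebra.TensorProduct.includeRight :
            MvPolynomial (Fin s') k →ₐ[k] R ⊗[k] MvPolynomial (Fin s') k).toRingHom =
            (Algebra.TensorProduct.includeRight : S →ₐ[k] R ⊗[k] S).toRingHom.comp
              g.toRingHom := by
          refine RingHom.ext fun q => ?_
          simp [Φ]
        rw [h2]
        have h3 := Polynomial.hom_eval₂ p g.toRingHom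
          (Algebra.TensorProduct.includeRight : S →ₐ[k] R ⊗[k] S).toRingHom b
        rw [hpb, map_zero] at h3
        exact h3.symm
  have hΦinj : Function.Injective Φ := by
    have h := Module.Flat.lTensor_preserves_injective_linearMap (M := R) g.toLinearMap hinj
    have hfun : (⇑Φ : R ⊗[k] MvPolynomial (Fin s') k → R ⊗[k] S) =
        ⇑(g.toLinearMap.lTensor R) := by
      ext x
      induction x using TensorProduct.induction_on with
      | zero => simp
      | tmul c a => simp [Φ]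
      | add x y hx hy => rw [map_add, map_add, hx, hy]
    rw [hfun]
    exact h
  have h1 := Groth.Agent.H54.ringKrullDim_eq_of_ringHom_isIntegral_of_injective Φ.toRingHom
    hΦ hΦinj
  have h2 : ringKrullDim (R ⊗[k] MvPolynomial (Fin s') k) =
      ringKrullDim (MvPolynomial (Fin s') R) :=
    ringKrullDim_eq_of_ringEquiv (MvPolynomial.algebraTensorAlgEquiv k R).toRingEquiv
  haveI : IsNoetherianRing R := Algebra.FiniteType.isNoetherianRing k R
  rw [h2, MvPolynomial.ringKrullDim_of_isNoetherianRing, hr] at h1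
  rw [h1]
  simp

end Tensor

section Diag

variable (k : Type u) [Field k] (n : ℕ)

/-- The first block of variables. -/
def e₁ (j : Fin (n + 1)) : Fin ((2 * n + 1) + 1) := ⟨j.val, by omega⟩

/-- The second block of variables. -/
def e₂ (j : Fin (n + 1)) : Fin ((2 * n + 1) + 1) := ⟨n + 1 + j.val, by omega⟩

theorem e₁_or_e₂ (j : Fin ((2 * n + 1) + 1)) : (∃ i, j = e₁ n i) ∨ (∃ i, j = e₂ n i) := by
  by_cases h : j.val < n + 1
  · exact Or.inl ⟨⟨j.val, h⟩, Fin.ext rfl⟩
  · refine Or.inr ⟨⟨j.val - (n + 1), by omega⟩, Fin.ext ?_⟩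
    simp only [e₂]
    omega

/-- Fold the two blocks of variables onto one. -/
def idx (j : Fin ((2 * n + 1) + 1)) : Fin (n + 1) :=
  ⟨j.val % (n + 1), Nat.mod_lt _ (Nat.succ_pos n)⟩

theorem idx_e₁ (i : Fin (n + 1)) : idx n (e₁ n i) = i :=
  Fin.ext (Nat.mod_eq_of_lt i.2)

theorem idx_e₂ (i : Fin (n + 1)) : idx n (e₂ n i) = i := by
  apply Fin.ext
  show (n + 1 + i.val) % (n + 1) = i.val
  rw [Nat.add_mod_left]
  exact Nat.mod_eq_of_lt i.2

theorem e₁_val_lt (i : Fin (n + 1)) : (e₁ n i).val < n + 1 := i.2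

theorem e₂_val_not_lt (i : Fin (n + 1)) : ¬ (e₂ n i).val < n + 1 := by
  show ¬ (n + 1 + i.val < n + 1)
  omega

noncomputable def ι₁ : MvPolynomial (Fin (n + 1)) k →ₐ[k] MvPolynomial (Fin ((2 * n + 1) + 1)) k :=
  MvPolynomial.rename (e₁ n)

noncomputable def ι₂ : MvPolynomial (Fin (n + 1)) k →ₐ[k] MvPolynomial (Fin ((2 * n + 1) + 1)) k :=
  MvPolynomial.rename (e₂ n)

/-- The diagonal linear forms `Z_i - Z_{n+1+i}`. -/
noncomputable def δ (i : Fin (n + 1)) : MvPolynomial (Fin ((2 * n + 1) + 1)) k :=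
  X (e₁ n i) - X (e₂ n i)

theorem δ_isHomogeneous (i : Fin (n + 1)) : (δ k n i).IsHomogeneous 1 :=
  (MvPolynomial.isHomogeneous_X k _).sub (MvPolynomial.isHomogeneous_X k _)

theorem ι₁_sub_ι₂_mem (a : MvPolynomial (Fin (n + 1)) k) :
    ι₁ k n a - ι₂ k n a ∈ Ideal.span (Set.range (δ k n)) := by
  induction a using MvPolynomial.induction_on with
  | C c =>
    have : ι₁ k n (C c) - ι₂ k n (C c) = 0 := by
      simp [ι₁, ι₂]
    rw [this]
    exact Ideal.zero_mem _
  | add p q hp hq =>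
    have : ι₁ k n (p + q) - ι₂ k n (p + q) =
        (ι₁ k n p - ι₂ k n p) + (ι₁ k n q - ι₂ k n q) := by
      rw [map_add, map_add]
      ring
    rw [this]
    exact Ideal.add_mem _ hp hq
  | mul_X p i hp =>
    have : ι₁ k n (p * X i) - ι₂ k n (p * X i) =
        (ι₁ k n p - ι₂ k n p) * X (e₁ n i) + ι₂ k n p * δ k n i := by
      rw [map_mul, map_mul]
      simp only [ι₁, ι₂, δ, MvPolynomial.rename_X]
      ring
    rw [this]
    exact Ideal.add_mem _ (Ideal.mul_mem_right _ _ hp)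
      (Ideal.mul_mem_left _ _ (Ideal.subset_span ⟨i, rfl⟩))

theorem map_rename_isHomogeneous {m m' : ℕ} (f : Fin (m + 1) → Fin (m' + 1))
    {I : Ideal (MvPolynomial (Fin (m + 1)) k)} (hI : I.IsHomogeneous (CohB1.polyGrading m k)) :
    (I.map (MvPolynomial.rename f : MvPolynomial (Fin (m + 1)) k →ₐ[k]
      MvPolynomial (Fin (m' + 1)) k)).IsHomogeneous (CohB1.polyGrading m' k) := by
  obtain ⟨S, hS⟩ := (Ideal.IsHomogeneous.iff_exists (CohB1.polyGrading m k) I).mp hI
  rw [hS, Ideal.map_span]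
  refine Ideal.homogeneous_span _ _ ?_
  rintro _ ⟨_, ⟨s, _, rfl⟩, rfl⟩
  obtain ⟨d, hd⟩ := s.2
  exact ⟨d, MvPolynomial.IsHomogeneous.rename_isHomogeneous hd⟩

variable {k n}

/-- Reduction to the diagonal: for homogeneous primes `p`, `q` of `k[X_0, …, X_n]` there is a prime
containing both with quotient of dimension at least `dim A/p + dim A/q - (n + 1)`. -/
theorem exists_prime_ge_sup {p q : Ideal (MvPolynomial (Fin (n + 1)) k)} [hp : p.IsPrime]
    [hq : q.IsPrime] (hph : p.IsHomogeneous (CohB1.polyGrading n k))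
    (hqh : q.IsHomogeneous (CohB1.polyGrading n k)) (dp dq : ℕ)
    (hdp : ringKrullDim (MvPolynomial (Fin (n + 1)) k ⧸ p) = (dp : WithBot ℕ∞))
    (hdq : ringKrullDim (MvPolynomial (Fin (n + 1)) k ⧸ q) = (dq : WithBot ℕ∞)) :
    ∃ P : Ideal (MvPolynomial (Fin (n + 1)) k), P.IsPrime ∧ p ≤ P ∧ q ≤ P ∧
      ∃ e : ℕ, ringKrullDim (MvPolynomial (Fin (n + 1)) k ⧸ P) = (e : WithBot ℕ∞) ∧
        dp + dq ≤ e + (n + 1) := by
  classical
  -- the tensor product and a prime of maximal dimension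
  have hdimT := ringKrullDim_tensorProduct_eq (k := k) (MvPolynomial (Fin (n + 1)) k ⧸ p)
    (MvPolynomial (Fin (n + 1)) k ⧸ q) dp dq hdp hdq
  obtain ⟨l, hl⟩ := Order.le_krullDim_iff.mp (le_of_eq hdimT.symm)
  have hQ₀dim : ((dp + dq : ℕ) : WithBot ℕ∞) ≤
      ringKrullDim (((MvPolynomial (Fin (n + 1)) k ⧸ p) ⊗[k]
        (MvPolynomial (Fin (n + 1)) k ⧸ q)) ⧸ l.head.asIdeal) := by
    have hco := Groth.Agent.H24.ringKrullDim_quotient_eq_coheight l.head
    have hlen : ((dp + dq : ℕ) : ℕ∞) ≤ Order.coheight l.head := by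
      rw [← hl]
      exact Order.length_le_coheight_head (p := l)
    calc ((dp + dq : ℕ) : WithBot ℕ∞) ≤ (Order.coheight l.head : WithBot ℕ∞) := by
          exact_mod_cast hlen
      _ = _ := hco.symm
  -- the map from the big polynomial ring
  let θ : MvPolynomial (Fin ((2 * n + 1) + 1)) k →ₐ[k]
      (MvPolynomial (Fin (n + 1)) k ⧸ p) ⊗[k] (MvPolynomial (Fin (n + 1)) k ⧸ q) :=
    MvPolynomial.aeval (fun j => if j.val < n + 1
      then (Ideal.Quotient.mk p (X (idx n j))) ⊗ₜ[k] (1 : MvPolynomial (Fin (n + 1)) k ⧸ q)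
      else (1 : MvPolynomial (Fin (n + 1)) k ⧸ p) ⊗ₜ[k]
        (Ideal.Quotient.mk q (X (idx n j))))
  have hθ₁ : ∀ a, θ (ι₁ k n a) =
      (Ideal.Quotient.mk p a) ⊗ₜ[k] (1 : MvPolynomial (Fin (n + 1)) k ⧸ q) := by
    intro a
    have : θ.comp (ι₁ k n) = (Algebra.TensorProduct.includeLeft :
        (MvPolynomial (Fin (n + 1)) k ⧸ p) →ₐ[k] _).comp (Ideal.Quotient.mkₐ k p) := by
      apply MvPolynomial.algHom_ext
      intro i
      simp only [AlgHom.comp_apply, ι₁, MvPolynomial.rename_X, θ, MvPolynomial.aeval_X,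
        if_pos (e₁_val_lt n i), idx_e₁]
      rfl
    exact congrArg (fun f => f a) this
  have hθ₂ : ∀ a, θ (ι₂ k n a) =
      (1 : MvPolynomial (Fin (n + 1)) k ⧸ p) ⊗ₜ[k] (Ideal.Quotient.mk q a) := by
    intro a
    have : θ.comp (ι₂ k n) = (Algebra.TensorProduct.includeRight :
        (MvPolynomial (Fin (n + 1)) k ⧸ q) →ₐ[k] _).comp (Ideal.Quotient.mkₐ k q) := by
      apply MvPolynomial.algHom_ext
      intro i
      simp only [AlgHom.comp_apply, ι₂, MvPolynomial.rename_X, θ, MvPolynomial.aeval_X,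
        if_neg (e₂_val_not_lt n i), idx_e₂]
      rfl
    exact congrArg (fun f => f a) this
  have hθsurj : Function.Surjective θ := by
    intro z
    induction z using TensorProduct.induction_on with
    | zero => exact ⟨0, map_zero _⟩
    | add x y hx hy =>
      obtain ⟨a, ha⟩ := hx
      obtain ⟨b, hb⟩ := hy
      exact ⟨a + b, by rw [map_add, ha, hb]⟩
    | tmul a b =>
      obtain ⟨a', rfl⟩ := Ideal.Quotient.mk_surjective a
      obtain ⟨b', rfl⟩ := Ideal.Quotient.mk_surjective b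
      refine ⟨ι₁ k n a' * ι₂ k n b', ?_⟩
      rw [map_mul, hθ₁, hθ₂, Algebra.TensorProduct.tmul_mul_tmul, mul_one, one_mul]
  -- the prime `Q` of the big polynomial ring and its homogeneous core
  have hQprime : (l.head.asIdeal.comap θ.toRingHom).IsPrime := Ideal.comap_isPrime _ _
  have hJle : p.map (ι₁ k n) ⊔ q.map (ι₂ k n) ≤ l.head.asIdeal.comap θ.toRingHom := by
    refine sup_le (Ideal.map_le_iff_le_comap.mpr ?_) (Ideal.map_le_iff_le_comap.mpr ?_)
    · intro a ha
      show θ (ι₁ k n a) ∈ l.head.asIdeal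
      rw [hθ₁, Ideal.Quotient.eq_zero_iff_mem.mpr ha, TensorProduct.zero_tmul]
      exact Ideal.zero_mem _
    · intro a ha
      show θ (ι₂ k n a) ∈ l.head.asIdeal
      rw [hθ₂, Ideal.Quotient.eq_zero_iff_mem.mpr ha, TensorProduct.tmul_zero]
      exact Ideal.zero_mem _
  have hJhom : (p.map (ι₁ k n) ⊔ q.map (ι₂ k n)).IsHomogeneous
      (CohB1.polyGrading (2 * n + 1) k) :=
    (map_rename_isHomogeneous k (e₁ n) hph).sup (map_rename_isHomogeneous k (e₂ n) hqh)
  have hQdim : ((dp + dq : ℕ) : WithBot ℕ∞) ≤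
      ringKrullDim (MvPolynomial (Fin ((2 * n + 1) + 1)) k ⧸ l.head.asIdeal.comap θ.toRingHom) := by
    refine le_trans hQ₀dim ?_
    exact ringKrullDim_le_of_surjective
      (Ideal.quotientMap l.head.asIdeal θ.toRingHom (le_refl _))
      (Ideal.quotientMap_surjective hθsurj)
  set Qs := Ideal.homogeneousCore (CohB1.polyGrading (2 * n + 1) k)
    (l.head.asIdeal.comap θ.toRingHom) with hQs
  haveI hQsprime : Qs.toIdeal.IsPrime := Ideal.IsPrime.homogeneousCore hQprime
  have hQsle : Qs.toIdeal ≤ l.head.asIdeal.comap θ.toRingHom :=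
    Ideal.toIdeal_homogeneousCore_le _ _
  have hJQs : p.map (ι₁ k n) ⊔ q.map (ι₂ k n) ≤ Qs.toIdeal := by
    rw [← hJhom.toIdeal_homogeneousCore_eq_self]
    exact toIdeal_le_toIdeal_iff.mpr (Ideal.homogeneousCore_mono _ hJle)
  have hQsdim : ((dp + dq : ℕ) : WithBot ℕ∞) ≤
      ringKrullDim (MvPolynomial (Fin ((2 * n + 1) + 1)) k ⧸ Qs.toIdeal) := by
    refine le_trans hQdim ?_
    exact ringKrullDim_le_of_surjective (Ideal.Quotient.factor hQsle)
      (Ideal.Quotient.factor_surjective hQsle)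
  -- cut with the diagonal
  have hIle : Qs.toIdeal ⊔ Ideal.span (Set.range (δ k n)) ≤ irr k (2 * n + 1) := by
    refine sup_le (le_irr_of_isHomogeneous k _ Qs.isHomogeneous hQsprime.ne_top)
      (Ideal.span_le.mpr ?_)
    rintro _ ⟨i, rfl⟩
    exact mem_irr_of_isHomogeneous (δ_isHomogeneous k n i) one_pos
  have hIne : Qs.toIdeal ⊔ Ideal.span (Set.range (δ k n)) ≠ ⊤ := by
    intro h
    rw [h] at hIle
    exact (irr_isMaximal k (2 * n + 1)).ne_top (top_le_iff.mp hIle)
  obtain ⟨⟨Q', hQ'⟩⟩ := Ideal.nonempty_minimalPrimes hIne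
  haveI hQ'prime : Q'.IsPrime := hQ'.1.1
  have hcut := dim_le_of_mem_minimalPrimes_sup_span (δ k n) hQ'
  obtain ⟨e', he', -⟩ := exists_nat_dim k (2 * n + 1) Q' hQ'prime.ne_top
  have hcut' : ((dp + dq : ℕ) : WithBot ℕ∞) ≤ ((e' + (n + 1) : ℕ) : WithBot ℕ∞) := by
    refine le_trans hQsdim (le_trans hcut ?_)
    rw [he']
    push_cast
    exact le_refl _
  have hcut'' : dp + dq ≤ e' + (n + 1) := by exact_mod_cast hcut'
  have hδQ' : ∀ i, δ k n i ∈ Q' := fun i =>
    hQ'.1.2 (Ideal.mem_sup_right (Ideal.subset_span ⟨i, rfl⟩))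
  have hΔQ' : Ideal.span (Set.range (δ k n)) ≤ Q' := le_sup_right.trans hQ'.1.2
  -- pull back to `A`
  have hPprime : (Q'.comap (ι₁ k n).toRingHom).IsPrime := Ideal.comap_isPrime _ _
  have hpP : p ≤ Q'.comap (ι₁ k n).toRingHom := by
    intro a ha
    show ι₁ k n a ∈ Q'
    exact hQ'.1.2 (Ideal.mem_sup_left (hJQs (Ideal.mem_sup_left (Ideal.mem_map_of_mem _ ha))))
  have hqP : q ≤ Q'.comap (ι₁ k n).toRingHom := by
    intro a ha
    show ι₁ k n a ∈ Q'
    have h1 : ι₂ k n a ∈ Q' :=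
      hQ'.1.2 (Ideal.mem_sup_left (hJQs (Ideal.mem_sup_right (Ideal.mem_map_of_mem _ ha))))
    have h2 : ι₁ k n a - ι₂ k n a ∈ Q' := hΔQ' (ι₁_sub_ι₂_mem k n a)
    have h3 := Q'.add_mem h2 h1
    rwa [sub_add_cancel] at h3
  -- the induced map on quotients is surjective
  have hsurj : Function.Surjective
      (Ideal.quotientMap Q' (ι₁ k n).toRingHom (le_refl (Q'.comap (ι₁ k n).toRingHom))) := by
    intro z
    obtain ⟨b, rfl⟩ := Ideal.Quotient.mk_surjective z
    induction b using MvPolynomial.induction_on with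
    | C c =>
      refine ⟨Ideal.Quotient.mk _ (C c), ?_⟩
      rw [Ideal.quotientMap_mk]
      congr 1
      simp [ι₁]
    | add b₁ b₂ h₁ h₂ =>
      obtain ⟨a₁, ha₁⟩ := h₁
      obtain ⟨a₂, ha₂⟩ := h₂
      exact ⟨a₁ + a₂, by rw [map_add, ha₁, ha₂, map_add]⟩
    | mul_X b j hb =>
      obtain ⟨a, ha⟩ := hb
      have hX : ∃ c, Ideal.quotientMap Q' (ι₁ k n).toRingHom
          (le_refl (Q'.comap (ι₁ k n).toRingHom)) c = Ideal.Quotient.mk Q' (X j) := by
        rcases e₁_or_e₂ n j with ⟨i, rfl⟩ | ⟨i, rfl⟩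
        · refine ⟨Ideal.Quotient.mk _ (X i), ?_⟩
          rw [Ideal.quotientMap_mk]
          congr 1
          simp [ι₁]
        · refine ⟨Ideal.Quotient.mk _ (X i), ?_⟩
          rw [Ideal.quotientMap_mk]
          have h1 : (ι₁ k n).toRingHom (X i) = X (e₂ n i) + δ k n i := by
            simp [ι₁, δ]
          rw [h1, map_add, Ideal.Quotient.eq_zero_iff_mem.mpr (hδQ' i), add_zero]
      obtain ⟨c, hc⟩ := hX
      exact ⟨a * c, by rw [map_mul, ha, hc, map_mul]⟩
  have hdimP : ringKrullDim (MvPolynomial (Fin ((2 * n + 1) + 1)) k ⧸ Q') ≤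
      ringKrullDim (MvPolynomial (Fin (n + 1)) k ⧸ Q'.comap (ι₁ k n).toRingHom) :=
    ringKrullDim_le_of_surjective _ hsurj
  obtain ⟨e, he, -⟩ := exists_nat_dim k n (Q'.comap (ι₁ k n).toRingHom) hPprime.ne_top
  refine ⟨Q'.comap (ι₁ k n).toRingHom, hPprime, hpP, hqP, e, he, ?_⟩
  rw [he', he] at hdimP
  have : e' ≤ e := by exact_mod_cast hdimP
  omega

end Diag

end Groth.Agent.H21.ProjDiag
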