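import Groth.Agent.H21.SepFam

/-!
# Separating families: base change over a field (helper21)

Ring-level core of EGA IV 11.10.6.
-/

open TensorProduct

universe u

namespace Groth.Agent.H21.SepFam

section Field

lemma exists_fg_subalgebra_tmul_right {k A L : Type*} [CommRing k] [CommRing A] [Algebra k A]
    [CommRing L] [Algebra k L] (z : A ⊗[k] L) :
    ∃ S : Subalgebra k L, S.FG ∧ ∃ zS : A ⊗[k] S,
      LinearMap.lTensor A S.val.toLinearMap zS = z := by
  induction z using TensorProduct.induction_on with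
  | zero => exact ⟨⊥, Subalgebra.fg_bot, 0, map_zero _⟩
  | tmul a y =>
    refine ⟨Algebra.adjoin k {y}, by simpa using Subalgebra.fg_adjoin_finset (R := k) ({y} : Finset L),
      a ⊗ₜ (⟨y, Algebra.subset_adjoin (Set.mem_singleton y)⟩ : Algebra.adjoin k {y}), ?_⟩
    simp
  | add x y hx hy =>
    obtain ⟨S₁, h₁, z₁, hz₁⟩ := hx
    obtain ⟨S₂, h₂, z₂, hz₂⟩ := hy
    refine ⟨S₁ ⊔ S₂, h₁.sup h₂,
      LinearMap.lTensor A (Subalgebra.inclusion (le_sup_left : S₁ ≤ S₁ ⊔ S₂)).toLinearMap z₁ +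
      LinearMap.lTensor A (Subalgebra.inclusion (le_sup_right : S₂ ≤ S₁ ⊔ S₂)).toLinearMap z₂, ?_⟩
    rw [map_add, ← LinearMap.lTensor_comp_apply, ← LinearMap.lTensor_comp_apply, ← hz₁, ← hz₂]
    rfl

variable {k A L : Type*} [Field k] [CommRing A] [Algebra k A] [CommRing L] [Algebra k L]

/-- over a field, `C ⊗[A] (A ⊗[k] S) → C ⊗[A] (A ⊗[k] L)` is injective for `S ⊆ L`. -/
lemma lTensor_map_val_injective (C : Type*) [CommRing C] [Algebra A C] [Algebra k C]
    [IsScalarTower k A C] (S : Subalgebra k L) :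
    Function.Injective (LinearMap.lTensor C
      (Algebra.TensorProduct.map (AlgHom.id A A) S.val).toLinearMap) := by
  have hk : Function.Injective (LinearMap.lTensor C S.val.toLinearMap) :=
    Module.Flat.lTensor_preserves_injective_linearMap _ Subtype.val_injective
  have hcomm : ∀ w : C ⊗[A] (A ⊗[k] S),
      AlgebraTensorModule.cancelBaseChange k A C C L
        (LinearMap.lTensor C (Algebra.TensorProduct.map (AlgHom.id A A) S.val).toLinearMap w) =
      LinearMap.lTensor C S.val.toLinearMap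
        (AlgebraTensorModule.cancelBaseChange k A C C S w) := by
    intro w
    induction w using TensorProduct.induction_on with
    | zero => rw [LinearMap.map_zero, LinearEquiv.map_zero, LinearEquiv.map_zero, LinearMap.map_zero]
    | tmul c y =>
      induction y using TensorProduct.induction_on with
      | zero =>
        rw [TensorProduct.tmul_zero, LinearMap.map_zero, LinearEquiv.map_zero, LinearEquiv.map_zero,
          LinearMap.map_zero]
      | tmul a s =>
        rw [LinearMap.lTensor_tmul]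
        change AlgebraTensorModule.cancelBaseChange k A C C L (c ⊗ₜ[A] (a ⊗ₜ[k] (s : L))) = _
        rw [AlgebraTensorModule.cancelBaseChange_tmul, AlgebraTensorModule.cancelBaseChange_tmul,
          LinearMap.lTensor_tmul]
        rfl
      | add x y hx hy =>
        rw [TensorProduct.tmul_add, LinearMap.map_add, LinearEquiv.map_add, hx, hy,
          LinearEquiv.map_add, LinearMap.map_add]
    | add x y hx hy =>
      rw [LinearMap.map_add, LinearEquiv.map_add, hx, hy, LinearEquiv.map_add, LinearMap.map_add]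
  intro w₁ w₂ hw
  apply (AlgebraTensorModule.cancelBaseChange k A C C S).injective
  apply hk
  rw [← hcomm, ← hcomm, hw]

end Field

lemma one_tmul_algebraMap_eq_zero_of_pow {A C B₀ B' : Type*} [CommRing A] [CommRing C]
    [Algebra A C] [CommRing B₀] [Algebra A B₀] [CommRing B'] [Algebra A B'] [Algebra B₀ B']
    [IsScalarTower A B₀ B'] (b₀ τ₀ : B₀) [IsLocalization.Away b₀ B'] (n : ℕ)
    (hn : (1 : C) ⊗ₜ[A] (b₀ ^ n * τ₀) = 0) :
    (1 : C) ⊗ₜ[A] (algebraMap B₀ B' τ₀) = 0 := by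
  have h1 := congrArg (LinearMap.lTensor C (IsScalarTower.toAlgHom A B₀ B').toLinearMap) hn
  rw [LinearMap.map_zero, LinearMap.lTensor_tmul] at h1
  have h2 : (1 : C) ⊗ₜ[A] (algebraMap B₀ B' (b₀ ^ n * τ₀)) = 0 := h1
  obtain ⟨u, hu⟩ := (IsLocalization.Away.algebraMap_isUnit (S := B') b₀).pow n
  have h3 : (1 : C) ⊗ₜ[A] (algebraMap B₀ B' τ₀) =
      ((1 : C) ⊗ₜ[A] ((u⁻¹ : B'ˣ) : B')) * ((1 : C) ⊗ₜ[A] (algebraMap B₀ B' (b₀ ^ n * τ₀))) := by
    rw [Algebra.TensorProduct.tmul_mul_tmul, one_mul, map_mul, map_pow, ← hu, ← mul_assoc,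
      Units.inv_mul, one_mul]
  rw [h3, h2, mul_zero]


section Main

variable {k A L : Type u} [Field k] [CommRing A] [Algebra k A] [CommRing L] [Algebra k L]

theorem exists_pow_mul_eq_zero_of_field_aux {J : Type*} (C : J → Type u) [∀ j, CommRing (C j)]
    [∀ j, Algebra A (C j)] [∀ j, Algebra k (C j)] [∀ j, IsScalarTower k A (C j)]
    (hsep : ∀ a x : A, (∀ j, ∃ n : ℕ, algebraMap A (C j) (a ^ n * x) = 0) → ∃ n : ℕ, a ^ n * x = 0)
    (b τ : A ⊗[k] L)
    (h : ∀ j, ∃ n : ℕ, (1 : C j) ⊗ₜ[A] (b ^ n * τ) = 0) : ∃ n : ℕ, b ^ n * τ = 0 := by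
  obtain ⟨S₁, hS₁, b₁, hb₁⟩ := exists_fg_subalgebra_tmul_right b
  obtain ⟨S₂, hS₂, τ₂, hτ₂⟩ := exists_fg_subalgebra_tmul_right τ
  let S := S₁ ⊔ S₂
  have hS : S.FG := hS₁.sup hS₂
  let ι : A ⊗[k] S →ₐ[A] A ⊗[k] L := Algebra.TensorProduct.map (AlgHom.id A A) S.val
  let b₀ : A ⊗[k] S :=
    LinearMap.lTensor A (Subalgebra.inclusion (le_sup_left : S₁ ≤ S)).toLinearMap b₁
  let τ₀ : A ⊗[k] S :=
    LinearMap.lTensor A (Subalgebra.inclusion (le_sup_right : S₂ ≤ S)).toLinearMap τ₂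
  have hιl : ∀ z, ι z = LinearMap.lTensor A S.val.toLinearMap z := by
    intro z
    induction z using TensorProduct.induction_on with
    | zero => simp
    | tmul a y => simp [ι]
    | add x y hx hy => simp only [map_add, hx, hy]
  have hb₀ : ι b₀ = b := by
    rw [hιl, ← hb₁, ← LinearMap.lTensor_comp_apply]; rfl
  have hτ₀ : ι τ₀ = τ := by
    rw [hιl, ← hτ₂, ← LinearMap.lTensor_comp_apply]; rfl
  -- (ii) vanishing at the finite stage
  have h₀ : ∀ j, ∃ n : ℕ, (1 : C j) ⊗ₜ[A] (b₀ ^ n * τ₀) = 0 := by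
    intro j
    obtain ⟨n, hn⟩ := h j
    refine ⟨n, ?_⟩
    apply lTensor_map_val_injective (C j) S
    rw [LinearMap.map_zero, LinearMap.lTensor_tmul]
    change (1 : C j) ⊗ₜ[A] ι (b₀ ^ n * τ₀) = 0
    rw [map_mul, map_pow, hb₀, hτ₀, hn]
  -- (iii) the localization
  haveI : Algebra.FiniteType k S := (Subalgebra.fg_iff_finiteType S).mp hS
  haveI : Algebra.FinitePresentation k S :=
    Algebra.FinitePresentation.of_finiteType.mp inferInstance
  let B' := Localization.Away b₀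
  haveI : Module.Flat A B' := Module.Flat.trans A (A ⊗[k] S) B'
  haveI : Algebra.FinitePresentation (A ⊗[k] S) B' := IsLocalization.Away.finitePresentation b₀
  haveI : Algebra.FinitePresentation A B' := Algebra.FinitePresentation.trans A (A ⊗[k] S) B'
  have ht : ∀ j, (1 : C j) ⊗ₜ[A] (algebraMap (A ⊗[k] S) B' τ₀) = 0 := by
    intro j
    obtain ⟨n, hn⟩ := h₀ j
    exact one_tmul_algebraMap_eq_zero_of_pow b₀ τ₀ n hn
  have ht0 := eq_zero_of_flat_finitePresentation (A := A) (B := B') C hsep _ ht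
  obtain ⟨⟨_, m, rfl⟩, hm⟩ := (IsLocalization.map_eq_zero_iff (Submonoid.powers b₀) B' τ₀).mp ht0
  refine ⟨m, ?_⟩
  rw [← hb₀, ← hτ₀, ← map_pow, ← map_mul]
  change ι (b₀ ^ m * τ₀) = 0
  rw [hm, map_zero]

/-- **Base change over a field** (EGA IV 11.10.6), in element form. -/
theorem exists_pow_mul_eq_zero_of_field {J : Type*} (C : J → Type u) [∀ j, CommRing (C j)]
    [∀ j, Algebra A (C j)]
    (hsep : ∀ a x : A, (∀ j, ∃ n : ℕ, algebraMap A (C j) (a ^ n * x) = 0) → ∃ n : ℕ, a ^ n * x = 0)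
    (b τ : A ⊗[k] L)
    (h : ∀ j, ∃ n : ℕ, (1 : C j) ⊗ₜ[A] (b ^ n * τ) = 0) : ∃ n : ℕ, b ^ n * τ = 0 := by
  letI : ∀ j, Algebra k (C j) := fun j => ((algebraMap A (C j)).comp (algebraMap k A)).toAlgebra
  haveI : ∀ j, IsScalarTower k A (C j) := fun j => IsScalarTower.of_algebraMap_eq (fun _ => rfl)
  exact exists_pow_mul_eq_zero_of_field_aux C hsep b τ h

end Main

end Groth.Agent.H21.SepFam
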