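import Groth.Agent.H21.SchDom
import Groth.Agent.H21.SepFamField

/-!
# Schematically dominant families: base change over a field (helper21)

Scheme-level plumbing for EGA IV 11.10.6: `SchDom.schDominant_baseChange_field`.
Product charts `Spec (Γ(X,U) ⊗[k] R_L)[1/b] ⟶ X ×ₖ S'`.
-/

open CategoryTheory AlgebraicGeometry TensorProduct Opposite Limits

universe u

namespace Groth.Agent.H21.SchDom

lemma res_injective_of_ge {X : Scheme.{u}} {A B : X.Opens} (hAB : A ≤ B) (hBA : B ≤ A) :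
    Function.Injective (X.presheaf.map (homOfLE hAB).op) := by
  obtain rfl : A = B := le_antisymm hAB hBA
  have : homOfLE hAB = 𝟙 A := Subsingleton.elim _ _
  rw [this, op_id, X.presheaf.map_id]
  exact fun _ _ h => h

/-- pulling back a section along `J : Spec R ⟶ P` whose image lies in `V`. -/
noncomputable def pullSection {P : Scheme.{u}} {R : CommRingCat.{u}} (J : Spec R ⟶ P)
    (V : P.Opens) (hJV : ⊤ ≤ J ⁻¹ᵁ V) : Γ(P, V) ⟶ R :=
  J.appLE V ⊤ hJV ≫ (Scheme.ΓSpecIso R).hom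

lemma app_eq_zero_of_pullSection {P : Scheme.{u}} {R : CommRingCat.{u}} (J : Spec R ⟶ P)
    (V : P.Opens) (hJV : ⊤ ≤ J ⁻¹ᵁ V) (t : Γ(P, V)) (h : pullSection J V hJV t = 0) :
    J.app V t = 0 := by
  have h1 : (Scheme.ΓSpecIso R).hom (J.appLE V ⊤ hJV t) = 0 := h
  have hinj := (ConcreteCategory.bijective_of_isIso (Scheme.ΓSpecIso R).hom).1
  have h2 : J.appLE V ⊤ hJV t = 0 := hinj (h1.trans (map_zero _).symm)
  have h3 : (Spec R).presheaf.map (homOfLE hJV).op (J.app V t) = 0 := h2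
  exact res_injective_of_ge hJV le_top (h3.trans (map_zero _).symm)

lemma map_pullSection_eq_zero {P : Scheme.{u}} {R : CommRingCat.{u}} (J : Spec R ⟶ P)
    (V : P.Opens) (hJV : ⊤ ≤ J ⁻¹ᵁ V) {D : CommRingCat.{u}} (ρ : R ⟶ D) (t : Γ(P, V))
    (h : (Spec.map ρ ≫ J).app V t = 0) : ρ (pullSection J V hJV t) = 0 := by
  have h' : (Spec.map ρ).app (J ⁻¹ᵁ V) (J.app V t) = 0 := h
  have nat := (Spec.map ρ).naturality (homOfLE hJV).op
  have h2 := congrArg (fun φ => φ (J.app V t)) nat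
  simp only [CommRingCat.comp_apply] at h2
  rw [h'] at h2
  have h3 : (Spec.map ρ).app ⊤ (J.appLE V ⊤ hJV t) = 0 := h2.trans (map_zero _)
  have h4 := congrArg (fun φ => φ (J.appLE V ⊤ hJV t)) (Scheme.ΓSpecIso_naturality ρ)
  simp only [CommRingCat.comp_apply] at h4
  have h5 : (Spec.map ρ).appTop (J.appLE V ⊤ hJV t) = 0 := h3
  rw [h5, map_zero] at h4
  exact h4.symm

lemma res_eq_zero_of_app_eq_zero {P Y : Scheme.{u}} (J : Y ⟶ P) [IsOpenImmersion J]
    {V W : P.Opens} (hWV : W ≤ V) (hW : W ≤ J.opensRange) (t : Γ(P, V)) (h : J.app V t = 0) :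
    P.presheaf.map (homOfLE hWV).op t = 0 := by
  have nat := J.naturality (homOfLE hWV).op
  have h1 := congrArg (fun φ => φ t) nat
  simp only [CommRingCat.comp_apply] at h1
  rw [h, map_zero] at h1
  have h2 := congrArg (fun φ => φ (P.presheaf.map (homOfLE hWV).op t)) (J.app_invApp' W hW)
  simp only [CommRingCat.comp_apply] at h2
  rw [h1, map_zero] at h2
  generalize_proofs pf at h2
  have hiso : IsIso (P.presheaf.map (eqToHom pf).op) := inferInstance
  have hinj := (ConcreteCategory.bijective_of_isIso (P.presheaf.map (eqToHom pf).op)).1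
  exact hinj (h2.symm.trans (map_zero _).symm)

lemma app_comp_eq_zero {X Y Z : Scheme.{u}} (ℓ : X ⟶ Y) (F : Y ⟶ Z) (V : Z.Opens) (t : Γ(Z, V))
    (h : F.app V t = 0) : (ℓ ≫ F).app V t = 0 := by
  change ℓ.app _ (F.app V t) = 0
  rw [h, map_zero]

section Chart

variable {k : Type u} [Field k] {X S' : Scheme.{u}} (p : X ⟶ Spec (CommRingCat.of k))
  (q : S' ⟶ Spec (CommRingCat.of k))
  {RA RL : CommRingCat.{u}} [Algebra k RA] [Algebra k RL] (jA : Spec RA ⟶ X) (jL : Spec RL ⟶ S')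
  (hA : jA ≫ p = Spec.map (CommRingCat.ofHom (algebraMap k RA)))
  (hL : jL ≫ q = Spec.map (CommRingCat.ofHom (algebraMap k RL)))

/-- the product chart `Spec (RA ⊗[k] RL) ⟶ X ×ₖ S'`. -/
noncomputable def chart : Spec (.of (RA ⊗[k] RL)) ⟶ pullback p q :=
  (pullbackSpecIso k RA RL).inv ≫ pullback.map _ _ p q jA jL (𝟙 _)
    (by rw [Category.comp_id, hA]) (by rw [Category.comp_id, hL])

lemma chart_fst : chart p q jA jL hA hL ≫ pullback.fst p q =
    Spec.map (CommRingCat.ofHom Algebra.TensorProduct.includeLeftRingHom) ≫ jA := by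
  unfold chart
  rw [Category.assoc]
  erw [pullback.lift_fst]
  rw [← Category.assoc, pullbackSpecIso_inv_fst]

lemma chart_snd : chart p q jA jL hA hL ≫ pullback.snd p q =
    Spec.map (CommRingCat.ofHom
      (Algebra.TensorProduct.includeRight : RL →ₐ[k] RA ⊗[k] RL).toRingHom) ≫ jL := by
  unfold chart
  rw [Category.assoc]
  erw [pullback.lift_snd]
  rw [← Category.assoc, pullbackSpecIso_inv_snd]
  rfl

instance [IsOpenImmersion jA] [IsOpenImmersion jL] : IsOpenImmersion (chart p q jA jL hA hL) := by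
  unfold chart; infer_instance

lemma range_chart : Set.range (chart p q jA jL hA hL) =
    pullback.fst p q ⁻¹' Set.range jA ∩ pullback.snd p q ⁻¹' Set.range jL := by
  unfold chart
  rw [Scheme.Hom.comp_base, TopCat.coe_comp, Set.range_comp,
    Set.range_eq_univ.mpr (pullbackSpecIso k RA RL).inv.surjective, Set.image_univ,
    Scheme.Pullback.range_map]

/-- the localized product chart. -/
noncomputable def chartAway (b : RA ⊗[k] RL) :
    Spec (.of (Localization.Away b)) ⟶ pullback p q :=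
  Spec.map (CommRingCat.ofHom (algebraMap (RA ⊗[k] RL) (Localization.Away b))) ≫
    chart p q jA jL hA hL

instance [IsOpenImmersion jA] [IsOpenImmersion jL] (b : RA ⊗[k] RL) :
    IsOpenImmersion (chartAway p q jA jL hA hL b) := by
  unfold chartAway; infer_instance

end Chart

section Key

variable {k : Type u} [Field k] {X S' Zi : Scheme.{u}} (p : X ⟶ Spec (CommRingCat.of k))
  (q : S' ⟶ Spec (CommRingCat.of k)) (fi : Zi ⟶ X)
  {U : X.Opens} (hU : IsAffineOpen U) [Algebra k Γ(X, U)]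
  {RL : CommRingCat.{u}} [Algebra k RL] (jL : Spec RL ⟶ S')
  (hA : hU.fromSpec ≫ p = Spec.map (CommRingCat.ofHom (algebraMap k Γ(X, U))))
  (hL : jL ≫ q = Spec.map (CommRingCat.ofHom (algebraMap k RL)))
  (b : Γ(X, U) ⊗[k] RL) (V : (pullback p q).Opens)
  (hbV : ⊤ ≤ (chartAway p q hU.fromSpec jL hA hL b) ⁻¹ᵁ V)

set_option maxHeartbeats 1600000 in
lemma tmul_pow_eq_zero_of_pullbackMap {W : Zi.Opens} (hW : IsAffineOpen W) (hWU : W ≤ fi ⁻¹ᵁ U)
    (t : Γ(pullback p q, V))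
    (ht : (pullback.map (fi ≫ p) q p q fi (𝟙 S') (𝟙 _) (Category.comp_id _)
      ((Category.comp_id _).trans (Category.id_comp _).symm)).app V t = 0)
    (τ : Γ(X, U) ⊗[k] RL) (m : ℕ)
    (hτ : pullSection (chartAway p q hU.fromSpec jL hA hL b) V hbV t *
      algebraMap (Γ(X, U) ⊗[k] RL) (Localization.Away b) (b ^ m) =
        algebraMap (Γ(X, U) ⊗[k] RL) (Localization.Away b) τ) :
    letI : Algebra Γ(X, U) Γ(Zi, W) := (fi.appLE U W hWU).hom.toAlgebra
    ∃ n : ℕ, (1 : Γ(Zi, W)) ⊗ₜ[Γ(X, U)] (b ^ n * τ) = 0 := by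
  letI : Algebra Γ(X, U) Γ(Zi, W) := (fi.appLE U W hWU).hom.toAlgebra
  let B := Γ(X, U) ⊗[k] RL
  let E := Γ(Zi, W) ⊗[Γ(X, U)] B
  let inclR : B →+* E := (Algebra.TensorProduct.includeRight : B →ₐ[Γ(X, U)] E).toRingHom
  let D := Localization.Away (inclR b)
  let ρ₀ : Localization.Away b →+* D := IsLocalization.Away.map (Localization.Away b) D inclR b
  let ρ : CommRingCat.of (Localization.Away b) ⟶ CommRingCat.of D := CommRingCat.ofHom ρ₀
  let cD : Γ(Zi, W) ⟶ CommRingCat.of D := CommRingCat.ofHom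
    ((algebraMap E D).comp Algebra.TensorProduct.includeLeftRingHom)
  let inclA : Γ(X, U) ⟶ CommRingCat.of B :=
    CommRingCat.ofHom Algebra.TensorProduct.includeLeftRingHom
  let algB : CommRingCat.of B ⟶ CommRingCat.of (Localization.Away b) :=
    CommRingCat.ofHom (algebraMap B (Localization.Away b))
  have hρ₀ : ∀ x, ρ₀ (algebraMap B (Localization.Away b) x) = algebraMap E D (inclR x) :=
    fun x => IsLocalization.map_eq _ x
  -- the ring identity
  have R1 : fi.appLE U W hWU ≫ cD = inclA ≫ algB ≫ ρ := by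
    ext a
    change algebraMap E D ((algebraMap Γ(X, U) Γ(Zi, W) a) ⊗ₜ[Γ(X, U)] (1 : B)) =
      ρ₀ (algebraMap B (Localization.Away b) (a ⊗ₜ[k] (1 : RL)))
    rw [hρ₀]
    congr 1
    change _ = (1 : Γ(Zi, W)) ⊗ₜ[Γ(X, U)] (a ⊗ₜ[k] (1 : RL))
    rw [Algebra.algebraMap_eq_smul_one, TensorProduct.smul_tmul, Algebra.smul_def,
      mul_one, Algebra.TensorProduct.algebraMap_apply, Algebra.algebraMap_self, RingHom.id_apply]
  set cA := chartAway p q hU.fromSpec jL hA hL b with hcA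
  have hcA_fst : cA ≫ pullback.fst p q = Spec.map algB ≫ Spec.map inclA ≫ hU.fromSpec := by
    rw [hcA, chartAway, Category.assoc, chart_fst]
  let m₁ : Spec (CommRingCat.of D) ⟶ Zi := Spec.map cD ≫ hW.fromSpec
  let m₂ : Spec (CommRingCat.of D) ⟶ S' := Spec.map ρ ≫ cA ≫ pullback.snd p q
  have hm₁ : m₁ ≫ fi = (Spec.map ρ ≫ cA) ≫ pullback.fst p q := by
    simp only [m₁, Category.assoc]
    rw [← hU.SpecMap_appLE_fromSpec fi hW hWU, hcA_fst, ← Spec.map_comp_assoc,
      ← Spec.map_comp_assoc, ← Spec.map_comp_assoc, R1]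
  have hcomm : m₁ ≫ (fi ≫ p) = m₂ ≫ q := by
    rw [← Category.assoc, hm₁]
    simp only [m₂, Category.assoc]
    rw [pullback.condition]
  let ℓ : Spec (CommRingCat.of D) ⟶ pullback (fi ≫ p) q := pullback.lift m₁ m₂ hcomm
  have hℓ : ℓ ≫ pullback.map (fi ≫ p) q p q fi (𝟙 S') (𝟙 _) (Category.comp_id _)
      ((Category.comp_id _).trans (Category.id_comp _).symm) = Spec.map ρ ≫ cA := by
    apply pullback.hom_ext
    · have e1 : pullback.map (fi ≫ p) q p q fi (𝟙 S') (𝟙 _) (Category.comp_id _)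
          ((Category.comp_id _).trans (Category.id_comp _).symm) ≫ pullback.fst p q =
          pullback.fst (fi ≫ p) q ≫ fi := pullback.lift_fst _ _ _
      rw [Category.assoc, e1, ← Category.assoc, pullback.lift_fst, hm₁]
    · have e2 : pullback.map (fi ≫ p) q p q fi (𝟙 S') (𝟙 _) (Category.comp_id _)
          ((Category.comp_id _).trans (Category.id_comp _).symm) ≫ pullback.snd p q =
          pullback.snd (fi ≫ p) q ≫ 𝟙 S' := pullback.lift_snd _ _ _
      rw [Category.assoc, e2, Category.comp_id, pullback.lift_snd, Category.assoc]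
  have h1 : (ℓ ≫ pullback.map (fi ≫ p) q p q fi (𝟙 S') (𝟙 _) (Category.comp_id _)
      ((Category.comp_id _).trans (Category.id_comp _).symm)).app V t = 0 :=
    app_comp_eq_zero ℓ _ V t ht
  rw [hℓ] at h1
  have h2 : ρ₀ (pullSection cA V hbV t) = 0 := map_pullSection_eq_zero cA V hbV ρ t h1
  have h3 : algebraMap E D (inclR τ) = 0 := by
    rw [← hρ₀, ← hτ, map_mul, h2, zero_mul]
  obtain ⟨⟨_, n, rfl⟩, hn⟩ := (IsLocalization.map_eq_zero_iff (Submonoid.powers (inclR b)) D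
    (inclR τ)).mp h3
  refine ⟨n, ?_⟩
  have h4 : inclR (b ^ n * τ) = 0 := by rw [map_mul, map_pow]; exact hn
  exact h4

end Key

section Main

variable {k : Type u} [Field k] {X S' : Scheme.{u}} (p : X ⟶ Spec (CommRingCat.of k))
  (q : S' ⟶ Spec (CommRingCat.of k)) {ι : Type u} (Z : ι → Scheme.{u}) (f : ∀ i, Z i ⟶ X)

theorem chartAway_app_eq_zero
    (h : ∀ (V : X.Opens) (t : Γ(X, V)), (∀ i, (f i).app V t = 0) → t = 0)
    {U : X.Opens} (hU : IsAffineOpen U) [Algebra k Γ(X, U)]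
    {RL : CommRingCat.{u}} [Algebra k RL] (jL : Spec RL ⟶ S')
    (hA : hU.fromSpec ≫ p = Spec.map (CommRingCat.ofHom (algebraMap k Γ(X, U))))
    (hL : jL ≫ q = Spec.map (CommRingCat.ofHom (algebraMap k RL)))
    (b : Γ(X, U) ⊗[k] RL) (V : (pullback p q).Opens)
    (hbV : ⊤ ≤ (chartAway p q hU.fromSpec jL hA hL b) ⁻¹ᵁ V)
    (t : Γ(pullback p q, V))
    (ht : ∀ i, (pullback.map (f i ≫ p) q p q (f i) (𝟙 S') (𝟙 _) (Category.comp_id _)
        ((Category.comp_id _).trans (Category.id_comp _).symm)).app V t = 0) :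
    (chartAway p q hU.fromSpec jL hA hL b).app V t = 0 := by
  apply app_eq_zero_of_pullSection _ V hbV
  obtain ⟨⟨τ, ⟨_, m, rfl⟩⟩, hτ⟩ := IsLocalization.surj (Submonoid.powers b)
    (pullSection (chartAway p q hU.fromSpec jL hA hL b) V hbV t)
  have hτ' : pullSection (chartAway p q hU.fromSpec jL hA hL b) V hbV t *
      algebraMap (Γ(X, U) ⊗[k] RL) (Localization.Away b) (b ^ m) =
        algebraMap (Γ(X, U) ⊗[k] RL) (Localization.Away b) τ := hτ
  suffices hsuff : ∃ n : ℕ, b ^ n * τ = 0 by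
    obtain ⟨n, hn⟩ := hsuff
    have h0 : algebraMap (Γ(X, U) ⊗[k] RL) (Localization.Away b) τ = 0 :=
      (IsLocalization.map_eq_zero_iff (Submonoid.powers b) _ τ).mpr ⟨⟨b ^ n, n, rfl⟩, hn⟩
    rw [h0] at hτ'
    exact (IsUnit.mul_left_eq_zero (IsLocalization.map_units (Localization.Away b)
      (⟨b ^ m, m, rfl⟩ : Submonoid.powers b))).mp hτ'
  let J := Σ i : ι, {W : (Z i).Opens // IsAffineOpen W ∧ W ≤ (f i) ⁻¹ᵁ U}
  let C : J → Type u := fun j => Γ(Z j.1, j.2.1)
  letI : ∀ j, CommRing (C j) := fun j => inferInstanceAs (CommRing Γ(Z j.1, j.2.1))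
  letI : ∀ j : J, Algebra Γ(X, U) (C j) := fun j =>
    ((f j.1).appLE U j.2.1 j.2.2.2).hom.toAlgebra
  refine SepFam.exists_pow_mul_eq_zero_of_field (k := k) (A := Γ(X, U)) (L := RL) C ?_ b τ ?_
  · intro a x hax
    apply sep_affine Z f h hU a x
    intro i W hW hWU
    exact hax ⟨i, W, hW, hWU⟩
  · intro j
    exact tmul_pow_eq_zero_of_pullbackMap p q (f j.1) hU jL hA hL b V hbV j.2.2.1 j.2.2.2 t
      (ht j.1) τ m hτ'

lemma exists_chart_nhd
    (h : ∀ (V : X.Opens) (t : Γ(X, V)), (∀ i, (f i).app V t = 0) → t = 0)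
    {U : X.Opens} (hU : IsAffineOpen U) {T : S'.Opens} (hT : IsAffineOpen T)
    [Algebra k Γ(X, U)] [Algebra k Γ(S', T)]
    (hA : hU.fromSpec ≫ p = Spec.map (CommRingCat.ofHom (algebraMap k Γ(X, U))))
    (hL : hT.fromSpec ≫ q = Spec.map (CommRingCat.ofHom (algebraMap k Γ(S', T))))
    (V : (pullback p q).Opens) (t : Γ(pullback p q, V))
    (ht : ∀ i, (pullback.map (f i ≫ p) q p q (f i) (𝟙 S') (𝟙 _) (Category.comp_id _)
        ((Category.comp_id _).trans (Category.id_comp _).symm)).app V t = 0)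
    (x : ↥(pullback p q)) (hx : x ∈ V) (hxU : (pullback.fst p q) x ∈ U)
    (hxT : (pullback.snd p q) x ∈ T) :
    ∃ W : (pullback p q).Opens, x ∈ W ∧ W ≤ V ∧ ∃ (Y : Scheme.{u}) (J : Y ⟶ pullback p q)
      (_ : IsOpenImmersion J), W ≤ J.opensRange ∧ J.app V t = 0 := by
  have hxr : x ∈ Set.range (chart p q hU.fromSpec hT.fromSpec hA hL) := by
    rw [range_chart, hU.range_fromSpec, hT.range_fromSpec]
    exact ⟨hxU, hxT⟩
  obtain ⟨y, rfl⟩ := hxr
  have hy : y ∈ (chart p q hU.fromSpec hT.fromSpec hA hL) ⁻¹ᵁ V := hx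
  obtain ⟨_, ⟨_, ⟨b, rfl⟩, rfl⟩, hyb, hbV⟩ :=
    PrimeSpectrum.isBasis_basic_opens.exists_subset_of_mem_open hy
      ((chart p q hU.fromSpec hT.fromSpec hA hL) ⁻¹ᵁ V).2
  have hrange : (chartAway p q hU.fromSpec hT.fromSpec hA hL b).opensRange =
      (chart p q hU.fromSpec hT.fromSpec hA hL) ''ᵁ (PrimeSpectrum.basicOpen b) := by
    unfold chartAway
    rw [Scheme.Hom.opensRange_comp]
    congr 1
    exact Scheme.Hom.opensRange_localizationAway
      (R := CommRingCat.of (Γ(X, U) ⊗[k] Γ(S', T))) b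
  have hleV : (chartAway p q hU.fromSpec hT.fromSpec hA hL b).opensRange ≤ V := by
    rw [hrange]
    rintro _ ⟨z, hz, rfl⟩
    exact hbV hz
  have hJV : ⊤ ≤ (chartAway p q hU.fromSpec hT.fromSpec hA hL b) ⁻¹ᵁ V :=
    fun z _ => hleV ⟨z, rfl⟩
  refine ⟨(chartAway p q hU.fromSpec hT.fromSpec hA hL b).opensRange, ?_, hleV, _,
    chartAway p q hU.fromSpec hT.fromSpec hA hL b, inferInstance, le_rfl, ?_⟩
  · rw [hrange]
    exact ⟨y, hyb, rfl⟩
  · exact chartAway_app_eq_zero p q Z f h hU hT.fromSpec hA hL b V hJV t ht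

/-- **EGA IV 11.10.6**: base change over a field preserves schematically dominant families. -/
theorem schDominant_baseChange_field
    (h : ∀ (V : X.Opens) (t : Γ(X, V)), (∀ i, (f i).app V t = 0) → t = 0) :
    ∀ (V : (pullback p q).Opens) (t : Γ(pullback p q, V)),
      (∀ i, (pullback.map (f i ≫ p) q p q (f i) (𝟙 S') (𝟙 _) (Category.comp_id _)
        ((Category.comp_id _).trans (Category.id_comp _).symm)).app V t = 0) → t = 0 := by
  intro V t ht
  apply eq_zero_of_forall_res t (fun W => ∃ (Y : Scheme.{u}) (J : Y ⟶ pullback p q)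
    (_ : IsOpenImmersion J), W ≤ J.opensRange ∧ J.app V t = 0)
  · intro x hx
    obtain ⟨U, hU, hxU, -⟩ := TopologicalSpace.Opens.isBasis_iff_nbhd.mp X.isBasis_affineOpens
      (show (pullback.fst p q) x ∈ (⊤ : X.Opens) from trivial)
    obtain ⟨T, hT, hxT, -⟩ := TopologicalSpace.Opens.isBasis_iff_nbhd.mp S'.isBasis_affineOpens
      (show (pullback.snd p q) x ∈ (⊤ : S'.Opens) from trivial)
    letI : Algebra k Γ(X, U) := (Spec.preimage (hU.fromSpec ≫ p)).hom.toAlgebra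
    letI : Algebra k Γ(S', T) := (Spec.preimage (hT.fromSpec ≫ q)).hom.toAlgebra
    have hA : hU.fromSpec ≫ p = Spec.map (CommRingCat.ofHom (algebraMap k Γ(X, U))) :=
      (Spec.map_preimage _).symm
    have hL : hT.fromSpec ≫ q = Spec.map (CommRingCat.ofHom (algebraMap k Γ(S', T))) :=
      (Spec.map_preimage _).symm
    exact exists_chart_nhd p q Z f h hU hT hA hL V t ht x hx hxU hxT
  · rintro W hWV ⟨Y, J, hJ, hWJ, hJt⟩
    exact res_eq_zero_of_app_eq_zero J hWV hWJ t hJt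

end Main

end Groth.Agent.H21.SchDom
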