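import Mathlib
import Groth.Agent.H21.SchDomField

set_option autoImplicit false
set_option linter.style.haveILetI false
universe u
open CategoryTheory AlgebraicGeometry CategoryTheory.Limits TopologicalSpace

namespace Groth.Agent.H21.RedClosure

/-- the reduced induced closed subscheme is reduced -/
theorem isReduced_subscheme_vanishingIdeal {X : Scheme.{u}} (C : Closeds X) :
    IsReduced (Scheme.IdealSheafData.vanishingIdeal C).subscheme := by
  set I := Scheme.IdealSheafData.vanishingIdeal C with hI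
  have : ∀ U : X.affineOpens, IsReduced (I.subschemeCover.openCover.X U) := by
    intro U
    have hrad : (I.ideal U).IsRadical := by
      rw [hI, Scheme.IdealSheafData.vanishingIdeal_ideal]
      exact PrimeSpectrum.isRadical_vanishingIdeal _
    have : _root_.IsReduced (Γ(X, U) ⧸ I.ideal U) :=
      (Ideal.isRadical_iff_quotient_reduced _).mp hrad
    show IsReduced (Spec (.of (Γ(X, U) ⧸ I.ideal U)))
    infer_instance
  exact IsReduced.of_openCover _ I.subschemeCover.openCover

/-- a schematically dominant family from reduced schemes has reduced target -/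
theorem isReduced_of_schDominant {W : Scheme.{u}} {ι : Type*} (Z : ι → Scheme.{u})
    (G : ∀ i, Z i ⟶ W) [∀ i, IsReduced (Z i)]
    (h : ∀ (V : W.Opens) (t : Γ(W, V)), (∀ i, (G i).app V t = 0) → t = 0) : IsReduced W := by
  refine ⟨fun V => ⟨fun t ht => ?_⟩⟩
  apply h V t
  intro i
  exact (ht.map ((G i).app V).hom).eq_zero

/-- a schematically dominant family from reduced schemes has dense image -/
theorem dense_of_schDominant {W : Scheme.{u}} {ι : Type*} (Z : ι → Scheme.{u})
    (G : ∀ i, Z i ⟶ W) [∀ i, IsReduced (Z i)]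
    (h : ∀ (V : W.Opens) (t : Γ(W, V)), (∀ i, (G i).app V t = 0) → t = 0) :
    Dense (⋃ i, Set.range (G i)) := by
  rw [dense_iff_inter_open]
  intro V hV hne
  by_contra hcon
  rw [Set.not_nonempty_iff_eq_empty] at hcon
  let V' : W.Opens := ⟨V, hV⟩
  have h1 : (1 : Γ(W, V')) = 0 := by
    apply h V' 1
    intro i
    rw [← basicOpen_eq_bot_iff]
    rw [eq_bot_iff]
    intro z hz
    have hz' : z ∈ (G i) ⁻¹ᵁ V' := (Z i).basicOpen_le _ hz
    have : (G i) z ∈ V ∩ ⋃ i, Set.range (G i) := ⟨hz', Set.mem_iUnion.mpr ⟨i, z, rfl⟩⟩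
    rw [hcon] at this
    exact this.elim
  have h2 : W.basicOpen (1 : Γ(W, V')) = V' := Scheme.basicOpen_of_isUnit _ isUnit_one
  rw [h1, Scheme.basicOpen_zero] at h2
  obtain ⟨x, hx⟩ := hne
  have : x ∈ (⊥ : W.Opens) := by rw [h2]; exact hx
  exact this

/-- on a reduced scheme, a family with dense image is schematically dominant -/
theorem schDominant_of_dense {Y : Scheme.{u}} [IsReduced Y] {ι : Type*} (Z : ι → Scheme.{u})
    (g : ∀ i, Z i ⟶ Y) (hd : Dense (⋃ i, Set.range (g i))) :
    ∀ (V : Y.Opens) (t : Γ(Y, V)), (∀ i, (g i).app V t = 0) → t = 0 := by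
  intro V t ht
  rw [← basicOpen_eq_bot_iff]
  by_contra hne
  have hne' : (Y.basicOpen t : Set Y).Nonempty := by
    rw [Set.nonempty_iff_ne_empty]
    intro h
    apply hne
    ext1
    simpa using h
  obtain ⟨y, hy, hy'⟩ := hd.inter_open_nonempty _ (Y.basicOpen t).2 hne'
  obtain ⟨i, z, rfl⟩ := Set.mem_iUnion.mp hy'
  have : z ∈ (g i) ⁻¹ᵁ Y.basicOpen t := hy
  rw [Scheme.preimage_basicOpen, ht i, Scheme.basicOpen_zero] at this
  exact this

end Groth.Agent.H21.RedClosure
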