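import Mathlib
import Groth.Agent.H21.RedClosure

set_option autoImplicit false
set_option linter.style.haveILetI false
universe u
open CategoryTheory AlgebraicGeometry CategoryTheory.Limits TopologicalSpace

namespace Groth.Agent.H21.RedClosure

open Scheme.IdealSheafData in
/-- **EGA IV 4.6.?**: the reduced closed subscheme on the closure of the union of images of
a family of reduced schemes commutes with base change `q`, provided the base changes of the
members of the family stay reduced. -/
theorem vanishingIdeal_closure_baseChange {k : Type u} [Field k] {X S' : Scheme.{u}}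
    (p : X ⟶ Spec (CommRingCat.of k)) (q : S' ⟶ Spec (CommRingCat.of k))
    {ι : Type u} (Z : ι → Scheme.{u}) (f : ∀ i, Z i ⟶ X)
    [∀ i, IsReduced (Z i)] [hZ' : ∀ i, IsReduced (pullback (f i ≫ p) q)] :
    vanishingIdeal (Closeds.closure (⋃ i, Set.range
      (pullback.map (f i ≫ p) q p q (f i) (𝟙 _) (𝟙 _) (Category.comp_id _)
        ((Category.comp_id _).trans (Category.id_comp _).symm)))) =
      (vanishingIdeal (Closeds.closure (⋃ i, Set.range (f i)))).comap (pullback.fst p q) := by
  set C : Closeds X := Closeds.closure (⋃ i, Set.range (f i)) with hC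
  set I := vanishingIdeal C with hI
  haveI : IsReduced I.subscheme := isReduced_subscheme_vanishingIdeal C
  have hker : ∀ i, I.subschemeι.ker ≤ (f i).ker := by
    intro i
    rw [ker_subschemeι, ← map_bot, ← Scheme.nilradical_eq_bot, ← vanishingIdeal_top,
      map_vanishingIdeal]
    apply vanishingIdeal_antimono
    rw [Closeds.closure_le]
    rintro _ ⟨z, -, rfl⟩
    exact subset_closure (Set.mem_iUnion.mpr ⟨i, z, rfl⟩)
  let g : ∀ i, Z i ⟶ I.subscheme := fun i => IsClosedImmersion.lift I.subschemeι (f i) (hker i)
  have hg : ∀ i, g i ≫ I.subschemeι = f i := fun i => IsClosedImmersion.lift_fac _ _ _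
  have hdense : Dense (⋃ i, Set.range (g i)) := by
    have hemb : Topology.IsClosedEmbedding I.subschemeι := I.subschemeι.isClosedEmbedding
    rw [dense_iff_closure_eq, hemb.isInducing.closure_eq_preimage_closure_image, Set.image_iUnion]
    have : ∀ i, I.subschemeι '' Set.range (g i) = Set.range (f i) := by
      intro i
      rw [← Set.range_comp, ← hg i]
      rfl
    simp_rw [this]
    rw [Set.eq_univ_iff_forall]
    intro y
    show I.subschemeι y ∈ (C : Set X)
    have h1 := I.range_subschemeι
    have h2 : (I.support : Set X) = C := coe_support_vanishingIdeal C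
    rw [← h2, ← h1]
    exact ⟨y, rfl⟩
  have hdom := schDominant_of_dense Z g hdense
  have hdom' := SchDom.schDominant_baseChange_field (I.subschemeι ≫ p) q Z g hdom
  set G : ∀ i, pullback (g i ≫ I.subschemeι ≫ p) q ⟶ pullback (I.subschemeι ≫ p) q :=
    fun i => pullback.map (g i ≫ I.subschemeι ≫ p) q (I.subschemeι ≫ p) q (g i) (𝟙 S') (𝟙 _)
      (Category.comp_id _) ((Category.comp_id _).trans (Category.id_comp _).symm) with hG
  let e : ∀ i, pullback (g i ≫ I.subschemeι ≫ p) q ≅ pullback (f i ≫ p) q := fun i =>
    pullback.congrHom (by rw [← Category.assoc, hg i]) rfl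
  haveI : ∀ i, IsReduced (pullback (g i ≫ I.subschemeι ≫ p) q) := fun i =>
    isReduced_of_isOpenImmersion (e i).hom
  haveI hW : IsReduced (pullback (I.subschemeι ≫ p) q) := isReduced_of_schDominant _ G hdom'
  have hGd : Dense (⋃ i, Set.range (G i)) := dense_of_schDominant _ G hdom'
  let j₀ : pullback (I.subschemeι ≫ p) q ⟶ pullback p q :=
    pullback.map _ _ _ _ I.subschemeι (𝟙 _) (𝟙 _) (by simp) (by simp)
  have hcomap : I.comap (pullback.fst p q) = j₀.ker := by
    let e' : pullback (pullback.fst p q) I.subschemeι ≅ pullback (I.subschemeι ≫ p) q :=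
      pullbackSymmetry _ _ ≪≫ pullbackRightPullbackFstIso p q I.subschemeι
    have : e'.hom ≫ j₀ = pullback.fst (pullback.fst p q) I.subschemeι := by
      apply pullback.hom_ext
      · simp only [e', j₀, pullback.map, Iso.trans_hom, Category.assoc]
        rw [pullback.lift_fst, pullbackRightPullbackFstIso_hom_fst_assoc,
          pullbackSymmetry_hom_comp_fst_assoc, pullback.condition]
      · simp only [e', j₀, pullback.map, Iso.trans_hom, Category.assoc]
        rw [pullback.lift_snd, Category.comp_id, pullbackRightPullbackFstIso_hom_snd,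
          pullbackSymmetry_hom_comp_snd_assoc]
    rw [Scheme.IdealSheafData.comap, ← this, Scheme.Hom.ker_comp_of_isIso]
  have hfac : ∀ i, G i ≫ j₀ = (e i).hom ≫ pullback.map (f i ≫ p) q p q (f i) (𝟙 _) (𝟙 _)
      (Category.comp_id _) ((Category.comp_id _).trans (Category.id_comp _).symm) := by
    intro i
    apply pullback.hom_ext
    · simp only [e, j₀, G, pullback.map, pullback.congrHom_hom, Category.assoc]
      rw [pullback.lift_fst, pullback.lift_fst, pullback.lift_fst_assoc, pullback.lift_fst_assoc,
        Category.assoc, hg, Category.comp_id]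
    · simp only [e, j₀, G, pullback.map, pullback.congrHom_hom, Category.assoc]
      rw [pullback.lift_snd, pullback.lift_snd, pullback.lift_snd_assoc, pullback.lift_snd_assoc]
  rw [hcomap, ← Scheme.IdealSheafData.map_bot, ← Scheme.nilradical_eq_bot, ← vanishingIdeal_top, map_vanishingIdeal]
  congr 1
  have hr : ∀ i, Set.range (pullback.map (f i ≫ p) q p q (f i) (𝟙 _) (𝟙 _)
      (Category.comp_id _) ((Category.comp_id _).trans (Category.id_comp _).symm)) =
      j₀ '' Set.range (G i) := by
    intro i
    rw [← Set.range_comp]
    have h1 : (j₀ : _ → _) ∘ (G i : _ → _) = ((G i ≫ j₀ : _ ⟶ _) : _ → _) := by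
      ext x; simp
    rw [h1, hfac i]
    have h2 : (((e i).hom ≫ pullback.map (f i ≫ p) q p q (f i) (𝟙 _) (𝟙 _)
      (Category.comp_id _) ((Category.comp_id _).trans (Category.id_comp _).symm) : _ ⟶ _) : _ → _)
        = (pullback.map (f i ≫ p) q p q (f i) (𝟙 _) (𝟙 _)
      (Category.comp_id _) ((Category.comp_id _).trans (Category.id_comp _).symm) : _ → _) ∘
        ((e i).hom : _ → _) := by
      ext x; simp
    rw [h2, Set.range_comp, Set.range_eq_univ.mpr (e i).hom.surjective, Set.image_univ]
  apply le_antisymm
  · rw [Closeds.closure_le]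
    apply Set.iUnion_subset
    intro i
    rw [hr i]
    exact (Set.image_mono (Set.subset_univ _)).trans subset_closure
  · rw [Closeds.closure_le]
    show j₀ '' (Set.univ) ⊆ closure _
    rw [← hGd.closure_eq]
    refine (image_closure_subset_closure_image j₀.continuous).trans ?_
    rw [Set.image_iUnion]
    simp_rw [← hr]
    exact le_rfl

end Groth.Agent.H21.RedClosure
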