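import Groth.Agent.H21.StdGraded
import Groth.Agent.H15.DepthOne
import Groth.Agent.H54.AffineDim
import Groth.Agent.H54.AffineDim2

/-!
# Depth one for Segre products with a one-dimensional factor (helper21)

General lemmas:
* `depth_localization_eq_one`: a maximal ideal `𝔫` of `T`, a regular `t₀ ∈ 𝔫`, and `t₁ ∉ (t₀)` with
  `𝔫^M t₁ ⊆ (t₀)` force `depth T_𝔫 = 1`.
* `le_ringKrullDim_localization_irrel`: for a graded `k`-algebra of finite type the localization at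
  the irrelevant ideal has the full dimension.
* `piece_le_irrel_pow`, `exists_irrel_pow_le_span`, `exists_mul_of_mem_of_large`: in a
  one-dimensional standard graded ring, `R_n ⊆ a R_{n-e}` for `n ≫ 0` and `a ∈ R_e` regular.
* `exists_regular_not_span`: if `R_1` is not spanned by one element there are `a, w ∈ R_E`, `a`
  regular, `w ∉ k a`.

Segre lemmas: `segre_hneg`, `segre_h0`, `tmul_regular`, `depth_segre_eq_one`.
-/

set_option autoImplicit false
set_option linter.style.haveILetI false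
universe u

open scoped TensorProduct

namespace Groth.Agent.H21.SegreDepth

open Groth.Agent.H21.SegreDim Groth.Agent.H21.GrInt

section DepthOne

theorem isSMulRegular_algebraMap_atPrime {T : Type u} [CommRing T] (𝔫 : Ideal T) [𝔫.IsPrime]
    {t₀ : T} (hreg : IsSMulRegular T t₀) :
    IsSMulRegular (Localization.AtPrime 𝔫) (algebraMap T (Localization.AtPrime 𝔫) t₀) := by
  have h1 : t₀ ∈ nonZeroDivisors T := by
    rw [mem_nonZeroDivisors_iff_right]
    intro x hx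
    apply hreg
    show t₀ * x = t₀ * 0
    rw [mul_zero, mul_comm]
    exact hx
  have h2 : algebraMap T (Localization.AtPrime 𝔫) t₀ ∈ nonZeroDivisors (Localization.AtPrime 𝔫) :=
    IsLocalization.map_nonZeroDivisors_le 𝔫.primeCompl (Localization.AtPrime 𝔫)
      (Submonoid.mem_map_of_mem _ h1)
  intro x y hxy
  have hxy' : algebraMap T (Localization.AtPrime 𝔫) t₀ * x =
      algebraMap T (Localization.AtPrime 𝔫) t₀ * y := hxy
  have h3 : (x - y) * algebraMap T (Localization.AtPrime 𝔫) t₀ = 0 := by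
    rw [mul_comm, mul_sub, hxy', sub_self]
  exact sub_eq_zero.mp ((mem_nonZeroDivisors_iff_right.mp h2) _ h3)

/-- If `t₀ ∈ 𝔫` is regular, `t₁ ∉ (t₀)` and `𝔫^M t₁ ⊆ (t₀)`, then `T_𝔫` has depth one. -/
theorem depth_localization_eq_one {T : Type u} [CommRing T] (𝔫 : Ideal T) [h𝔫 : 𝔫.IsMaximal]
    (t₀ t₁ : T) (ht₀ : t₀ ∈ 𝔫) (hreg : IsSMulRegular T t₀) (ht₁ : t₁ ∉ Ideal.span {t₀}) (M : ℕ)
    (hM : ∀ v ∈ 𝔫 ^ M, v * t₁ ∈ Ideal.span {t₀}) :
    LocCoh.depth (Localization.AtPrime 𝔫) (Localization.AtPrime 𝔫) = 1 := by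
  classical
  have hex : ∃ N, ∀ v ∈ 𝔫 ^ N, v * t₁ ∈ Ideal.span {t₀} := ⟨M, hM⟩
  have hN1 : Nat.find hex ≠ 0 := by
    intro h0
    have h1 := Nat.find_spec hex
    rw [h0, pow_zero, Ideal.one_eq_top] at h1
    apply ht₁
    have h2 := h1 1 trivial
    rwa [one_mul] at h2
  obtain ⟨N, hN⟩ := Nat.exists_eq_succ_of_ne_zero hN1
  have hnot : ¬ ∀ v ∈ 𝔫 ^ N, v * t₁ ∈ Ideal.span {t₀} := Nat.find_min hex (by omega)
  push Not at hnot
  obtain ⟨u, hu, hut⟩ := hnot
  have hsucc : ∀ v ∈ 𝔫 ^ (N + 1), v * t₁ ∈ Ideal.span {t₀} := by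
    have h1 := Nat.find_spec hex
    rwa [hN] at h1
  obtain ⟨e₀, he₀⟩ : ∃ e₀ : T, e₀ = u * t₁ := ⟨_, rfl⟩
  rw [← he₀] at hut
  have hsoc : ∀ v ∈ 𝔫, v * e₀ ∈ Ideal.span {t₀} := by
    intro v hv
    rw [he₀, ← mul_assoc]
    apply hsucc
    rw [pow_succ']
    exact Ideal.mul_mem_mul hv hu
  have hcolon : ∀ σ : T, σ * e₀ ∈ Ideal.span {t₀} → σ ∈ 𝔫 := by
    intro σ hσ
    by_contra hσn
    obtain ⟨r, μ, hμ, hr⟩ := h𝔫.exists_inv hσn
    apply hut
    have h1 : e₀ = r * (σ * e₀) + μ * e₀ := by rw [← mul_assoc, ← add_mul, hr, one_mul]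
    rw [h1]
    exact Ideal.add_mem _ (Ideal.mul_mem_left _ _ hσ) (hsoc μ hμ)
  haveI : 𝔫.IsPrime := h𝔫.isPrime
  refine Groth.Agent.H15.DepthOne.depth_eq_one (Localization.AtPrime 𝔫)
    (algebraMap T (Localization.AtPrime 𝔫) t₀)
    ((IsLocalization.AtPrime.to_map_mem_maximal_iff (Localization.AtPrime 𝔫) 𝔫 t₀).mpr ht₀)
    (isSMulRegular_algebraMap_atPrime 𝔫 hreg)
    ⟨algebraMap T (Localization.AtPrime 𝔫) e₀, ?_, ?_⟩
  · intro hmem
    obtain ⟨y, hy⟩ := (Groth.Agent.H15.DepthOne.mem_smul_top_iff _ _).mp hmem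
    obtain ⟨y₀, s, rfl⟩ := IsLocalization.exists_mk'_eq 𝔫.primeCompl y
    rw [smul_eq_mul, IsLocalization.mul_mk'_eq_mk'_of_mul, IsLocalization.mk'_eq_iff_eq_mul,
      ← map_mul] at hy
    obtain ⟨c, hc⟩ := (IsLocalization.eq_iff_exists 𝔫.primeCompl (Localization.AtPrime 𝔫)).mp hy
    have h1 : ((c : T) * (s : T)) * e₀ ∈ Ideal.span {t₀} := by
      rw [Ideal.mem_span_singleton']
      refine ⟨(c : T) * y₀, ?_⟩
      rw [mul_assoc, mul_assoc, mul_comm (s : T) e₀, ← hc]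
      ring
    exact (c * s).2 (hcolon _ h1)
  · intro t ht
    obtain ⟨v, s, rfl⟩ := IsLocalization.exists_mk'_eq 𝔫.primeCompl t
    have hv : v ∈ 𝔫 :=
      (IsLocalization.AtPrime.mk'_mem_maximal_iff (Localization.AtPrime 𝔫) 𝔫 v s).mp ht
    obtain ⟨c, hc⟩ := Ideal.mem_span_singleton'.mp (hsoc v hv)
    rw [Groth.Agent.H15.DepthOne.mem_smul_top_iff]
    refine ⟨IsLocalization.mk' (Localization.AtPrime 𝔫) c s, ?_⟩
    rw [smul_eq_mul, smul_eq_mul, IsLocalization.mul_mk'_eq_mk'_of_mul,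
      mul_comm (IsLocalization.mk' (Localization.AtPrime 𝔫) v s),
      IsLocalization.mul_mk'_eq_mk'_of_mul, mul_comm t₀ c, hc, mul_comm]

end DepthOne

section Graded

variable {k : Type u} [Field k] {R : Type u} [CommRing R] [Algebra k R]
  (𝒜 : ℤ → Submodule k R) [GradedAlgebra 𝒜]
  (hneg : ∀ n : ℤ, n < 0 → 𝒜 n = ⊥) (h0 : 𝒜 0 = Submodule.span k {(1 : R)})
  (hstd : Ideal.span (⋃ n ∈ Set.Ioi (0 : ℤ), (𝒜 n : Set R)) =
    Ideal.span ((𝒜 1 : Submodule k R) : Set R))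

include h0 in
/-- The localization of a graded `k`-algebra of finite type at its irrelevant ideal has the full
dimension. -/
theorem le_ringKrullDim_localization_irrel [Algebra.FiniteType k R] [Nontrivial R]
    [(irrel 𝒜 hneg).IsPrime] (n : ℕ) (hn : (n : WithBot ℕ∞) ≤ ringKrullDim R) :
    (n : WithBot ℕ∞) ≤ ringKrullDim (Localization.AtPrime (irrel 𝒜 hneg)) := by
  classical
  haveI : IsNoetherianRing R := Algebra.FiniteType.isNoetherianRing k R
  haveI hqmax : (irrel 𝒜 hneg).IsMaximal := irrel_isMaximal 𝒜 hneg h0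
  have hn' : (n : WithBot ℕ∞) ≤ ringKrullDim (R ⧸ (⊥ : Ideal R)) := by
    rw [ringKrullDim_eq_of_ringEquiv (RingEquiv.quotientBot R)]
    exact hn
  obtain ⟨p', hp'min, hp'dim⟩ := exists_minimalPrimes_le_ringKrullDim _ n hn'
  haveI hp'prime : p'.IsPrime := hp'min.1.1
  have hp'hom : p'.IsHomogeneous 𝒜 :=
    isHomogeneous_of_mem_minimalPrimes 𝒜 (Ideal.IsHomogeneous.bot 𝒜) hp'min
  have hp'q : p' ≤ irrel 𝒜 hneg := le_irrel_of_isHomogeneous 𝒜 hneg h0 hp'hom hp'prime.ne_top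
  have h4 := ringKrullDim_localization_quotient_map (irrel 𝒜 hneg) p' hp'q
  haveI : IsDomain (R ⧸ p') := Ideal.Quotient.isDomain p'
  haveI : Algebra.FiniteType k (R ⧸ p') :=
    Algebra.FiniteType.of_surjective (Ideal.Quotient.mkₐ k p') (Ideal.Quotient.mkₐ_surjective k p')
  haveI : ((irrel 𝒜 hneg).map (Ideal.Quotient.mk p')).IsMaximal := by
    have hsurj : Function.Surjective (Ideal.Quotient.mk p') := Ideal.Quotient.mk_surjective
    rcases Ideal.map_eq_top_or_isMaximal_of_surjective (Ideal.Quotient.mk p') hsurj hqmax with h | h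
    · exfalso
      have hker : RingHom.ker (Ideal.Quotient.mk p') ≤ irrel 𝒜 hneg := by
        rw [Ideal.mk_ker]; exact hp'q
      haveI := Ideal.map_isPrime_of_surjective hsurj hker
      exact Ideal.IsPrime.ne_top' h
    · exact h
  have h5 := Groth.Agent.H54.height_eq_ringKrullDim_of_isMaximal k (R ⧸ p')
    ((irrel 𝒜 hneg).map (Ideal.Quotient.mk p'))
  calc (n : WithBot ℕ∞) ≤ ringKrullDim (R ⧸ p') := hp'dim
    _ = ((((irrel 𝒜 hneg).map (Ideal.Quotient.mk p')).height : ℕ∞) : WithBot ℕ∞) := h5.symm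
    _ = ringKrullDim (Localization.AtPrime (irrel 𝒜 hneg) ⧸
          p'.map (algebraMap R (Localization.AtPrime (irrel 𝒜 hneg)))) := h4.symm
    _ ≤ ringKrullDim (Localization.AtPrime (irrel 𝒜 hneg)) := ringKrullDim_quotient_le _

include hstd in
/-- In a standard graded ring `R_m ⊆ 𝔪^m`. -/
theorem piece_le_irrel_pow (m : ℕ) {y : R} (hy : y ∈ 𝒜 (m : ℤ)) : y ∈ irrel 𝒜 hneg ^ m := by
  classical
  induction m generalizing y with
  | zero =>
    rw [pow_zero, Ideal.one_eq_top]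
    trivial
  | succ m ih =>
    rw [Nat.cast_succ] at hy
    have hyI : y ∈ Ideal.span ((𝒜 1 : Submodule k R) : Set R) := by
      rw [← hstd]
      exact Ideal.subset_span (Set.mem_biUnion (Set.mem_Ioi.mpr (by omega)) hy)
    obtain ⟨N, f, g, hsum⟩ := Submodule.mem_span_set'.mp hyI
    have hy' : ((DirectSum.decompose 𝒜 y ((m : ℤ) + 1) : 𝒜 ((m : ℤ) + 1)) : R) = y :=
      DirectSum.decompose_of_mem_same 𝒜 hy
    rw [← hy', ← hsum, DirectSum.decompose_sum, DirectSum.sum_apply, Submodule.coe_sum]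
    refine Ideal.sum_mem _ fun i _ => ?_
    rw [smul_eq_mul, DirectSum.coe_decompose_mul_add_of_right_mem 𝒜 (g i).2, pow_succ]
    exact Ideal.mul_mem_mul (ih (SetLike.coe_mem _))
      (mem_irrel_of_mem_pos 𝒜 hneg one_pos (g i).2)

include h0 in
/-- In a graded ring of dimension at most one, a power of the irrelevant ideal lies in the ideal
generated by a homogeneous non-zero-divisor. -/
theorem exists_irrel_pow_le_span [IsNoetherianRing R] [Nontrivial R] (hdim : ringKrullDim R ≤ 1)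
    {e : ℤ} {a : R} (ha : a ∈ 𝒜 e) (hreg : IsSMulRegular R a) :
    ∃ N : ℕ, irrel 𝒜 hneg ^ N ≤ Ideal.span {a} := by
  classical
  haveI hmax : (irrel 𝒜 hneg).IsMaximal := irrel_isMaximal 𝒜 hneg h0
  haveI hprime : (irrel 𝒜 hneg).IsPrime := hmax.isPrime
  have hanzd : a ∈ nonZeroDivisors R := by
    rw [mem_nonZeroDivisors_iff_right]
    intro x hx
    apply hreg
    show a * x = a * 0
    rw [mul_zero, mul_comm]
    exact hx
  apply Ideal.exists_pow_le_of_le_radical_of_fg _ (IsNoetherian.noetherian _)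
  rw [← Ideal.sInf_minimalPrimes]
  apply le_sInf
  intro P hP
  haveI hPprime : P.IsPrime := hP.1.1
  have haP : a ∈ P := hP.1.2 (Ideal.subset_span rfl)
  have hspanhom : (Ideal.span {a}).IsHomogeneous 𝒜 := by
    apply Ideal.homogeneous_span
    rintro x rfl
    exact ⟨e, ha⟩
  have hPhom : P.IsHomogeneous 𝒜 := isHomogeneous_of_mem_minimalPrimes 𝒜 hspanhom hP
  have hPle : P ≤ irrel 𝒜 hneg := le_irrel_of_isHomogeneous 𝒜 hneg h0 hPhom hPprime.ne_top
  obtain ⟨Q, hQmin, hQP⟩ := Ideal.exists_minimalPrimes_le (bot_le : (⊥ : Ideal R) ≤ P)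
  haveI hQprime : Q.IsPrime := hQmin.1.1
  have haQ : a ∉ Q := fun haQ =>
    Set.disjoint_left.mp (Ideal.disjoint_nonZeroDivisors_of_mem_minimalPrimes hQmin) haQ hanzd
  have hQltP : Q < P := lt_of_le_of_ne hQP (by rintro rfl; exact haQ haP)
  by_contra hne
  have hPlt : P < irrel 𝒜 hneg := lt_of_le_of_ne hPle (fun h => hne (h ▸ le_rfl))
  have h1 := Ideal.height_add_one_le_of_lt_of_isPrime hQltP
  have h2 := Ideal.height_add_one_le_of_lt_of_isPrime hPlt
  have h3 : ((irrel 𝒜 hneg).height : WithBot ℕ∞) ≤ ringKrullDim R :=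
    Ideal.height_le_ringKrullDim_of_ne_top hmax.ne_top
  have h4 : (2 : ℕ∞) ≤ (irrel 𝒜 hneg).height := by
    calc (2 : ℕ∞) = 0 + 1 + 1 := by norm_num
      _ ≤ Q.height + 1 + 1 := by gcongr; exact bot_le
      _ ≤ P.height + 1 := by gcongr
      _ ≤ _ := h2
  have h5 : ((2 : ℕ∞) : WithBot ℕ∞) ≤ 1 := (WithBot.coe_le_coe.mpr h4).trans (h3.trans hdim)
  have h6 : (2 : ℕ∞) ≤ 1 := by exact_mod_cast h5
  exact absurd h6 (by decide)

include hneg h0 hstd in
/-- In a one-dimensional standard graded ring, `R_n ⊆ a R_{n-e}` for `n ≫ 0`. -/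
theorem exists_mul_of_mem_of_large [IsNoetherianRing R] [Nontrivial R] (hdim : ringKrullDim R ≤ 1)
    {e : ℤ} {a : R} (ha : a ∈ 𝒜 e) (hreg : IsSMulRegular R a) :
    ∃ N : ℕ, ∀ n : ℤ, (N : ℤ) ≤ n → ∀ y ∈ 𝒜 n, ∃ r ∈ 𝒜 (n - e), y = a * r := by
  classical
  obtain ⟨N, hN⟩ := exists_irrel_pow_le_span 𝒜 hneg h0 hdim ha hreg
  refine ⟨N, fun n hn y hy => ?_⟩
  obtain ⟨m, rfl⟩ : ∃ m : ℕ, n = m :=
    ⟨n.toNat, (Int.toNat_of_nonneg (le_trans (Int.natCast_nonneg N) hn)).symm⟩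
  have hNm : N ≤ m := by exact_mod_cast hn
  have h1 : y ∈ irrel 𝒜 hneg ^ m := piece_le_irrel_pow 𝒜 hneg hstd m hy
  have h2 : y ∈ Ideal.span {a} := hN (Ideal.pow_le_pow_right hNm h1)
  obtain ⟨r', hr'⟩ := Ideal.mem_span_singleton'.mp h2
  refine ⟨((DirectSum.decompose 𝒜 r' ((m : ℤ) - e) : 𝒜 ((m : ℤ) - e)) : R), SetLike.coe_mem _, ?_⟩
  have h3 : ((DirectSum.decompose 𝒜 y (m : ℤ) : 𝒜 (m : ℤ)) : R) = y :=
    DirectSum.decompose_of_mem_same 𝒜 hy
  have h4 := DirectSum.coe_decompose_mul_add_of_left_mem 𝒜 (i := e) (j := (m : ℤ) - e) (b := r') ha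
  have e1 : e + ((m : ℤ) - e) = (m : ℤ) := by ring
  rw [e1, mul_comm a r', hr', h3] at h4
  exact h4

include h0 hstd in
/-- If the degree-one piece of a standard graded ring (whose irrelevant ideal is not an associated
prime) is not spanned by a single element, there are `a, w` of the same positive degree with `a`
regular and `w ∉ k a`. -/
theorem exists_regular_not_span [IsNoetherianRing R] [Nontrivial R]
    (hass : irrel 𝒜 hneg ∉ associatedPrimes R R)
    (hnp : ¬ ∃ x : R, 𝒜 1 = Submodule.span k {x}) :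
    ∃ (E : ℕ) (a w : R), 0 < E ∧ a ∈ 𝒜 (E : ℤ) ∧ IsSMulRegular R a ∧ w ∈ 𝒜 (E : ℤ) ∧
      w ∉ Submodule.span k {a} := by
  classical
  obtain ⟨e, a, he, ha, hreg⟩ := exists_homogeneous_regular 𝒜 hneg h0 hass
  obtain ⟨E, rfl⟩ : ∃ E : ℕ, e = E := ⟨e.toNat, (Int.toNat_of_nonneg he.le).symm⟩
  have hE : 0 < E := by exact_mod_cast he
  by_cases hspan : 𝒜 (E : ℤ) = Submodule.span k {a}
  · by_cases hl : ∃ l ∈ 𝒜 1, l ^ E ≠ 0
    · obtain ⟨l, hl1, hlE⟩ := hl
      have h1 : l ^ E ∈ 𝒜 (E : ℤ) := by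
        have h2 := SetLike.pow_mem_graded E hl1
        rwa [nsmul_eq_mul, mul_one] at h2
      rw [hspan] at h1
      obtain ⟨c, hc⟩ := Submodule.mem_span_singleton.mp h1
      have hc0 : c ≠ 0 := by
        rintro rfl
        rw [zero_smul] at hc
        exact hlE hc.symm
      have hlreg : IsSMulRegular R l := by
        rw [← IsSMulRegular.pow_iff hE, ← hc]
        intro x y hxy
        have h3 : c • (a * x) = c • (a * y) := by
          have h4 : (c • a) * x = (c • a) * y := hxy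
          rwa [smul_mul_assoc, smul_mul_assoc] at h4
        have h5 : a * x = a * y := by
          have h6 := congrArg (fun z => c⁻¹ • z) h3
          simpa [smul_smul, inv_mul_cancel₀ hc0] using h6
        exact hreg h5
      have hne : ¬ 𝒜 1 = Submodule.span k {l} := fun h => hnp ⟨l, h⟩
      have hle : Submodule.span k {l} ≤ 𝒜 1 := by
        rw [Submodule.span_le, Set.singleton_subset_iff]
        exact hl1
      obtain ⟨w, hw1, hwl⟩ := SetLike.exists_of_lt (lt_of_le_of_ne hle (Ne.symm hne))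
      refine ⟨1, l, w, one_pos, ?_, hlreg, ?_, hwl⟩
      · rw [Nat.cast_one]; exact hl1
      · rw [Nat.cast_one]; exact hw1
    · push Not at hl
      exfalso
      have hnil : irrel 𝒜 hneg ≤ nilradical R := by
        rw [irrel_eq_span, hstd, Ideal.span_le]
        intro l hl1
        exact ⟨E, hl l hl1⟩
      have ha_irr : a ∈ irrel 𝒜 hneg := mem_irrel_of_mem_pos 𝒜 hneg he ha
      obtain ⟨M, hM⟩ := hnil ha_irr
      have h1 : IsSMulRegular R (a ^ M) := hreg.pow M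
      have h2 : (1 : R) = 0 := by
        apply h1
        show a ^ M * 1 = a ^ M * 0
        rw [hM, zero_mul, zero_mul]
      exact one_ne_zero h2
  · have hle : Submodule.span k {a} ≤ 𝒜 (E : ℤ) := by
      rw [Submodule.span_le, Set.singleton_subset_iff]
      exact ha
    obtain ⟨w, hw, hwa⟩ := SetLike.exists_of_lt (lt_of_le_of_ne hle (Ne.symm hspan))
    exact ⟨E, a, w, hE, ha, hreg, hw, hwa⟩

/-- Raising the data `(a, w)` of degree `E` to degree `E * E'`. -/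
theorem pow_data {E : ℕ} {a w : R} (ha : a ∈ 𝒜 (E : ℤ)) (hreg : IsSMulRegular R a)
    (hw : w ∈ 𝒜 (E : ℤ)) (hwa : w ∉ Submodule.span k {a}) (E' : ℕ) (hE' : 0 < E') :
    a ^ E' ∈ 𝒜 ((E * E' : ℕ) : ℤ) ∧ IsSMulRegular R (a ^ E') ∧
      a ^ (E' - 1) * w ∈ 𝒜 ((E * E' : ℕ) : ℤ) ∧
      a ^ (E' - 1) * w ∉ Submodule.span k {a ^ E'} := by
  obtain ⟨E'', rfl⟩ : ∃ E'', E' = E'' + 1 := ⟨E' - 1, by omega⟩
  rw [Nat.add_sub_cancel]
  refine ⟨?_, hreg.pow _, ?_, ?_⟩
  · have h1 := SetLike.pow_mem_graded (E'' + 1) ha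
    have e1 : (E'' + 1) • (E : ℤ) = ((E * (E'' + 1) : ℕ) : ℤ) := by
      rw [nsmul_eq_mul]; push_cast; ring
    rwa [e1] at h1
  · have h1 := SetLike.mul_mem_graded (SetLike.pow_mem_graded E'' ha) hw
    have e1 : E'' • (E : ℤ) + (E : ℤ) = ((E * (E'' + 1) : ℕ) : ℤ) := by
      rw [nsmul_eq_mul]; push_cast; ring
    rwa [e1] at h1
  · intro hmem
    obtain ⟨c, hc⟩ := Submodule.mem_span_singleton.mp hmem
    apply hwa
    have h1 : a ^ E'' * (c • a) = a ^ E'' * w := by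
      rw [mul_smul_comm, ← pow_succ, hc]
    have h2 : c • a = w := (hreg.pow E'') h1
    rw [← h2]
    exact Submodule.smul_mem _ _ (Submodule.mem_span_singleton_self a)

end Graded

section Segre

variable {k : Type u} [Field k] {R : Type u} [CommRing R] [Algebra k R]
  (𝒜 : ℤ → Submodule k R) [GradedAlgebra 𝒜]
  {S : Type u} [CommRing S] [Algebra k S] (ℬ : ℤ → Submodule k S) [GradedAlgebra ℬ]
  {T : Type u} [CommRing T] [Algebra k T] (𝒯 : ℤ → Submodule k T) [GradedAlgebra 𝒯]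
  (ψ : T →ₐ[k] R ⊗[k] S) (hψ : Function.Injective ψ)
  (hdegT : ∀ n : ℤ, (𝒯 n).map ψ.toLinearMap =
    Submodule.span k {x : R ⊗[k] S | ∃ a ∈ 𝒜 n, ∃ b ∈ ℬ n, x = a ⊗ₜ[k] b})

include hψ hdegT in
theorem segre_hneg (hposR : ∀ n : ℤ, n < 0 → 𝒜 n = ⊥) : ∀ n : ℤ, n < 0 → 𝒯 n = ⊥ := by
  intro n hn
  have h1 := hdegT n
  have h2 : Submodule.span k {x : R ⊗[k] S | ∃ a ∈ 𝒜 n, ∃ b ∈ ℬ n, x = a ⊗ₜ[k] b} = ⊥ := by
    rw [Submodule.span_eq_bot]
    rintro x ⟨a, ha, b, hb, rfl⟩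
    rw [hposR n hn] at ha
    rw [(Submodule.mem_bot k).mp ha, TensorProduct.zero_tmul]
  rw [h2] at h1
  rw [eq_bot_iff]
  intro t ht
  have h3 : ψ t ∈ (𝒯 n).map ψ.toLinearMap := Submodule.mem_map.mpr ⟨t, ht, rfl⟩
  rw [h1] at h3
  have h4 : ψ t = 0 := (Submodule.mem_bot k).mp h3
  rw [Submodule.mem_bot]
  exact hψ (by rw [h4, map_zero])

include hψ hdegT in
theorem segre_h0 (h0R : 𝒜 0 = Submodule.span k {(1 : R)})
    (h0S : ℬ 0 = Submodule.span k {(1 : S)}) : 𝒯 0 = Submodule.span k {(1 : T)} := by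
  apply le_antisymm
  · intro t ht
    have h1 : ψ t ∈ (𝒯 0).map ψ.toLinearMap := Submodule.mem_map.mpr ⟨t, ht, rfl⟩
    rw [hdegT 0] at h1
    have h2 : Submodule.span k {x : R ⊗[k] S | ∃ a ∈ 𝒜 0, ∃ b ∈ ℬ 0, x = a ⊗ₜ[k] b} ≤
        Submodule.span k {(1 : R ⊗[k] S)} := by
      rw [Submodule.span_le]
      rintro x ⟨a, ha, b, hb, rfl⟩
      rw [h0R] at ha
      rw [h0S] at hb
      obtain ⟨α, rfl⟩ := Submodule.mem_span_singleton.mp ha
      obtain ⟨β, rfl⟩ := Submodule.mem_span_singleton.mp hb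
      rw [TensorProduct.smul_tmul_smul, ← Algebra.TensorProduct.one_def]
      exact Submodule.smul_mem _ _ (Submodule.subset_span rfl)
    obtain ⟨c, hc⟩ := Submodule.mem_span_singleton.mp (h2 h1)
    have h3 : t = c • (1 : T) := hψ (by rw [map_smul, map_one, hc])
    rw [h3]
    exact Submodule.smul_mem _ _ (Submodule.subset_span rfl)
  · rw [Submodule.span_le, Set.singleton_subset_iff]
    exact SetLike.GradedOne.one_mem

include hdegT in
theorem map_mem_span {n : ℤ} {t : T} (ht : t ∈ 𝒯 n) :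
    ψ t ∈ Submodule.span k {x : R ⊗[k] S | ∃ a ∈ 𝒜 n, ∃ b ∈ ℬ n, x = a ⊗ₜ[k] b} := by
  rw [← hdegT n]
  exact Submodule.mem_map.mpr ⟨t, ht, rfl⟩

include hdegT in
theorem exists_of_mem_span {n : ℤ} {y : R ⊗[k] S}
    (hy : y ∈ Submodule.span k {x : R ⊗[k] S | ∃ a ∈ 𝒜 n, ∃ b ∈ ℬ n, x = a ⊗ₜ[k] b}) :
    ∃ t ∈ 𝒯 n, ψ t = y := by
  rw [← hdegT n] at hy
  obtain ⟨t, ht, hty⟩ := Submodule.mem_map.mp hy
  exact ⟨t, ht, hty⟩

include hdegT in
theorem exists_of_tmul {n : ℤ} {a : R} {b : S} (ha : a ∈ 𝒜 n) (hb : b ∈ ℬ n) :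
    ∃ t ∈ 𝒯 n, ψ t = a ⊗ₜ[k] b :=
  exists_of_mem_span 𝒜 ℬ 𝒯 ψ hdegT (Submodule.subset_span ⟨a, ha, b, hb, rfl⟩)

/-- The tensor of two non-zero-divisors is a non-zero-divisor on `R ⊗[k] S`. -/
theorem tmul_regular {a : R} {b : S} (ha : IsSMulRegular R a) (hb : IsSMulRegular S b) :
    IsSMulRegular (R ⊗[k] S) (a ⊗ₜ[k] b) := by
  have ha' : Function.Injective (LinearMap.mulLeft k a) := fun x y hxy => ha hxy
  have hb' : Function.Injective (LinearMap.mulLeft k b) := fun x y hxy => hb hxy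
  have h : Function.Injective
      (TensorProduct.map (LinearMap.mulLeft k a) (LinearMap.mulLeft k b)) :=
    TensorProduct.map_injective_of_flat_flat _ _ ha' hb'
  have key : ∀ z : R ⊗[k] S,
      TensorProduct.map (LinearMap.mulLeft k a) (LinearMap.mulLeft k b) z = (a ⊗ₜ[k] b) * z := by
    intro z
    induction z using TensorProduct.induction_on with
    | zero => rw [map_zero, mul_zero]
    | tmul r s =>
      rw [TensorProduct.map_tmul, LinearMap.mulLeft_apply, LinearMap.mulLeft_apply,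
        Algebra.TensorProduct.tmul_mul_tmul]
    | add z w hz hw => rw [map_add, hz, hw, mul_add]
  intro x y hxy
  apply h
  rw [key, key]
  exact hxy

/-- A functional on `S` picking out the coefficient of `1`. -/
theorem exists_functional [Nontrivial S] :
    ∃ lam : S →ₗ[k] k, lam 1 = 1 ∧ ∀ n : ℤ, n ≠ 0 → ∀ b ∈ ℬ n, lam b = 0 := by
  classical
  have hker : LinearMap.ker (LinearMap.toSpanSingleton k S 1) = ⊥ :=
    LinearMap.ker_toSpanSingleton k one_ne_zero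
  obtain ⟨g, hg⟩ := LinearMap.exists_leftInverse_of_injective _ hker
  refine ⟨g ∘ₗ GradedAlgebra.proj ℬ 0, ?_, ?_⟩
  · rw [LinearMap.comp_apply, GradedAlgebra.proj_apply,
      DirectSum.decompose_of_mem_same ℬ SetLike.GradedOne.one_mem]
    have h1 := LinearMap.congr_fun hg 1
    simpa using h1
  · intro n hn b hb
    rw [LinearMap.comp_apply, GradedAlgebra.proj_apply,
      DirectSum.decompose_of_mem_ne ℬ hb hn, map_zero]

/-- Contraction of `R ⊗ S` against a functional on `S`. -/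
noncomputable def Lam (lam : S →ₗ[k] k) : R ⊗[k] S →ₗ[k] R :=
  (TensorProduct.rid k R).toLinearMap ∘ₗ LinearMap.lTensor R lam

theorem Lam_tmul (lam : S →ₗ[k] k) (r : R) (s : S) :
    Lam (R := R) lam (r ⊗ₜ[k] s) = lam s • r := by
  simp [Lam]

theorem Lam_mul_left (lam : S →ₗ[k] k) (a : R) (y : R ⊗[k] S) :
    Lam lam ((a ⊗ₜ[k] (1 : S)) * y) = a * Lam lam y := by
  induction y using TensorProduct.induction_on with
  | zero => rw [mul_zero, map_zero, mul_zero]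
  | tmul r s =>
    rw [Algebra.TensorProduct.tmul_mul_tmul, one_mul, Lam_tmul, Lam_tmul, mul_smul_comm]
  | add y z hy hz => rw [mul_add, map_add, hy, hz, map_add, mul_add]

include hdegT in
theorem Lam_map_mem (h0R : 𝒜 0 = Submodule.span k {(1 : R)}) (lam : S →ₗ[k] k)
    (hlam0 : ∀ n : ℤ, n ≠ 0 → ∀ b ∈ ℬ n, lam b = 0) (t : T) :
    Lam lam (ψ t) ∈ Submodule.span k {(1 : R)} := by
  classical
  rw [← DirectSum.sum_support_decompose 𝒯 t, map_sum, map_sum]
  refine Submodule.sum_mem _ fun n _ => ?_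
  have h1 := map_mem_span 𝒜 ℬ 𝒯 ψ hdegT (SetLike.coe_mem (DirectSum.decompose 𝒯 t n))
  have hle : Submodule.span k {x : R ⊗[k] S | ∃ a ∈ 𝒜 n, ∃ b ∈ ℬ n, x = a ⊗ₜ[k] b} ≤
      (Submodule.span k {(1 : R)}).comap (Lam lam) := by
    rw [Submodule.span_le]
    rintro _ ⟨a, ha, b, hb, rfl⟩
    show Lam lam (a ⊗ₜ[k] b) ∈ Submodule.span k {(1 : R)}
    rw [Lam_tmul]
    by_cases hn : n = 0
    · subst hn
      rw [h0R] at ha
      exact Submodule.smul_mem _ _ ha
    · rw [hlam0 n hn b hb, zero_smul]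
      exact zero_mem _
  exact hle h1

include hψ hdegT in
/-- The key depth computation: the localization of the Segre product at its irrelevant ideal has
depth one as soon as `R` has a regular `a ∈ R_D` with `R_n ⊆ a R_{n-D}` for `n ≫ 0`, some
`w ∈ R_D ∖ k a`, and `S` has a regular element of degree `D`. -/
theorem depth_segre_eq_one (hnegT : ∀ n : ℤ, n < 0 → 𝒯 n = ⊥)
    [h𝔫 : (irrel 𝒯 hnegT).IsMaximal]
    (h0R : 𝒜 0 = Submodule.span k {(1 : R)}) [Nontrivial S]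
    {D : ℕ} (hD : 0 < D) {a w : R} {b : S}
    (ha : a ∈ 𝒜 (D : ℤ)) (hareg : IsSMulRegular R a) (hw : w ∈ 𝒜 (D : ℤ))
    (hwa : w ∉ Submodule.span k {a}) (hb : b ∈ ℬ (D : ℤ)) (hbreg : IsSMulRegular S b)
    (N₀ : ℕ) (hN₀ : ∀ n : ℤ, (N₀ : ℤ) ≤ n → ∀ y ∈ 𝒜 n, ∃ r ∈ 𝒜 (n - D), y = a * r) :
    LocCoh.depth (Localization.AtPrime (irrel 𝒯 hnegT))
      (Localization.AtPrime (irrel 𝒯 hnegT)) = 1 := by
  classical
  obtain ⟨t₀, ht₀D, ht₀⟩ := exists_of_tmul 𝒜 ℬ 𝒯 ψ hdegT ha hb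
  obtain ⟨t₁, ht₁D, ht₁⟩ := exists_of_tmul 𝒜 ℬ 𝒯 ψ hdegT hw hb
  have hregU : IsSMulRegular (R ⊗[k] S) (a ⊗ₜ[k] b) := tmul_regular hareg hbreg
  have hreg : IsSMulRegular T t₀ := by
    intro x y hxy
    apply hψ
    apply hregU
    show (a ⊗ₜ[k] b) * ψ x = (a ⊗ₜ[k] b) * ψ y
    rw [← ht₀, ← map_mul, ← map_mul]
    exact congrArg ψ hxy
  have hDpos : (0 : ℤ) < (D : ℤ) := by exact_mod_cast hD
  apply depth_localization_eq_one (irrel 𝒯 hnegT) t₀ t₁
    (mem_irrel_of_mem_pos 𝒯 hnegT hDpos ht₀D) hreg ?_ N₀ ?_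
  · intro hmem
    obtain ⟨t', ht'⟩ := Ideal.mem_span_singleton'.mp hmem
    obtain ⟨lam, hlam1, hlam0⟩ := exists_functional (k := k) ℬ
    have h1 : ((1 : R) ⊗ₜ[k] b) * (w ⊗ₜ[k] (1 : S)) =
        ((1 : R) ⊗ₜ[k] b) * ((a ⊗ₜ[k] (1 : S)) * ψ t') := by
      rw [← mul_assoc, Algebra.TensorProduct.tmul_mul_tmul, Algebra.TensorProduct.tmul_mul_tmul]
      simp only [one_mul, mul_one]
      rw [← ht₁, ← ht₀, ← map_mul, ← ht', mul_comm]
    have h2 : (w ⊗ₜ[k] (1 : S) : R ⊗[k] S) = (a ⊗ₜ[k] (1 : S)) * ψ t' :=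
      tmul_regular (IsSMulRegular.one (M := R) (R := R)) hbreg h1
    have h3 := congrArg (Lam lam) h2
    rw [Lam_tmul, hlam1, one_smul, Lam_mul_left] at h3
    obtain ⟨c, hc⟩ := Submodule.mem_span_singleton.mp
      (Lam_map_mem 𝒜 ℬ 𝒯 ψ hdegT h0R lam hlam0 t')
    apply hwa
    rw [h3, ← hc, mul_smul_comm, mul_one]
    exact Submodule.smul_mem _ _ (Submodule.mem_span_singleton_self a)
  · intro v hv
    have hv' := irrel_pow_le_irrelGE 𝒯 hnegT N₀ hv
    have key : ∀ i : ℤ, (N₀ : ℤ) ≤ i →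
        ∀ y ∈ Submodule.span k {x : R ⊗[k] S | ∃ a ∈ 𝒜 i, ∃ b ∈ ℬ i, x = a ⊗ₜ[k] b},
          ∃ t'' : T, y * (w ⊗ₜ[k] b) = (a ⊗ₜ[k] b) * ψ t'' := by
      intro i hi y hy
      induction hy using Submodule.span_induction with
      | mem y hy =>
        obtain ⟨a', ha', b', hb', rfl⟩ := hy
        obtain ⟨r, hr, rfl⟩ := hN₀ i hi a' ha'
        have hrw : r * w ∈ 𝒜 i := by
          have h1 := SetLike.mul_mem_graded hr hw
          have e1 : i - (D : ℤ) + (D : ℤ) = i := by ring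
          rwa [e1] at h1
        obtain ⟨t'', -, ht''⟩ := exists_of_tmul 𝒜 ℬ 𝒯 ψ hdegT hrw hb'
        refine ⟨t'', ?_⟩
        rw [ht'', Algebra.TensorProduct.tmul_mul_tmul, Algebra.TensorProduct.tmul_mul_tmul,
          mul_assoc, mul_comm b' b]
      | zero => exact ⟨0, by rw [zero_mul, map_zero, mul_zero]⟩
      | add y z _ _ hy hz =>
        obtain ⟨t1, ht1⟩ := hy
        obtain ⟨t2, ht2⟩ := hz
        exact ⟨t1 + t2, by rw [add_mul, ht1, ht2, map_add, mul_add]⟩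
      | smul c y _ hy =>
        obtain ⟨t1, ht1⟩ := hy
        exact ⟨c • t1, by rw [smul_mul_assoc, ht1, map_smul, mul_smul_comm]⟩
    rw [← DirectSum.sum_support_decompose 𝒯 v, Finset.sum_mul]
    refine Ideal.sum_mem _ fun i _ => ?_
    by_cases hi : i < (N₀ : ℤ)
    · rw [(mem_irrelGE_iff 𝒯 hnegT (N₀ : ℤ) v).mp hv' i hi, zero_mul]
      exact zero_mem _
    · obtain ⟨t'', ht''⟩ := key i (not_lt.mp hi) _
        (map_mem_span 𝒜 ℬ 𝒯 ψ hdegT (SetLike.coe_mem (DirectSum.decompose 𝒯 v i)))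
      rw [Ideal.mem_span_singleton']
      refine ⟨t'', ?_⟩
      apply hψ
      rw [map_mul, map_mul, ht₁, ht₀, ht'', mul_comm]

end Segre

section Iso

variable {k : Type u} [Field k] {R : Type u} [CommRing R] [Algebra k R]
  (𝒜 : ℤ → Submodule k R) [GradedAlgebra 𝒜]
  {S : Type u} [CommRing S] [Algebra k S] (ℬ : ℤ → Submodule k S) [GradedAlgebra ℬ]
  {T : Type u} [CommRing T] [Algebra k T] (𝒯 : ℤ → Submodule k T) [GradedAlgebra 𝒯]
  (ψ : T →ₐ[k] R ⊗[k] S) (hψ : Function.Injective ψ)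
  (hdegT : ∀ n : ℤ, (𝒯 n).map ψ.toLinearMap =
    Submodule.span k {x : R ⊗[k] S | ∃ a ∈ 𝒜 n, ∃ b ∈ ℬ n, x = a ⊗ₜ[k] b})

/-- A graded linear map commutes with taking homogeneous components. -/
theorem decompose_map_of_graded (f : T →ₗ[k] S) (hf : ∀ n : ℤ, ∀ t ∈ 𝒯 n, f t ∈ ℬ n) (t : T)
    (n : ℤ) :
    ((DirectSum.decompose ℬ (f t) n : ℬ n) : S) = f ((DirectSum.decompose 𝒯 t n : 𝒯 n) : T) := by
  classical
  induction t using DirectSum.Decomposition.inductionOn 𝒯 with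
  | zero =>
    rw [map_zero, DirectSum.decompose_zero, DirectSum.decompose_zero]
    simp
  | @homogeneous i t =>
    by_cases hin : i = n
    · subst hin
      rw [DirectSum.decompose_of_mem_same ℬ (hf i t t.2), DirectSum.decompose_of_mem_same 𝒯 t.2]
    · rw [DirectSum.decompose_of_mem_ne ℬ (hf i t t.2) hin,
        DirectSum.decompose_of_mem_ne 𝒯 t.2 hin, map_zero]
  | add t t' ht ht' =>
    rw [map_add, DirectSum.decompose_add, DirectSum.add_apply, Submodule.coe_add, ht, ht',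
      DirectSum.decompose_add, DirectSum.add_apply, Submodule.coe_add, map_add]

/-- The contraction `R ⊗ S → S` along an augmentation `ε : R → k`. -/
noncomputable def contract (ε : R →ₐ[k] k) : R ⊗[k] S →ₐ[k] S :=
  (Algebra.TensorProduct.lid k S).toAlgHom.comp (Algebra.TensorProduct.map ε (AlgHom.id k S))

theorem contract_tmul (ε : R →ₐ[k] k) (a : R) (b : S) :
    contract (S := S) ε (a ⊗ₜ[k] b) = ε a • b := by
  simp [contract]

include hψ hdegT in
/-- If `R_m = k x^m` for all `m` and `ε : R → k` sends `x` to `1`, the Segre product `T` maps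
isomorphically onto `S`. -/
theorem segre_bijective_of_piece (hposR : ∀ n : ℤ, n < 0 → 𝒜 n = ⊥)
    (hposS : ∀ n : ℤ, n < 0 → ℬ n = ⊥) {x : R}
    (hpiece : ∀ m : ℕ, 𝒜 (m : ℤ) = Submodule.span k {x ^ m}) (ε : R →ₐ[k] k) (hε : ε x = 1) :
    Function.Bijective ((contract (S := S) ε).comp ψ) := by
  classical
  have hnegT := segre_hneg 𝒜 ℬ 𝒯 ψ hψ hdegT hposR
  -- the shape of `ψ` on homogeneous elements
  have key : ∀ (m : ℕ) (y : R ⊗[k] S),
      y ∈ Submodule.span k {z : R ⊗[k] S | ∃ a ∈ 𝒜 (m : ℤ), ∃ b ∈ ℬ (m : ℤ), z = a ⊗ₜ[k] b} →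
      y = (x ^ m) ⊗ₜ[k] contract (S := S) ε y ∧ contract (S := S) ε y ∈ ℬ (m : ℤ) := by
    intro m y hy
    induction hy using Submodule.span_induction with
    | mem y hy =>
      obtain ⟨a, ha, b, hb, rfl⟩ := hy
      rw [hpiece m] at ha
      obtain ⟨c, rfl⟩ := Submodule.mem_span_singleton.mp ha
      have h1 : contract (S := S) ε ((c • x ^ m) ⊗ₜ[k] b) = c • b := by
        rw [contract_tmul, map_smul, map_pow, hε, one_pow, smul_eq_mul, mul_one]
      rw [h1]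
      refine ⟨?_, Submodule.smul_mem _ _ hb⟩
      rw [TensorProduct.tmul_smul, TensorProduct.smul_tmul']
    | zero =>
      rw [map_zero, TensorProduct.tmul_zero]
      exact ⟨rfl, zero_mem _⟩
    | add y z _ _ hy hz =>
      rw [map_add, TensorProduct.tmul_add]
      exact ⟨by rw [← hy.1, ← hz.1], Submodule.add_mem _ hy.2 hz.2⟩
    | smul c y _ hy =>
      rw [map_smul, TensorProduct.tmul_smul]
      exact ⟨by rw [← hy.1], Submodule.smul_mem _ _ hy.2⟩
  have hgr : ∀ n : ℤ, ∀ t ∈ 𝒯 n, ((contract (S := S) ε).comp ψ).toLinearMap t ∈ ℬ n := by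
    intro n t ht
    by_cases hn : n < 0
    · rw [hnegT n hn] at ht
      rw [(Submodule.mem_bot k).mp ht, map_zero]
      exact zero_mem _
    · obtain ⟨m, rfl⟩ : ∃ m : ℕ, n = m := ⟨n.toNat, (Int.toNat_of_nonneg (not_lt.mp hn)).symm⟩
      exact (key m _ (map_mem_span 𝒜 ℬ 𝒯 ψ hdegT ht)).2
  constructor
  · rw [injective_iff_map_eq_zero]
    intro t ht
    rw [← DirectSum.sum_support_decompose 𝒯 t]
    refine Finset.sum_eq_zero fun n _ => ?_
    have h1 := decompose_map_of_graded ℬ 𝒯 ((contract (S := S) ε).comp ψ).toLinearMap hgr t n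
    have ht' : ((contract (S := S) ε).comp ψ).toLinearMap t = 0 := ht
    rw [ht', DirectSum.decompose_zero] at h1
    have h2 : contract (S := S) ε (ψ ((DirectSum.decompose 𝒯 t n : 𝒯 n) : T)) = 0 := by
      have h3 : ((0 : DirectSum ℤ fun i => ℬ i) n : S) = 0 := by simp
      rw [h3] at h1
      exact h1.symm
    by_cases hn : n < 0
    · exact eq_zero_of_mem_of_neg 𝒯 hnegT hn (SetLike.coe_mem _)
    · obtain ⟨m, rfl⟩ : ∃ m : ℕ, n = m := ⟨n.toNat, (Int.toNat_of_nonneg (not_lt.mp hn)).symm⟩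
      have h5 := (key m _ (map_mem_span 𝒜 ℬ 𝒯 ψ hdegT
        (SetLike.coe_mem (DirectSum.decompose 𝒯 t (m : ℤ))))).1
      rw [h2, TensorProduct.tmul_zero] at h5
      exact hψ (by rw [h5, map_zero])
  · intro s
    induction s using DirectSum.Decomposition.inductionOn ℬ with
    | zero => exact ⟨0, map_zero _⟩
    | @homogeneous i b =>
      by_cases hi : i < 0
      · exact ⟨0, by rw [map_zero, eq_zero_of_mem_of_neg ℬ hposS hi b.2]⟩
      · obtain ⟨m, rfl⟩ : ∃ m : ℕ, i = m := ⟨i.toNat, (Int.toNat_of_nonneg (not_lt.mp hi)).symm⟩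
        have hxm : x ^ m ∈ 𝒜 (m : ℤ) := by
          rw [hpiece m]
          exact Submodule.mem_span_singleton_self _
        obtain ⟨t, -, ht⟩ := exists_of_tmul 𝒜 ℬ 𝒯 ψ hdegT hxm b.2
        refine ⟨t, ?_⟩
        rw [AlgHom.comp_apply, ht, contract_tmul, map_pow, hε, one_pow, one_smul]
    | add s s' hs hs' =>
      obtain ⟨t, rfl⟩ := hs
      obtain ⟨t', rfl⟩ := hs'
      exact ⟨t + t', map_add _ _ _⟩

end Iso

end Groth.Agent.H21.SegreDepth
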