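import Groth.Agent.H21.SegreMod

/-!
# Bounds for the dimension of the support of a Segre product of graded modules (helper21)
-/

set_option autoImplicit false
universe u

open scoped TensorProduct
open MvPolynomial

namespace Groth.Agent.H21.SegreDim

section SegreRing

variable {k : Type u} [Field k] {R : Type u} [CommRing R] [Algebra k R]
  (𝒜 : ℤ → Submodule k R) [GradedAlgebra 𝒜]
  {S : Type u} [CommRing S] [Algebra k S] (ℬ : ℤ → Submodule k S) [GradedAlgebra ℬ]
  {T : Type u} [CommRing T] [Algebra k T] (𝒯 : ℤ → Submodule k T) [GradedAlgebra 𝒯]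
  (ψ : T →ₐ[k] R ⊗[k] S)

theorem segre_map_mem_Dsub
    (hdegT : ∀ n : ℤ, (𝒯 n).map ψ.toLinearMap =
      Submodule.span k {x : R ⊗[k] S | ∃ a ∈ 𝒜 n, ∃ b ∈ ℬ n, x = a ⊗ₜ[k] b}) (t : T) :
    ψ t ∈ Dsub 𝒜 ℬ := by
  classical
  rw [← DirectSum.sum_support_decompose 𝒯 t, map_sum]
  apply Submodule.sum_mem
  intro n _
  have h1 : ψ ((DirectSum.decompose 𝒯 t n : 𝒯 n) : T) ∈ (𝒯 n).map ψ.toLinearMap :=
    Submodule.mem_map.mpr ⟨_, SetLike.coe_mem _, rfl⟩
  rw [hdegT n] at h1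
  refine Submodule.span_mono ?_ h1
  rintro x ⟨a, ha, b, hb, hx⟩
  exact ⟨n, a, ha, b, hb, hx⟩

theorem segre_finiteType [Algebra.FiniteType k R] [Algebra.FiniteType k S]
    (hposR : ∀ n : ℤ, n < 0 → 𝒜 n = ⊥) (h0R : 𝒜 0 = Submodule.span k {(1 : R)})
    (hposS : ∀ n : ℤ, n < 0 → ℬ n = ⊥) (h0S : ℬ 0 = Submodule.span k {(1 : S)})
    (hψ : Function.Injective ψ)
    (hdegT : ∀ n : ℤ, (𝒯 n).map ψ.toLinearMap =
      Submodule.span k {x : R ⊗[k] S | ∃ a ∈ 𝒜 n, ∃ b ∈ ℬ n, x = a ⊗ₜ[k] b}) :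
    Algebra.FiniteType k T := by
  classical
  haveI : IsNoetherianRing T :=
    Groth.Agent.S18646.result k R 𝒜 hposR h0R S ℬ hposS h0S T 𝒯 ψ hψ hdegT
  have hnegT : ∀ n : ℤ, n < 0 → 𝒯 n = ⊥ := by
    intro n hn
    have h1 := hdegT n
    have h2 : Submodule.span k {x : R ⊗[k] S | ∃ a ∈ 𝒜 n, ∃ b ∈ ℬ n, x = a ⊗ₜ[k] b} = ⊥ := by
      rw [Submodule.span_eq_bot]
      rintro x ⟨a, ha, b, hb, rfl⟩
      rw [hposR n hn] at ha
      rw [(Submodule.mem_bot k).mp ha, TensorProduct.zero_tmul]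
    rw [h2] at h1
    rw [eq_bot_iff]
    intro t ht
    have h3 : ψ t ∈ (𝒯 n).map ψ.toLinearMap := Submodule.mem_map.mpr ⟨t, ht, rfl⟩
    rw [h1] at h3
    have h4 : ψ t = 0 := (Submodule.mem_bot k).mp h3
    rw [Submodule.mem_bot]
    exact hψ (by rw [h4, map_zero])
  have h0T : 𝒯 0 = Submodule.span k {(1 : T)} := by
    apply le_antisymm
    · intro t ht
      have h1 : ψ t ∈ (𝒯 0).map ψ.toLinearMap := Submodule.mem_map.mpr ⟨t, ht, rfl⟩
      rw [hdegT 0] at h1
      have h2 : Submodule.span k {x : R ⊗[k] S | ∃ a ∈ 𝒜 0, ∃ b ∈ ℬ 0, x = a ⊗ₜ[k] b} ≤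
          Submodule.span k {(1 : R ⊗[k] S)} := by
        rw [Submodule.span_le]
        rintro x ⟨a, ha, b, hb, rfl⟩
        rw [h0R] at ha
        rw [h0S] at hb
        obtain ⟨α, rfl⟩ := Submodule.mem_span_singleton.mp ha
        obtain ⟨β, rfl⟩ := Submodule.mem_span_singleton.mp hb
        rw [TensorProduct.smul_tmul_smul, ← Algebra.TensorProduct.one_def]
        exact Submodule.smul_mem _ _ (Submodule.subset_span rfl)
      obtain ⟨c, hc⟩ := Submodule.mem_span_singleton.mp (h2 h1)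
      have h3 : t = c • (1 : T) := hψ (by rw [map_smul, map_one, hc])
      rw [h3]
      exact Submodule.smul_mem _ _ (Submodule.subset_span rfl)
    · rw [Submodule.span_le, Set.singleton_subset_iff]
      exact SetLike.GradedOne.one_mem
  exact finiteType_of_graded_noetherian 𝒯 hnegT h0T

theorem map_mem_Dsub_quot (I : Ideal R) (J : Ideal S) {y : R ⊗[k] S} (hy : y ∈ Dsub 𝒜 ℬ) :
    Algebra.TensorProduct.map (Ideal.Quotient.mkₐ k I) (Ideal.Quotient.mkₐ k J) y ∈
      Dsub (quotGrading 𝒜 I) (quotGrading ℬ J) := by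
  unfold Dsub at hy ⊢
  induction hy using Submodule.span_induction with
  | mem y hy =>
    obtain ⟨n, a, ha, b, hb, rfl⟩ := hy
    rw [Algebra.TensorProduct.map_tmul]
    exact Submodule.subset_span ⟨n, Ideal.Quotient.mkₐ k I a, Submodule.mem_map_of_mem ha,
      Ideal.Quotient.mkₐ k J b, Submodule.mem_map_of_mem hb, rfl⟩
  | zero => rw [map_zero]; exact zero_mem _
  | add y y' _ _ h h' => rw [map_add]; exact add_mem h h'
  | smul c y _ h => rw [map_smul]; exact Submodule.smul_mem _ c h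

/-- An algebra mapping into the diagonal part of `R ⊗ S` has dimension at most
`dim R + dim S - 1` modulo the kernel. -/
theorem ringKrullDim_quotient_ker_le (hposR : ∀ n : ℤ, n < 0 → 𝒜 n = ⊥)
    (h0R : 𝒜 0 = Submodule.span k {(1 : R)}) (h0S : ℬ 0 = Submodule.span k {(1 : S)})
    [Algebra.FiniteType k R] [Algebra.FiniteType k S] [Algebra.FiniteType k T]
    (χ : T →ₐ[k] R ⊗[k] S) (hχ : ∀ t, χ t ∈ Dsub 𝒜 ℬ) (r s : ℕ)
    (hr : ringKrullDim R = r) (hs : ringKrullDim S = s) (h1r : 1 ≤ r) :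
    ringKrullDim (T ⧸ RingHom.ker χ) ≤ ((r + s - 1 : ℕ) : WithBot ℕ∞) := by
  classical
  haveI : Nontrivial S := by
    by_contra h
    rw [not_nontrivial_iff_subsingleton] at h
    have h1 := ringKrullDim_eq_bot_of_subsingleton (R := S)
    rw [hs] at h1
    exact absurd h1 (by simp)
  by_contra hcon
  have h1 : ((r + s : ℕ) : WithBot ℕ∞) ≤ ringKrullDim (T ⧸ RingHom.ker χ) := by
    have h2 := natCast_succ_le_of_lt (not_le.mp hcon)
    have h3 : r + s - 1 + 1 = r + s := by omega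
    rwa [h3] at h2
  haveI : Algebra.FiniteType k (T ⧸ RingHom.ker χ) :=
    Algebra.FiniteType.of_surjective (Ideal.Quotient.mkₐ k (RingHom.ker χ))
      (Ideal.Quotient.mkₐ_surjective k (RingHom.ker χ))
  obtain ⟨t, -, ht⟩ := exists_algebraicIndependent_of_le_ringKrullDim (k := k)
    (A := T ⧸ RingHom.ker χ) Set.univ (by simp) (r + s) h1
  have hinj : Function.Injective (Ideal.kerLiftAlg χ) := Ideal.kerLiftAlg_injective χ
  have htU : AlgebraicIndependent k ((Ideal.kerLiftAlg χ) ∘ t) := ht.map' hinj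
  haveI : Nonempty (Fin (r + s)) := ⟨⟨0, by omega⟩⟩
  have hmem : ∀ q : T ⧸ RingHom.ker χ, Ideal.kerLiftAlg χ q ∈ Dsub 𝒜 ℬ := by
    intro q
    obtain ⟨t', rfl⟩ := Ideal.Quotient.mk_surjective q
    rw [Ideal.kerLiftAlg_mk]
    exact hχ t'
  have hPD : ∀ p ∈ Algebra.adjoin k (Set.range ((Ideal.kerLiftAlg χ) ∘ t)), p ∈ Dsub 𝒜 ℬ := by
    intro p hp
    have hle : Algebra.adjoin k (Set.range ((Ideal.kerLiftAlg χ) ∘ t)) ≤
        (Ideal.kerLiftAlg χ).range := by
      rw [Algebra.adjoin_le_iff]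
      rintro _ ⟨i, rfl⟩
      exact ⟨t i, rfl⟩
    obtain ⟨t', rfl⟩ := hle hp
    exact hmem t'
  obtain ⟨d, hd, x, hx, htr⟩ := exists_transcendental_tmul_one 𝒜 ℬ hposR h0R h0S htU
    (fun i => hmem (t i)) hPD
  have hu : AlgebraicIndependent k
      (fun o : Option (Fin (r + s)) => o.elim (x ⊗ₜ[k] (1 : S)) ((Ideal.kerLiftAlg χ) ∘ t)) :=
    (htU.option_iff_transcendental _).mpr htr
  haveI : Algebra.FiniteType k (R ⊗[k] S) :=
    Algebra.FiniteType.trans (S := R) inferInstance inferInstance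
  have h2 := natCast_le_ringKrullDim_of_algebraicIndependent hu
  rw [Fintype.card_option, Fintype.card_fin] at h2
  have hdimU := ringKrullDim_tensorProduct_le (k := k) R S r s hr hs
  have h3 := h2.trans hdimU
  have h4 : r + s + 1 ≤ r + s := by exact_mod_cast h3
  omega

end SegreRing

section Act

variable {k : Type u} [Field k] {R : Type u} [CommRing R] [Algebra k R]
  {S : Type u} [CommRing S] [Algebra k S]
  {M : Type u} [AddCommGroup M] [Module R M] [Module k M] [IsScalarTower k R M]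
  {N : Type u} [AddCommGroup N] [Module S N] [Module k N] [IsScalarTower k S N]

theorem act_eq_zero_of_map_eq_zero (I : Ideal R) (hIM : I ≤ Module.annihilator R M)
    (J : Ideal S) (hJN : J ≤ Module.annihilator S N) (u : R ⊗[k] S)
    (hu : Algebra.TensorProduct.map (Ideal.Quotient.mkₐ k I) (Ideal.Quotient.mkₐ k J) u = 0)
    (z : M ⊗[k] N) : GrSeg.act k R S M N u z = 0 := by
  have h1 : u ∈ RingHom.ker
      (Algebra.TensorProduct.map (Ideal.Quotient.mkₐ k I) (Ideal.Quotient.mkₐ k J)) :=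
    (RingHom.mem_ker).mpr hu
  rw [Algebra.TensorProduct.map_ker _ _ (Ideal.Quotient.mkₐ_surjective k I)
    (Ideal.Quotient.mkₐ_surjective k J)] at h1
  have hle : (RingHom.ker (Ideal.Quotient.mkₐ k I)).map
        (Algebra.TensorProduct.includeLeft : R →ₐ[k] R ⊗[k] S) ⊔
      (RingHom.ker (Ideal.Quotient.mkₐ k J)).map
        (Algebra.TensorProduct.includeRight : S →ₐ[k] R ⊗[k] S) ≤
      RingHom.ker (Groth.Agent.H98.actRingHom k R S M N) := by
    apply sup_le
    · rw [Ideal.map_le_iff_le_comap]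
      intro a ha
      have haI : a ∈ I := by
        have := (RingHom.mem_ker).mp ha
        rwa [Ideal.Quotient.mkₐ_eq_mk, Ideal.Quotient.eq_zero_iff_mem] at this
      rw [Ideal.mem_comap, RingHom.mem_ker]
      apply LinearMap.ext
      intro z
      show GrSeg.act k R S M N (a ⊗ₜ[k] (1 : S)) z = 0
      induction z using TensorProduct.induction_on with
      | zero => rw [map_zero]
      | tmul m n =>
        rw [GrSeg.act_tmul, Module.mem_annihilator.mp (hIM haI) m, TensorProduct.zero_tmul]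
      | add z z' hz hz' => rw [map_add, hz, hz', add_zero]
    · rw [Ideal.map_le_iff_le_comap]
      intro b hb
      have hbJ : b ∈ J := by
        have := (RingHom.mem_ker).mp hb
        rwa [Ideal.Quotient.mkₐ_eq_mk, Ideal.Quotient.eq_zero_iff_mem] at this
      rw [Ideal.mem_comap, RingHom.mem_ker]
      apply LinearMap.ext
      intro z
      show GrSeg.act k R S M N ((1 : R) ⊗ₜ[k] b) z = 0
      induction z using TensorProduct.induction_on with
      | zero => rw [map_zero]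
      | tmul m n =>
        rw [GrSeg.act_tmul, Module.mem_annihilator.mp (hJN hbJ) n, TensorProduct.tmul_zero]
      | add z z' hz hz' => rw [map_add, hz, hz', add_zero]
  have h2 := hle h1
  rw [RingHom.mem_ker] at h2
  exact LinearMap.congr_fun h2 z

end Act

section Bounds

variable {k : Type u} [Field k] {R : Type u} [CommRing R] [Algebra k R]
  (𝒜 : ℤ → Submodule k R) [GradedAlgebra 𝒜]
  {S : Type u} [CommRing S] [Algebra k S] (ℬ : ℤ → Submodule k S) [GradedAlgebra ℬ]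
  {T : Type u} [CommRing T] [Algebra k T] [Algebra.FiniteType k T]
  (ψ : T →ₐ[k] R ⊗[k] S)
  {M : Type u} [AddCommGroup M] [Module R M] [Module k M] [IsScalarTower k R M]
  {N : Type u} [AddCommGroup N] [Module S N] [Module k N] [IsScalarTower k S N]
  {P : Type u} [AddCommGroup P] [Module T P] [Module k P]
  (φ : P →ₗ[k] M ⊗[k] N)

theorem supportDim_segre_le (hposR : ∀ n : ℤ, n < 0 → 𝒜 n = ⊥)
    (h0R : 𝒜 0 = Submodule.span k {(1 : R)}) [Algebra.FiniteType k R]
    (h0S : ℬ 0 = Submodule.span k {(1 : S)})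
    [Algebra.FiniteType k S]
    (hψD : ∀ t, ψ t ∈ Dsub 𝒜 ℬ)
    (hφinj : Function.Injective φ)
    (hφsmul : ∀ (t : T) (p : P), φ (t • p) = GrSeg.act k R S M N (ψ t) (φ p))
    (I : Ideal R) (hI : I.IsHomogeneous 𝒜) (hIM : I ≤ Module.annihilator R M)
    (J : Ideal S) (hJ : J.IsHomogeneous ℬ) (hJN : J ≤ Module.annihilator S N)
    (r s : ℕ) (hr : ringKrullDim (R ⧸ I) = r) (hs : ringKrullDim (S ⧸ J) = s) (h1r : 1 ≤ r) :
    Module.supportDim T P ≤ ((r + s - 1 : ℕ) : WithBot ℕ∞) := by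
  classical
  letI : GradedAlgebra (quotGrading 𝒜 I) := quotGradedAlgebra 𝒜 I hI
  letI : GradedAlgebra (quotGrading ℬ J) := quotGradedAlgebra ℬ J hJ
  have hpos' : ∀ n : ℤ, n < 0 → quotGrading 𝒜 I n = ⊥ := fun n hn => by
    unfold quotGrading; rw [hposR n hn, Submodule.map_bot]
  have h0R' : quotGrading 𝒜 I 0 = Submodule.span k {(1 : R ⧸ I)} := by
    unfold quotGrading
    rw [h0R, Submodule.map_span, Set.image_singleton, AlgHom.toLinearMap_apply, map_one]
  have h0S' : quotGrading ℬ J 0 = Submodule.span k {(1 : S ⧸ J)} := by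
    unfold quotGrading
    rw [h0S, Submodule.map_span, Set.image_singleton, AlgHom.toLinearMap_apply, map_one]
  haveI : Algebra.FiniteType k (R ⧸ I) :=
    Algebra.FiniteType.of_surjective (Ideal.Quotient.mkₐ k I) (Ideal.Quotient.mkₐ_surjective k I)
  haveI : Algebra.FiniteType k (S ⧸ J) :=
    Algebra.FiniteType.of_surjective (Ideal.Quotient.mkₐ k J) (Ideal.Quotient.mkₐ_surjective k J)
  have hle2 := ringKrullDim_quotient_ker_le (quotGrading 𝒜 I) (quotGrading ℬ J) hpos' h0R' h0S'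
    ((Algebra.TensorProduct.map (Ideal.Quotient.mkₐ k I) (Ideal.Quotient.mkₐ k J)).comp ψ)
    (fun t => map_mem_Dsub_quot 𝒜 ℬ I J (hψD t)) r s hr hs h1r
  refine le_trans ?_ hle2
  have h𝔟 : ∀ t : T, t ∈ RingHom.ker
      ((Algebra.TensorProduct.map (Ideal.Quotient.mkₐ k I) (Ideal.Quotient.mkₐ k J)).comp ψ) →
      ∀ p : P, t • p = 0 := by
    intro t ht p
    apply hφinj
    rw [hφsmul, map_zero]
    exact act_eq_zero_of_map_eq_zero I hIM J hJN _ ((RingHom.mem_ker).mp ht) _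
  have hsupp : Module.support T P ⊆ PrimeSpectrum.zeroLocus ((RingHom.ker
      ((Algebra.TensorProduct.map (Ideal.Quotient.mkₐ k I) (Ideal.Quotient.mkₐ k J)).comp ψ) :
        Ideal T) : Set T) := by
    intro p hp
    rw [PrimeSpectrum.mem_zeroLocus]
    intro t ht
    exact Module.annihilator_le_of_mem_support hp (Module.mem_annihilator.mpr (h𝔟 t ht))
  rw [ringKrullDim_quotient]
  exact Order.krullDim_le_of_strictMono (fun a => ⟨a.1, hsupp a.2⟩) (fun _ _ h => h)

theorem le_supportDim_segre_core {a b : ℕ}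
    (x : Fin (a + 1) → R) (y : Fin (b + 1) → S)
    (hxy : ∀ i j, ∃ t : T, ψ t = x i ⊗ₜ[k] y j)
    (m' : M) (n' : N) (p0 : P) (hp0 : φ p0 = m' ⊗ₜ[k] n')
    (hm'F : ∀ F : MvPolynomial (Fin (a + 1)) k, aeval x F • m' = 0 → F = 0)
    (hn'F : ∀ F : MvPolynomial (Fin (b + 1)) k, aeval y F • n' = 0 → F = 0)
    (hφsmul : ∀ (t : T) (p : P), φ (t • p) = GrSeg.act k R S M N (ψ t) (φ p)) :
    ((b + 1 + a : ℕ) : WithBot ℕ∞) ≤ Module.supportDim T P := by
  classical
  have hz : ∀ q : Fin (b + 1) ⊕ Fin a, ∃ t : T, ψ t =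
      Sum.elim (fun j : Fin (b + 1) => x 0 ⊗ₜ[k] y j) (fun i : Fin a => x i.succ ⊗ₜ[k] y 0) q := by
    rintro (j | i)
    · exact hxy 0 j
    · exact hxy i.succ 0
  choose tz htz using hz
  set Z : Fin (b + 1) ⊕ Fin a →
      MvPolynomial (Fin (a + 1)) k ⊗[k] MvPolynomial (Fin (b + 1)) k :=
    Sum.elim (fun j => (X 0 : MvPolynomial (Fin (a + 1)) k) ⊗ₜ[k] X j)
      (fun i => (X i.succ : MvPolynomial (Fin (a + 1)) k) ⊗ₜ[k] X 0) with hZ
  have hZind : AlgebraicIndependent k Z :=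
    algebraicIndependent_segre_tmul (X : Fin (a + 1) → MvPolynomial (Fin (a + 1)) k)
      (X : Fin (b + 1) → MvPolynomial (Fin (b + 1)) k)
      (algebraicIndependent_X _ _) (algebraicIndependent_X _ _)
  set Θ : MvPolynomial (Fin (a + 1)) k ⊗[k] MvPolynomial (Fin (b + 1)) k →ₐ[k] R ⊗[k] S :=
    Algebra.TensorProduct.map (aeval x) (aeval y) with hΘ
  have hΘZ : ∀ q, Θ (Z q) = ψ (tz q) := by
    rintro (j | i)
    · rw [htz]; simp [hΘ, hZ]
    · rw [htz]; simp [hΘ, hZ]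
  let μ : MvPolynomial (Fin (a + 1)) k →ₗ[k] M :=
    { toFun := fun f => aeval x f • m'
      map_add' := fun f g => by rw [map_add, add_smul]
      map_smul' := fun c f => by rw [map_smul, smul_assoc, RingHom.id_apply] }
  let ν : MvPolynomial (Fin (b + 1)) k →ₗ[k] N :=
    { toFun := fun f => aeval y f • n'
      map_add' := fun f g => by rw [map_add, add_smul]
      map_smul' := fun c f => by rw [map_smul, smul_assoc, RingHom.id_apply] }
  have hact : ∀ w : MvPolynomial (Fin (a + 1)) k ⊗[k] MvPolynomial (Fin (b + 1)) k,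
      GrSeg.act k R S M N (Θ w) (m' ⊗ₜ[k] n') = TensorProduct.map μ ν w := by
    intro w
    induction w using TensorProduct.induction_on with
    | zero => simp
    | tmul f g =>
      rw [hΘ, Algebra.TensorProduct.map_tmul, GrSeg.act_tmul, TensorProduct.map_tmul]
      rfl
    | add w w' hw hw' => rw [map_add, map_add, LinearMap.add_apply, hw, hw', map_add]
  have hμ : Function.Injective μ := (injective_iff_map_eq_zero μ).mpr fun f hf => hm'F f hf
  have hν : Function.Injective ν := (injective_iff_map_eq_zero ν).mpr fun f hf => hn'F f hf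
  have hμν : Function.Injective (TensorProduct.map μ ν) :=
    TensorProduct.map_injective_of_flat_flat μ ν hμ hν
  have hF : ∀ F : MvPolynomial (Fin (b + 1) ⊕ Fin a) k, aeval tz F • p0 = 0 → F = 0 := by
    intro F hF0
    have h1 : φ (aeval tz F • p0) = 0 := by rw [hF0, map_zero]
    rw [hφsmul, hp0, MvPolynomial.comp_aeval_apply] at h1
    have h2 : (fun i => ψ (tz i)) = fun i => Θ (Z i) := funext fun i => (hΘZ i).symm
    have h4 : aeval (fun i => Θ (Z i)) F = Θ (aeval Z F) :=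
      (MvPolynomial.comp_aeval_apply _ Θ F).symm
    rw [h2, h4, hact] at h1
    have h3 : aeval Z F = 0 := hμν (by rw [h1, map_zero])
    exact (algebraicIndependent_iff.mp hZind) F h3
  set 𝔠 : Ideal T := LinearMap.ker (LinearMap.toSpanSingleton T P p0) with h𝔠
  have hmem𝔠 : ∀ t : T, t ∈ 𝔠 ↔ t • p0 = 0 := fun t => by
    rw [h𝔠, LinearMap.mem_ker, LinearMap.toSpanSingleton_apply]
  have hind : AlgebraicIndependent k (fun q => Ideal.Quotient.mk 𝔠 (tz q)) := by
    rw [algebraicIndependent_iff]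
    intro F hF0
    have h1 : (Ideal.Quotient.mkₐ k 𝔠) (aeval tz F) =
        aeval (fun q => (Ideal.Quotient.mkₐ k 𝔠) (tz q)) F :=
      MvPolynomial.comp_aeval_apply _ _ _
    have h2 : (Ideal.Quotient.mk 𝔠) (aeval tz F) = 0 := by
      rw [← hF0]; exact h1
    exact hF F ((hmem𝔠 _).mp (Ideal.Quotient.eq_zero_iff_mem.mp h2))
  haveI : Algebra.FiniteType k (T ⧸ 𝔠) :=
    Algebra.FiniteType.of_surjective (Ideal.Quotient.mkₐ k 𝔠) (Ideal.Quotient.mkₐ_surjective k 𝔠)
  have h6 := natCast_le_ringKrullDim_of_algebraicIndependent hind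
  rw [Fintype.card_sum, Fintype.card_fin, Fintype.card_fin] at h6
  have h7 : Module.supportDim T (T ⧸ 𝔠) ≤ Module.supportDim T P := by
    refine Module.supportDim_le_of_injective
      (Submodule.liftQ 𝔠 (LinearMap.toSpanSingleton T P p0) le_rfl) ?_
    rw [← LinearMap.ker_eq_bot]
    exact Submodule.ker_liftQ_eq_bot _ _ _ le_rfl
  rw [Module.supportDim_quotient_eq_ringKrullDim] at h7
  exact h6.trans h7

theorem le_supportDim_segre (ℳ : ℤ → AddSubgroup M) [DirectSum.Decomposition ℳ]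
    [SetLike.GradedSMul 𝒜 ℳ] [Module.Finite R M]
    (𝒩 : ℤ → AddSubgroup N) [DirectSum.Decomposition 𝒩] [SetLike.GradedSMul ℬ 𝒩]
    [Module.Finite S N] {a b : ℕ}
    (x : Fin (a + 1) → R) (hx1 : ∀ i, x i ∈ 𝒜 1) (y : Fin (b + 1) → S) (hy1 : ∀ j, y j ∈ ℬ 1)
    (hxM : ∀ F : MvPolynomial (Fin (a + 1)) k, (∀ m : M, aeval x F • m = 0) → F = 0)
    (hyN : ∀ F : MvPolynomial (Fin (b + 1)) k, (∀ n : N, aeval y F • n = 0) → F = 0)
    (hpiece1 : ∀ u ∈ 𝒜 1, ∀ v ∈ ℬ 1, ∃ t : T, ψ t = u ⊗ₜ[k] v)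
    (hPpiece : ∀ c : ℤ, ∀ m ∈ ℳ c, ∀ n ∈ 𝒩 c, ∃ p : P, φ p = m ⊗ₜ[k] n)
    (hφsmul : ∀ (t : T) (p : P), φ (t • p) = GrSeg.act k R S M N (ψ t) (φ p)) :
    ((b + 1 + a : ℕ) : WithBot ℕ∞) ≤ Module.supportDim T P := by
  classical
  obtain ⟨c, m, hm, hmF⟩ := exists_homogeneous_torsionFree (k := k) ℳ x hxM
  obtain ⟨c', n, hn, hnF⟩ := exists_homogeneous_torsionFree (k := k) 𝒩 y hyN
  obtain ⟨m', hm', hm'F⟩ := exists_raise 𝒜 ℳ x 0 (hx1 0) hm hmF (max c c') (le_max_left _ _)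
  obtain ⟨n', hn', hn'F⟩ := exists_raise ℬ 𝒩 y 0 (hy1 0) hn hnF (max c c') (le_max_right _ _)
  obtain ⟨p0, hp0⟩ := hPpiece (max c c') m' hm' n' hn'
  exact le_supportDim_segre_core ψ φ x y (fun i j => hpiece1 _ (hx1 i) _ (hy1 j)) m' n' p0 hp0
    hm'F hn'F hφsmul

end Bounds

end Groth.Agent.H21.SegreDim
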