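import Mathlib
import Groth.Agent.S0389
import Groth.Agent.H48.FlatLimit6

/-!
# Separating families and flat base change: ring-level core (helper21)

EGA IV 11.9/11.10: a separating family stays separating after a flat, finitely presented
base change.

* `SepFam.eq_zero_of_free`: coordinates in a free base change.
* `SepFam.exists_smul_eq_zero_of_domain`: the domain case (generic freeness).
-/

open TensorProduct

universe u

namespace Groth.Agent.H21.SepFam

section G

variable {A R : Type*} [CommRing A] [CommRing R] [Algebra A R]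
  {B : Type*} [AddCommGroup B] [Module A B]
  {ι : Type*} (b : Module.Basis ι R (R ⊗[A] B))

/-- coordinate map `N ⊗[A] B → N` attached to a basis of `R ⊗[A] B` over `R`. -/
noncomputable def coordMap (N : Type*) [AddCommGroup N] [Module R N] [Module A N]
    [IsScalarTower A R N] (s : ι) : N ⊗[A] B →ₗ[R] N :=
  (TensorProduct.rid R N).toLinearMap ∘ₗ (LinearMap.lTensor N (b.coord s)) ∘ₗ
    (AlgebraTensorModule.cancelBaseChange A R R N B).symm.toLinearMap

variable {N : Type*} [AddCommGroup N] [Module R N] [Module A N] [IsScalarTower A R N]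
variable {N' : Type*} [AddCommGroup N'] [Module R N'] [Module A N'] [IsScalarTower A R N']

lemma coordMap_tmul (s : ι) (n : N) (x : B) :
    coordMap b N s (n ⊗ₜ x) = (b.coord s (1 ⊗ₜ x)) • n := by
  simp [coordMap]

lemma coordMap_natural (s : ι) (u : N →ₗ[R] N') (z : N ⊗[A] B) :
    coordMap b N' s (LinearMap.rTensor B (u.restrictScalars A) z) = u (coordMap b N s z) := by
  induction z using TensorProduct.induction_on with
  | zero => simp
  | tmul n x => simp [coordMap_tmul]
  | add x y hx hy => simp only [map_add, hx, hy]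

lemma eq_zero_of_coordMap (z : N ⊗[A] B) (h : ∀ s, coordMap b N s z = 0) : z = 0 := by
  classical
  have key : ∀ (y : N ⊗[R] (R ⊗[A] B)) (s : ι),
      (TensorProduct.equivFinsuppOfBasisRight b y) s =
        (TensorProduct.rid R N) (LinearMap.lTensor N (b.coord s) y) := by
    intro y s
    induction y using TensorProduct.induction_on with
    | zero => simp
    | tmul n x => simp
    | add x y hx hy => simp only [map_add, Finsupp.add_apply, hx, hy]
  have h1 : (TensorProduct.equivFinsuppOfBasisRight b)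
      ((AlgebraTensorModule.cancelBaseChange A R R N B).symm z) = 0 := by
    apply Finsupp.ext
    intro s
    rw [key, Finsupp.zero_apply]
    exact h s
  have h2 := (TensorProduct.equivFinsuppOfBasisRight b).injective (h1.trans (map_zero _).symm)
  exact (AlgebraTensorModule.cancelBaseChange A R R N B).symm.injective (h2.trans (map_zero _).symm)

/-- **Free coordinates.** If `R ⊗[A] B` is free over `R`, a jointly injective family of
`R`-linear maps `u j : N → N'' j` stays jointly injective after `- ⊗[A] B`. -/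
theorem eq_zero_of_free [Module.Free R (R ⊗[A] B)] {J : Type*} (N'' : J → Type*)
    [∀ j, AddCommGroup (N'' j)]
    [∀ j, Module R (N'' j)] [∀ j, Module A (N'' j)] [∀ j, IsScalarTower A R (N'' j)]
    (u : ∀ j, N →ₗ[R] N'' j) (hker : ∀ n : N, (∀ j, u j n = 0) → n = 0)
    (z : N ⊗[A] B) (hz : ∀ j, LinearMap.rTensor B ((u j).restrictScalars A) z = 0) : z = 0 := by
  apply eq_zero_of_coordMap (Module.Free.chooseBasis R (R ⊗[A] B))
  intro s
  apply hker
  intro j
  rw [← coordMap_natural, hz j, map_zero]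

end G

section Dom

variable {A Ā : Type u} [CommRing A] [CommRing Ā] [Algebra A Ā]

lemma isLocalizedModule_mk (f : Ā) (X : Type*) [AddCommGroup X] [Module Ā X] :
    IsLocalizedModule (Submonoid.powers f) (TensorProduct.mk Ā (Localization.Away f) X 1) :=
  (isLocalizedModule_iff_isBaseChange (Submonoid.powers f) (Localization.Away f) _).mpr
    (TensorProduct.isBaseChange Ā X (Localization.Away f))

lemma exists_pow_smul_eq_zero_of_one_tmul (f : Ā) {X : Type*} [AddCommGroup X] [Module Ā X] (x : X)
    (h : (1 : Localization.Away f) ⊗ₜ[Ā] x = 0) : ∃ n : ℕ, f ^ n • x = 0 := by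
  have := isLocalizedModule_mk f X
  obtain ⟨⟨_, n, rfl⟩, hc⟩ := (IsLocalizedModule.eq_zero_iff (Submonoid.powers f)
    (TensorProduct.mk Ā (Localization.Away f) X 1)).mp h
  exact ⟨n, hc⟩

variable [IsDomain Ā]
    {B : Type u} [CommRing B] [Algebra A B] [Algebra.FiniteType A B]
    {M : Type u} [AddCommGroup M] [Module Ā M] [Module A M] [IsScalarTower A Ā M]

/-- **Domain case** (generic freeness). -/
theorem exists_smul_eq_zero_of_domain {J : Type*} (M' : J → Type u) [∀ j, AddCommGroup (M' j)]
    [∀ j, Module Ā (M' j)] [∀ j, Module A (M' j)] [∀ j, IsScalarTower A Ā (M' j)]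
    (u : ∀ j, M →ₗ[Ā] M' j)
    (hsep : ∀ (a : Ā) (m : M), (∀ j, ∃ n : ℕ, u j (a ^ n • m) = 0) → ∃ n : ℕ, a ^ n • m = 0)
    (z : M ⊗[A] B) (hz : ∀ j, LinearMap.rTensor B ((u j).restrictScalars A) z = 0) :
    ∃ a : Ā, a ≠ 0 ∧ a • z = 0 := by
  obtain ⟨f, hf0, -, hfree, -, -⟩ := Groth.Agent.S0389.result (R := Ā) (S := Ā ⊗[A] B)
    (M := Ā ⊗[A] B)
  let R := Localization.Away f
  have : Module.Free R (R ⊗[A] B) :=
    Module.Free.of_equiv (AlgebraTensorModule.cancelBaseChange A Ā R R B)
  -- jointly injective after localization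
  have hker : ∀ n : R ⊗[Ā] M, (∀ j, (u j).baseChange R n = 0) → n = 0 := by
    intro n hn
    have := isLocalizedModule_mk f M
    obtain ⟨⟨m, ⟨_, k, rfl⟩⟩, hm⟩ := IsLocalizedModule.surj (Submonoid.powers f)
      (TensorProduct.mk Ā R M 1) n
    have hm' : f ^ k • n = (1 : R) ⊗ₜ[Ā] m := hm
    have h1 : ∀ j, ∃ l : ℕ, u j (f ^ l • m) = 0 := by
      intro j
      have h2 : (1 : R) ⊗ₜ[Ā] (u j m) = 0 := by
        have := congrArg ((u j).baseChange R) hm'
        rw [LinearMap.baseChange_tmul, LinearMap.map_smul_of_tower, hn j, smul_zero] at this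
        exact this.symm
      obtain ⟨l, hl⟩ := exists_pow_smul_eq_zero_of_one_tmul f _ h2
      exact ⟨l, by rw [map_smul, hl]⟩
    obtain ⟨l, hl⟩ := hsep f m h1
    have h3 : (1 : R) ⊗ₜ[Ā] m = 0 := by
      have hu : IsUnit (algebraMap Ā R (f ^ l)) :=
        IsLocalization.map_units R (⟨f ^ l, l, rfl⟩ : Submonoid.powers f)
      have : algebraMap Ā R (f ^ l) • ((1 : R) ⊗ₜ[Ā] m) = 0 := by
        rw [algebraMap_smul, ← TensorProduct.tmul_smul, hl, TensorProduct.tmul_zero]
      exact (hu.smul_eq_zero).mp this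
    have hu : IsUnit (algebraMap Ā R (f ^ k)) :=
      IsLocalization.map_units R (⟨f ^ k, k, rfl⟩ : Submonoid.powers f)
    have : algebraMap Ā R (f ^ k) • n = 0 := by
      rw [algebraMap_smul, hm', h3]
    exact (hu.smul_eq_zero).mp this
  -- the localized element
  let z' : (R ⊗[Ā] M) ⊗[A] B :=
    LinearMap.rTensor B ((TensorProduct.mk Ā R M 1).restrictScalars A) z
  have hz' : ∀ j, LinearMap.rTensor B (((u j).baseChange R).restrictScalars A) z' = 0 := by
    intro j
    have hcomm : (((u j).baseChange R).restrictScalars A) ∘ₗ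
        ((TensorProduct.mk Ā R M 1).restrictScalars A) =
        ((TensorProduct.mk Ā R (M' j) 1).restrictScalars A) ∘ₗ ((u j).restrictScalars A) := by
      ext m
      simp
    change LinearMap.rTensor B _ (LinearMap.rTensor B _ z) = 0
    rw [← LinearMap.rTensor_comp_apply, hcomm, LinearMap.rTensor_comp_apply, hz j, map_zero]
  have hz0 : z' = 0 :=
    eq_zero_of_free (A := A) (R := R) (B := B) (N := R ⊗[Ā] M) (fun j => R ⊗[Ā] M' j)
      (fun j => (u j).baseChange R) hker z' hz'
  -- back to `z`
  have h4 : (1 : R) ⊗ₜ[Ā] z = 0 := by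
    have hcomp : (AlgebraTensorModule.assoc A Ā R R M B).toLinearMap.restrictScalars A ∘ₗ
        LinearMap.rTensor B ((TensorProduct.mk Ā R M 1).restrictScalars A) =
        (TensorProduct.mk Ā R (M ⊗[A] B) 1).restrictScalars A := by
      ext m x
      simp
    have := LinearMap.congr_fun hcomp z
    simp only [LinearMap.coe_comp, Function.comp_apply, LinearMap.coe_restrictScalars,
      LinearEquiv.coe_coe, TensorProduct.mk_apply] at this
    rw [← this]
    change (AlgebraTensorModule.assoc A Ā R R M B) z' = 0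
    rw [hz0, map_zero]
  obtain ⟨l, hl⟩ := exists_pow_smul_eq_zero_of_one_tmul f _ h4
  exact ⟨f ^ l, pow_ne_zero l hf0, hl⟩

end Dom

section Noeth

variable {A B : Type u} [CommRing A] [CommRing B] [Algebra A B] [Module.Flat A B]

/-- flatness: an element killed by a finitely generated ideal `p` comes from
`A[p] ⊗ B`. -/
lemma exists_tmul_torsionBySet (p : Ideal A) (hp : p.FG) (t : B) (ht : ∀ a ∈ p, a • t = 0) :
    ∃ z : (Submodule.torsionBySet A A (p : Set A)) ⊗[A] B,
      LinearMap.rTensor B (Submodule.torsionBySet A A (p : Set A)).subtype z = (1 : A) ⊗ₜ[A] t := by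
  classical
  obtain ⟨s, hs⟩ := hp
  let G : A →ₗ[A] (s → A) := LinearMap.pi (fun g => (g : A) • LinearMap.id)
  have hex : Function.Exact (Submodule.torsionBySet A A (p : Set A)).subtype G := by
    intro x
    rw [Submodule.coe_subtype, Subtype.range_coe_subtype]
    change G x = 0 ↔ x ∈ Submodule.torsionBySet A A (p : Set A)
    rw [← hs, ← Submodule.torsionBySet_eq_torsionBySet_span,
      Submodule.mem_torsionBySet_iff]
    constructor
    · intro h g
      have := congrFun h ⟨g.1, g.2⟩
      simpa [G] using this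
    · intro h
      funext g
      simpa [G] using h ⟨g.1, g.2⟩
  have hex' := Module.Flat.rTensor_exact B hex
  apply (hex' _).mp
  rw [LinearMap.rTensor_tmul]
  have h1 : G 1 = ∑ g : s, (g : A) • (Pi.single g (1 : A) : s → A) := by
    funext g'
    simp [G, Finset.sum_apply, Pi.single_apply]
  rw [h1, TensorProduct.sum_tmul]
  apply Finset.sum_eq_zero
  intro g _
  rw [TensorProduct.smul_tmul, ht g.1 (hs ▸ Ideal.subset_span g.2), TensorProduct.tmul_zero]

variable [IsNoetherianRing A] [Algebra.FiniteType A B]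

/-- **Noetherian case.** -/
theorem eq_zero_of_noetherian {J : Type*} (C : J → Type u) [∀ j, CommRing (C j)]
    [∀ j, Algebra A (C j)]
    (hsep : ∀ a x : A, (∀ j, ∃ n : ℕ, algebraMap A (C j) (a ^ n * x) = 0) → ∃ n : ℕ, a ^ n * x = 0)
    (t : B) (ht : ∀ j, (1 : C j) ⊗ₜ[A] t = 0) : t = 0 := by
  by_contra hne
  let 𝒯 : Submodule A B :=
    { carrier := {t | ∀ j, (1 : C j) ⊗ₜ[A] t = 0}
      add_mem' := fun {x y} hx hy j => by rw [TensorProduct.tmul_add, hx j, hy j, add_zero]
      zero_mem' := fun j => TensorProduct.tmul_zero _ _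
      smul_mem' := fun c x hx j => by rw [TensorProduct.tmul_smul, hx j, smul_zero] }
  let x₀ : 𝒯 := ⟨t, ht⟩
  have hx₀ : x₀ ≠ 0 := fun h => hne (congrArg Subtype.val h)
  obtain ⟨p, hp, -⟩ := exists_le_isAssociatedPrime_of_isNoetherianRing (R := A) x₀ hx₀
  rw [isAssociatedPrime_iff] at hp
  obtain ⟨hprime, ⟨t', ht'⟩, hpeq⟩ := hp
  have hmem : ∀ a : A, a ∈ p ↔ a • t' = 0 := by
    intro a
    rw [hpeq, Submodule.mem_colon_singleton, Submodule.mem_bot]
    constructor
    · intro h
      exact congrArg Subtype.val h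
    · intro h
      exact Subtype.ext h
  -- the `p`-torsion of `A`
  let K := Submodule.torsionBySet A A (p : Set A)
  obtain ⟨z, hz⟩ := exists_tmul_torsionBySet p (IsNoetherian.noetherian p) t'
    (fun a ha => (hmem a).mp ha)
  -- the maps `u j`
  let Ā := A ⧸ p
  let u : ∀ j, K →ₗ[Ā] Submodule.torsionBySet A (C j) (p : Set A) := fun j =>
    { toFun := fun k => ⟨algebraMap A (C j) k.1, by
        rw [Submodule.mem_torsionBySet_iff]
        intro a
        have := (Submodule.mem_torsionBySet_iff _ _).mp k.2 a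
        rw [Algebra.smul_def, ← map_mul, ← smul_eq_mul, this, map_zero]⟩
      map_add' := fun x y => by
        apply Subtype.ext
        simp
      map_smul' := fun c x => by
        obtain ⟨y, rfl⟩ := Ideal.Quotient.mk_surjective c
        apply Subtype.ext
        simp only [RingHom.id_apply]
        rw [Submodule.torsionBySet.mk_smul, Submodule.torsionBySet.mk_smul]
        simp [Algebra.smul_def] }
  have hu : ∀ j (k : K), ((u j k : Submodule.torsionBySet A (C j) (p : Set A)) : C j) =
      algebraMap A (C j) k.1 := fun j k => rfl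
  have hsep' : ∀ (a : Ā) (m : K), (∀ j, ∃ n : ℕ, u j (a ^ n • m) = 0) → ∃ n : ℕ, a ^ n • m = 0 := by
    intro a m h
    obtain ⟨y, rfl⟩ := Ideal.Quotient.mk_surjective a
    have h1 : ∀ j, ∃ n : ℕ, algebraMap A (C j) (y ^ n * m.1) = 0 := by
      intro j
      obtain ⟨n, hn⟩ := h j
      refine ⟨n, ?_⟩
      rw [← map_pow, Submodule.torsionBySet.mk_smul] at hn
      have := congrArg Subtype.val hn
      rw [hu] at this
      simpa using this
    obtain ⟨n, hn⟩ := hsep y m.1 h1
    refine ⟨n, ?_⟩
    rw [← map_pow, Submodule.torsionBySet.mk_smul]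
    apply Subtype.ext
    simpa using hn
  have hz' : ∀ j, LinearMap.rTensor B ((u j).restrictScalars A) z = 0 := by
    intro j
    have hinj : Function.Injective
        (LinearMap.rTensor B (Submodule.torsionBySet A (C j) (p : Set A)).subtype) :=
      Module.Flat.rTensor_preserves_injective_linearMap _ (Subtype.val_injective)
    apply hinj
    rw [map_zero, ← LinearMap.rTensor_comp_apply]
    have hcomp : (Submodule.torsionBySet A (C j) (p : Set A)).subtype ∘ₗ (u j).restrictScalars A =
        (Algebra.linearMap A (C j)) ∘ₗ K.subtype := by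
      ext k
      rfl
    rw [hcomp, LinearMap.rTensor_comp_apply, hz, LinearMap.rTensor_tmul]
    simpa using ht' j
  obtain ⟨a, ha0, haz⟩ := exists_smul_eq_zero_of_domain (A := A) (Ā := Ā) (B := B) (M := K)
    (fun j => Submodule.torsionBySet A (C j) (p : Set A)) u hsep' z hz'
  obtain ⟨y, rfl⟩ := Ideal.Quotient.mk_surjective a
  apply ha0
  rw [Ideal.Quotient.eq_zero_iff_mem, hmem]
  have h1 : y • z = 0 := by
    rw [← haz]
    exact (algebraMap_smul Ā y z).symm
  have h2 := congrArg (LinearMap.rTensor B K.subtype) h1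
  rw [map_smul, hz, map_zero, ← TensorProduct.tmul_smul] at h2
  have h3 := congrArg (TensorProduct.lid A B) h2
  simpa using h3

end Noeth

section Desc

lemma exists_fg_subalgebra_tmul {A₀ A B₀ : Type*} [CommRing A₀] [CommRing A] [Algebra A₀ A]
    [AddCommGroup B₀] [Module A₀ B₀] (z : A ⊗[A₀] B₀) :
    ∃ S : Subalgebra A₀ A, S.FG ∧ ∃ zS : S ⊗[A₀] B₀,
      LinearMap.rTensor B₀ S.val.toLinearMap zS = z := by
  induction z using TensorProduct.induction_on with
  | zero => exact ⟨⊥, Subalgebra.fg_bot, 0, map_zero _⟩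
  | tmul a y =>
    refine ⟨Algebra.adjoin A₀ {a}, by simpa using Subalgebra.fg_adjoin_finset (R := A₀) ({a} : Finset A),
      (⟨a, Algebra.subset_adjoin (Set.mem_singleton a)⟩ : Algebra.adjoin A₀ {a}) ⊗ₜ y, ?_⟩
    simp
  | add x y hx hy =>
    obtain ⟨S₁, h₁, z₁, hz₁⟩ := hx
    obtain ⟨S₂, h₂, z₂, hz₂⟩ := hy
    refine ⟨S₁ ⊔ S₂, h₁.sup h₂,
      LinearMap.rTensor B₀ (Subalgebra.inclusion (le_sup_left : S₁ ≤ S₁ ⊔ S₂)).toLinearMap z₁ +
      LinearMap.rTensor B₀ (Subalgebra.inclusion (le_sup_right : S₂ ≤ S₁ ⊔ S₂)).toLinearMap z₂, ?_⟩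
    rw [map_add, ← LinearMap.rTensor_comp_apply, ← LinearMap.rTensor_comp_apply, ← hz₁, ← hz₂]
    rfl

variable {A B : Type u} [CommRing A] [CommRing B] [Algebra A B] [Module.Flat A B]
    [Algebra.FinitePresentation A B]

/-- **Main ring-level theorem.** -/
theorem eq_zero_of_flat_finitePresentation {J : Type*} (C : J → Type u) [∀ j, CommRing (C j)]
    [∀ j, Algebra A (C j)]
    (hsep : ∀ a x : A, (∀ j, ∃ n : ℕ, algebraMap A (C j) (a ^ n * x) = 0) → ∃ n : ℕ, a ^ n * x = 0)
    (t : B) (ht : ∀ j, (1 : C j) ⊗ₜ[A] t = 0) : t = 0 := by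
  obtain ⟨A₀, B₀, _, _, _, _, hft, hfp, hflat, ⟨e⟩⟩ :=
    Groth.Agent.H48.FlatLimit.exists_model_flat A B
  obtain ⟨S, hS, zS, hzS⟩ := exists_fg_subalgebra_tmul (e t)
  haveI : IsNoetherianRing A₀ := Algebra.FiniteType.isNoetherianRing ℤ A₀
  haveI : Algebra.FiniteType A₀ S := (Subalgebra.fg_iff_finiteType S).mp hS
  haveI : IsNoetherianRing S := Algebra.FiniteType.isNoetherianRing A₀ S
  letI : ∀ j, Algebra A₀ (C j) := fun j => ((algebraMap A (C j)).comp (algebraMap A₀ A)).toAlgebra
  haveI : ∀ j, IsScalarTower A₀ A (C j) := fun j => IsScalarTower.of_algebraMap_eq (fun _ => rfl)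
  have hzS0 : zS = 0 := by
    apply eq_zero_of_noetherian (A := S) (B := S ⊗[A₀] B₀) C
    · intro a x h
      have h1 : ∀ j, ∃ n : ℕ, algebraMap A (C j) ((a : A) ^ n * (x : A)) = 0 := h
      obtain ⟨n, hn⟩ := hsep a x h1
      exact ⟨n, Subtype.ext hn⟩
    · intro j
      -- transfer along the two cancellation isomorphisms
      have h1 : (1 : C j) ⊗ₜ[A] (e t) = 0 := by
        have h2 : LinearMap.lTensor (C j) e.toLinearMap ((1 : C j) ⊗ₜ[A] t) = 0 := by
          rw [ht j, map_zero]
        simpa using h2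
      have key : ∀ w : S ⊗[A₀] B₀,
          AlgebraTensorModule.cancelBaseChange A₀ S (C j) (C j) B₀ ((1 : C j) ⊗ₜ[S] w) =
          AlgebraTensorModule.cancelBaseChange A₀ A (C j) (C j) B₀
            ((1 : C j) ⊗ₜ[A] (LinearMap.rTensor B₀ S.val.toLinearMap w)) := by
        intro w
        induction w using TensorProduct.induction_on with
        | zero => simp
        | tmul s y => simp; rfl
        | add x y hx hy => simp only [TensorProduct.tmul_add, map_add, hx, hy]
      apply (AlgebraTensorModule.cancelBaseChange A₀ S (C j) (C j) B₀).injective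
      rw [key, hzS, h1, map_zero, map_zero]
  apply e.injective
  rw [← hzS, hzS0, map_zero, map_zero]

end Desc

end Groth.Agent.H21.SepFam
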