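import Groth.Agent.H21.SepFam

/-!
# Separating families of module maps and flat base change (helper21)

Module version of `H21/SepFam.lean` (EGA IV 11.9): ring-level cores of S4909 etc.
Orientation `M ⊗[A] B`.
-/

open TensorProduct

universe u

namespace Groth.Agent.H21.SepMod

open Groth.Agent.H21.SepFam

section Noeth

variable {A B : Type u} [CommRing A] [CommRing B] [Algebra A B] [Module.Flat A B]

/-- flatness: an element of `M ⊗ B` killed by a finitely generated ideal `p` comes from
`M[p] ⊗ B`. -/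
lemma exists_tmul_torsionBySet {M : Type*} [AddCommGroup M] [Module A M] (p : Ideal A) (hp : p.FG)
    (z : M ⊗[A] B) (hz : ∀ a ∈ p, a • z = 0) :
    ∃ z' : (Submodule.torsionBySet A M (p : Set A)) ⊗[A] B,
      LinearMap.rTensor B (Submodule.torsionBySet A M (p : Set A)).subtype z' = z := by
  classical
  obtain ⟨s, hs⟩ := hp
  let G : M →ₗ[A] (s → M) := LinearMap.pi (fun g => (g : A) • LinearMap.id)
  have hex : Function.Exact (Submodule.torsionBySet A M (p : Set A)).subtype G := by
    intro x
    rw [Submodule.coe_subtype, Subtype.range_coe_subtype]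
    change G x = 0 ↔ x ∈ Submodule.torsionBySet A M (p : Set A)
    rw [← hs, ← Submodule.torsionBySet_eq_torsionBySet_span,
      Submodule.mem_torsionBySet_iff]
    constructor
    · intro h g
      have := congrFun h ⟨g.1, g.2⟩
      simpa [G] using this
    · intro h
      funext g
      simpa [G] using h ⟨g.1, g.2⟩
  have hex' := Module.Flat.rTensor_exact B hex
  apply (hex' _).mp
  have hid : (∑ g : s, (LinearMap.single A (fun _ : s => M) g) ∘ₗ (LinearMap.proj g)) =
      (LinearMap.id : (s → M) →ₗ[A] (s → M)) := by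
    ext x g'
    simp [LinearMap.sum_apply, Finset.sum_apply, Pi.single_apply]
  have h1 : G.rTensor B z = (LinearMap.rTensorHom B (LinearMap.id : (s → M) →ₗ[A] (s → M)))
      (G.rTensor B z) := by simp
  rw [h1, ← hid, map_sum, LinearMap.sum_apply]
  apply Finset.sum_eq_zero
  intro g _
  change ((LinearMap.single A (fun _ : s => M) g) ∘ₗ (LinearMap.proj g)).rTensor B
    (G.rTensor B z) = 0
  rw [← LinearMap.rTensor_comp_apply, LinearMap.comp_assoc]
  have h2 : (LinearMap.proj g : (s → M) →ₗ[A] M) ∘ₗ G = (g : A) • LinearMap.id := by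
    ext m; simp [G]
  rw [h2, LinearMap.rTensor_comp_apply, LinearMap.rTensor_smul, LinearMap.rTensor_id,
    LinearMap.smul_apply, LinearMap.id_apply, hz g.1 (hs ▸ Ideal.subset_span g.2), map_zero]

/-- restriction of a linear map to `p`-torsion, as an `A ⧸ p`-linear map. -/
noncomputable def torsionMap {M N : Type*} [AddCommGroup M] [Module A M] [AddCommGroup N]
    [Module A N] (p : Ideal A) (u : M →ₗ[A] N) :
    Submodule.torsionBySet A M (p : Set A) →ₗ[A ⧸ p] Submodule.torsionBySet A N (p : Set A) where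
  toFun k := ⟨u k.1, by
    rw [Submodule.mem_torsionBySet_iff]
    intro a
    have := (Submodule.mem_torsionBySet_iff _ _).mp k.2 a
    rw [← map_smul, this, map_zero]⟩
  map_add' x y := by
    apply Subtype.ext
    simp
  map_smul' c x := by
    obtain ⟨y, rfl⟩ := Ideal.Quotient.mk_surjective c
    apply Subtype.ext
    simp only [RingHom.id_apply]
    rw [Submodule.torsionBySet.mk_smul, Submodule.torsionBySet.mk_smul]
    simp

lemma torsionMap_coe {M N : Type*} [AddCommGroup M] [Module A M] [AddCommGroup N]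
    [Module A N] (p : Ideal A) (u : M →ₗ[A] N) (k : Submodule.torsionBySet A M (p : Set A)) :
    ((torsionMap p u k : Submodule.torsionBySet A N (p : Set A)) : N) = u k.1 := rfl

variable [IsNoetherianRing A] [Algebra.FiniteType A B]

/-- **Noetherian case, module version.** -/
theorem eq_zero_of_noetherian {M : Type u} [AddCommGroup M] [Module A M] {J : Type*}
    (N : J → Type u) [∀ j, AddCommGroup (N j)] [∀ j, Module A (N j)] (u : ∀ j, M →ₗ[A] N j)
    (hsep : ∀ (a : A) (m : M), (∀ j, ∃ n : ℕ, u j (a ^ n • m) = 0) → ∃ n : ℕ, a ^ n • m = 0)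
    (z : M ⊗[A] B) (hz : ∀ j, LinearMap.rTensor B (u j) z = 0) : z = 0 := by
  by_contra hne
  let 𝒯 : Submodule A (M ⊗[A] B) := ⨅ j, LinearMap.ker (LinearMap.rTensor B (u j))
  have hz𝒯 : z ∈ 𝒯 := by
    simp only [𝒯, Submodule.mem_iInf, LinearMap.mem_ker]
    exact hz
  let x₀ : 𝒯 := ⟨z, hz𝒯⟩
  have hx₀ : x₀ ≠ 0 := fun h => hne (congrArg Subtype.val h)
  obtain ⟨p, hp, -⟩ := exists_le_isAssociatedPrime_of_isNoetherianRing (R := A) x₀ hx₀
  rw [isAssociatedPrime_iff] at hp
  obtain ⟨hprime, ⟨z', hz'⟩, hpeq⟩ := hp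
  have hz'j : ∀ j, LinearMap.rTensor B (u j) z' = 0 := by
    simpa only [𝒯, Submodule.mem_iInf, LinearMap.mem_ker] using hz'
  have hmem : ∀ a : A, a ∈ p ↔ a • z' = 0 := by
    intro a
    rw [hpeq, Submodule.mem_colon_singleton, Submodule.mem_bot]
    constructor
    · intro h
      exact congrArg Subtype.val h
    · intro h
      exact Subtype.ext h
  let K := Submodule.torsionBySet A M (p : Set A)
  obtain ⟨w, hw⟩ := exists_tmul_torsionBySet (M := M) p (IsNoetherian.noetherian p) z'
    (fun a ha => (hmem a).mp ha)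
  let Ā := A ⧸ p
  have hsep' : ∀ (a : Ā) (m : K), (∀ j, ∃ n : ℕ, torsionMap p (u j) (a ^ n • m) = 0) →
      ∃ n : ℕ, a ^ n • m = 0 := by
    intro a m h
    obtain ⟨y, rfl⟩ := Ideal.Quotient.mk_surjective a
    have h1 : ∀ j, ∃ n : ℕ, u j (y ^ n • m.1) = 0 := by
      intro j
      obtain ⟨n, hn⟩ := h j
      refine ⟨n, ?_⟩
      rw [← map_pow, Submodule.torsionBySet.mk_smul] at hn
      have := congrArg Subtype.val hn
      rw [torsionMap_coe] at this
      simpa using this
    obtain ⟨n, hn⟩ := hsep y m.1 h1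
    refine ⟨n, ?_⟩
    rw [← map_pow, Submodule.torsionBySet.mk_smul]
    apply Subtype.ext
    simpa using hn
  have hw' : ∀ j, LinearMap.rTensor B ((torsionMap p (u j)).restrictScalars A) w = 0 := by
    intro j
    have hinj : Function.Injective
        (LinearMap.rTensor B (Submodule.torsionBySet A (N j) (p : Set A)).subtype) :=
      Module.Flat.rTensor_preserves_injective_linearMap _ (Subtype.val_injective)
    apply hinj
    rw [map_zero, ← LinearMap.rTensor_comp_apply]
    have hcomp : (Submodule.torsionBySet A (N j) (p : Set A)).subtype ∘ₗ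
        (torsionMap p (u j)).restrictScalars A = (u j) ∘ₗ K.subtype := by
      ext k
      rfl
    rw [hcomp, LinearMap.rTensor_comp_apply, hw, hz'j j]
  obtain ⟨a, ha0, haz⟩ := exists_smul_eq_zero_of_domain (A := A) (Ā := Ā) (B := B) (M := K)
    (fun j => Submodule.torsionBySet A (N j) (p : Set A)) (fun j => torsionMap p (u j)) hsep' w hw'
  obtain ⟨y, rfl⟩ := Ideal.Quotient.mk_surjective a
  apply ha0
  rw [Ideal.Quotient.eq_zero_iff_mem, hmem]
  have h1 : y • w = 0 := by
    rw [← haz]
    exact (algebraMap_smul Ā y w).symm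
  have h2 := congrArg (LinearMap.rTensor B K.subtype) h1
  rw [map_smul, hw, map_zero] at h2
  exact h2

end Noeth

section Desc

variable {A₀ A B₀ B : Type*} [CommRing A₀] [CommRing A] [Algebra A₀ A] [CommRing B₀]
  [Algebra A₀ B₀] [CommRing B] [Algebra A B] (e : B ≃ₐ[A] A ⊗[A₀] B₀)
  (M : Type*) [AddCommGroup M] [Module A M] [Module A₀ M] [IsScalarTower A₀ A M]

/-- `M ⊗[A] B ≃ M ⊗[A₀] B₀` when `B = A ⊗[A₀] B₀`. -/
noncomputable def modelEquiv : M ⊗[A] B ≃ₗ[A] M ⊗[A₀] B₀ :=
  (LinearEquiv.lTensor M e.toLinearEquiv) ≪≫ₗ (AlgebraTensorModule.cancelBaseChange A₀ A A M B₀)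

lemma modelEquiv_symm_tmul (m : M) (y : B₀) :
    (modelEquiv e M).symm (m ⊗ₜ[A₀] y) = m ⊗ₜ[A] e.symm ((1 : A) ⊗ₜ[A₀] y) := by
  simp [modelEquiv]

variable {M} {N : Type*} [AddCommGroup N] [Module A N] [Module A₀ N] [IsScalarTower A₀ A N]

lemma rTensor_modelEquiv_symm (u : M →ₗ[A] N) (w : M ⊗[A₀] B₀) :
    LinearMap.rTensor B u ((modelEquiv e M).symm w) =
      (modelEquiv e N).symm (LinearMap.rTensor B₀ (u.restrictScalars A₀) w) := by
  induction w using TensorProduct.induction_on with
  | zero => simp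
  | tmul m y => simp [modelEquiv_symm_tmul]
  | add x y hx hy => simp only [map_add, hx, hy]

end Desc

/-- **Main theorem, module version.** A separating family of linear maps stays jointly
injective after a flat, finitely presented base change. -/
theorem eq_zero_of_flat_finitePresentation {A B : Type u} [CommRing A] [CommRing B] [Algebra A B]
    [Module.Flat A B] [Algebra.FinitePresentation A B]
    {M : Type u} [AddCommGroup M] [Module A M] {J : Type*}
    (N : J → Type u) [∀ j, AddCommGroup (N j)] [∀ j, Module A (N j)] (u : ∀ j, M →ₗ[A] N j)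
    (hsep : ∀ (a : A) (m : M), (∀ j, ∃ n : ℕ, u j (a ^ n • m) = 0) → ∃ n : ℕ, a ^ n • m = 0)
    (z : M ⊗[A] B) (hz : ∀ j, LinearMap.rTensor B (u j) z = 0) : z = 0 := by
  obtain ⟨A₀, B₀, _, _, _, _, hft, hfp, hflat, ⟨e⟩⟩ :=
    Groth.Agent.H48.FlatLimit.exists_model_flat A B
  haveI : IsNoetherianRing A₀ := Algebra.FiniteType.isNoetherianRing ℤ A₀
  letI : Module A₀ M := Module.compHom M (algebraMap A₀ A)
  haveI : IsScalarTower A₀ A M := IsScalarTower.of_algebraMap_smul (fun _ _ => rfl)
  letI : ∀ j, Module A₀ (N j) := fun j => Module.compHom (N j) (algebraMap A₀ A)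
  haveI : ∀ j, IsScalarTower A₀ A (N j) := fun j =>
    IsScalarTower.of_algebraMap_smul (fun _ _ => rfl)
  apply (modelEquiv e M).injective
  rw [map_zero]
  apply eq_zero_of_noetherian (A := A₀) (B := B₀) N (fun j => (u j).restrictScalars A₀)
  · intro a m h
    obtain ⟨n, hn⟩ := hsep (algebraMap A₀ A a) m (fun j => by
      obtain ⟨n, hn⟩ := h j
      refine ⟨n, ?_⟩
      rw [← map_pow, algebraMap_smul]
      exact hn)
    refine ⟨n, ?_⟩
    rw [← map_pow, algebraMap_smul] at hn
    exact hn
  · intro j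
    apply (modelEquiv e (N j)).symm.injective
    rw [← rTensor_modelEquiv_symm, LinearEquiv.symm_apply_apply, hz j, map_zero]

end Groth.Agent.H21.SepMod
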