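import Groth.Agent.H21.SepModSch
import Groth.Agent.H49.ZeroDim

/-!
# Separating families of module maps: finite families and artinian bases (helper21)
-/

open CategoryTheory AlgebraicGeometry TensorProduct Opposite Limits

universe u

namespace Groth.Agent.H21.SepMod2

open Groth.Agent.H21.SepFam Groth.Agent.H21.SepMod Groth.Agent.H21.SepModSch

/-- finite jointly injective family, flat base change. -/
theorem eq_zero_of_flat_finite {A B : Type*} [CommRing A] [CommRing B] [Algebra A B]
    [Module.Flat A B] {M : Type*} [AddCommGroup M] [Module A M] {J : Type*} [Finite J]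
    (N : J → Type*) [∀ j, AddCommGroup (N j)] [∀ j, Module A (N j)] (u : ∀ j, M →ₗ[A] N j)
    (hker : ∀ m : M, (∀ j, u j m = 0) → m = 0)
    (z : M ⊗[A] B) (hz : ∀ j, LinearMap.rTensor B (u j) z = 0) : z = 0 := by
  classical
  haveI := Fintype.ofFinite J
  let φ : M →ₗ[A] (∀ j, N j) := LinearMap.pi u
  have hφ : Function.Injective φ := by
    rw [← LinearMap.ker_eq_bot, LinearMap.ker_eq_bot']
    intro m hm
    exact hker m (fun j => congrFun hm j)
  have hinj := Module.Flat.rTensor_preserves_injective_linearMap (M := B) φ hφ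
  apply hinj
  rw [map_zero]
  have hid : (∑ j : J, (LinearMap.single A N j) ∘ₗ (LinearMap.proj j)) =
      (LinearMap.id : (∀ j, N j) →ₗ[A] (∀ j, N j)) := by
    ext x j'
    simp [LinearMap.sum_apply, Finset.sum_apply, Pi.single_apply]
  have h1 : φ.rTensor B z = (LinearMap.rTensorHom B (LinearMap.id : (∀ j, N j) →ₗ[A] _))
      (φ.rTensor B z) := by simp
  rw [h1, ← hid, map_sum, LinearMap.sum_apply]
  apply Finset.sum_eq_zero
  intro j _
  change ((LinearMap.single A N j) ∘ₗ (LinearMap.proj j)).rTensor B (φ.rTensor B z) = 0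
  rw [← LinearMap.rTensor_comp_apply, LinearMap.comp_assoc]
  have h2 : (LinearMap.proj j : (∀ j, N j) →ₗ[A] N j) ∘ₗ φ = u j := by
    ext m; simp [φ]
  rw [h2, LinearMap.rTensor_comp_apply, hz j, map_zero]

/-- noetherian base with all primes maximal, arbitrary flat base change. -/
theorem eq_zero_of_artinian {A B : Type u} [CommRing A] [CommRing B] [Algebra A B]
    [Module.Flat A B] [IsNoetherianRing A] [Ring.KrullDimLE 0 A]
    {M : Type u} [AddCommGroup M] [Module A M] {J : Type*}
    (N : J → Type u) [∀ j, AddCommGroup (N j)] [∀ j, Module A (N j)] (u : ∀ j, M →ₗ[A] N j)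
    (hker : ∀ m : M, (∀ j, u j m = 0) → m = 0)
    (z : M ⊗[A] B) (hz : ∀ j, LinearMap.rTensor B (u j) z = 0) : z = 0 := by
  by_contra hne
  let 𝒯 : Submodule A (M ⊗[A] B) := ⨅ j, LinearMap.ker (LinearMap.rTensor B (u j))
  have hz𝒯 : z ∈ 𝒯 := by
    simp only [𝒯, Submodule.mem_iInf, LinearMap.mem_ker]
    exact hz
  let x₀ : 𝒯 := ⟨z, hz𝒯⟩
  have hx₀ : x₀ ≠ 0 := fun h => hne (congrArg Subtype.val h)
  obtain ⟨p, hp, -⟩ := exists_le_isAssociatedPrime_of_isNoetherianRing (R := A) x₀ hx₀
  rw [isAssociatedPrime_iff] at hp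
  obtain ⟨hprime, ⟨z', hz'⟩, hpeq⟩ := hp
  have hz'j : ∀ j, LinearMap.rTensor B (u j) z' = 0 := by
    simpa only [𝒯, Submodule.mem_iInf, LinearMap.mem_ker] using hz'
  have hmem : ∀ a : A, a ∈ p ↔ a • z' = 0 := by
    intro a
    rw [hpeq, Submodule.mem_colon_singleton, Submodule.mem_bot]
    constructor
    · intro h
      exact congrArg Subtype.val h
    · intro h
      exact Subtype.ext h
  let K := Submodule.torsionBySet A M (p : Set A)
  obtain ⟨w, hw⟩ := SepMod.exists_tmul_torsionBySet (M := M) p (IsNoetherian.noetherian p) z'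
    (fun a ha => (hmem a).mp ha)
  haveI hmax : p.IsMaximal := hprime.isMaximal'
  letI : Field (A ⧸ p) := Ideal.Quotient.field p
  have hw' : ∀ j, LinearMap.rTensor B ((torsionMap p (u j)).restrictScalars A) w = 0 := by
    intro j
    have hinj : Function.Injective
        (LinearMap.rTensor B (Submodule.torsionBySet A (N j) (p : Set A)).subtype) :=
      Module.Flat.rTensor_preserves_injective_linearMap _ (Subtype.val_injective)
    apply hinj
    rw [map_zero, ← LinearMap.rTensor_comp_apply]
    have hcomp : (Submodule.torsionBySet A (N j) (p : Set A)).subtype ∘ₗ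
        (torsionMap p (u j)).restrictScalars A = (u j) ∘ₗ K.subtype := by
      ext k
      rfl
    rw [hcomp, LinearMap.rTensor_comp_apply, hw, hz'j j]
  have hw0 : w = 0 := by
    refine SepFam.eq_zero_of_free (A := A) (R := A ⧸ p) (B := B) (N := K)
      (fun j => Submodule.torsionBySet A (N j) (p : Set A)) (fun j => torsionMap p (u j)) ?_ w hw'
    intro k hk
    apply Subtype.ext
    apply hker
    intro j
    have := congrArg Subtype.val (hk j)
    rwa [torsionMap_coe] at this
  have hz'0 : z' = 0 := by rw [← hw, hw0, map_zero]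
  have h1 : (1 : A) ∈ p := by rw [hmem, hz'0, smul_zero]
  exact hprime.ne_top ((Ideal.eq_top_iff_one p).mpr h1)

end Groth.Agent.H21.SepMod2
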