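import Groth.Agent.H21.SepMod2

/-!
# Separating families of module maps: faithfully flat descent (helper21)
-/

open CategoryTheory AlgebraicGeometry TensorProduct Opposite Limits

universe u

namespace Groth.Agent.H21.SepMod3

open Groth.Agent.H21.SepFam Groth.Agent.H21.SepMod Groth.Agent.H21.SepModSch
open Groth.Agent.H39.PullTrack

/-- if `1 ⊗ m = 0` in `B ⊗ M` with `B` flat, no prime of `B` lies over a prime containing
`ann m`. -/
lemma false_of_one_tmul_eq_zero {A B M : Type*} [CommRing A] [CommRing B] [Algebra A B]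
    [Module.Flat A B] [AddCommGroup M] [Module A M] (m : M) (hm : (1 : B) ⊗ₜ[A] m = 0)
    (q : Ideal B) [hq : q.IsPrime]
    (hle : ∀ a : A, a • m = 0 → algebraMap A B a ∈ q) : False := by
  let f : A →ₗ[A] M := LinearMap.toSpanSingleton A M m
  let I : Ideal A := LinearMap.ker f
  let ψ : (A ⧸ I) →ₗ[A] M := Submodule.liftQ I f le_rfl
  have hψ : Function.Injective ψ := by
    rw [← LinearMap.ker_eq_bot]
    exact Submodule.ker_liftQ_eq_bot _ _ _ le_rfl
  have hinj := Module.Flat.lTensor_preserves_injective_linearMap (M := B) ψ hψ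
  have h1 : (1 : B) ⊗ₜ[A] (Ideal.Quotient.mk I 1) = 0 := by
    apply hinj
    rw [map_zero, LinearMap.lTensor_tmul]
    have : ψ (Ideal.Quotient.mk I 1) = m := by
      change f 1 = m
      simp [f]
    rw [this, hm]
  have h2 := congrArg (TensorProduct.tensorQuotEquivQuotSMul B I) h1
  rw [TensorProduct.tensorQuotEquivQuotSMul_tmul_mk, map_zero, one_smul,
    Submodule.Quotient.mk_eq_zero] at h2
  have hsub : (I • (⊤ : Submodule A B)) ≤ q.restrictScalars A := by
    rw [Submodule.smul_le]
    intro r hr n _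
    change r • n ∈ q
    rw [Algebra.smul_def]
    apply Ideal.mul_mem_right
    apply hle
    have : f r = 0 := hr
    simpa [f] using this
  exact hq.ne_top ((Ideal.eq_top_iff_one q).mpr (hsub h2))

/-- joint faithful flatness. -/
theorem eq_zero_of_surjective_family {A : Type u} [CommRing A] {M : Type*} [AddCommGroup M]
    [Module A M] (m : M)
    (hcov : ∀ p : Ideal A, p.IsMaximal → ∃ (B : Type u) (_ : CommRing B) (_ : Algebra A B)
      (_ : Module.Flat A B) (q : Ideal B) (_ : q.IsPrime), q.comap (algebraMap A B) = p ∧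
        (1 : B) ⊗ₜ[A] m = 0) : m = 0 := by
  by_contra hne
  let I : Ideal A := LinearMap.ker (LinearMap.toSpanSingleton A M m)
  have hI : I ≠ ⊤ := by
    intro h
    have : (1 : A) ∈ I := by rw [h]; trivial
    have h1 : (LinearMap.toSpanSingleton A M m) 1 = 0 := this
    apply hne
    simpa using h1
  obtain ⟨p, hp, hIp⟩ := Ideal.exists_le_maximal I hI
  obtain ⟨B, _, _, _, q, hq, hqp, hm⟩ := hcov p hp
  refine false_of_one_tmul_eq_zero (B := B) m hm q ?_
  intro a ha
  have : a ∈ I := by
    change (LinearMap.toSpanSingleton A M m) a = 0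
    simpa using ha
  have h2 := hIp this
  rw [← hqp] at h2
  exact h2


lemma primeIdealOf_fromSpec {X : Scheme.{u}} {W : X.Opens} (hW : IsAffineOpen W)
    (p : PrimeSpectrum Γ(X, W)) (hx : hW.fromSpec p ∈ W) :
    hW.primeIdealOf ⟨hW.fromSpec p, hx⟩ = p := by
  apply hW.fromSpec.isOpenEmbedding.injective
  exact hW.fromSpec_primeIdealOf ⟨hW.fromSpec p, hx⟩

/-- **Faithfully flat descent of separating families.** -/
theorem separating_of_pullback_flat_surj {X X' : Scheme.{u}} (F : X.Modules) [F.IsQuasicoherent]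
    {ι : Type*} (G : ι → X.Modules) (u : ∀ i, F ⟶ G i) (g : X' ⟶ X) [Flat g] [Surjective g]
    (h : ∀ (V : X'.Opens) (t : Γ((Scheme.Modules.pullback g).obj F, V)),
      (∀ i, ((Scheme.Modules.pullback g).map (u i)).app V t = 0) → t = 0)
    (V : X.Opens) (t : Γ(F, V)) (ht : ∀ i, (u i).app V t = 0) : t = 0 := by
  apply eq_zero_of_forall_res F t IsAffineOpen
  · intro x hx
    obtain ⟨W, hW, hxW, hWle⟩ := TopologicalSpace.Opens.isBasis_iff_nbhd.mp
      X.isBasis_affineOpens hx
    exact ⟨W, hxW, hWle, hW⟩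
  · intro W hWV hW
    have hm : ∀ i, (u i).app W (F.presheaf.map (homOfLE hWV).op t) = 0 := fun i => by
      rw [app_res, ht i, map_zero]
    generalize F.presheaf.map (homOfLE hWV).op t = m at hm
    apply eq_zero_of_surjective_family (A := Γ(X, W)) m
    intro p hp
    have hxW : hW.fromSpec ⟨p, hp.isPrime⟩ ∈ W := by
      have h0 : hW.fromSpec ⟨p, hp.isPrime⟩ ∈ hW.fromSpec.opensRange := ⟨_, rfl⟩
      exact hW.opensRange_fromSpec.le h0
    obtain ⟨x', hx'⟩ := g.surjective (hW.fromSpec ⟨p, hp.isPrime⟩)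
    have hx'W : x' ∈ g ⁻¹ᵁ W := by
      change g x' ∈ W
      rw [hx']
      exact hxW
    obtain ⟨V', hV', hx'V', hV'le⟩ := TopologicalSpace.Opens.isBasis_iff_nbhd.mp
      X'.isBasis_affineOpens hx'W
    letI alg : Algebra Γ(X, W) Γ(X', V') := (g.appLE W V' hV'le).hom.toAlgebra
    have flat : Module.Flat Γ(X, W) Γ(X', V') :=
      HasRingHomProperty.appLE (P := @Flat) g inferInstance ⟨W, hW⟩ ⟨V', hV'⟩ hV'le
    refine ⟨Γ(X', V'), inferInstance, alg, flat, (hV'.primeIdealOf ⟨x', hx'V'⟩).asIdeal,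
      inferInstance, ?_, ?_⟩
    · have h1 := IsAffineOpen.comap_primeIdealOf_appLE (f := g) W hW V' hV' hV'le hx'V'
      have h2 : hW.primeIdealOf ⟨g x', hV'le hx'V'⟩ = ⟨p, hp.isPrime⟩ := by
        have := primeIdealOf_fromSpec hW ⟨p, hp.isPrime⟩ hxW
        rw [← this]
        congr 1
        exact Subtype.ext hx'
      rw [h2] at h1
      exact congrArg PrimeSpectrum.asIdeal h1
    · obtain ⟨E, hE⟩ := exists_sectionsPullbackEquiv g F hW hV' hV'le
      rw [← hE m]
      have : pullSectLE g F W V' hV'le m = 0 := by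
        apply h
        intro i
        rw [map_pullSectLE, hm i, map_zero]
      rw [this, LinearEquiv.map_zero]

end Groth.Agent.H21.SepMod3
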