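import Groth.Agent.H21.SepModField
import Groth.Agent.H8.FlatAffine

/-!
# Separating families of module maps: base change over an affine base, passage to the limit
(helper21)

* `exists_equiv_tensor_of_pullback`, `ring_of_separating_pullback`: two-way transfer between
  sections of a pulled back module over an affine open and the tensor product.
* `exists_chart_equiv_spec`, `chart_spec_loc`: the affine charts of `X ×_{Spec A₀} Spec A'`.
* `separating_pullback_limit`: EGA IV 11.9.6 in the case `Z_λ = X`.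
-/

open CategoryTheory AlgebraicGeometry TensorProduct Opposite Limits

universe u

namespace Groth.Agent.H21.SepModBC

open Groth.Agent.H21.SepModSch Groth.Agent.H21.SepModLim Groth.Agent.H39.PullTrack
open Groth.Agent.H21.SepModField

/-- `Spec A' ⟶ Spec A₀` for an `A₀`-algebra `A'`. -/
noncomputable abbrev specMap (A₀ : CommRingCat.{u}) (A' : Type u) [CommRing A'] [Algebra A₀ A'] :
    Spec (CommRingCat.of A') ⟶ Spec A₀ :=
  Spec.map (CommRingCat.ofHom (algebraMap A₀ A'))

/-- flatness along a ring isomorphism. -/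
lemma flat_of_ringEquiv {R₁ R₂ : Type*} [CommRing R₁] [CommRing R₂] (e : R₂ ≃+* R₁)
    (N : Type*) [AddCommGroup N] [Module R₁ N] [Module.Flat R₁ N] :
    letI := Module.compHom N e.toRingHom
    Module.Flat R₂ N := by
  letI := Module.compHom N e.toRingHom
  letI : Algebra R₂ R₁ := e.toRingHom.toAlgebra
  haveI : IsScalarTower R₂ R₁ N := IsScalarTower.of_algebraMap_smul (fun _ _ => rfl)
  haveI : Module.Flat R₂ R₁ := RingHom.Flat.of_bijective (f := e.toRingHom) e.bijective
  exact Module.Flat.trans R₂ R₁ N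

/-- two localizations identified through a ring isomorphism of the bases. -/
lemma exists_algEquiv_of_localizations {A Q B : Type*} [CommRing A] [CommRing Q] [Algebra A Q]
    [CommRing B] [Algebra A B] (ε : Q ≃+* B)
    (hε : ∀ a, ε (algebraMap A Q a) = algebraMap A B a) (b : Q)
    (Q' : Type*) [CommRing Q'] [Algebra Q Q'] [Algebra A Q'] [IsScalarTower A Q Q']
    [IsLocalization.Away b Q']
    (B' : Type*) [CommRing B'] [Algebra B B'] [Algebra A B'] [IsScalarTower A B B']
    [IsLocalization.Away (ε b) B'] : Nonempty (Q' ≃ₐ[A] B') := by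
  letI : Algebra Q B' := ((algebraMap B B').comp ε.toRingHom).toAlgebra
  haveI : IsScalarTower A Q B' := by
    apply IsScalarTower.of_algebraMap_eq
    intro a
    change algebraMap A B' a = algebraMap B B' (ε (algebraMap A Q a))
    rw [hε, ← IsScalarTower.algebraMap_apply]
  haveI : IsLocalization.Away b B' := by
    refine IsLocalization.of_ringEquiv_left (K := B') ε (M₁ := Submonoid.powers (ε b))
      (M₂ := Submonoid.powers b) ?_ (fun x => rfl)
    rw [Submonoid.map_powers]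
  exact ⟨(IsLocalization.algEquiv (Submonoid.powers b) Q' B').restrictScalars A⟩

section Transport

variable {A B₁ B₂ : Type*} [CommRing A] [CommRing B₁] [Algebra A B₁] [CommRing B₂] [Algebra A B₂]
  {M : Type*} [AddCommGroup M] [Module A M] {J : Type*}
  (N : J → Type*) [∀ j, AddCommGroup (N j)] [∀ j, Module A (N j)] (u : ∀ j, M →ₗ[A] N j)

/-- joint injectivity is invariant under isomorphisms of the algebra. -/
lemma jointInj_of_algEquiv (e : B₁ ≃ₐ[A] B₂)
    (h : ∀ z : B₂ ⊗[A] M, (∀ j, LinearMap.lTensor B₂ (u j) z = 0) → z = 0)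
    (z : B₁ ⊗[A] M) (hz : ∀ j, LinearMap.lTensor B₁ (u j) z = 0) : z = 0 := by
  have h1 := h (LinearMap.rTensor M e.toAlgHom.toLinearMap z) (fun j => by
    rw [lTensor_rTensor e.toAlgHom, hz j, map_zero])
  have h2 := congrArg (LinearMap.rTensor M e.symm.toAlgHom.toLinearMap) h1
  rw [map_zero, ← LinearMap.rTensor_comp_apply] at h2
  have h3 : e.symm.toAlgHom.toLinearMap ∘ₗ e.toAlgHom.toLinearMap = LinearMap.id := by
    ext x; simp
  rwa [h3, LinearMap.rTensor_id, LinearMap.id_apply] at h2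

end Transport

section Chart

variable {X : Scheme.{u}} {A₀ : CommRingCat.{u}} (A' : Type u) [CommRing A'] [Algebra A₀ A']
  (p : X ⟶ Spec A₀)

set_option maxHeartbeats 1000000 in
/-- the chart `fst⁻¹ U ⊓ snd⁻¹ ⊤` of `X ×_{Spec A₀} Spec A'`. -/
theorem exists_chart_equiv_spec {U : X.Opens} (hU : IsAffineOpen U) :
    letI : Algebra A₀ Γ(X, U) :=
      ((Scheme.ΓSpecIso A₀).inv ≫ p.appLE ⊤ U le_top).hom.toAlgebra
    IsAffineOpen ((pullback.fst p (specMap A₀ A')) ⁻¹ᵁ U ⊓
      (pullback.snd p (specMap A₀ A')) ⁻¹ᵁ ⊤) ∧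
    ∃ ε : Γ(X, U) ⊗[A₀] A' ≃+* Γ(pullback p (specMap A₀ A'),
        (pullback.fst p (specMap A₀ A')) ⁻¹ᵁ U ⊓ (pullback.snd p (specMap A₀ A')) ⁻¹ᵁ ⊤),
      ∀ a : Γ(X, U), ε (a ⊗ₜ 1) =
        ((pullback.fst p (specMap A₀ A')).appLE U _ inf_le_left) a := by
  letI : Algebra A₀ Γ(X, U) :=
    ((Scheme.ΓSpecIso A₀).inv ≫ p.appLE ⊤ U le_top).hom.toAlgebra
  unfold specMap
  generalize hφ : CommRingCat.ofHom (algebraMap A₀ A') = φ
  have H : IsPullback (pullback.fst p (Spec.map φ)) (pullback.snd p (Spec.map φ)) p (Spec.map φ) :=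
    IsPullback.of_hasPullback p (Spec.map φ)
  have hUS : IsAffineOpen (⊤ : (Spec A₀).Opens) := isAffineOpen_top _
  have hT : IsAffineOpen (⊤ : (Spec (CommRingCat.of A')).Opens) := isAffineOpen_top _
  have hUST : (⊤ : (Spec (CommRingCat.of A')).Opens) ≤ (Spec.map φ) ⁻¹ᵁ ⊤ := le_top
  have hUSX : U ≤ p ⁻¹ᵁ ⊤ := le_top
  have hW' := isAffineOpen_chart H hUST hUSX hUS hT hU
  refine ⟨hW', ?_⟩
  have Hpo := (isIso_pushoutSection_iff H hUST hUSX rfl).mp
    (isIso_pushoutSection_of_isAffineOpen H hUST hUSX rfl hUS hT hU)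
  have Hpo' : IsPushout ((Scheme.ΓSpecIso A₀).inv ≫ p.appLE ⊤ U le_top) φ
      ((pullback.fst p (Spec.map φ)).appLE U _ inf_le_left)
      ((Scheme.ΓSpecIso (CommRingCat.of A')).inv ≫
        (pullback.snd p (Spec.map φ)).appLE ⊤ _ inf_le_right) := by
    refine Hpo.of_iso (Scheme.ΓSpecIso A₀) (Iso.refl _) (Scheme.ΓSpecIso (CommRingCat.of A'))
      (Iso.refl _) ?_ ?_ ?_ ?_
    · simp
    · have := Scheme.ΓSpecIso_naturality φ
      refine Eq.trans ?_ this
      congr 1
    · simp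
    · simp
  subst hφ
  let ε := ((CommRingCat.isPushout_tensorProduct A₀ Γ(X, U) A').isoIsPushout _ _
    Hpo').commRingCatIsoToRingEquiv
  refine ⟨ε, fun a => ?_⟩
  have := (CommRingCat.isPushout_tensorProduct A₀ Γ(X, U) A').inl_isoIsPushout_hom _ _ Hpo'
  exact congrArg (fun ψ => ψ.hom a) this

set_option maxHeartbeats 1000000 in
/-- basic opens of the chart are localizations of the tensor product. -/
theorem chart_spec_loc {U : X.Opens} (hU : IsAffineOpen U) :
    letI : Algebra A₀ Γ(X, U) :=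
      ((Scheme.ΓSpecIso A₀).inv ≫ p.appLE ⊤ U le_top).hom.toAlgebra
    IsAffineOpen ((pullback.fst p (specMap A₀ A')) ⁻¹ᵁ U ⊓
      (pullback.snd p (specMap A₀ A')) ⁻¹ᵁ ⊤) ∧
    ∃ ε : Γ(X, U) ⊗[A₀] A' ≃+* Γ(pullback p (specMap A₀ A'),
        (pullback.fst p (specMap A₀ A')) ⁻¹ᵁ U ⊓ (pullback.snd p (specMap A₀ A')) ⁻¹ᵁ ⊤),
      ∀ b : Γ(X, U) ⊗[A₀] A',
        letI : Algebra Γ(X, U)
            Γ(pullback p (specMap A₀ A'), (pullback p (specMap A₀ A')).basicOpen (ε b)) :=
          ((pullback.fst p (specMap A₀ A')).appLE U _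
            (((pullback p (specMap A₀ A')).basicOpen_le (ε b)).trans inf_le_left)).hom.toAlgebra
        Nonempty (Localization.Away b ≃ₐ[Γ(X, U)]
          Γ(pullback p (specMap A₀ A'), (pullback p (specMap A₀ A')).basicOpen (ε b))) := by
  letI : Algebra A₀ Γ(X, U) :=
    ((Scheme.ΓSpecIso A₀).inv ≫ p.appLE ⊤ U le_top).hom.toAlgebra
  obtain ⟨hW', ε, hε⟩ := exists_chart_equiv_spec A' p hU
  refine ⟨hW', ε, fun b => ?_⟩
  have eW' : (pullback.fst p (specMap A₀ A')) ⁻¹ᵁ U ⊓ (pullback.snd p (specMap A₀ A')) ⁻¹ᵁ ⊤ ≤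
      (pullback.fst p (specMap A₀ A')) ⁻¹ᵁ U := inf_le_left
  letI : Algebra Γ(X, U) Γ(pullback p (specMap A₀ A'),
      (pullback.fst p (specMap A₀ A')) ⁻¹ᵁ U ⊓ (pullback.snd p (specMap A₀ A')) ⁻¹ᵁ ⊤) :=
    ((pullback.fst p (specMap A₀ A')).appLE U _ eW').hom.toAlgebra
  letI : Algebra Γ(X, U)
      Γ(pullback p (specMap A₀ A'), (pullback p (specMap A₀ A')).basicOpen (ε b)) :=
    ((pullback.fst p (specMap A₀ A')).appLE U _
      (((pullback p (specMap A₀ A')).basicOpen_le (ε b)).trans inf_le_left)).hom.toAlgebra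
  haveI : IsScalarTower Γ(X, U)
      Γ(pullback p (specMap A₀ A'),
        (pullback.fst p (specMap A₀ A')) ⁻¹ᵁ U ⊓ (pullback.snd p (specMap A₀ A')) ⁻¹ᵁ ⊤)
      Γ(pullback p (specMap A₀ A'), (pullback p (specMap A₀ A')).basicOpen (ε b)) := by
    apply IsScalarTower.of_algebraMap_eq
    intro a
    have := Scheme.Hom.appLE_map (pullback.fst p (specMap A₀ A')) eW'
      (homOfLE ((pullback p (specMap A₀ A')).basicOpen_le (ε b))).op
    exact (congrArg (fun φ => φ.hom a) this).symm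
  haveI : IsLocalization.Away (ε b)
      Γ(pullback p (specMap A₀ A'), (pullback p (specMap A₀ A')).basicOpen (ε b)) :=
    hW'.isLocalization_basicOpen (ε b)
  exact exists_algEquiv_of_localizations (A := Γ(X, U)) ε hε b (Localization.Away b) _

end Chart

/-- two-way transfer between sections of a pullback over an affine open and the tensor product. -/
theorem exists_equiv_tensor_of_pullback {X X' : Scheme.{u}} (F : X.Modules) [F.IsQuasicoherent]
    {ι : Type*} (G : ι → X.Modules) [∀ i, (G i).IsQuasicoherent] (u : ∀ i, F ⟶ G i) (g : X' ⟶ X)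
    {U : X.Opens} (hU : IsAffineOpen U) {V' : X'.Opens} (hV' : IsAffineOpen V')
    (e : V' ≤ g ⁻¹ᵁ U) :
    letI := (g.appLE U V' e).hom.toAlgebra
    ∃ EF : Γ((Scheme.Modules.pullback g).obj F, V') ≃ₗ[Γ(X', V')] Γ(X', V') ⊗[Γ(X, U)] Γ(F, U),
      ∀ (t : Γ((Scheme.Modules.pullback g).obj F, V')) (i : ι),
        ((Scheme.Modules.pullback g).map (u i)).app V' t = 0 ↔
          LinearMap.lTensor Γ(X', V') (appₗ (u i) U) (EF t) = 0 := by
  letI := (g.appLE U V' e).hom.toAlgebra
  obtain ⟨EF, hEF⟩ := exists_sectionsPullbackEquiv g F hU hV' e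
  refine ⟨EF, fun t i => ?_⟩
  obtain ⟨EG, hEG⟩ := exists_sectionsPullbackEquiv g (G i) hU hV' e
  let φ₁ : Γ(X', V') ⊗[Γ(X, U)] Γ(F, U) →ₗ[Γ(X', V')] Γ(X', V') ⊗[Γ(X, U)] Γ(G i, U) :=
    EG.toLinearMap ∘ₗ (appₗ ((Scheme.Modules.pullback g).map (u i)) V') ∘ₗ EF.symm.toLinearMap
  have hφ : φ₁ = LinearMap.baseChange Γ(X', V') (appₗ (u i) U) := by
    apply TensorProduct.AlgebraTensorModule.ext
    intro b x
    have hb : b ⊗ₜ[Γ(X, U)] x = b • ((1 : Γ(X', V')) ⊗ₜ[Γ(X, U)] x) := by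
      rw [TensorProduct.smul_tmul', smul_eq_mul, mul_one]
    rw [hb, LinearMap.map_smul, LinearMap.map_smul, LinearMap.baseChange_tmul]
    congr 1
    change EG ((appₗ ((Scheme.Modules.pullback g).map (u i)) V') (EF.symm (1 ⊗ₜ x))) = _
    rw [← hEF x, LinearEquiv.symm_apply_apply, appₗ_apply, map_pullSectLE, hEG]
    rfl
  have h1 : LinearMap.lTensor Γ(X', V') (appₗ (u i) U) (EF t) =
      EG (((Scheme.Modules.pullback g).map (u i)).app V' t) := by
    change LinearMap.baseChange Γ(X', V') (appₗ (u i) U) (EF t) = _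
    rw [← hφ]
    change EG ((appₗ ((Scheme.Modules.pullback g).map (u i)) V') (EF.symm (EF t))) = _
    rw [LinearEquiv.symm_apply_apply, appₗ_apply]
  rw [h1]
  constructor
  · intro h0; rw [h0, LinearEquiv.map_zero]
  · intro h0; exact EG.injective (h0.trans (LinearEquiv.map_zero _).symm)

/-- ring-level joint injectivity on an affine pair, from the sheaf-level separation upstairs. -/
theorem ring_of_separating_pullback {X X' : Scheme.{u}} (F : X.Modules) [F.IsQuasicoherent]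
    {ι : Type*} (G : ι → X.Modules) [∀ i, (G i).IsQuasicoherent] (u : ∀ i, F ⟶ G i) (g : X' ⟶ X)
    (h : ∀ (V : X'.Opens) (t : Γ((Scheme.Modules.pullback g).obj F, V)),
      (∀ i, ((Scheme.Modules.pullback g).map (u i)).app V t = 0) → t = 0)
    {U : X.Opens} (hU : IsAffineOpen U) {V' : X'.Opens} (hV' : IsAffineOpen V')
    (e : V' ≤ g ⁻¹ᵁ U) :
    letI := (g.appLE U V' e).hom.toAlgebra
    ∀ z : Γ(X', V') ⊗[Γ(X, U)] Γ(F, U),
      (∀ i, LinearMap.lTensor Γ(X', V') (appₗ (u i) U) z = 0) → z = 0 := by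
  letI := (g.appLE U V' e).hom.toAlgebra
  obtain ⟨EF, hEF⟩ := exists_equiv_tensor_of_pullback F G u g hU hV' e
  intro z hz
  have h0 : EF.symm z = 0 := by
    apply h
    intro i
    rw [hEF, LinearEquiv.apply_symm_apply]
    exact hz i
  have := congrArg EF h0
  rwa [LinearEquiv.apply_symm_apply, LinearEquiv.map_zero] at this


section Limit

variable {X : Scheme.{u}} {A₀ : CommRingCat.{u}} (p : X ⟶ Spec A₀)
  (F : X.Modules) [F.IsQuasicoherent] {ι : Type*} (G : ι → X.Modules)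
  [∀ i, (G i).IsQuasicoherent] (u : ∀ i, F ⟶ G i)

/-- sections over an affine open of a module flat over `Spec A₀` are flat over `A₀`. -/
lemma flat_sections_spec (hG : ∀ i, FlatMod.IsFlatOver p (G i)) {U : X.Opens}
    (hU : IsAffineOpen U) (i : ι) :
    letI : Algebra A₀ Γ(X, U) :=
      ((Scheme.ΓSpecIso A₀).inv ≫ p.appLE ⊤ U le_top).hom.toAlgebra
    letI : Module A₀ Γ(G i, U) := Module.compHom _ (algebraMap A₀ Γ(X, U))
    Module.Flat A₀ Γ(G i, U) := by
  have h1 := Groth.Agent.H8.flat_sections_of_isFlatOverAt p (G i) hU (isAffineOpen_top _)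
    (le_top : U ≤ p ⁻¹ᵁ ⊤) (fun x _ => hG i x)
  letI m1 : Module Γ(Spec A₀, ⊤) Γ(G i, U) :=
    Module.compHom Γ(G i, U) (p.appLE ⊤ U le_top).hom
  haveI : Module.Flat Γ(Spec A₀, ⊤) Γ(G i, U) := h1
  exact flat_of_ringEquiv (Scheme.ΓSpecIso A₀).symm.commRingCatIsoToRingEquiv Γ(G i, U)

variable (A' : Type u) [CommRing A'] [Algebra A₀ A']

set_option maxHeartbeats 1000000 in
/-- ring-level joint injectivity on localizations of the chart, from separation upstairs. -/
theorem jointInj_of_separating_chart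
    (hsep : ∀ (V : (pullback p (specMap A₀ A')).Opens)
        (t : Γ((Scheme.Modules.pullback (pullback.fst p (specMap A₀ A'))).obj F, V)),
        (∀ i, ((Scheme.Modules.pullback (pullback.fst p (specMap A₀ A'))).map (u i)).app V t = 0) →
          t = 0)
    {U : X.Opens} (hU : IsAffineOpen U) :
    letI algA : Algebra A₀ Γ(X, U) :=
      ((Scheme.ΓSpecIso A₀).inv ≫ p.appLE ⊤ U le_top).hom.toAlgebra
    ∀ (b : Γ(X, U) ⊗[A₀] A') (z : Localization.Away b ⊗[Γ(X, U)] Γ(F, U)),
      (∀ i, LinearMap.lTensor (Localization.Away b) (appₗ (u i) U) z = 0) → z = 0 := by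
  letI algA : Algebra A₀ Γ(X, U) :=
    ((Scheme.ΓSpecIso A₀).inv ≫ p.appLE ⊤ U le_top).hom.toAlgebra
  intro b z hz
  obtain ⟨hW', ε, hloc⟩ := chart_spec_loc A' p hU
  obtain ⟨eloc⟩ := hloc b
  have e : (pullback p (specMap A₀ A')).basicOpen (ε b) ≤
      (pullback.fst p (specMap A₀ A')) ⁻¹ᵁ U :=
    ((pullback p (specMap A₀ A')).basicOpen_le (ε b)).trans inf_le_left
  letI : Algebra Γ(X, U)
      Γ(pullback p (specMap A₀ A'), (pullback p (specMap A₀ A')).basicOpen (ε b)) :=
    ((pullback.fst p (specMap A₀ A')).appLE U _ e).hom.toAlgebra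
  refine jointInj_of_algEquiv (fun i => Γ(G i, U)) (fun i => appₗ (u i) U) eloc ?_ z hz
  exact ring_of_separating_pullback F G u (pullback.fst p (specMap A₀ A')) hsep hU
    (hW'.basicOpen (ε b)) e

set_option maxHeartbeats 1000000 in
theorem limit_piece (hG : ∀ i, FlatMod.IsFlatOver p (G i))
    (hfg : ∀ (S : Subalgebra A₀ A'), S.FG →
      ∀ (V : (pullback p (specMap A₀ S)).Opens)
        (t : Γ((Scheme.Modules.pullback (pullback.fst p (specMap A₀ S))).obj F, V)),
        (∀ i, ((Scheme.Modules.pullback (pullback.fst p (specMap A₀ S))).map (u i)).app V t = 0) →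
          t = 0)
    {U : X.Opens} (hU : IsAffineOpen U)
    (b : Γ(pullback p (specMap A₀ A'),
      (pullback.fst p (specMap A₀ A')) ⁻¹ᵁ U ⊓ (pullback.snd p (specMap A₀ A')) ⁻¹ᵁ ⊤))
    (t : Γ((Scheme.Modules.pullback (pullback.fst p (specMap A₀ A'))).obj F,
      (pullback p (specMap A₀ A')).basicOpen b))
    (ht : ∀ i, ((Scheme.Modules.pullback (pullback.fst p (specMap A₀ A'))).map (u i)).app
      ((pullback p (specMap A₀ A')).basicOpen b) t = 0) : t = 0 := by
  letI algA : Algebra A₀ Γ(X, U) :=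
    ((Scheme.ΓSpecIso A₀).inv ≫ p.appLE ⊤ U le_top).hom.toAlgebra
  letI : ∀ i, Module A₀ Γ(G i, U) := fun i => Module.compHom _ (algebraMap A₀ Γ(X, U))
  haveI : ∀ i, IsScalarTower A₀ Γ(X, U) Γ(G i, U) := fun i =>
    IsScalarTower.of_algebraMap_smul (fun _ _ => rfl)
  haveI : ∀ i, Module.Flat A₀ Γ(G i, U) := fun i => flat_sections_spec p G hG hU i
  obtain ⟨hW', ε, hloc⟩ := chart_spec_loc A' p hU
  obtain ⟨b, rfl⟩ := ε.surjective b
  obtain ⟨eloc⟩ := hloc b
  have e : (pullback p (specMap A₀ A')).basicOpen (ε b) ≤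
      (pullback.fst p (specMap A₀ A')) ⁻¹ᵁ U :=
    ((pullback p (specMap A₀ A')).basicOpen_le (ε b)).trans inf_le_left
  letI : Algebra Γ(X, U)
      Γ(pullback p (specMap A₀ A'), (pullback p (specMap A₀ A')).basicOpen (ε b)) :=
    ((pullback.fst p (specMap A₀ A')).appLE U _ e).hom.toAlgebra
  obtain ⟨z, hz0, hz⟩ := exists_tensor_of_pullback F G u (pullback.fst p (specMap A₀ A')) hU
    (hW'.basicOpen (ε b)) e t ht
  refine hz0 (jointInj_of_algEquiv (fun i => Γ(G i, U)) (fun i => appₗ (u i) U) eloc.symm ?_ z hz)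
  -- joint injectivity for `Localization.Away b`, by passage to the limit
  intro z' hz'
  refine eq_zero_of_limit (fun i => Γ(G i, U)) (fun i => appₗ (u i) U) ?_ b z' hz'
  intro S hS bS zS hzS
  exact jointInj_of_separating_chart p F G u S (hfg S hS) hU bS zS hzS

/-- **Passage to the limit for separating families** (EGA IV 11.9.6, case `Z_λ = X`). -/
theorem separating_pullback_limit (hG : ∀ i, FlatMod.IsFlatOver p (G i))
    (hfg : ∀ (S : Subalgebra A₀ A'), S.FG →
      ∀ (V : (pullback p (specMap A₀ S)).Opens)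
        (t : Γ((Scheme.Modules.pullback (pullback.fst p (specMap A₀ S))).obj F, V)),
        (∀ i, ((Scheme.Modules.pullback (pullback.fst p (specMap A₀ S))).map (u i)).app V t = 0) →
          t = 0)
    (V : (pullback p (specMap A₀ A')).Opens)
    (t : Γ((Scheme.Modules.pullback (pullback.fst p (specMap A₀ A'))).obj F, V))
    (ht : ∀ i, ((Scheme.Modules.pullback (pullback.fst p (specMap A₀ A'))).map (u i)).app V t = 0) :
    t = 0 := by
  apply eq_zero_of_forall_res _ t
    (fun W => ∃ (U : X.Opens) (_ : IsAffineOpen U)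
      (b : Γ(pullback p (specMap A₀ A'),
        (pullback.fst p (specMap A₀ A')) ⁻¹ᵁ U ⊓ (pullback.snd p (specMap A₀ A')) ⁻¹ᵁ ⊤)),
      W = (pullback p (specMap A₀ A')).basicOpen b)
  · intro x hx
    obtain ⟨U, hU, hxU, -⟩ := TopologicalSpace.Opens.isBasis_iff_nbhd.mp X.isBasis_affineOpens
      (show (pullback.fst p (specMap A₀ A')) x ∈ (⊤ : X.Opens) from trivial)
    obtain ⟨hW', -⟩ := chart_spec_loc A' p hU
    obtain ⟨b, hbV, hxb⟩ := hW'.exists_basicOpen_le ⟨x, hx⟩ ⟨hxU, trivial⟩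
    exact ⟨(pullback p (specMap A₀ A')).basicOpen b, hxb, hbV, U, hU, b, rfl⟩
  · rintro W hWV ⟨U, hU, b, rfl⟩
    apply limit_piece p F G u A' hG hfg hU b
    intro i
    rw [app_res, ht i, map_zero]

end Limit

end Groth.Agent.H21.SepModBC
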