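import Groth.Agent.H21.SepModLim

/-!
# Separating families of module maps: base change over a field, scheme level (helper21)
-/

open CategoryTheory AlgebraicGeometry TensorProduct Opposite Limits

universe u

namespace Groth.Agent.H21.SepModField

open Groth.Agent.H21.SepModSch Groth.Agent.H21.SepModLim Groth.Agent.H39.PullTrack

/-- affineness of a product chart. -/
lemma isAffineOpen_chart {X Y S T : Scheme.{u}} {f : T ⟶ S} {g : Y ⟶ X} {iX : X ⟶ S} {iY : Y ⟶ T}
    (H : IsPullback g iY iX f) {US : S.Opens} {UT : T.Opens} {UX : X.Opens}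
    (hUST : UT ≤ f ⁻¹ᵁ US) (hUSX : UX ≤ iX ⁻¹ᵁ US)
    (hUS : IsAffineOpen US) (hUT : IsAffineOpen UT) (hUX : IsAffineOpen UX) :
    IsAffineOpen (g ⁻¹ᵁ UX ⊓ iY ⁻¹ᵁ UT) := by
  have : IsAffine _ := hUS
  have : IsAffine _ := hUT
  have : IsAffine _ := hUX
  exact .of_isIso (Scheme.Hom.isPullback_resLE H hUST hUSX rfl).isoPullback.hom

lemma isField_ΓSpec (k : Type u) [Field k] : IsField Γ(Spec (CommRingCat.of k), ⊤) :=
  MulEquiv.isField (Field.toIsField k)
    (Scheme.ΓSpecIso (CommRingCat.of k)).commRingCatIsoToRingEquiv.toMulEquiv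

section

variable {k : Type u} [Field k] {X S' : Scheme.{u}}
  (p : X ⟶ Spec (CommRingCat.of k)) (q : S' ⟶ Spec (CommRingCat.of k))
  (F : X.Modules) [F.IsQuasicoherent] {ι : Type*} (G : ι → X.Modules)
  [∀ i, (G i).IsQuasicoherent] (u : ∀ i, F ⟶ G i)

set_option maxHeartbeats 1000000 in
theorem field_piece
    (h : ∀ (V : X.Opens) (t : Γ(F, V)), (∀ i, (u i).app V t = 0) → t = 0)
    {U : X.Opens} (hU : IsAffineOpen U) {T : S'.Opens} (hT : IsAffineOpen T)
    (b : Γ(pullback p q, (pullback.fst p q) ⁻¹ᵁ U ⊓ (pullback.snd p q) ⁻¹ᵁ T))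
    (t : Γ((Scheme.Modules.pullback (pullback.fst p q)).obj F, (pullback p q).basicOpen b))
    (ht : ∀ i, ((Scheme.Modules.pullback (pullback.fst p q)).map (u i)).app
      ((pullback p q).basicOpen b) t = 0) : t = 0 := by
  have H : IsPullback (pullback.fst p q) (pullback.snd p q) p q := IsPullback.of_hasPullback p q
  have hUS : IsAffineOpen (⊤ : (Spec (CommRingCat.of k)).Opens) := isAffineOpen_top _
  have hUST : T ≤ q ⁻¹ᵁ ⊤ := le_top
  have hUSX : U ≤ p ⁻¹ᵁ ⊤ := le_top
  have hW' := isAffineOpen_chart H hUST hUSX hUS hT hU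
  have Hpo := (isIso_pushoutSection_iff H hUST hUSX rfl).mp
    (isIso_pushoutSection_of_isAffineOpen H hUST hUSX rfl hUS hT hU)
  have hF := isField_ΓSpec k
  letI : Algebra Γ(Spec (CommRingCat.of k), ⊤) Γ(X, U) := (p.appLE ⊤ U hUSX).hom.toAlgebra
  letI : Algebra Γ(Spec (CommRingCat.of k), ⊤) Γ(S', T) := (q.appLE ⊤ T hUST).hom.toAlgebra
  have eW' : (pullback.fst p q) ⁻¹ᵁ U ⊓ (pullback.snd p q) ⁻¹ᵁ T ≤ (pullback.fst p q) ⁻¹ᵁ U :=
    inf_le_left
  letI : Algebra Γ(X, U) Γ(pullback p q, (pullback.fst p q) ⁻¹ᵁ U ⊓ (pullback.snd p q) ⁻¹ᵁ T) :=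
    ((pullback.fst p q).appLE U _ eW').hom.toAlgebra
  let ε := ((CommRingCat.isPushout_tensorProduct Γ(Spec (CommRingCat.of k), ⊤) Γ(X, U)
    Γ(S', T)).isoIsPushout _ _ Hpo).commRingCatIsoToRingEquiv
  have hε : ∀ a : Γ(X, U), ε (a ⊗ₜ 1) = algebraMap Γ(X, U) _ a := by
    intro a
    have := (CommRingCat.isPushout_tensorProduct Γ(Spec (CommRingCat.of k), ⊤) Γ(X, U)
      Γ(S', T)).inl_isoIsPushout_hom _ _ Hpo
    exact congrArg (fun φ => φ.hom a) this
  have e : (pullback p q).basicOpen b ≤ (pullback.fst p q) ⁻¹ᵁ U :=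
    ((pullback p q).basicOpen_le b).trans eW'
  letI : Algebra Γ(X, U) Γ(pullback p q, (pullback p q).basicOpen b) :=
    ((pullback.fst p q).appLE U _ e).hom.toAlgebra
  haveI : IsScalarTower Γ(X, U)
      Γ(pullback p q, (pullback.fst p q) ⁻¹ᵁ U ⊓ (pullback.snd p q) ⁻¹ᵁ T)
      Γ(pullback p q, (pullback p q).basicOpen b) := by
    apply IsScalarTower.of_algebraMap_eq
    intro a
    have := Scheme.Hom.appLE_map (pullback.fst p q) eW'
      (homOfLE ((pullback p q).basicOpen_le b)).op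
    exact (congrArg (fun φ => φ.hom a) this).symm
  haveI : IsLocalization.Away b Γ(pullback p q, (pullback p q).basicOpen b) :=
    hW'.isLocalization_basicOpen b
  obtain ⟨z, hz0, hz⟩ := exists_tensor_of_pullback F G u (pullback.fst p q) hU
    (hW'.basicOpen b) e t ht
  refine hz0 (eq_zero_of_field' (fun i => Γ(G i, U)) (fun i => appₗ (u i) U) hF ?_ ε hε b z hz)
  intro a m ham
  exact sep_affine F G u h hU a m ham

/-- **EGA IV 11.10.6, module version**: a separating family of homomorphisms of quasi-coherent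
modules stays separating after an arbitrary base change over a field. -/
theorem separating_pullback_field
    (h : ∀ (V : X.Opens) (t : Γ(F, V)), (∀ i, (u i).app V t = 0) → t = 0)
    (V : (pullback p q).Opens)
    (t : Γ((Scheme.Modules.pullback (pullback.fst p q)).obj F, V))
    (ht : ∀ i, ((Scheme.Modules.pullback (pullback.fst p q)).map (u i)).app V t = 0) : t = 0 := by
  apply eq_zero_of_forall_res _ t
    (fun W => ∃ (U : X.Opens) (_ : IsAffineOpen U) (T : S'.Opens) (_ : IsAffineOpen T)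
      (b : Γ(pullback p q, (pullback.fst p q) ⁻¹ᵁ U ⊓ (pullback.snd p q) ⁻¹ᵁ T)),
      W = (pullback p q).basicOpen b)
  · intro x hx
    obtain ⟨U, hU, hxU, -⟩ := TopologicalSpace.Opens.isBasis_iff_nbhd.mp X.isBasis_affineOpens
      (show (pullback.fst p q) x ∈ (⊤ : X.Opens) from trivial)
    obtain ⟨T, hT, hxT, -⟩ := TopologicalSpace.Opens.isBasis_iff_nbhd.mp S'.isBasis_affineOpens
      (show (pullback.snd p q) x ∈ (⊤ : S'.Opens) from trivial)
    have H : IsPullback (pullback.fst p q) (pullback.snd p q) p q := IsPullback.of_hasPullback p q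
    have hW' := isAffineOpen_chart H (le_top : T ≤ q ⁻¹ᵁ ⊤) (le_top : U ≤ p ⁻¹ᵁ ⊤)
      (isAffineOpen_top _) hT hU
    obtain ⟨b, hbV, hxb⟩ := hW'.exists_basicOpen_le ⟨x, hx⟩ ⟨hxU, hxT⟩
    exact ⟨(pullback p q).basicOpen b, hxb, hbV, U, hU, T, hT, b, rfl⟩
  · rintro W hWV ⟨U, hU, T, hT, b, rfl⟩
    apply field_piece p q F G u h hU hT b
    intro i
    rw [app_res, ht i, map_zero]

end

end Groth.Agent.H21.SepModField
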