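import Groth.Agent.H21.SepModBC

/-!
# Separating families of module maps: the graded step, nilpotent thickenings (helper21)

* `mulMap`, `gr_step`: if `κ ⊗ 𝔞` is free over `κ = R₀/I`, targets flat, `κ ⊗ u_j` jointly
  injective, then an element of `𝔞 M` killed by all `u_j` lies in `I 𝔞 M`.
* `eq_zero_of_nilpotent`, `separating_of_nilpotent`: EGA IV 11.9.8.
* `cancelEquiv : (R ⊗[A] T) ⊗[R] M ≃ T ⊗[A] M` and transfer of joint injectivity.
-/

open TensorProduct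

universe u

namespace Groth.Agent.H21.SepModGr

open Groth.Agent.H21.SepFam

section MulMap

variable {R₀ : Type*} [CommRing R₀] (𝔞 : Ideal R₀)
  (M : Type*) [AddCommGroup M] [Module R₀ M] {N : Type*} [AddCommGroup N] [Module R₀ N]

/-- the multiplication map `𝔞 ⊗ M → M`. -/
noncomputable def mulMap : 𝔞 ⊗[R₀] M →ₗ[R₀] M :=
  (TensorProduct.lid R₀ M).toLinearMap ∘ₗ (LinearMap.rTensor M 𝔞.subtype)

@[simp] lemma mulMap_tmul (x : 𝔞) (m : M) : mulMap 𝔞 M (x ⊗ₜ m) = (x : R₀) • m := by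
  simp [mulMap]

variable {M}

lemma mulMap_natural (u : M →ₗ[R₀] N) (ξ : 𝔞 ⊗[R₀] M) :
    u (mulMap 𝔞 M ξ) = mulMap 𝔞 N (LinearMap.lTensor 𝔞 u ξ) := by
  induction ξ using TensorProduct.induction_on with
  | zero => simp
  | tmul x m => simp
  | add x y hx hy => simp only [map_add, hx, hy]

lemma mulMap_injective_of_flat [Module.Flat R₀ M] : Function.Injective (mulMap 𝔞 M) := by
  unfold mulMap
  rw [LinearMap.coe_comp, LinearEquiv.coe_coe]
  exact (TensorProduct.lid R₀ M).injective.comp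
    (Module.Flat.rTensor_preserves_injective_linearMap _ Subtype.val_injective)

lemma mulMap_mem (ξ : 𝔞 ⊗[R₀] M) : mulMap 𝔞 M ξ ∈ 𝔞 • (⊤ : Submodule R₀ M) := by
  induction ξ using TensorProduct.induction_on with
  | zero => simp
  | tmul x m =>
    rw [mulMap_tmul]
    exact Submodule.smul_mem_smul x.2 Submodule.mem_top
  | add x y hx hy =>
    rw [map_add]
    exact Submodule.add_mem _ hx hy

lemma exists_of_mem_smul_top (m : M) (hm : m ∈ 𝔞 • (⊤ : Submodule R₀ M)) :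
    ∃ ξ : 𝔞 ⊗[R₀] M, mulMap 𝔞 M ξ = m := by
  refine Submodule.smul_induction_on hm ?_ ?_
  · intro r hr n _
    exact ⟨(⟨r, hr⟩ : 𝔞) ⊗ₜ n, by simp⟩
  · rintro x y ⟨ξ₁, h₁⟩ ⟨ξ₂, h₂⟩
    exact ⟨ξ₁ + ξ₂, by rw [map_add, h₁, h₂]⟩

lemma mulMap_mem_of_mem_smul (I : Ideal R₀) (ξ : 𝔞 ⊗[R₀] M)
    (hξ : ξ ∈ I • (⊤ : Submodule R₀ (𝔞 ⊗[R₀] M))) :
    mulMap 𝔞 M ξ ∈ (I * 𝔞) • (⊤ : Submodule R₀ M) := by
  refine Submodule.smul_induction_on hξ ?_ ?_
  · intro r hr ξ' _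
    rw [map_smul, Submodule.mul_smul]
    exact Submodule.smul_mem_smul hr (mulMap_mem 𝔞 ξ')
  · intro x y hx hy
    rw [map_add]
    exact Submodule.add_mem _ hx hy

end MulMap

section GrStep

variable {R₀ : Type*} [CommRing R₀] (I 𝔞 : Ideal R₀)
  (M : Type*) [AddCommGroup M] [Module R₀ M] {N : Type*} [AddCommGroup N] [Module R₀ N]

/-- `κ ⊗ (𝔞 ⊗ M) ≃ (κ ⊗ M) ⊗ 𝔞`. -/
noncomputable def swapEquiv : (R₀ ⧸ I) ⊗[R₀] (𝔞 ⊗[R₀] M) ≃ₗ[R₀] ((R₀ ⧸ I) ⊗[R₀] M) ⊗[R₀] 𝔞 :=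
  (LinearEquiv.lTensor (R₀ ⧸ I) (TensorProduct.comm R₀ 𝔞 M)) ≪≫ₗ
    (TensorProduct.assoc R₀ (R₀ ⧸ I) M 𝔞).symm

@[simp] lemma swapEquiv_tmul (c : R₀ ⧸ I) (x : 𝔞) (m : M) :
    swapEquiv I 𝔞 M (c ⊗ₜ (x ⊗ₜ m)) = (c ⊗ₜ m) ⊗ₜ x := by
  simp [swapEquiv]

variable {M}

lemma swapEquiv_natural (u : M →ₗ[R₀] N) (y : (R₀ ⧸ I) ⊗[R₀] (𝔞 ⊗[R₀] M)) :
    LinearMap.rTensor 𝔞 (LinearMap.lTensor (R₀ ⧸ I) u) (swapEquiv I 𝔞 M y) =
      swapEquiv I 𝔞 N (LinearMap.lTensor (R₀ ⧸ I) (LinearMap.lTensor 𝔞 u) y) := by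
  induction y using TensorProduct.induction_on with
  | zero => simp
  | tmul c ξ =>
    induction ξ using TensorProduct.induction_on with
    | zero => simp
    | tmul x m => simp
    | add x y hx hy => simp only [TensorProduct.tmul_add, map_add, hx, hy]
  | add x y hx hy => simp only [map_add, hx, hy]

/-- **The graded step.** If `κ ⊗ 𝔞` is free over `κ = R₀/I`, the targets are flat and the family
`κ ⊗ u_j` is jointly injective, then an element of `𝔞 M` killed by all `u_j` lies in `I 𝔞 M`. -/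
theorem gr_step [Module.Free (R₀ ⧸ I) ((R₀ ⧸ I) ⊗[R₀] 𝔞)] {J : Type*}
    (N : J → Type*) [∀ j, AddCommGroup (N j)] [∀ j, Module R₀ (N j)] [∀ j, Module.Flat R₀ (N j)]
    (u : ∀ j, M →ₗ[R₀] N j)
    (H₀ : ∀ μ : (R₀ ⧸ I) ⊗[R₀] M, (∀ j, LinearMap.lTensor (R₀ ⧸ I) (u j) μ = 0) → μ = 0)
    (m : M) (hm : m ∈ 𝔞 • (⊤ : Submodule R₀ M)) (hu : ∀ j, u j m = 0) :
    m ∈ (I * 𝔞) • (⊤ : Submodule R₀ M) := by
  obtain ⟨ξ, rfl⟩ := exists_of_mem_smul_top 𝔞 m hm
  apply mulMap_mem_of_mem_smul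
  have h1 : ∀ j, LinearMap.lTensor 𝔞 (u j) ξ = 0 := fun j =>
    mulMap_injective_of_flat 𝔞 (by rw [← mulMap_natural, hu j, map_zero])
  have h2 : (1 : R₀ ⧸ I) ⊗ₜ[R₀] ξ = 0 := by
    apply (swapEquiv I 𝔞 M).injective
    rw [map_zero]
    refine eq_zero_of_free (A := R₀) (R := R₀ ⧸ I) (B := 𝔞) (N := (R₀ ⧸ I) ⊗[R₀] M)
      (fun j => (R₀ ⧸ I) ⊗[R₀] N j) (fun j => LinearMap.baseChange (R₀ ⧸ I) (u j)) ?_ _ ?_
    · intro μ hμ
      exact H₀ μ hμ
    · intro j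
      change LinearMap.rTensor 𝔞 (LinearMap.lTensor (R₀ ⧸ I) (u j)) (swapEquiv I 𝔞 M _) = 0
      rw [swapEquiv_natural, LinearMap.lTensor_tmul, h1 j, TensorProduct.tmul_zero, map_zero]
  have h3 := congrArg (TensorProduct.quotTensorEquivQuotSMul (𝔞 ⊗[R₀] M) I) h2
  rw [TensorProduct.quotTensorEquivQuotSMul_mk_one_tmul, map_zero,
    Submodule.Quotient.mk_eq_zero] at h3
  exact h3

end GrStep

section Nilpotent

variable {R₀ : Type*} [CommRing R₀] (I : Ideal R₀)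
  {M : Type*} [AddCommGroup M] [Module R₀ M]

/-- **Nilpotent case** (EGA IV 11.9.8, ring level). -/
theorem eq_zero_of_nilpotent (hI : IsNilpotent I)
    [hfree : ∀ k : ℕ, Module.Free (R₀ ⧸ I) ((R₀ ⧸ I) ⊗[R₀] ↥(I ^ k))] {J : Type*}
    (N : J → Type*) [∀ j, AddCommGroup (N j)] [∀ j, Module R₀ (N j)] [∀ j, Module.Flat R₀ (N j)]
    (u : ∀ j, M →ₗ[R₀] N j)
    (H₀ : ∀ μ : (R₀ ⧸ I) ⊗[R₀] M, (∀ j, LinearMap.lTensor (R₀ ⧸ I) (u j) μ = 0) → μ = 0)
    (m : M) (hu : ∀ j, u j m = 0) : m = 0 := by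
  obtain ⟨n, hn⟩ := hI
  have key : ∀ k : ℕ, m ∈ (I ^ k) • (⊤ : Submodule R₀ M) := by
    intro k
    induction k with
    | zero => simp
    | succ k ih =>
      have := gr_step I (I ^ k) N u H₀ m ih hu
      rwa [← pow_succ'] at this
  have h1 := key n
  rw [hn] at h1
  simpa using h1

end Nilpotent

section Cancel

variable {A R : Type*} [CommRing A] [CommRing R] [Algebra A R]
  (T : Type*) [AddCommGroup T] [Module A T]
  (M : Type*) [AddCommGroup M] [Module R M] [Module A M] [IsScalarTower A R M]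
  {N : Type*} [AddCommGroup N] [Module R N] [Module A N] [IsScalarTower A R N]

/-- `(R ⊗[A] T) ⊗[R] M ≃ T ⊗[A] M`. -/
noncomputable def cancelEquiv : (R ⊗[A] T) ⊗[R] M ≃ₗ[A] T ⊗[A] M :=
  ((TensorProduct.comm R (R ⊗[A] T) M) ≪≫ₗ
    (AlgebraTensorModule.cancelBaseChange A R R M T)).restrictScalars A ≪≫ₗ
    TensorProduct.comm A M T

@[simp] lemma cancelEquiv_tmul (r : R) (t : T) (m : M) :
    cancelEquiv T M ((r ⊗ₜ[A] t) ⊗ₜ[R] m) = t ⊗ₜ[A] (r • m) := by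
  simp [cancelEquiv]

variable {M}

lemma cancelEquiv_natural (u : M →ₗ[R] N) (x : (R ⊗[A] T) ⊗[R] M) :
    cancelEquiv T N (LinearMap.lTensor (R ⊗[A] T) u x) =
      LinearMap.lTensor T (u.restrictScalars A) (cancelEquiv T M x) := by
  induction x using TensorProduct.induction_on with
  | zero => simp
  | tmul y m =>
    induction y using TensorProduct.induction_on with
    | zero => simp
    | tmul r t => simp
    | add x y hx hy => simp only [TensorProduct.add_tmul, map_add, hx, hy]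
  | add x y hx hy => simp only [map_add, hx, hy]

/-- joint injectivity of `T ⊗[A] u_j` from that of `(R ⊗[A] T) ⊗[R] u_j`. -/
lemma jointInj_of_cancel {J : Type*} (N : J → Type*) [∀ j, AddCommGroup (N j)]
    [∀ j, Module R (N j)] [∀ j, Module A (N j)] [∀ j, IsScalarTower A R (N j)]
    (u : ∀ j, M →ₗ[R] N j)
    (h : ∀ z : (R ⊗[A] T) ⊗[R] M, (∀ j, LinearMap.lTensor (R ⊗[A] T) (u j) z = 0) → z = 0)
    (μ : T ⊗[A] M) (hμ : ∀ j, LinearMap.lTensor T ((u j).restrictScalars A) μ = 0) : μ = 0 := by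
  have h1 := h ((cancelEquiv T M).symm μ) (fun j => by
    apply (cancelEquiv T (N j)).injective
    rw [cancelEquiv_natural, LinearEquiv.apply_symm_apply, hμ j, map_zero])
  have h2 := congrArg (cancelEquiv T M) h1
  rwa [LinearEquiv.apply_symm_apply, map_zero] at h2

/-- the converse. -/
lemma jointInj_cancel_of {J : Type*} (N : J → Type*) [∀ j, AddCommGroup (N j)]
    [∀ j, Module R (N j)] [∀ j, Module A (N j)] [∀ j, IsScalarTower A R (N j)]
    (u : ∀ j, M →ₗ[R] N j)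
    (h : ∀ μ : T ⊗[A] M, (∀ j, LinearMap.lTensor T ((u j).restrictScalars A) μ = 0) → μ = 0)
    (z : (R ⊗[A] T) ⊗[R] M) (hz : ∀ j, LinearMap.lTensor (R ⊗[A] T) (u j) z = 0) : z = 0 := by
  have h1 := h (cancelEquiv T M z) (fun j => by
    rw [← cancelEquiv_natural, hz j, map_zero])
  exact (cancelEquiv T M).injective (h1.trans (map_zero _).symm)

end Cancel

section Scheme

open CategoryTheory AlgebraicGeometry Opposite Limits
open Groth.Agent.H21.SepModSch Groth.Agent.H21.SepModLim Groth.Agent.H39.PullTrack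
open Groth.Agent.H21.SepModField Groth.Agent.H21.SepModBC

variable {X : Scheme.{u}} {A₀ : CommRingCat.{u}} (p : X ⟶ Spec A₀)
  (F : X.Modules) [F.IsQuasicoherent] {ι : Type*} (G : ι → X.Modules)
  [∀ i, (G i).IsQuasicoherent] (u : ∀ i, F ⟶ G i)

set_option maxHeartbeats 1000000 in
/-- joint injectivity of `A' ⊗[A₀] u_i` on an affine open of `X`, from separation on
`X ×_{Spec A₀} Spec A'`. -/
theorem jointInj_base_of_separating (A' : Type u) [CommRing A'] [Algebra A₀ A']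
    (hsep : ∀ (V : (pullback p (specMap A₀ A')).Opens)
        (t : Γ((Scheme.Modules.pullback (pullback.fst p (specMap A₀ A'))).obj F, V)),
        (∀ i, ((Scheme.Modules.pullback (pullback.fst p (specMap A₀ A'))).map (u i)).app V t = 0) →
          t = 0)
    {U : X.Opens} (hU : IsAffineOpen U) :
    letI algA : Algebra A₀ Γ(X, U) :=
      ((Scheme.ΓSpecIso A₀).inv ≫ p.appLE ⊤ U le_top).hom.toAlgebra
    letI : Module A₀ Γ(F, U) := Module.compHom _ (algebraMap A₀ Γ(X, U))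
    haveI : IsScalarTower A₀ Γ(X, U) Γ(F, U) := IsScalarTower.of_algebraMap_smul (fun _ _ => rfl)
    letI : ∀ i, Module A₀ Γ(G i, U) := fun i => Module.compHom _ (algebraMap A₀ Γ(X, U))
    haveI : ∀ i, IsScalarTower A₀ Γ(X, U) Γ(G i, U) := fun i =>
      IsScalarTower.of_algebraMap_smul (fun _ _ => rfl)
    ∀ (μ : A' ⊗[A₀] Γ(F, U)),
      (∀ i, LinearMap.lTensor A' ((appₗ (u i) U).restrictScalars A₀) μ = 0) → μ = 0 := by
  letI algA : Algebra A₀ Γ(X, U) :=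
    ((Scheme.ΓSpecIso A₀).inv ≫ p.appLE ⊤ U le_top).hom.toAlgebra
  letI : Module A₀ Γ(F, U) := Module.compHom _ (algebraMap A₀ Γ(X, U))
  haveI : IsScalarTower A₀ Γ(X, U) Γ(F, U) := IsScalarTower.of_algebraMap_smul (fun _ _ => rfl)
  letI : ∀ i, Module A₀ Γ(G i, U) := fun i => Module.compHom _ (algebraMap A₀ Γ(X, U))
  haveI : ∀ i, IsScalarTower A₀ Γ(X, U) Γ(G i, U) := fun i =>
    IsScalarTower.of_algebraMap_smul (fun _ _ => rfl)
  refine jointInj_of_cancel (A := A₀) (R := Γ(X, U)) A' (fun i => Γ(G i, U))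
    (fun i => appₗ (u i) U) ?_
  obtain ⟨hW', ε, hε⟩ := exists_chart_equiv_spec A' p hU
  letI : Algebra Γ(X, U) Γ(pullback p (specMap A₀ A'),
      (pullback.fst p (specMap A₀ A')) ⁻¹ᵁ U ⊓ (pullback.snd p (specMap A₀ A')) ⁻¹ᵁ ⊤) :=
    ((pullback.fst p (specMap A₀ A')).appLE U _ inf_le_left).hom.toAlgebra
  let e : (Γ(X, U) ⊗[A₀] A') ≃ₐ[Γ(X, U)] Γ(pullback p (specMap A₀ A'),
      (pullback.fst p (specMap A₀ A')) ⁻¹ᵁ U ⊓ (pullback.snd p (specMap A₀ A')) ⁻¹ᵁ ⊤) :=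
    AlgEquiv.ofRingEquiv (f := ε) (fun a => hε a)
  refine jointInj_of_algEquiv (fun i => Γ(G i, U)) (fun i => appₗ (u i) U) e ?_
  exact ring_of_separating_pullback F G u (pullback.fst p (specMap A₀ A')) hsep hU hW'
    inf_le_left

set_option maxHeartbeats 1000000 in
/-- **EGA IV 11.9.8**, affine base, case `Z_λ = X`. -/
theorem separating_of_nilpotent (J : Ideal A₀) (hJ : IsNilpotent J)
    (hfree : ∀ k : ℕ, Module.Free (A₀ ⧸ J) ((A₀ ⧸ J) ⊗[A₀] ↥(J ^ k)))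
    (hG : ∀ i, FlatMod.IsFlatOver p (G i))
    (h0 : ∀ (V : (pullback p (specMap A₀ (A₀ ⧸ J))).Opens)
        (t : Γ((Scheme.Modules.pullback (pullback.fst p (specMap A₀ (A₀ ⧸ J)))).obj F, V)),
        (∀ i, ((Scheme.Modules.pullback (pullback.fst p (specMap A₀ (A₀ ⧸ J)))).map (u i)).app V
          t = 0) → t = 0)
    (V : X.Opens) (t : Γ(F, V)) (ht : ∀ i, (u i).app V t = 0) : t = 0 := by
  apply eq_zero_of_forall_res F t IsAffineOpen
  · intro x hx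
    obtain ⟨W, hW, hxW, hWle⟩ := TopologicalSpace.Opens.isBasis_iff_nbhd.mp
      X.isBasis_affineOpens hx
    exact ⟨W, hxW, hWle, hW⟩
  · intro U hUV hU
    letI algA : Algebra A₀ Γ(X, U) :=
      ((Scheme.ΓSpecIso A₀).inv ≫ p.appLE ⊤ U le_top).hom.toAlgebra
    letI : Module A₀ Γ(F, U) := Module.compHom _ (algebraMap A₀ Γ(X, U))
    haveI : IsScalarTower A₀ Γ(X, U) Γ(F, U) := IsScalarTower.of_algebraMap_smul (fun _ _ => rfl)
    letI : ∀ i, Module A₀ Γ(G i, U) := fun i => Module.compHom _ (algebraMap A₀ Γ(X, U))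
    haveI : ∀ i, IsScalarTower A₀ Γ(X, U) Γ(G i, U) := fun i =>
      IsScalarTower.of_algebraMap_smul (fun _ _ => rfl)
    haveI : ∀ i, Module.Flat A₀ Γ(G i, U) := fun i => flat_sections_spec p G hG hU i
    haveI := hfree
    refine eq_zero_of_nilpotent J hJ (fun i => Γ(G i, U))
      (fun i => (appₗ (u i) U).restrictScalars A₀)
      (jointInj_base_of_separating p F G u (A₀ ⧸ J) h0 hU) _ (fun i => ?_)
    change (u i).app U (F.presheaf.map (homOfLE hUV).op t) = 0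
    rw [app_res, ht i, map_zero]

end Scheme

end Groth.Agent.H21.SepModGr
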