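import Groth.Agent.H21.SepMod3
import Groth.Agent.H21.SepFamField

/-!
# Separating families of module maps: passage to the limit, field base change (helper21)
-/

open TensorProduct

universe u

namespace Groth.Agent.H21.SepModLim

open Groth.Agent.H21.SepFam Groth.Agent.H21.SepMod

section Loc

variable {A B B' : Type*} [CommRing A] [CommRing B] [Algebra A B] [CommRing B'] [Algebra B B']
  [Algebra A B'] [IsScalarTower A B B']
  (M : Type*) [AddCommGroup M] [Module A M] {N : Type*} [AddCommGroup N] [Module A N]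

/-- the map `B ⊗[A] M → B' ⊗[A] M`, as a `B`-linear map. -/
noncomputable def locMap : B ⊗[A] M →ₗ[B] B' ⊗[A] M :=
  AlgebraTensorModule.rTensor A M (Algebra.linearMap B B')

@[simp] lemma locMap_tmul (y : B) (m : M) :
    locMap (A := A) (B' := B') M (y ⊗ₜ m) = algebraMap B B' y ⊗ₜ m := rfl

instance (b : B) [IsLocalization.Away b B'] :
    IsLocalizedModule (Submonoid.powers b) (locMap (A := A) (B := B) (B' := B') M) :=
  IsLocalizedModule.rTensor (R := A) (A := B) (Submonoid.powers b) (N := M)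
    (Algebra.linearMap B B')

variable {M}

lemma locMap_natural (u : M →ₗ[A] N) (x : B ⊗[A] M) :
    LinearMap.lTensor B' u (locMap (A := A) (B' := B') M x) =
      locMap (A := A) (B' := B') N (LinearMap.lTensor B u x) := by
  induction x using TensorProduct.induction_on with
  | zero => simp
  | tmul y m => simp
  | add x y hx hy => simp only [map_add, hx, hy]

lemma lTensor_smul_left {C : Type*} [Monoid C] [DistribMulAction C B] [SMulCommClass A C B]
    (u : M →ₗ[A] N) (c : C) (x : B ⊗[A] M) :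
    LinearMap.lTensor B u (c • x) = c • LinearMap.lTensor B u x := by
  induction x using TensorProduct.induction_on with
  | zero => simp
  | tmul y m => simp [TensorProduct.smul_tmul']
  | add x y hx hy => simp only [map_add, smul_add, hx, hy]

end Loc


section Hom

variable {A B₁ B₂ : Type*} [CommRing A] [CommRing B₁] [Algebra A B₁] [CommRing B₂] [Algebra A B₂]
  (g : B₁ →ₐ[A] B₂)
  {M : Type*} [AddCommGroup M] [Module A M] {N : Type*} [AddCommGroup N] [Module A N]

lemma rTensor_smul_left (c : B₁) (x : B₁ ⊗[A] M) :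
    LinearMap.rTensor M g.toLinearMap (c • x) = g c • LinearMap.rTensor M g.toLinearMap x := by
  induction x using TensorProduct.induction_on with
  | zero => simp
  | tmul y m => simp [TensorProduct.smul_tmul']
  | add x y hx hy => simp only [map_add, smul_add, hx, hy]

lemma lTensor_rTensor (u : M →ₗ[A] N) (x : B₁ ⊗[A] M) :
    LinearMap.lTensor B₂ u (LinearMap.rTensor M g.toLinearMap x) =
      LinearMap.rTensor N g.toLinearMap (LinearMap.lTensor B₁ u x) := by
  induction x using TensorProduct.induction_on with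
  | zero => simp
  | tmul y m => simp
  | add x y hx hy => simp only [map_add, hx, hy]

end Hom

section Sub

variable {R₀ A L : Type*} [CommRing R₀] [CommRing A] [Algebra R₀ A] [CommRing L] [Algebra R₀ L]

/-- `A ⊗ S → A ⊗ L` for a subalgebra `S ⊆ L`. -/
noncomputable def ιS (S : Subalgebra R₀ L) : A ⊗[R₀] S →ₐ[A] A ⊗[R₀] L :=
  Algebra.TensorProduct.map (AlgHom.id A A) S.val

@[simp] lemma ιS_tmul (S : Subalgebra R₀ L) (a : A) (s : S) :
    ιS (A := A) S (a ⊗ₜ s) = a ⊗ₜ (s : L) := rfl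

/-- `A ⊗ S₁ → A ⊗ S₂` for subalgebras `S₁ ≤ S₂`. -/
noncomputable def ιSS {S₁ S₂ : Subalgebra R₀ L} (h : S₁ ≤ S₂) : A ⊗[R₀] S₁ →ₐ[A] A ⊗[R₀] S₂ :=
  Algebra.TensorProduct.map (AlgHom.id A A) (Subalgebra.inclusion h)

lemma ιS_comp_ιSS {S₁ S₂ : Subalgebra R₀ L} (h : S₁ ≤ S₂) :
    (ιS (A := A) S₂).comp (ιSS h) = ιS S₁ := by
  apply Algebra.TensorProduct.ext'
  intro a s
  rfl

lemma ιS_ιSS {S₁ S₂ : Subalgebra R₀ L} (h : S₁ ≤ S₂) (x : A ⊗[R₀] S₁) :
    ιS (A := A) S₂ (ιSS h x) = ιS S₁ x := congrArg (fun f => f x) (ιS_comp_ιSS h)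

lemma exists_fg_ιS (z : A ⊗[R₀] L) :
    ∃ S : Subalgebra R₀ L, S.FG ∧ ∃ zS : A ⊗[R₀] S, ιS S zS = z := by
  obtain ⟨S, hS, zS, hzS⟩ := exists_fg_subalgebra_tmul_right (k := R₀) (A := A) (L := L) z
  refine ⟨S, hS, zS, ?_⟩
  rw [← hzS]
  clear hzS
  induction zS using TensorProduct.induction_on with
  | zero => simp
  | tmul a y => simp
  | add x y hx hy => simp only [map_add, hx, hy]

variable (M : Type*) [AddCommGroup M] [Module A M]

lemma exists_fg_ιM (τ : (A ⊗[R₀] L) ⊗[A] M) :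
    ∃ S : Subalgebra R₀ L, S.FG ∧ ∃ τS : (A ⊗[R₀] S) ⊗[A] M,
      LinearMap.rTensor M (ιS S).toLinearMap τS = τ := by
  induction τ using TensorProduct.induction_on with
  | zero => exact ⟨⊥, Subalgebra.fg_bot, 0, map_zero _⟩
  | tmul y m =>
    obtain ⟨S, hS, yS, hyS⟩ := exists_fg_ιS (A := A) y
    exact ⟨S, hS, yS ⊗ₜ m, by simp [hyS]⟩
  | add x y hx hy =>
    obtain ⟨S₁, h₁, z₁, hz₁⟩ := hx
    obtain ⟨S₂, h₂, z₂, hz₂⟩ := hy
    refine ⟨S₁ ⊔ S₂, h₁.sup h₂,
      LinearMap.rTensor M (ιSS (le_sup_left : S₁ ≤ S₁ ⊔ S₂)).toLinearMap z₁ +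
      LinearMap.rTensor M (ιSS (le_sup_right : S₂ ≤ S₁ ⊔ S₂)).toLinearMap z₂, ?_⟩
    rw [map_add, ← LinearMap.rTensor_comp_apply, ← LinearMap.rTensor_comp_apply, ← hz₁, ← hz₂]
    congr 2
    · rw [← ιS_comp_ιSS (le_sup_left : S₁ ≤ S₁ ⊔ S₂)]; rfl
    · rw [← ιS_comp_ιSS (le_sup_right : S₂ ≤ S₁ ⊔ S₂)]; rfl

/-- enlarge the subalgebra. -/
lemma ιM_mono {S₁ S₂ : Subalgebra R₀ L} (h : S₁ ≤ S₂) (x : (A ⊗[R₀] S₁) ⊗[A] M) :
    LinearMap.rTensor M (ιS S₂).toLinearMap (LinearMap.rTensor M (ιSS h).toLinearMap x) =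
      LinearMap.rTensor M (ιS S₁).toLinearMap x := by
  rw [← LinearMap.rTensor_comp_apply, ← ιS_comp_ιSS h]
  rfl

variable [Module R₀ M] [IsScalarTower R₀ A M]

/-- flatness over the base: `(A ⊗ S) ⊗[A] M → (A ⊗ L) ⊗[A] M` is injective. -/
lemma ιM_injective [Module.Flat R₀ M] (S : Subalgebra R₀ L) :
    Function.Injective (LinearMap.rTensor M (ιS (A := A) S).toLinearMap) := by
  have hk : Function.Injective (LinearMap.lTensor M S.val.toLinearMap) :=
    Module.Flat.lTensor_preserves_injective_linearMap _ Subtype.val_injective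
  let e : ∀ (T : Type _) [AddCommGroup T] [Module R₀ T], (A ⊗[R₀] T) ⊗[A] M ≃ₗ[A] M ⊗[R₀] T :=
    fun T _ _ => (TensorProduct.comm A (A ⊗[R₀] T) M) ≪≫ₗ
      (AlgebraTensorModule.cancelBaseChange R₀ A A M T)
  have hcomm : ∀ w : (A ⊗[R₀] S) ⊗[A] M,
      e L (LinearMap.rTensor M (ιS (A := A) S).toLinearMap w) =
        LinearMap.lTensor M S.val.toLinearMap (e S w) := by
    intro w
    induction w using TensorProduct.induction_on with
    | zero => simp
    | tmul y m =>
      induction y using TensorProduct.induction_on with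
      | zero => simp
      | tmul a s => simp [e]
      | add x y hx hy => simp only [TensorProduct.add_tmul, map_add, hx, hy]
    | add x y hx hy => simp only [map_add, hx, hy]
  intro w₁ w₂ hw
  apply (e S).injective
  apply hk
  rw [← hcomm, ← hcomm, hw]

end Sub


section Main

variable {R₀ A L : Type u} [CommRing R₀] [CommRing A] [Algebra R₀ A] [CommRing L] [Algebra R₀ L]
  {M : Type u} [AddCommGroup M] [Module A M] {J : Type*}
  (N : J → Type u) [∀ j, AddCommGroup (N j)] [∀ j, Module A (N j)] [∀ j, Module R₀ (N j)]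
  [∀ j, IsScalarTower R₀ A (N j)] [∀ j, Module.Flat R₀ (N j)]
  (u : ∀ j, M →ₗ[A] N j)

/-- **Passage to the limit.** Joint injectivity of `B' ⊗ u_j` for localizations `B'` of
`A ⊗ L` follows from that for localizations of `A ⊗ S`, `S ⊆ L` finitely generated,
when the targets are flat over the base. -/
theorem eq_zero_of_limit
    (HS : ∀ (S : Subalgebra R₀ L), S.FG → ∀ (bS : A ⊗[R₀] S) (z : Localization.Away bS ⊗[A] M),
      (∀ j, LinearMap.lTensor (Localization.Away bS) (u j) z = 0) → z = 0)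
    (b : A ⊗[R₀] L) {B' : Type u} [CommRing B'] [Algebra (A ⊗[R₀] L) B'] [Algebra A B']
    [IsScalarTower A (A ⊗[R₀] L) B'] [IsLocalization.Away b B']
    (z : B' ⊗[A] M) (hz : ∀ j, LinearMap.lTensor B' (u j) z = 0) : z = 0 := by
  classical
  obtain ⟨⟨τ, ⟨_, n, rfl⟩⟩, hτ⟩ := IsLocalizedModule.surj (Submonoid.powers b)
    (locMap (A := A) (B := A ⊗[R₀] L) (B' := B') M) z
  have hτ' : (b ^ n) • z = locMap (A := A) (B := A ⊗[R₀] L) (B' := B') M τ := hτ
  have hb : ∀ j, ∃ nj : ℕ, b ^ nj • LinearMap.lTensor (A ⊗[R₀] L) (u j) τ = 0 := by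
    intro j
    have h1 : locMap (A := A) (B := A ⊗[R₀] L) (B' := B') (N j)
        (LinearMap.lTensor (A ⊗[R₀] L) (u j) τ) = 0 := by
      rw [← locMap_natural, ← hτ', lTensor_smul_left, hz j, smul_zero]
    obtain ⟨⟨_, nj, rfl⟩, h2⟩ := (IsLocalizedModule.eq_zero_iff (Submonoid.powers b)
      (locMap (A := A) (B := A ⊗[R₀] L) (B' := B') (N j))).mp h1
    exact ⟨nj, h2⟩
  obtain ⟨S₁, hS₁, b₁, hb₁⟩ := exists_fg_ιS (A := A) b
  obtain ⟨S₂, hS₂, τ₂, hτ₂⟩ := exists_fg_ιM M τ
  let S := S₁ ⊔ S₂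
  have hS : S.FG := hS₁.sup hS₂
  let bS : A ⊗[R₀] S := ιSS (le_sup_left : S₁ ≤ S) b₁
  let τS : (A ⊗[R₀] S) ⊗[A] M :=
    LinearMap.rTensor M (ιSS (le_sup_right : S₂ ≤ S)).toLinearMap τ₂
  have hbS : ιS S bS = b := by rw [← hb₁]; exact ιS_ιSS _ b₁
  have hτS : LinearMap.rTensor M (ιS (A := A) S).toLinearMap τS = τ := by
    rw [← hτ₂]; exact ιM_mono M _ τ₂
  have hd : ∀ j, ∃ nj : ℕ, bS ^ nj • LinearMap.lTensor (A ⊗[R₀] S) (u j) τS = 0 := by
    intro j
    obtain ⟨nj, hnj⟩ := hb j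
    refine ⟨nj, ?_⟩
    apply ιM_injective (N j) S
    rw [map_zero, rTensor_smul_left, ← lTensor_rTensor, map_pow, hbS, hτS, hnj]
  have he : ∀ j, LinearMap.lTensor (Localization.Away bS) (u j)
      (locMap (A := A) (B := A ⊗[R₀] S) (B' := Localization.Away bS) M τS) = 0 := by
    intro j
    obtain ⟨nj, hnj⟩ := hd j
    rw [locMap_natural]
    exact (IsLocalizedModule.eq_zero_iff (Submonoid.powers bS)
      (locMap (A := A) (B := A ⊗[R₀] S) (B' := Localization.Away bS) (N j))).mpr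
        ⟨⟨bS ^ nj, nj, rfl⟩, hnj⟩
  have hf := HS S hS bS _ he
  obtain ⟨⟨_, m, rfl⟩, hm⟩ := (IsLocalizedModule.eq_zero_iff (Submonoid.powers bS)
      (locMap (A := A) (B := A ⊗[R₀] S) (B' := Localization.Away bS) M)).mp hf
  have hm' : bS ^ m • τS = 0 := hm
  have h3 : b ^ m • τ = 0 := by
    rw [← hτS, ← hbS, ← map_pow, ← rTensor_smul_left, hm', map_zero]
  have h4 : locMap (A := A) (B := A ⊗[R₀] L) (B' := B') M τ = 0 :=
    (IsLocalizedModule.eq_zero_iff (Submonoid.powers b)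
      (locMap (A := A) (B := A ⊗[R₀] L) (B' := B') M)).mpr ⟨⟨b ^ m, m, rfl⟩, h3⟩
  rw [h4] at hτ'
  have hunit : IsUnit (algebraMap (A ⊗[R₀] L) B' (b ^ n)) := by
    rw [map_pow]
    exact (IsLocalization.Away.algebraMap_isUnit (S := B') b).pow n
  rw [← algebraMap_smul B' (b ^ n) z] at hτ'
  exact (hunit.smul_eq_zero).mp hτ'

end Main

section Field

variable {R₀ A L : Type u} [CommRing R₀] [CommRing A] [Algebra R₀ A] [CommRing L] [Algebra R₀ L]
  {M : Type u} [AddCommGroup M] [Module A M] {J : Type*}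
  (N : J → Type u) [∀ j, AddCommGroup (N j)] [∀ j, Module A (N j)]
  (u : ∀ j, M →ₗ[A] N j)

lemma flat_of_isField (hF : IsField R₀) (Q : Type*) [AddCommGroup Q] [Module R₀ Q] :
    Module.Flat R₀ Q := by
  letI := hF.toField
  exact inferInstance

lemma isNoetherianRing_of_isField (hF : IsField R₀) : IsNoetherianRing R₀ := by
  letI := hF.toField
  exact inferInstance

/-- **Base change over a field, localized form** (module version of EGA IV 11.10.6). -/
theorem eq_zero_of_field (hF : IsField R₀)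
    (hsep : ∀ (a : A) (m : M), (∀ j, ∃ n : ℕ, u j (a ^ n • m) = 0) → ∃ n : ℕ, a ^ n • m = 0)
    (b : A ⊗[R₀] L) {B' : Type u} [CommRing B'] [Algebra (A ⊗[R₀] L) B'] [Algebra A B']
    [IsScalarTower A (A ⊗[R₀] L) B'] [IsLocalization.Away b B']
    (z : B' ⊗[A] M) (hz : ∀ j, LinearMap.lTensor B' (u j) z = 0) : z = 0 := by
  letI : ∀ j, Module R₀ (N j) := fun j => Module.compHom (N j) (algebraMap R₀ A)
  haveI : ∀ j, IsScalarTower R₀ A (N j) := fun j =>
    IsScalarTower.of_algebraMap_smul (fun _ _ => rfl)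
  haveI : ∀ j, Module.Flat R₀ (N j) := fun j => flat_of_isField hF _
  haveI : IsNoetherianRing R₀ := isNoetherianRing_of_isField hF
  refine eq_zero_of_limit N u ?_ b z hz
  intro S hS bS zS hzS
  haveI : Algebra.FiniteType R₀ S := (Subalgebra.fg_iff_finiteType S).mp hS
  haveI : Algebra.FinitePresentation R₀ S :=
    Algebra.FinitePresentation.of_finiteType.mp inferInstance
  haveI : Module.Flat R₀ S := flat_of_isField hF _
  haveI : Module.Flat A (Localization.Away bS) :=
    Module.Flat.trans A (A ⊗[R₀] S) (Localization.Away bS)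
  haveI : Algebra.FinitePresentation (A ⊗[R₀] S) (Localization.Away bS) :=
    IsLocalization.Away.finitePresentation bS
  haveI : Algebra.FinitePresentation A (Localization.Away bS) :=
    Algebra.FinitePresentation.trans A (A ⊗[R₀] S) (Localization.Away bS)
  refine Groth.Agent.H21.SepModSch.lTensor_of_rTensor N u ?_ zS hzS
  intro z' hz'
  exact SepMod.eq_zero_of_flat_finitePresentation N u hsep z' hz'

/-- the same, for a ring `B` identified with `A ⊗ L`. -/
theorem eq_zero_of_field' (hF : IsField R₀)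
    (hsep : ∀ (a : A) (m : M), (∀ j, ∃ n : ℕ, u j (a ^ n • m) = 0) → ∃ n : ℕ, a ^ n • m = 0)
    {B : Type u} [CommRing B] [Algebra A B] (ε : A ⊗[R₀] L ≃+* B)
    (hε : ∀ a : A, ε (a ⊗ₜ 1) = algebraMap A B a)
    (b : B) {B' : Type u} [CommRing B'] [Algebra B B'] [Algebra A B']
    [IsScalarTower A B B'] [IsLocalization.Away b B']
    (z : B' ⊗[A] M) (hz : ∀ j, LinearMap.lTensor B' (u j) z = 0) : z = 0 := by
  letI : Algebra (A ⊗[R₀] L) B' := ((algebraMap B B').comp ε.toRingHom).toAlgebra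
  haveI : IsScalarTower A (A ⊗[R₀] L) B' := by
    apply IsScalarTower.of_algebraMap_eq
    intro a
    change algebraMap A B' a = algebraMap B B' (ε (a ⊗ₜ 1))
    rw [hε, ← IsScalarTower.algebraMap_apply]
  haveI : IsLocalization.Away (ε.symm b) B' := by
    refine IsLocalization.of_ringEquiv_left (K := B') ε (M₁ := Submonoid.powers b)
      (M₂ := Submonoid.powers (ε.symm b)) ?_ (fun x => rfl)
    rw [Submonoid.map_powers]
    simp
  exact eq_zero_of_field N u hF hsep (ε.symm b) z hz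

end Field

end Groth.Agent.H21.SepModLim
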