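import Groth.Agent.H21.SepMod
import Groth.Agent.H21.SchDom
import Groth.Agent.H39.PullTrack5
import Groth.Agent.H8.QCohAffine

/-!
# Separating families of homomorphisms of quasi-coherent modules: scheme plumbing (helper21)

EGA IV 11.9 (module version). `separating_pullback_of_ring` reduces the statement "the family
`g^* u_i` is separating" to joint injectivity of `B ⊗ u_i` on affine pieces.
-/
open CategoryTheory AlgebraicGeometry TensorProduct Opposite Limits

universe u

namespace Groth.Agent.H21.SepModSch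

open Groth.Agent.H39.PullTrack

lemma eq_zero_of_forall_res {X : Scheme.{u}} (N : X.Modules) {V : X.Opens} (t : Γ(N, V))
    (P : X.Opens → Prop)
    (hcov : ∀ x ∈ V, ∃ W : X.Opens, x ∈ W ∧ W ≤ V ∧ P W)
    (h : ∀ (W : X.Opens) (hW : W ≤ V), P W → N.presheaf.map (homOfLE hW).op t = 0) : t = 0 := by
  let S : TopCat.Sheaf Ab X := ⟨N.presheaf, N.isSheaf⟩
  fapply S.eq_of_locally_eq' (fun i : {W : X.Opens // W ≤ V ∧ P W} => i.1) V
    (fun i => homOfLE i.2.1)
  · intro x hx
    obtain ⟨W, hxW, hWV, hPW⟩ := hcov x hx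
    exact TopologicalSpace.Opens.mem_iSup.mpr ⟨⟨W, hWV, hPW⟩, hxW⟩
  · intro i
    change N.presheaf.map _ t = N.presheaf.map _ 0
    rw [map_zero]
    exact h i.1 i.2.1 i.2.2

/-- `(u j).app U` as a `Γ(X,U)`-linear map. -/
noncomputable def appₗ {X : Scheme.{u}} {F G : X.Modules} (φ : F ⟶ G) (U : X.Opens) :
    Γ(F, U) →ₗ[Γ(X, U)] Γ(G, U) where
  toFun x := φ.app U x
  map_add' x y := map_add _ x y
  map_smul' r x := Scheme.Modules.Hom.app_smul φ r x

@[simp] lemma appₗ_apply {X : Scheme.{u}} {F G : X.Modules} (φ : F ⟶ G) (U : X.Opens)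
    (x : Γ(F, U)) : appₗ φ U x = φ.app U x := rfl

/-- ring-level separation on an affine open, from the sheaf-level one. -/
lemma sep_affine {X : Scheme.{u}} (F : X.Modules) [F.IsQuasicoherent] {ι : Type*}
    (G : ι → X.Modules) (u : ∀ i, F ⟶ G i)
    (h : ∀ (V : X.Opens) (t : Γ(F, V)), (∀ i, (u i).app V t = 0) → t = 0)
    {U : X.Opens} (hU : IsAffineOpen U) (a : Γ(X, U)) (m : Γ(F, U))
    (ham : ∀ i, ∃ n : ℕ, (u i).app U (a ^ n • m) = 0) : ∃ n : ℕ, a ^ n • m = 0 := by
  apply Groth.Agent.H8.exists_smul_eq_zero hU F a m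
  apply h
  intro i
  obtain ⟨n, hn⟩ := ham i
  rw [app_res]
  rw [Scheme.Modules.Hom.app_smul] at hn
  have h2 := congrArg ((G i).presheaf.map (homOfLE (X.basicOpen_le a)).op) hn
  rw [Scheme.Modules.map_smul, map_zero, map_pow] at h2
  have hunit : IsUnit (X.presheaf.map (homOfLE (X.basicOpen_le a)).op a) :=
    RingedSpace.isUnit_res_basicOpen X.toRingedSpace a
  exact ((hunit.pow n).smul_eq_zero).mp h2

/-- transfer of a section of a pullback over an affine open to the tensor product. -/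
theorem exists_tensor_of_pullback {X X' : Scheme.{u}} (F : X.Modules) [F.IsQuasicoherent]
    {ι : Type*} (G : ι → X.Modules) [∀ i, (G i).IsQuasicoherent] (u : ∀ i, F ⟶ G i) (g : X' ⟶ X)
    {U : X.Opens} (hU : IsAffineOpen U) {V' : X'.Opens} (hV' : IsAffineOpen V')
    (e : V' ≤ g ⁻¹ᵁ U) (t : Γ((Scheme.Modules.pullback g).obj F, V'))
    (ht : ∀ i, ((Scheme.Modules.pullback g).map (u i)).app V' t = 0) :
    letI := (g.appLE U V' e).hom.toAlgebra
    ∃ z : Γ(X', V') ⊗[Γ(X, U)] Γ(F, U), (z = 0 → t = 0) ∧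
      ∀ i, LinearMap.lTensor Γ(X', V') (appₗ (u i) U) z = 0 := by
  letI := (g.appLE U V' e).hom.toAlgebra
  obtain ⟨EF, hEF⟩ := exists_sectionsPullbackEquiv g F hU hV' e
  refine ⟨EF t, fun h0 => EF.injective (h0.trans (LinearEquiv.map_zero _).symm), fun i => ?_⟩
  obtain ⟨EG, hEG⟩ := exists_sectionsPullbackEquiv g (G i) hU hV' e
  let φ₁ : Γ(X', V') ⊗[Γ(X, U)] Γ(F, U) →ₗ[Γ(X', V')] Γ(X', V') ⊗[Γ(X, U)] Γ(G i, U) :=
    EG.toLinearMap ∘ₗ (appₗ ((Scheme.Modules.pullback g).map (u i)) V') ∘ₗ EF.symm.toLinearMap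
  have hφ : φ₁ = LinearMap.baseChange Γ(X', V') (appₗ (u i) U) := by
    apply TensorProduct.AlgebraTensorModule.ext
    intro b x
    have hb : b ⊗ₜ[Γ(X, U)] x = b • ((1 : Γ(X', V')) ⊗ₜ[Γ(X, U)] x) := by
      rw [TensorProduct.smul_tmul', smul_eq_mul, mul_one]
    rw [hb, LinearMap.map_smul, LinearMap.map_smul, LinearMap.baseChange_tmul]
    congr 1
    change EG ((appₗ ((Scheme.Modules.pullback g).map (u i)) V') (EF.symm (1 ⊗ₜ x))) = _
    rw [← hEF x, LinearEquiv.symm_apply_apply, appₗ_apply, map_pullSectLE, hEG]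
    rfl
  have h1 : LinearMap.lTensor Γ(X', V') (appₗ (u i) U) (EF t) =
      LinearMap.baseChange Γ(X', V') (appₗ (u i) U) (EF t) := rfl
  rw [h1, ← hφ]
  change EG ((appₗ ((Scheme.Modules.pullback g).map (u i)) V') (EF.symm (EF t))) = 0
  rw [LinearEquiv.symm_apply_apply, appₗ_apply, ht i, LinearEquiv.map_zero]

/-- **Reduction to rings.** To show that the pulled-back family `g^* u_i` is separating, it is
enough to show joint injectivity of the `B ⊗ u_i` on pairs of affine opens. -/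
theorem separating_pullback_of_ring {X X' : Scheme.{u}} (F : X.Modules) [F.IsQuasicoherent]
    {ι : Type*} (G : ι → X.Modules) [∀ i, (G i).IsQuasicoherent] (u : ∀ i, F ⟶ G i) (g : X' ⟶ X)
    (hring : ∀ {U : X.Opens} (_ : IsAffineOpen U) {V' : X'.Opens} (_ : IsAffineOpen V')
      (e : V' ≤ g ⁻¹ᵁ U),
      letI := (g.appLE U V' e).hom.toAlgebra
      ∀ z : Γ(X', V') ⊗[Γ(X, U)] Γ(F, U),
        (∀ i, LinearMap.lTensor Γ(X', V') (appₗ (u i) U) z = 0) → z = 0)
    (V : X'.Opens) (t : Γ((Scheme.Modules.pullback g).obj F, V))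
    (ht : ∀ i, ((Scheme.Modules.pullback g).map (u i)).app V t = 0) : t = 0 := by
  apply eq_zero_of_forall_res _ t
    (fun W => IsAffineOpen W ∧ ∃ U : X.Opens, IsAffineOpen U ∧ W ≤ g ⁻¹ᵁ U)
  · intro x hx
    obtain ⟨U, hU, hgxU, -⟩ := TopologicalSpace.Opens.isBasis_iff_nbhd.mp X.isBasis_affineOpens
      (show g x ∈ (⊤ : X.Opens) from trivial)
    have hx' : x ∈ V ⊓ g ⁻¹ᵁ U := ⟨hx, hgxU⟩
    obtain ⟨W, hW, hxW, hWle⟩ := TopologicalSpace.Opens.isBasis_iff_nbhd.mp
      X'.isBasis_affineOpens hx'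
    exact ⟨W, hxW, hWle.trans inf_le_left, hW, U, hU, hWle.trans inf_le_right⟩
  · rintro W hWV ⟨hW, U, hU, hWU⟩
    obtain ⟨z, hz0, hz⟩ := exists_tensor_of_pullback F G u g hU hW hWU
      (((Scheme.Modules.pullback g).obj F).presheaf.map (homOfLE hWV).op t) (fun i => by
        rw [app_res, ht i, map_zero])
    exact hz0 (hring hU hW hWU z hz)

/-- switching sides of the tensor product. -/
lemma lTensor_of_rTensor {A B : Type*} [CommRing A] [CommRing B] [Algebra A B]
    {M : Type*} [AddCommGroup M] [Module A M] {J : Type*}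
    (N : J → Type*) [∀ j, AddCommGroup (N j)] [∀ j, Module A (N j)] (u : ∀ j, M →ₗ[A] N j)
    (h : ∀ z : M ⊗[A] B, (∀ j, LinearMap.rTensor B (u j) z = 0) → z = 0)
    (z : B ⊗[A] M) (hz : ∀ j, LinearMap.lTensor B (u j) z = 0) : z = 0 := by
  apply (TensorProduct.comm A B M).injective
  rw [LinearEquiv.map_zero]
  apply h
  intro j
  have := TensorProduct.map_comm (u j) (LinearMap.id : B →ₗ[A] B) z
  change LinearMap.rTensor B (u j) (TensorProduct.comm A B M z) =
    TensorProduct.comm A B (N j) (LinearMap.lTensor B (u j) z) at this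
  rw [this, hz j, LinearEquiv.map_zero]

/-- **EGA IV 11.9 (module version), flat + locally finitely presented base change.** -/
theorem separating_pullback_of_flat_lfp {X X' : Scheme.{u}} (F : X.Modules) [F.IsQuasicoherent]
    {ι : Type*} (G : ι → X.Modules) [∀ i, (G i).IsQuasicoherent] (u : ∀ i, F ⟶ G i) (g : X' ⟶ X)
    [Flat g] [LocallyOfFinitePresentation g]
    (h : ∀ (V : X.Opens) (t : Γ(F, V)), (∀ i, (u i).app V t = 0) → t = 0)
    (V : X'.Opens) (t : Γ((Scheme.Modules.pullback g).obj F, V))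
    (ht : ∀ i, ((Scheme.Modules.pullback g).map (u i)).app V t = 0) : t = 0 := by
  refine separating_pullback_of_ring F G u g ?_ V t ht
  intro U hU V' hV' e
  letI : Algebra Γ(X, U) Γ(X', V') := (g.appLE U V' e).hom.toAlgebra
  haveI : Module.Flat Γ(X, U) Γ(X', V') :=
    HasRingHomProperty.appLE (P := @Flat) g inferInstance ⟨U, hU⟩ ⟨V', hV'⟩ e
  haveI : Algebra.FinitePresentation Γ(X, U) Γ(X', V') :=
    HasRingHomProperty.appLE (P := @LocallyOfFinitePresentation) g inferInstance ⟨U, hU⟩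
      ⟨V', hV'⟩ e
  intro z hz
  refine lTensor_of_rTensor (fun i => Γ(G i, U)) (fun i => appₗ (u i) U) ?_ z hz
  intro z' hz'
  refine SepMod.eq_zero_of_flat_finitePresentation (A := Γ(X, U)) (B := Γ(X', V'))
    (fun i => Γ(G i, U)) (fun i => appₗ (u i) U) ?_ z' hz'
  intro a m ham
  exact sep_affine F G u h hU a m ham

end Groth.Agent.H21.SepModSch
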