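import Groth.Agent.H21.SepModGr

open TensorProduct

universe u

namespace Groth.Agent.H21.SepModUniv

open Groth.Agent.H21.SepFam Groth.Agent.H21.SepMod Groth.Agent.H21.SepModLim
open Groth.Agent.H21.SepModBC Groth.Agent.H21.SepModGr

section Defs

variable {A : Type*} [CommRing A] {M : Type*} [AddCommGroup M] [Module A M] {J : Type*}
  (N : J → Type*) [∀ j, AddCommGroup (N j)] [∀ j, Module A (N j)] (u : ∀ j, M →ₗ[A] N j)

/-- joint injectivity of the family `B ⊗ u_j`. -/
def JI (B : Type*) [CommRing B] [Algebra A B] : Prop :=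
  ∀ z : B ⊗[A] M, (∀ j, LinearMap.lTensor B (u j) z = 0) → z = 0

/-- joint injectivity of `B_b ⊗ u_j` for all `b : B`. -/
def JIloc (B : Type*) [CommRing B] [Algebra A B] : Prop :=
  ∀ b : B, JI N u (Localization.Away b)

variable {N u}

lemma JI.of_algEquiv {B₁ B₂ : Type*} [CommRing B₁] [Algebra A B₁] [CommRing B₂] [Algebra A B₂]
    (e : B₁ ≃ₐ[A] B₂) (h : JI N u B₂) : JI N u B₁ :=
  fun z hz => jointInj_of_algEquiv N u e h z hz

lemma JIloc.ji {B : Type*} [CommRing B] [Algebra A B] (h : JIloc N u B) (b : B)
    (B' : Type*) [CommRing B'] [Algebra B B'] [Algebra A B'] [IsScalarTower A B B']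
    [IsLocalization.Away b B'] : JI N u B' :=
  JI.of_algEquiv ((IsLocalization.algEquiv (Submonoid.powers b) B'
    (Localization.Away b)).restrictScalars A) (h b)

lemma JIloc.of_algEquiv {B₁ B₂ : Type*} [CommRing B₁] [Algebra A B₁] [CommRing B₂] [Algebra A B₂]
    (e : B₁ ≃ₐ[A] B₂) (h : JIloc N u B₂) : JIloc N u B₁ := by
  intro b
  obtain ⟨e'⟩ := exists_algEquiv_of_localizations (A := A) e.toRingEquiv (fun a => e.commutes a) b
    (Localization.Away b) (Localization.Away (e b))
  exact JI.of_algEquiv e' (h (e b))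

end Defs

section Base

variable {A : Type*} [CommRing A] {M : Type*} [AddCommGroup M] [Module A M] {J : Type*}
  {N : J → Type*} [∀ j, AddCommGroup (N j)] [∀ j, Module A (N j)] {u : ∀ j, M →ₗ[A] N j}

section C1

variable (B : Type*) [CommRing B] [Algebra A B] (C : Type*) [CommRing C] [Algebra B C]
  [Algebra A C] [IsScalarTower A B C]

lemma cancelBaseChange_natural {M N : Type*} [AddCommGroup M] [Module A M] [AddCommGroup N]
    [Module A N] (v : M →ₗ[A] N) (x : C ⊗[B] (B ⊗[A] M)) :
    AlgebraTensorModule.cancelBaseChange A B C C N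
        (LinearMap.lTensor C ((v.baseChange B).restrictScalars B) x) =
      LinearMap.lTensor C v (AlgebraTensorModule.cancelBaseChange A B C C M x) := by
  induction x using TensorProduct.induction_on with
  | zero => simp
  | tmul c y =>
    induction y using TensorProduct.induction_on with
    | zero => simp
    | tmul b m => simp
    | add x y hx hy => simp only [TensorProduct.tmul_add, map_add, hx, hy]
  | add x y hx hy => simp only [map_add, hx, hy]

/-- change of the base algebra. -/
lemma JI.of_baseChange (h : JI N u C) :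
    JI (fun j => B ⊗[A] N j) (fun j => (u j).baseChange B) C := by
  intro z hz
  have h1 := h (AlgebraTensorModule.cancelBaseChange A B C C M z) (fun j => by
    rw [← cancelBaseChange_natural]
    exact (congrArg _ (hz j)).trans (map_zero _))
  exact (AlgebraTensorModule.cancelBaseChange A B C C M).injective (h1.trans (map_zero _).symm)

lemma JI.to_baseChange (h : JI (fun j => B ⊗[A] N j) (fun j => (u j).baseChange B) C) :
    JI N u C := by
  intro z hz
  have h1 := h ((AlgebraTensorModule.cancelBaseChange A B C C M).symm z) (fun j => by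
    apply (AlgebraTensorModule.cancelBaseChange A B C C (N j)).injective
    rw [map_zero]
    refine (cancelBaseChange_natural B C (u j) _).trans ?_
    rw [LinearEquiv.apply_symm_apply, hz j])
  have h2 := congrArg (AlgebraTensorModule.cancelBaseChange A B C C M) h1
  rwa [LinearEquiv.apply_symm_apply, map_zero] at h2

lemma JIloc.of_baseChange (h : JIloc N u C) :
    JIloc (fun j => B ⊗[A] N j) (fun j => (u j).baseChange B) C :=
  fun c => JI.of_baseChange B (Localization.Away c) (h c)

lemma JIloc.to_baseChange (h : JIloc (fun j => B ⊗[A] N j) (fun j => (u j).baseChange B) C) :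
    JIloc N u C :=
  fun c => JI.to_baseChange B (Localization.Away c) (h c)

end C1

/-- the localized form of joint injectivity gives the `hsep` form. -/
lemma JIloc.hsep {B : Type*} [CommRing B] [Algebra A B] (h : JIloc N u B) (c : B)
    (m : B ⊗[A] M) (hm : ∀ j, ∃ n : ℕ, (u j).baseChange B (c ^ n • m) = 0) :
    ∃ n : ℕ, c ^ n • m = 0 := by
  have h1 : locMap (A := A) (B := B) (B' := Localization.Away c) M m = 0 := by
    apply h c
    intro j
    obtain ⟨n, hn⟩ := hm j
    rw [locMap_natural]
    refine (IsLocalizedModule.eq_zero_iff (Submonoid.powers c)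
      (locMap (A := A) (B := B) (B' := Localization.Away c) (N j))).mpr ⟨⟨c ^ n, n, rfl⟩, ?_⟩
    change c ^ n • LinearMap.lTensor B (u j) m = 0
    rw [← lTensor_smul_left]
    exact hn
  obtain ⟨⟨_, n, rfl⟩, hn⟩ := (IsLocalizedModule.eq_zero_iff (Submonoid.powers c)
    (locMap (A := A) (B := B) (B' := Localization.Away c) M)).mp h1
  exact ⟨n, hn⟩

section Assoc

variable (S B : Type*) [CommRing S] [Algebra A S] [CommRing B] [Algebra A B]

lemma assoc_natural {M N : Type*} [AddCommGroup M] [Module A M] [AddCommGroup N]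
    [Module A N] (v : M →ₗ[A] N) (x : (S ⊗[A] B) ⊗[A] M) :
    TensorProduct.assoc A S B N (LinearMap.lTensor (S ⊗[A] B) v x) =
      LinearMap.lTensor S (LinearMap.lTensor B v) (TensorProduct.assoc A S B M x) := by
  induction x using TensorProduct.induction_on with
  | zero => simp
  | tmul y m =>
    induction y using TensorProduct.induction_on with
    | zero => simp
    | tmul s b => simp
    | add x y hx hy => simp only [TensorProduct.add_tmul, map_add, hx, hy]
  | add x y hx hy => simp only [map_add, hx, hy]

lemma JI.assoc (h : JI N u (S ⊗[A] B)) (z : S ⊗[A] (B ⊗[A] M))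
    (hz : ∀ j, LinearMap.lTensor S (LinearMap.lTensor B (u j)) z = 0) : z = 0 := by
  have h1 := h ((TensorProduct.assoc A S B M).symm z) (fun j => by
    apply (TensorProduct.assoc A S B (N j)).injective
    rw [map_zero, assoc_natural, LinearEquiv.apply_symm_apply, hz j])
  have h2 := congrArg (TensorProduct.assoc A S B M) h1
  rwa [LinearEquiv.apply_symm_apply, map_zero] at h2

end Assoc

end Base


section FlatAnn

/-- for `C` flat over `A`: `c ⊗ m = 0` implies `c ∈ ann(m) C`. -/
lemma mem_smul_top_of_tmul_eq_zero {A C M : Type*} [CommRing A] [CommRing C] [Algebra A C]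
    [Module.Flat A C] [AddCommGroup M] [Module A M] (m : M) (c : C) (h : c ⊗ₜ[A] m = 0) :
    c ∈ (LinearMap.ker (LinearMap.toSpanSingleton A M m)) • (⊤ : Submodule A C) := by
  let f : A →ₗ[A] M := LinearMap.toSpanSingleton A M m
  let I : Ideal A := LinearMap.ker f
  let ψ : (A ⧸ I) →ₗ[A] M := Submodule.liftQ I f le_rfl
  have hψ : Function.Injective ψ := by
    rw [← LinearMap.ker_eq_bot]
    exact Submodule.ker_liftQ_eq_bot _ _ _ le_rfl
  have hinj := Module.Flat.lTensor_preserves_injective_linearMap (M := C) ψ hψ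
  have h1 : c ⊗ₜ[A] (Ideal.Quotient.mk I 1) = 0 := by
    apply hinj
    rw [map_zero, LinearMap.lTensor_tmul]
    have : ψ (Ideal.Quotient.mk I 1) = m := by
      change f 1 = m
      simp [f]
    rw [this, h]
  have h2 := congrArg (TensorProduct.tensorQuotEquivQuotSMul C I) h1
  rw [TensorProduct.tensorQuotEquivQuotSMul_tmul_mk, map_zero, one_smul,
    Submodule.Quotient.mk_eq_zero] at h2
  exact h2

end FlatAnn

section CancelSMul

variable {R₀ A : Type*} [CommRing R₀] [CommRing A] [Algebra R₀ A]
  (Λ : Type*) [CommRing Λ] [Algebra R₀ Λ]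
  (M : Type*) [AddCommGroup M] [Module A M] [Module R₀ M] [IsScalarTower R₀ A M]

lemma cancelEquiv_smul (t : Λ) (x : (A ⊗[R₀] Λ) ⊗[A] M) :
    cancelEquiv (A := R₀) (R := A) Λ M (((1 : A) ⊗ₜ[R₀] t : A ⊗[R₀] Λ) • x) = t • cancelEquiv (A := R₀) (R := A) Λ M x := by
  induction x using TensorProduct.induction_on with
  | zero => simp
  | tmul y m =>
    induction y using TensorProduct.induction_on with
    | zero => simp
    | tmul a l => simp [TensorProduct.smul_tmul']
    | add x y hx hy => simp only [TensorProduct.add_tmul, smul_add, map_add, hx, hy]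
  | add x y hx hy => simp only [smul_add, map_add, hx, hy]

lemma cancelEquiv_symm_smul (t : Λ) (y : Λ ⊗[R₀] M) :
    (cancelEquiv (A := R₀) (R := A) Λ M).symm (t • y) =
      ((1 : A) ⊗ₜ[R₀] t : A ⊗[R₀] Λ) • (cancelEquiv (A := R₀) (R := A) Λ M).symm y := by
  apply (cancelEquiv (A := R₀) (R := A) Λ M).injective
  rw [LinearEquiv.apply_symm_apply, cancelEquiv_smul, LinearEquiv.apply_symm_apply]

end CancelSMul

end Groth.Agent.H21.SepModUniv
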