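import Groth.Agent.H21.SepModUniv

open TensorProduct

universe u

set_option linter.style.haveILetI false

namespace Groth.Agent.H21.SepModUniv

open Groth.Agent.H21.SepFam Groth.Agent.H21.SepMod Groth.Agent.H21.SepModLim
open Groth.Agent.H21.SepModBC Groth.Agent.H21.SepModGr

section Thm0

variable {R₀ A : Type u} [CommRing R₀] [CommRing A] [Algebra R₀ A] [IsNoetherianRing A]
  {M : Type u} [AddCommGroup M] [Module A M] [Module.Finite A M] {J : Type*}
  (N : J → Type u) [∀ j, AddCommGroup (N j)] [∀ j, Module A (N j)] [∀ j, Module R₀ (N j)]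
  [∀ j, IsScalarTower R₀ A (N j)] [∀ j, Module.Flat R₀ (N j)]
  (u : ∀ j, M →ₗ[A] N j)

set_option maxHeartbeats 1000000 in
/-- **Fibrewise criterion, non-localized form.** -/
theorem eq_zero_of_fibres
    (Fib : ∀ (K : Type u) [Field K] [Algebra R₀ K], JI N u (A ⊗[R₀] K))
    (m : M) (hm : ∀ j, u j m = 0) : m = 0 := by
  classical
  letI : Module R₀ M := Module.compHom M (algebraMap R₀ A)
  haveI : IsScalarTower R₀ A M := IsScalarTower.of_algebraMap_smul (fun _ _ => rfl)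
  by_contra hne
  let f : A →ₗ[A] M := LinearMap.toSpanSingleton A M m
  let I : Ideal A := LinearMap.ker f
  have hI : I ≠ ⊤ := by
    intro h
    have : (1 : A) ∈ I := by rw [h]; trivial
    have h1 : f 1 = 0 := this
    apply hne
    simpa [f] using h1
  obtain ⟨𝔮, h𝔮, hI𝔮⟩ := Ideal.exists_le_maximal I hI
  haveI := h𝔮
  let 𝔭 : Ideal R₀ := 𝔮.comap (algebraMap R₀ A)
  haveI : 𝔭.IsPrime := Ideal.comap_isPrime _ _
  let Λ := Localization.AtPrime 𝔭
  let 𝔪 : Ideal Λ := IsLocalRing.maximalIdeal Λ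
  letI : Field (Λ ⧸ 𝔪) := Ideal.Quotient.field 𝔪
  -- the fibre hypothesis over `Λ`
  have H₀ : ∀ μ : (Λ ⧸ 𝔪) ⊗[Λ] (Λ ⊗[R₀] M),
      (∀ j, LinearMap.lTensor (Λ ⧸ 𝔪) (((u j).restrictScalars R₀).baseChange Λ) μ = 0) →
        μ = 0 := by
    have h1 : JI N u (A ⊗[R₀] (Λ ⧸ 𝔪)) := Fib (Λ ⧸ 𝔪)
    have h2 : JI (A := R₀) N (fun j => (u j).restrictScalars R₀) (Λ ⧸ 𝔪) :=
      fun μ hμ => jointInj_of_cancel (A := R₀) (R := A) (Λ ⧸ 𝔪) N u h1 μ hμ
    exact JI.of_baseChange (A := R₀) Λ (Λ ⧸ 𝔪) h2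
  have key : ∀ n : ℕ, ((1 : Λ) ⊗ₜ[R₀] m : Λ ⊗[R₀] M) ∈
      (𝔪 ^ n) • (⊤ : Submodule Λ (Λ ⊗[R₀] M)) := by
    intro n
    induction n with
    | zero => simp
    | succ n ih =>
      have := gr_step 𝔪 (𝔪 ^ n) (fun j => Λ ⊗[R₀] N j)
        (fun j => ((u j).restrictScalars R₀).baseChange Λ) H₀ _ ih (fun j => by
          rw [LinearMap.baseChange_tmul]
          change (1 : Λ) ⊗ₜ[R₀] (u j m) = 0
          rw [hm j, TensorProduct.tmul_zero])
      rwa [← pow_succ'] at this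
  -- Krull on `C = A ⊗ Λ`
  haveI : IsNoetherianRing (A ⊗[R₀] Λ) :=
    IsLocalization.isNoetherianRing (Algebra.algebraMapSubmonoid A 𝔭.primeCompl)
      (A ⊗[R₀] Λ) inferInstance
  let incl : Λ →ₐ[R₀] A ⊗[R₀] Λ := Algebra.TensorProduct.includeRight
  let 𝔪C : Ideal (A ⊗[R₀] Λ) := 𝔪.map incl
  have transfer : ∀ (n : ℕ) (y : Λ ⊗[R₀] M), y ∈ (𝔪 ^ n) • (⊤ : Submodule Λ (Λ ⊗[R₀] M)) →
      (cancelEquiv (A := R₀) (R := A) Λ M).symm y ∈
        (𝔪C ^ n) • (⊤ : Submodule (A ⊗[R₀] Λ) ((A ⊗[R₀] Λ) ⊗[A] M)) := by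
    intro n y hy
    refine Submodule.smul_induction_on hy ?_ ?_
    · intro t ht y' _
      rw [cancelEquiv_symm_smul]
      refine Submodule.smul_mem_smul ?_ Submodule.mem_top
      rw [← Ideal.map_pow]
      exact Ideal.mem_map_of_mem incl ht
    · intro x y hx hy
      rw [map_add]
      exact Submodule.add_mem _ hx hy
  have krull := (Ideal.mem_iInf_smul_pow_eq_bot_iff (R := A ⊗[R₀] Λ)
    (M := (A ⊗[R₀] Λ) ⊗[A] M) 𝔪C ((1 : A ⊗[R₀] Λ) ⊗ₜ[A] m)).mp
  have hZ : ∃ r : 𝔪C, (r : A ⊗[R₀] Λ) • ((1 : A ⊗[R₀] Λ) ⊗ₜ[A] m) =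
      ((1 : A ⊗[R₀] Λ) ⊗ₜ[A] m : (A ⊗[R₀] Λ) ⊗[A] M) := by
    apply krull
    rw [Submodule.mem_iInf]
    intro n
    have h1 := transfer n _ (key n)
    have h2 : (cancelEquiv (A := R₀) (R := A) Λ M).symm ((1 : Λ) ⊗ₜ[R₀] m) =
        (1 : A ⊗[R₀] Λ) ⊗ₜ[A] m := by
      rw [LinearEquiv.symm_apply_eq, Algebra.TensorProduct.one_def, cancelEquiv_tmul, one_smul]
    rw [h2] at h1
    exact h1
  obtain ⟨⟨r, hr𝔪⟩, hr⟩ := hZ
  -- `(1 - r) ⊗ m = 0`
  have h0 : ((1 - r : A ⊗[R₀] Λ) ⊗ₜ[A] m : (A ⊗[R₀] Λ) ⊗[A] M) = 0 := by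
    have e1 : (r ⊗ₜ[A] m : (A ⊗[R₀] Λ) ⊗[A] M) = (1 : A ⊗[R₀] Λ) ⊗ₜ[A] m := by
      have e2 : r • ((1 : A ⊗[R₀] Λ) ⊗ₜ[A] m : (A ⊗[R₀] Λ) ⊗[A] M) = r ⊗ₜ[A] m := by
        rw [TensorProduct.smul_tmul', smul_eq_mul, mul_one]
      rw [← e2]
      exact hr
    rw [TensorProduct.sub_tmul, e1, sub_self]
  have h1 := mem_smul_top_of_tmul_eq_zero m (1 - r : A ⊗[R₀] Λ) h0
  -- the character `χ : C → A/𝔮`
  letI : Field (A ⧸ 𝔮) := Ideal.Quotient.field 𝔮
  have hunit : ∀ y : 𝔭.primeCompl, IsUnit (algebraMap R₀ (A ⧸ 𝔮) y) := by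
    intro y
    rw [isUnit_iff_ne_zero, IsScalarTower.algebraMap_apply R₀ A (A ⧸ 𝔮),
      Ideal.Quotient.algebraMap_eq, Ne, Ideal.Quotient.eq_zero_iff_mem]
    exact y.2
  let ψ : Λ →ₐ[R₀] A ⧸ 𝔮 :=
    { IsLocalization.lift (M := 𝔭.primeCompl) (g := algebraMap R₀ (A ⧸ 𝔮)) hunit with
      commutes' := fun x => IsLocalization.lift_eq _ x }
  let χ : A ⊗[R₀] Λ →ₐ[A] A ⧸ 𝔮 :=
    Algebra.TensorProduct.lift (Algebra.ofId A (A ⧸ 𝔮)) ψ (fun _ _ => Commute.all _ _)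
  have hχI : ∀ c ∈ I • (⊤ : Submodule A (A ⊗[R₀] Λ)), χ c = 0 := by
    intro c hc
    refine Submodule.smul_induction_on hc ?_ ?_
    · intro i hi c' _
      rw [map_smul, Algebra.smul_def, Ideal.Quotient.algebraMap_eq,
        Ideal.Quotient.eq_zero_iff_mem.mpr (hI𝔮 hi), zero_mul]
    · intro x y hx hy
      rw [map_add, hx, hy, add_zero]
  have hχ𝔪 : 𝔪C ≤ RingHom.ker χ.toRingHom := by
    rw [Ideal.map_le_iff_le_comap]
    have : 𝔪 = Ideal.map (algebraMap R₀ Λ) 𝔭 := Localization.AtPrime.map_eq_maximalIdeal.symm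
    rw [this, Ideal.map_le_iff_le_comap]
    intro x hx
    rw [Ideal.mem_comap, Ideal.mem_comap, RingHom.mem_ker]
    change χ ((1 : A) ⊗ₜ[R₀] (algebraMap R₀ Λ x)) = 0
    rw [Algebra.TensorProduct.lift_tmul, map_one, one_mul, AlgHom.commutes,
      IsScalarTower.algebraMap_apply R₀ A (A ⧸ 𝔮), Ideal.Quotient.algebraMap_eq,
      Ideal.Quotient.eq_zero_iff_mem]
    exact hx
  have h2 : χ (1 - r) = 0 := hχI _ h1
  have h3 : χ r = 0 := hχ𝔪 hr𝔪
  have h4 : (1 : A ⧸ 𝔮) = 0 := by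
    have := map_sub χ 1 r
    rw [h2, h3, map_one, sub_zero] at this
    exact this.symm
  exact one_ne_zero h4

end Thm0

section Thm1

variable {R₀ A : Type u} [CommRing R₀] [CommRing A] [Algebra R₀ A] [IsNoetherianRing A]
  {M : Type u} [AddCommGroup M] [Module A M] [Module.Finite A M] {J : Type*}
  (N : J → Type u) [∀ j, AddCommGroup (N j)] [∀ j, Module A (N j)] [∀ j, Module R₀ (N j)]
  [∀ j, IsScalarTower R₀ A (N j)] [∀ j, Module.Flat R₀ (N j)]
  (u : ∀ j, M →ₗ[A] N j)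

attribute [local instance] Algebra.TensorProduct.rightAlgebra in
set_option maxHeartbeats 1000000 in
/-- **Fibrewise criterion, localized form.** -/
theorem jiloc_of_fibres
    (Fib : ∀ (K : Type u) [Field K] [Algebra R₀ K], JIloc N u (A ⊗[R₀] K)) : JIloc N u A := by
  intro a z hz
  haveI : IsNoetherianRing (Localization.Away a) :=
    IsLocalization.isNoetherianRing (Submonoid.powers a) _ inferInstance
  haveI : ∀ j, Module.Flat R₀ (Localization.Away a ⊗[A] N j) := fun j =>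
    Groth.Agent.H8.flat_tensor_of_flat R₀ A (Localization.Away a) (N j)
  refine eq_zero_of_fibres (R₀ := R₀) (A := Localization.Away a)
    (M := Localization.Away a ⊗[A] M)
    (fun j => Localization.Away a ⊗[A] N j) (fun j => (u j).baseChange _) ?_ z hz
  intro K _ _
  -- `B ⊗[R₀] K ≃ B ⊗[A] (A ⊗[R₀] K)`
  refine JI.of_algEquiv
    (Algebra.TensorProduct.cancelBaseChange R₀ A (Localization.Away a) (Localization.Away a) K).symm ?_
  refine JI.of_baseChange (A := A) (Localization.Away a)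
    (Localization.Away a ⊗[A] (A ⊗[R₀] K)) ?_
  haveI : IsLocalization.Away ((a ⊗ₜ[R₀] (1 : K)) : A ⊗[R₀] K)
      (Localization.Away a ⊗[A] (A ⊗[R₀] K)) := by
    have := IsLocalization.tensorRight (R := A) (S := A ⊗[R₀] K) (Localization.Away a)
      (Submonoid.powers a)
    rwa [Algebra.algebraMapSubmonoid_powers] at this
  exact (Fib K).ji (a ⊗ₜ 1) (Localization.Away a ⊗[A] (A ⊗[R₀] K))

end Thm1

section Step2

variable {R₀ A : Type u} [CommRing R₀] [CommRing A] [Algebra R₀ A]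
  {M : Type u} [AddCommGroup M] [Module A M] [Module.Finite A M] {J : Type*}
  (N : J → Type u) [∀ j, AddCommGroup (N j)] [∀ j, Module A (N j)] [∀ j, Module R₀ (N j)]
  [∀ j, IsScalarTower R₀ A (N j)] [∀ j, Module.Flat R₀ (N j)]
  (u : ∀ j, M →ₗ[A] N j)

attribute [local instance] Algebra.TensorProduct.rightAlgebra in
set_option maxHeartbeats 1000000 in
/-- the fibrewise criterion after a base change `R₀ → L` with `A ⊗ L` noetherian. -/
theorem jiloc_tensor_of_fibres (L : Type u) [CommRing L] [Algebra R₀ L]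
    [IsNoetherianRing (A ⊗[R₀] L)]
    (Fib : ∀ (K : Type u) [Field K] [Algebra R₀ K], JIloc N u (A ⊗[R₀] K)) :
    JIloc N u (A ⊗[R₀] L) := by
  refine JIloc.to_baseChange (A := A) (A ⊗[R₀] L) (A ⊗[R₀] L) ?_
  haveI : ∀ j, Module.Flat L ((A ⊗[R₀] L) ⊗[A] N j) := fun j =>
    Module.Flat.of_linearEquiv (Algebra.IsPushout.cancelBaseChange R₀ L A (A ⊗[R₀] L) (N j))
  refine jiloc_of_fibres (R₀ := L) (A := A ⊗[R₀] L) (M := (A ⊗[R₀] L) ⊗[A] M)
    (fun j => (A ⊗[R₀] L) ⊗[A] N j) (fun j => (u j).baseChange (A ⊗[R₀] L)) ?_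
  intro K _ _
  letI : Algebra R₀ K := ((algebraMap L K).comp (algebraMap R₀ L)).toAlgebra
  haveI : IsScalarTower R₀ L K := IsScalarTower.of_algebraMap_eq' rfl
  refine JIloc.of_baseChange (A := A) (A ⊗[R₀] L) ((A ⊗[R₀] L) ⊗[L] K) ?_
  exact JIloc.of_algEquiv (Algebra.IsPushout.cancelBaseChangeAlg R₀ A L (A ⊗[R₀] L) K) (Fib K)

end Step2

section FieldExt

variable {R₀ A : Type u} [CommRing R₀] [CommRing A] [Algebra R₀ A]
  {M : Type u} [AddCommGroup M] [Module A M] {J : Type*}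
  {N : J → Type u} [∀ j, AddCommGroup (N j)] [∀ j, Module A (N j)]
  {u : ∀ j, M →ₗ[A] N j}

attribute [local instance] Algebra.TensorProduct.rightAlgebra in
set_option maxHeartbeats 1000000 in
/-- joint injectivity on a fibre passes to field extensions. -/
theorem JIloc.field_ext (K₁ K : Type u) [CommRing K₁] (hK₁ : IsField K₁) [CommRing K]
    [Algebra R₀ K₁] [Algebra R₀ K]
    [Algebra K₁ K] [IsScalarTower R₀ K₁ K]
    (h : JIloc N u (A ⊗[R₀] K₁)) : JIloc N u (A ⊗[R₀] K) := by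
  have h1 : JIloc (fun j => (A ⊗[R₀] K₁) ⊗[A] N j) (fun j => (u j).baseChange (A ⊗[R₀] K₁))
      ((A ⊗[R₀] K₁) ⊗[K₁] K) := by
    intro b z hz
    refine eq_zero_of_field (R₀ := K₁) (A := A ⊗[R₀] K₁) (L := K)
      (fun j => (A ⊗[R₀] K₁) ⊗[A] N j) (fun j => (u j).baseChange (A ⊗[R₀] K₁))
      hK₁ ?_ b z hz
    intro c m hm
    exact JIloc.hsep h c m hm
  have h2 : JIloc N u ((A ⊗[R₀] K₁) ⊗[K₁] K) :=
    JIloc.to_baseChange (A := A) (A ⊗[R₀] K₁) ((A ⊗[R₀] K₁) ⊗[K₁] K) h1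
  exact JIloc.of_algEquiv
    (Algebra.IsPushout.cancelBaseChangeAlg R₀ A K₁ (A ⊗[R₀] K₁) K).symm h2

end FieldExt

section Master

variable {R₀ A : Type u} [CommRing R₀] [CommRing A] [Algebra R₀ A] [IsNoetherianRing A]
  {M : Type u} [AddCommGroup M] [Module A M] [Module.Finite A M] {J : Type*}
  (N : J → Type u) [∀ j, AddCommGroup (N j)] [∀ j, Module A (N j)] [∀ j, Module R₀ (N j)]
  [∀ j, IsScalarTower R₀ A (N j)] [∀ j, Module.Flat R₀ (N j)]
  (u : ∀ j, M →ₗ[A] N j)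

lemma noeth_sub (L : Type u) [CommRing L] [Algebra R₀ L] (S : Subalgebra R₀ L) (hS : S.FG) :
    IsNoetherianRing (A ⊗[R₀] S) := by
  haveI : Algebra.FiniteType R₀ S := (Subalgebra.fg_iff_finiteType S).mp hS
  haveI : Algebra.FiniteType A (A ⊗[R₀] S) := inferInstance
  exact Algebra.FiniteType.isNoetherianRing A (A ⊗[R₀] S)

set_option maxHeartbeats 400000 in
theorem jiloc_universal_of_fibres (L : Type u) [CommRing L] [Algebra R₀ L]
    (Fib : ∀ (K : Type u) [Field K] [Algebra R₀ K], JIloc N u (A ⊗[R₀] K)) :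
    JIloc N u (A ⊗[R₀] L) := by
  intro b z hz
  have HS : ∀ (S : Subalgebra R₀ L), S.FG → ∀ (bS : A ⊗[R₀] S)
      (z : Localization.Away bS ⊗[A] M),
      (∀ j, LinearMap.lTensor (Localization.Away bS) (u j) z = 0) → z = 0 := by
    intro S hS bS zS hzS
    haveI : IsNoetherianRing (A ⊗[R₀] S) := noeth_sub L S hS
    have : JIloc N u (A ⊗[R₀] S) := by
      exact jiloc_tensor_of_fibres (R₀ := R₀) (A := A) (M := M) N u (↥S) Fib
    exact this bS zS hzS
  exact eq_zero_of_limit N u HS b z hz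

end Master

section Transport

variable {A : Type*} [CommRing A] {M : Type*} [AddCommGroup M] [Module A M] {J : Type*}
  {N : J → Type*} [∀ j, AddCommGroup (N j)] [∀ j, Module A (N j)] {u : ∀ j, M →ₗ[A] N j}

/-- transport of `JIloc` along a ring isomorphism compatible with the algebra maps, to an
arbitrary model of the localization. -/
theorem JIloc.transport {Q B : Type*} [CommRing Q] [Algebra A Q] [CommRing B] [Algebra A B]
    (h : JIloc N u Q) (ε : Q ≃+* B) (hε : ∀ a, ε (algebraMap A Q a) = algebraMap A B a) (b : B)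
    (B' : Type*) [CommRing B'] [Algebra B B'] [Algebra A B'] [IsScalarTower A B B']
    [IsLocalization.Away b B'] : JI N u B' := by
  haveI : IsLocalization.Away (ε (ε.symm b)) B' := by rwa [ε.apply_symm_apply]
  obtain ⟨e⟩ := exists_algEquiv_of_localizations (A := A) ε hε (ε.symm b)
    (Localization.Away (ε.symm b)) B'
  exact JI.of_algEquiv e.symm (h (ε.symm b))

/-- `JIloc` from joint injectivity on some model of each localization. -/
theorem JIloc.of_forall_away {B : Type*} [CommRing B] [Algebra A B]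
    (h : ∀ b : B, ∃ (B' : Type _) (_ : CommRing B') (_ : Algebra B B') (_ : Algebra A B')
      (_ : IsScalarTower A B B') (_ : IsLocalization.Away b B'), JI N u B') : JIloc N u B := by
  intro b
  obtain ⟨B', _, _, _, _, _, hB'⟩ := h b
  exact JI.of_algEquiv ((IsLocalization.algEquiv (Submonoid.powers b) (Localization.Away b)
    B').restrictScalars A) hB'

end Transport

end Groth.Agent.H21.SepModUniv
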