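import Groth.Agent.H21.SepModUniv2
import Groth.Agent.H8.Coh

/-!
# Universally separating families: scheme-level plumbing over a general base (helper21)
-/

open CategoryTheory AlgebraicGeometry TensorProduct Opposite Limits

universe u

set_option linter.style.haveILetI false

namespace Groth.Agent.H21.SepModUnivSch

open Groth.Agent.H21.SepModSch Groth.Agent.H21.SepModLim Groth.Agent.H39.PullTrack
open Groth.Agent.H21.SepModField Groth.Agent.H21.SepModBC Groth.Agent.H21.SepModUniv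

section Chart

variable {X S S' : Scheme.{u}} (p : X ⟶ S) (q : S' ⟶ S)

set_option maxHeartbeats 1000000 in
/-- the affine chart `fst⁻¹ U ⊓ snd⁻¹ T` of `X ×_S S'` and its ring. -/
theorem exists_chart_equiv {US : S.Opens} (hUS : IsAffineOpen US) {U : X.Opens}
    (hU : IsAffineOpen U) (hUSX : U ≤ p ⁻¹ᵁ US) {T : S'.Opens} (hT : IsAffineOpen T)
    (hUST : T ≤ q ⁻¹ᵁ US) :
    letI : Algebra Γ(S, US) Γ(X, U) := (p.appLE US U hUSX).hom.toAlgebra
    letI : Algebra Γ(S, US) Γ(S', T) := (q.appLE US T hUST).hom.toAlgebra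
    IsAffineOpen ((pullback.fst p q) ⁻¹ᵁ U ⊓ (pullback.snd p q) ⁻¹ᵁ T) ∧
    ∃ ε : Γ(X, U) ⊗[Γ(S, US)] Γ(S', T) ≃+*
        Γ(pullback p q, (pullback.fst p q) ⁻¹ᵁ U ⊓ (pullback.snd p q) ⁻¹ᵁ T),
      ∀ a : Γ(X, U), ε (a ⊗ₜ 1) = ((pullback.fst p q).appLE U _ inf_le_left) a := by
  letI : Algebra Γ(S, US) Γ(X, U) := (p.appLE US U hUSX).hom.toAlgebra
  letI : Algebra Γ(S, US) Γ(S', T) := (q.appLE US T hUST).hom.toAlgebra
  have H : IsPullback (pullback.fst p q) (pullback.snd p q) p q := IsPullback.of_hasPullback p q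
  have hW' := isAffineOpen_chart H hUST hUSX hUS hT hU
  refine ⟨hW', ?_⟩
  have Hpo := (isIso_pushoutSection_iff H hUST hUSX rfl).mp
    (isIso_pushoutSection_of_isAffineOpen H hUST hUSX rfl hUS hT hU)
  let ε := ((CommRingCat.isPushout_tensorProduct Γ(S, US) Γ(X, U)
    Γ(S', T)).isoIsPushout _ _ Hpo).commRingCatIsoToRingEquiv
  refine ⟨ε, fun a => ?_⟩
  have := (CommRingCat.isPushout_tensorProduct Γ(S, US) Γ(X, U)
    Γ(S', T)).inl_isoIsPushout_hom _ _ Hpo
  exact congrArg (fun φ => φ.hom a) this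

end Chart

section Piece

variable {X S S' : Scheme.{u}} (p : X ⟶ S) (q : S' ⟶ S)
  (F : X.Modules) [F.IsQuasicoherent] {ι : Type*} (G : ι → X.Modules)
  [∀ i, (G i).IsQuasicoherent] (u : ∀ i, F ⟶ G i)

set_option maxHeartbeats 1000000 in
/-- ring-level joint injectivity on the chart gives vanishing of sections on its basic opens. -/
theorem univ_piece {US : S.Opens} (hUS : IsAffineOpen US) {U : X.Opens}
    (hU : IsAffineOpen U) (hUSX : U ≤ p ⁻¹ᵁ US) {T : S'.Opens} (hT : IsAffineOpen T)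
    (hUST : T ≤ q ⁻¹ᵁ US)
    (HJ : letI : Algebra Γ(S, US) Γ(X, U) := (p.appLE US U hUSX).hom.toAlgebra
      letI : Algebra Γ(S, US) Γ(S', T) := (q.appLE US T hUST).hom.toAlgebra
      JIloc (fun i => Γ(G i, U)) (fun i => appₗ (u i) U) (Γ(X, U) ⊗[Γ(S, US)] Γ(S', T)))
    (b : Γ(pullback p q, (pullback.fst p q) ⁻¹ᵁ U ⊓ (pullback.snd p q) ⁻¹ᵁ T))
    (t : Γ((Scheme.Modules.pullback (pullback.fst p q)).obj F, (pullback p q).basicOpen b))
    (ht : ∀ i, ((Scheme.Modules.pullback (pullback.fst p q)).map (u i)).app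
      ((pullback p q).basicOpen b) t = 0) : t = 0 := by
  letI : Algebra Γ(S, US) Γ(X, U) := (p.appLE US U hUSX).hom.toAlgebra
  letI : Algebra Γ(S, US) Γ(S', T) := (q.appLE US T hUST).hom.toAlgebra
  obtain ⟨hW', ε, hε⟩ := exists_chart_equiv p q hUS hU hUSX hT hUST
  have eW' : (pullback.fst p q) ⁻¹ᵁ U ⊓ (pullback.snd p q) ⁻¹ᵁ T ≤ (pullback.fst p q) ⁻¹ᵁ U :=
    inf_le_left
  letI : Algebra Γ(X, U) Γ(pullback p q, (pullback.fst p q) ⁻¹ᵁ U ⊓ (pullback.snd p q) ⁻¹ᵁ T) :=
    ((pullback.fst p q).appLE U _ eW').hom.toAlgebra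
  have e : (pullback p q).basicOpen b ≤ (pullback.fst p q) ⁻¹ᵁ U :=
    ((pullback p q).basicOpen_le b).trans eW'
  letI : Algebra Γ(X, U) Γ(pullback p q, (pullback p q).basicOpen b) :=
    ((pullback.fst p q).appLE U _ e).hom.toAlgebra
  haveI : IsScalarTower Γ(X, U)
      Γ(pullback p q, (pullback.fst p q) ⁻¹ᵁ U ⊓ (pullback.snd p q) ⁻¹ᵁ T)
      Γ(pullback p q, (pullback p q).basicOpen b) := by
    apply IsScalarTower.of_algebraMap_eq
    intro a
    have := Scheme.Hom.appLE_map (pullback.fst p q) eW'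
      (homOfLE ((pullback p q).basicOpen_le b)).op
    exact (congrArg (fun φ => φ.hom a) this).symm
  haveI : IsLocalization.Away b Γ(pullback p q, (pullback p q).basicOpen b) :=
    hW'.isLocalization_basicOpen b
  obtain ⟨z, hz0, hz⟩ := exists_tensor_of_pullback F G u (pullback.fst p q) hU
    (hW'.basicOpen b) e t ht
  exact hz0 (JIloc.transport HJ ε hε b _ z hz)

set_option maxHeartbeats 1000000 in
/-- ring-level joint injectivity on the chart from separation on the fibre product. -/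
theorem jiloc_chart_of_separating
    (hsep : ∀ (V : (pullback p q).Opens)
        (t : Γ((Scheme.Modules.pullback (pullback.fst p q)).obj F, V)),
        (∀ i, ((Scheme.Modules.pullback (pullback.fst p q)).map (u i)).app V t = 0) → t = 0)
    {US : S.Opens} (hUS : IsAffineOpen US) {U : X.Opens}
    (hU : IsAffineOpen U) (hUSX : U ≤ p ⁻¹ᵁ US) {T : S'.Opens} (hT : IsAffineOpen T)
    (hUST : T ≤ q ⁻¹ᵁ US) :
    letI : Algebra Γ(S, US) Γ(X, U) := (p.appLE US U hUSX).hom.toAlgebra
    letI : Algebra Γ(S, US) Γ(S', T) := (q.appLE US T hUST).hom.toAlgebra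
    JIloc (fun i => Γ(G i, U)) (fun i => appₗ (u i) U) (Γ(X, U) ⊗[Γ(S, US)] Γ(S', T)) := by
  letI : Algebra Γ(S, US) Γ(X, U) := (p.appLE US U hUSX).hom.toAlgebra
  letI : Algebra Γ(S, US) Γ(S', T) := (q.appLE US T hUST).hom.toAlgebra
  obtain ⟨hW', ε, hε⟩ := exists_chart_equiv p q hUS hU hUSX hT hUST
  have eW' : (pullback.fst p q) ⁻¹ᵁ U ⊓ (pullback.snd p q) ⁻¹ᵁ T ≤ (pullback.fst p q) ⁻¹ᵁ U :=
    inf_le_left
  letI : Algebra Γ(X, U) Γ(pullback p q, (pullback.fst p q) ⁻¹ᵁ U ⊓ (pullback.snd p q) ⁻¹ᵁ T) :=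
    ((pullback.fst p q).appLE U _ eW').hom.toAlgebra
  refine JIloc.of_algEquiv (AlgEquiv.ofRingEquiv (f := ε) hε) ?_
  apply JIloc.of_forall_away
  intro b
  have e : (pullback p q).basicOpen b ≤ (pullback.fst p q) ⁻¹ᵁ U :=
    ((pullback p q).basicOpen_le b).trans eW'
  letI : Algebra Γ(X, U) Γ(pullback p q, (pullback p q).basicOpen b) :=
    ((pullback.fst p q).appLE U _ e).hom.toAlgebra
  haveI : IsScalarTower Γ(X, U)
      Γ(pullback p q, (pullback.fst p q) ⁻¹ᵁ U ⊓ (pullback.snd p q) ⁻¹ᵁ T)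
      Γ(pullback p q, (pullback p q).basicOpen b) := by
    apply IsScalarTower.of_algebraMap_eq
    intro a
    have := Scheme.Hom.appLE_map (pullback.fst p q) eW'
      (homOfLE ((pullback p q).basicOpen_le b)).op
    exact (congrArg (fun φ => φ.hom a) this).symm
  haveI : IsLocalization.Away b Γ(pullback p q, (pullback p q).basicOpen b) :=
    hW'.isLocalization_basicOpen b
  refine ⟨Γ(pullback p q, (pullback p q).basicOpen b), inferInstance, inferInstance,
    inferInstance, inferInstance, inferInstance, ?_⟩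
  exact ring_of_separating_pullback F G u (pullback.fst p q) hsep hU (hW'.basicOpen b) e

end Piece

section Fib

variable {S : Scheme.{u}}

/-- a `K`-point of an affine open `US ⊆ S` factors through the residue field of its image,
compatibly with the maps from `Γ(S, US)`. -/
theorem exists_residueField_factor {US : S.Opens} (hUS : IsAffineOpen US) (K : Type u) [Field K]
    (φ : Γ(S, US) ⟶ CommRingCat.of K) :
    ∃ (s : S) (hs : s ∈ US) (ψ : Γ(Spec (S.residueField s), ⊤) ⟶ CommRingCat.of K),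
      (S.fromSpecResidueField s).appLE US ⊤ (fun y _ => by
        change (S.fromSpecResidueField s) y ∈ US
        rw [Scheme.fromSpecResidueField_apply]; exact hs) ≫ ψ = φ := by
  let h : Spec (CommRingCat.of K) ⟶ S := Spec.map φ ≫ hUS.fromSpec
  let s : S := h (IsLocalRing.closedPoint K)
  have hs : s ∈ US := by
    have : s ∈ Set.range hUS.fromSpec := ⟨(Spec.map φ) (IsLocalRing.closedPoint K), rfl⟩
    rw [hUS.range_fromSpec] at this
    exact this
  let ψ₀ : S.residueField s ⟶ CommRingCat.of K :=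
    Scheme.descResidueField (Scheme.stalkClosedPointTo h)
  have hψ₀ : Spec.map ψ₀ ≫ S.fromSpecResidueField s = h :=
    Scheme.descResidueField_stalkClosedPointTo_fromSpecResidueField K S h
  refine ⟨s, hs, (Scheme.ΓSpecIso (S.residueField s)).hom ≫ ψ₀, ?_⟩
  apply Spec.map_injective
  rw [← cancel_mono hUS.fromSpec]
  rw [Spec.map_comp, Category.assoc,
    IsAffineOpen.SpecMap_appLE_fromSpec _ hUS (isAffineOpen_top _), IsAffineOpen.fromSpec_top,
    Scheme.isoSpec_Spec_inv, Spec.map_comp, Category.assoc, ← Spec.map_comp_assoc _ _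
      (S.fromSpecResidueField s), Iso.inv_hom_id, Spec.map_id, Category.id_comp]
  exact hψ₀

end Fib

section FibRing

variable {X S : Scheme.{u}} (p : X ⟶ S)
  (F : X.Modules) [F.IsQuasicoherent] {ι : Type*} (G : ι → X.Modules)
  [∀ i, (G i).IsQuasicoherent] (u : ∀ i, F ⟶ G i)

set_option maxHeartbeats 1000000 in
/-- the ring-level fibre hypothesis, from separation on the scheme-theoretic fibres. -/
theorem fib_ring
    (Fib : ∀ s : S, ∀ (V : (pullback p (S.fromSpecResidueField s)).Opens)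
        (t : Γ((Scheme.Modules.pullback (pullback.fst p (S.fromSpecResidueField s))).obj F, V)),
        (∀ i, ((Scheme.Modules.pullback (pullback.fst p (S.fromSpecResidueField s))).map
          (u i)).app V t = 0) → t = 0)
    {US : S.Opens} (hUS : IsAffineOpen US) {U : X.Opens} (hU : IsAffineOpen U)
    (hUSX : U ≤ p ⁻¹ᵁ US) (K : Type u) [Field K] [Algebra Γ(S, US) K] :
    letI : Algebra Γ(S, US) Γ(X, U) := (p.appLE US U hUSX).hom.toAlgebra
    JIloc (fun i => Γ(G i, U)) (fun i => appₗ (u i) U) (Γ(X, U) ⊗[Γ(S, US)] K) := by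
  letI : Algebra Γ(S, US) Γ(X, U) := (p.appLE US U hUSX).hom.toAlgebra
  obtain ⟨s, hs, ψ, hψ⟩ := exists_residueField_factor hUS K
    (CommRingCat.ofHom (algebraMap Γ(S, US) K))
  have hUST : (⊤ : (Spec (S.residueField s)).Opens) ≤ (S.fromSpecResidueField s) ⁻¹ᵁ US := by
    intro y _
    change (S.fromSpecResidueField s) y ∈ US
    rw [Scheme.fromSpecResidueField_apply]
    exact hs
  letI : Algebra Γ(S, US) Γ(Spec (S.residueField s), ⊤) :=
    ((S.fromSpecResidueField s).appLE US ⊤ hUST).hom.toAlgebra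
  have h1 := jiloc_chart_of_separating p (S.fromSpecResidueField s) F G u (Fib s) hUS hU hUSX
    (isAffineOpen_top _) hUST
  letI : Algebra Γ(Spec (S.residueField s), ⊤) K := ψ.hom.toAlgebra
  haveI : IsScalarTower Γ(S, US) Γ(Spec (S.residueField s), ⊤) K := by
    apply IsScalarTower.of_algebraMap_eq
    intro r
    exact (congrArg (fun φ => φ.hom r) hψ).symm
  have hK₁ : IsField Γ(Spec (S.residueField s), ⊤) :=
    MulEquiv.isField (Field.toIsField (S.residueField s))
      (Scheme.ΓSpecIso (S.residueField s)).commRingCatIsoToRingEquiv.toMulEquiv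
  exact JIloc.field_ext _ K hK₁ h1

end FibRing

section Main

variable {X S : Scheme.{u}} [IsLocallyNoetherian X] (p : X ⟶ S)
  (F : X.Modules) (hF : Coh.IsCoh F) {ι : Type*} (G : ι → X.Modules)
  [∀ i, (G i).IsQuasicoherent] (hG : ∀ i, FlatMod.IsFlatOver p (G i)) (u : ∀ i, F ⟶ G i)

include hF hG in
set_option maxHeartbeats 1000000 in
/-- **EGA IV 11.9.10 (case `Z_λ = X`), the hard direction**: fibrewise separating implies
universally separating, for `X` locally noetherian, `F` coherent, the `G_i` flat over `S`. -/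
theorem separating_pullback_of_fibrewise
    (Fib : ∀ s : S, ∀ (V : (pullback p (S.fromSpecResidueField s)).Opens)
        (t : Γ((Scheme.Modules.pullback (pullback.fst p (S.fromSpecResidueField s))).obj F, V)),
        (∀ i, ((Scheme.Modules.pullback (pullback.fst p (S.fromSpecResidueField s))).map
          (u i)).app V t = 0) → t = 0)
    {S' : Scheme.{u}} (g : S' ⟶ S)
    (V : (pullback p g).Opens) (t : Γ((Scheme.Modules.pullback (pullback.fst p g)).obj F, V))
    (ht : ∀ i, ((Scheme.Modules.pullback (pullback.fst p g)).map (u i)).app V t = 0) :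
    t = 0 := by
  haveI : F.IsQuasicoherent := hF.1
  apply eq_zero_of_forall_res _ t
    (fun W => ∃ (US : S.Opens) (_ : IsAffineOpen US) (U : X.Opens) (_ : IsAffineOpen U)
      (_ : U ≤ p ⁻¹ᵁ US) (T : S'.Opens) (_ : IsAffineOpen T) (_ : T ≤ g ⁻¹ᵁ US)
      (b : Γ(pullback p g, (pullback.fst p g) ⁻¹ᵁ U ⊓ (pullback.snd p g) ⁻¹ᵁ T)),
      W = (pullback p g).basicOpen b)
  · intro x hx
    obtain ⟨US, hUS, hsUS, -⟩ := TopologicalSpace.Opens.isBasis_iff_nbhd.mp S.isBasis_affineOpens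
      (show p (pullback.fst p g x) ∈ (⊤ : S.Opens) from trivial)
    obtain ⟨U, hU, hxU, hUle⟩ := TopologicalSpace.Opens.isBasis_iff_nbhd.mp X.isBasis_affineOpens
      (show (pullback.fst p g) x ∈ p ⁻¹ᵁ US from hsUS)
    have hgx : g (pullback.snd p g x) ∈ US := by
      have : g (pullback.snd p g x) = p (pullback.fst p g x) := by
        rw [← Scheme.Hom.comp_apply, ← Scheme.Hom.comp_apply, pullback.condition]
      rw [this]; exact hsUS
    obtain ⟨T, hT, hxT, hTle⟩ := TopologicalSpace.Opens.isBasis_iff_nbhd.mp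
      S'.isBasis_affineOpens (show (pullback.snd p g) x ∈ g ⁻¹ᵁ US from hgx)
    obtain ⟨hW', -⟩ := exists_chart_equiv p g hUS hU hUle hT hTle
    obtain ⟨b, hbV, hxb⟩ := hW'.exists_basicOpen_le ⟨x, hx⟩ ⟨hxU, hxT⟩
    exact ⟨_, hxb, hbV, US, hUS, U, hU, hUle, T, hT, hTle, b, rfl⟩
  · rintro W hWV ⟨US, hUS, U, hU, hUSX, T, hT, hUST, b, rfl⟩
    apply univ_piece p g F G u hUS hU hUSX hT hUST ?_ b
    · intro i
      rw [app_res, ht i, map_zero]
    · letI : Algebra Γ(S, US) Γ(X, U) := (p.appLE US U hUSX).hom.toAlgebra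
      letI : Algebra Γ(S, US) Γ(S', T) := (g.appLE US T hUST).hom.toAlgebra
      letI : ∀ i, Module Γ(S, US) Γ(G i, U) := fun i =>
        Module.compHom _ (algebraMap Γ(S, US) Γ(X, U))
      haveI : ∀ i, IsScalarTower Γ(S, US) Γ(X, U) Γ(G i, U) := fun i =>
        IsScalarTower.of_algebraMap_smul (fun _ _ => rfl)
      haveI : ∀ i, Module.Flat Γ(S, US) Γ(G i, U) := fun i =>
        Groth.Agent.H8.flat_sections_of_isFlatOverAt p (G i) hU hUS hUSX (fun x _ => hG i x)
      haveI : IsNoetherianRing Γ(X, U) := IsLocallyNoetherian.component_noetherian ⟨U, hU⟩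
      haveI : Module.Finite Γ(X, U) Γ(F, U) := Groth.Agent.H8.finite_sections_of_isCoh F hF hU
      exact jiloc_universal_of_fibres (fun i => Γ(G i, U)) (fun i => appₗ (u i) U) Γ(S', T)
        (fun K _ _ => fib_ring p F G u Fib hUS hU hUSX K)

end Main

end Groth.Agent.H21.SepModUnivSch
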