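import Groth.Agent.H21.GrInt

/-!
# Standard graded algebras of dimension one with one-dimensional degree-one part (helper21)

For a standard graded `k`-algebra `R = ⊕ R_n` with `R_0 = k`, `R_1 = k x` and `dim R ≥ 1`, the map
`k[X] → R`, `X ↦ x` is bijective.  Conversely if `R` is abstractly a polynomial ring in one
variable then `R_1` is at most one-dimensional.
-/

set_option autoImplicit false
universe u

open scoped TensorProduct
open Polynomial

namespace Groth.Agent.H21.StdGraded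

open Groth.Agent.H21.SegreDim Groth.Agent.H21.GrInt

variable {k : Type u} [Field k] {R : Type u} [CommRing R] [Algebra k R]
  (𝒜 : ℤ → Submodule k R) [GradedAlgebra 𝒜]
  (hneg : ∀ n : ℤ, n < 0 → 𝒜 n = ⊥) (h0 : 𝒜 0 = Submodule.span k {(1 : R)})
  (hstd : Ideal.span (⋃ n ∈ Set.Ioi (0 : ℤ), (𝒜 n : Set R)) =
    Ideal.span ((𝒜 1 : Submodule k R) : Set R))

include hstd in
theorem exists_mul_of_mem_succ {x : R} (hx : 𝒜 1 = Submodule.span k {x}) (m : ℕ) {y : R}
    (hy : y ∈ 𝒜 ((m : ℤ) + 1)) : ∃ r ∈ 𝒜 (m : ℤ), y = r * x := by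
  classical
  have hyI : y ∈ Ideal.span ((𝒜 1 : Submodule k R) : Set R) := by
    rw [← hstd]
    exact Ideal.subset_span (Set.mem_biUnion (Set.mem_Ioi.mpr (by omega)) hy)
  obtain ⟨N, f, g, hsum⟩ := Submodule.mem_span_set'.mp hyI
  have hg : ∀ i, ∃ c : k, c • x = (g i : R) := by
    intro i
    have h1 : (g i : R) ∈ Submodule.span k {x} := by
      rw [← hx]; exact (g i).2
    exact Submodule.mem_span_singleton.mp h1
  choose c hc using hg
  refine ⟨∑ i, c i • ((DirectSum.decompose 𝒜 (f i) (m : ℤ) : 𝒜 (m : ℤ)) : R), ?_, ?_⟩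
  · exact Submodule.sum_mem _ fun i _ => Submodule.smul_mem _ _ (SetLike.coe_mem _)
  · have hy' : ((DirectSum.decompose 𝒜 y ((m : ℤ) + 1) : 𝒜 ((m : ℤ) + 1)) : R) = y :=
      DirectSum.decompose_of_mem_same 𝒜 hy
    rw [← hy', ← hsum, DirectSum.decompose_sum, DirectSum.sum_apply, Submodule.coe_sum,
      Finset.sum_mul]
    refine Finset.sum_congr rfl fun i _ => ?_
    rw [smul_eq_mul, DirectSum.coe_decompose_mul_add_of_right_mem 𝒜 (g i).2, ← hc i,
      smul_mul_assoc, mul_smul_comm]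

include h0 hstd in
theorem piece_eq_span_pow {x : R} (hx : 𝒜 1 = Submodule.span k {x}) (m : ℕ) :
    𝒜 (m : ℤ) = Submodule.span k {x ^ m} := by
  have hx1 : x ∈ 𝒜 1 := by
    rw [hx]; exact Submodule.mem_span_singleton_self x
  induction m with
  | zero => rw [Nat.cast_zero, h0, pow_zero]
  | succ m ih =>
    apply le_antisymm
    · intro y hy
      rw [Nat.cast_succ] at hy
      obtain ⟨r, hr, rfl⟩ := exists_mul_of_mem_succ 𝒜 hstd hx m hy
      rw [ih] at hr
      obtain ⟨c, rfl⟩ := Submodule.mem_span_singleton.mp hr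
      rw [smul_mul_assoc, ← pow_succ]
      exact Submodule.smul_mem _ _ (Submodule.mem_span_singleton_self _)
    · rw [Submodule.span_le, Set.singleton_subset_iff]
      have h1 := SetLike.pow_mem_graded (m + 1) hx1
      rw [nsmul_eq_mul, mul_one] at h1
      exact h1

include hneg h0 hstd in
theorem pow_ne_zero_of_dim {x : R} (hx : 𝒜 1 = Submodule.span k {x}) [Nontrivial R]
    (hdim : 1 ≤ ringKrullDim R) (N : ℕ) : x ^ N ≠ 0 := by
  intro hN
  haveI hmax : (irrel 𝒜 hneg).IsMaximal := irrel_isMaximal 𝒜 hneg h0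
  have hirr : irrel 𝒜 hneg = Ideal.span {x} := by
    rw [irrel_eq_span, hstd, hx]
    apply le_antisymm
    · rw [Ideal.span_le]
      intro y hy
      obtain ⟨c, rfl⟩ := Submodule.mem_span_singleton.mp hy
      rw [Algebra.smul_def]
      exact Ideal.mul_mem_left _ _ (Ideal.subset_span rfl)
    · rw [Ideal.span_le, Set.singleton_subset_iff]
      exact Ideal.subset_span (Submodule.mem_span_singleton_self x)
  have hall : ∀ P : PrimeSpectrum R, P.asIdeal = irrel 𝒜 hneg := by
    intro P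
    have hxP : x ∈ P.asIdeal := by
      apply P.isPrime.mem_of_pow_mem N
      rw [hN]
      exact zero_mem _
    have hle : irrel 𝒜 hneg ≤ P.asIdeal := by
      rw [hirr, Ideal.span_le, Set.singleton_subset_iff]
      exact hxP
    exact (hmax.eq_of_le P.isPrime.ne_top hle).symm
  haveI : Subsingleton (PrimeSpectrum R) :=
    ⟨fun P Q => PrimeSpectrum.ext ((hall P).trans (hall Q).symm)⟩
  have h1 : ringKrullDim R ≤ 0 := Order.krullDim_nonpos_of_subsingleton
  have h2 : (1 : WithBot ℕ∞) ≤ 0 := le_trans hdim h1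
  exact absurd h2 (by decide)

include hneg h0 hstd in
theorem aeval_bijective {x : R} (hx : 𝒜 1 = Submodule.span k {x}) [Nontrivial R]
    (hdim : 1 ≤ ringKrullDim R) : Function.Bijective (aeval x : k[X] →ₐ[k] R) := by
  classical
  have hx1 : x ∈ 𝒜 1 := by
    rw [hx]; exact Submodule.mem_span_singleton_self x
  have hpow : ∀ i : ℕ, x ^ i ∈ 𝒜 (i : ℤ) := by
    intro i
    have h1 := SetLike.pow_mem_graded i hx1
    rw [nsmul_eq_mul, mul_one] at h1
    exact h1
  constructor
  · rw [injective_iff_map_eq_zero]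
    intro p hp
    ext j
    rw [Polynomial.coeff_zero]
    rw [Polynomial.aeval_eq_sum_range] at hp
    have h1 := congrArg (fun a => ((DirectSum.decompose 𝒜 a (j : ℤ) : 𝒜 (j : ℤ)) : R)) hp
    simp only [DirectSum.decompose_sum, DirectSum.sum_apply, Submodule.coe_sum,
      DirectSum.decompose_zero, DirectSum.zero_apply, ZeroMemClass.coe_zero] at h1
    have h2 : ∀ i ∈ Finset.range (p.natDegree + 1),
        ((DirectSum.decompose 𝒜 (p.coeff i • x ^ i) (j : ℤ) : 𝒜 (j : ℤ)) : R) =
          if i = j then p.coeff i • x ^ i else 0 := by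
      intro i _
      have hmem : p.coeff i • x ^ i ∈ 𝒜 (i : ℤ) := Submodule.smul_mem _ _ (hpow i)
      split_ifs with hij
      · subst hij
        exact DirectSum.decompose_of_mem_same 𝒜 hmem
      · exact DirectSum.decompose_of_mem_ne 𝒜 hmem (by exact_mod_cast hij)
    rw [Finset.sum_congr rfl h2, Finset.sum_ite_eq'] at h1
    by_cases hj : j ∈ Finset.range (p.natDegree + 1)
    · rw [if_pos hj] at h1
      rcases smul_eq_zero.mp h1 with h3 | h3
      · exact h3
      · exact absurd h3 (pow_ne_zero_of_dim 𝒜 hneg h0 hstd hx hdim j)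
    · apply Polynomial.coeff_eq_zero_of_natDegree_lt
      rw [Finset.mem_range] at hj
      omega
  · intro a
    rw [← DirectSum.sum_support_decompose 𝒜 a]
    have key : ∀ i : ℤ, ∃ p : k[X], aeval x p = ((DirectSum.decompose 𝒜 a i : 𝒜 i) : R) := by
      intro i
      by_cases hi : i < 0
      · refine ⟨0, ?_⟩
        rw [map_zero, eq_zero_of_mem_of_neg 𝒜 hneg hi (SetLike.coe_mem _)]
      · obtain ⟨m, rfl⟩ : ∃ m : ℕ, i = m :=
          ⟨i.toNat, (Int.toNat_of_nonneg (not_lt.mp hi)).symm⟩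
        have h1 : ((DirectSum.decompose 𝒜 a (m : ℤ) : 𝒜 (m : ℤ)) : R) ∈
            Submodule.span k {x ^ m} := by
          rw [← piece_eq_span_pow 𝒜 h0 hstd hx m]
          exact SetLike.coe_mem _
        obtain ⟨c, hc⟩ := Submodule.mem_span_singleton.mp h1
        refine ⟨C c * X ^ m, ?_⟩
        rw [map_mul, aeval_C, map_pow, aeval_X, ← hc, Algebra.smul_def]
    choose p hp using key
    refine ⟨∑ i ∈ DFinsupp.support (DirectSum.decompose 𝒜 a), p i, ?_⟩
    rw [map_sum]
    exact Finset.sum_congr rfl fun i _ => hp i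

include hneg h0 in
/-- If `R` is abstractly a polynomial ring in one variable over `k`, then `R_1` is spanned by one
element. -/
theorem exists_piece_one_eq_span [Nontrivial R] (e : R ≃ₐ[k] k[X]) :
    ∃ x : R, 𝒜 1 = Submodule.span k {x} := by
  classical
  haveI hmax : (irrel 𝒜 hneg).IsMaximal := irrel_isMaximal 𝒜 hneg h0
  obtain ⟨c₀, hc₀⟩ := exists_sub_smul_one_mem_irrel 𝒜 hneg h0 (e.symm X)
  obtain ⟨u, hu⟩ : ∃ u : R, u = e.symm X - c₀ • (1 : R) := ⟨_, rfl⟩
  rw [← hu] at hc₀
  have heu : e u = X - C c₀ := by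
    rw [hu, map_sub, AlgEquiv.apply_symm_apply, map_smul, map_one, Algebra.smul_def, mul_one]
    rfl
  -- every element of the irrelevant ideal is a multiple of `u`
  have hdiv : ∀ r ∈ irrel 𝒜 hneg, ∃ q : R, r = u * q := by
    intro r hr
    have h1 : e r %ₘ (X - C c₀) + (X - C c₀) * (e r /ₘ (X - C c₀)) = e r :=
      Polynomial.modByMonic_add_div (e r) (X - C c₀)
    rw [Polynomial.modByMonic_X_sub_C_eq_C_eval] at h1
    have h2 : r = ((e r).eval c₀) • (1 : R) + u * e.symm (e r /ₘ (X - C c₀)) := by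
      apply e.injective
      rw [map_add, map_mul, AlgEquiv.apply_symm_apply, heu, map_smul, map_one,
        Algebra.smul_def, mul_one]
      exact h1.symm
    have h3 : ((e r).eval c₀) • (1 : R) ∈ irrel 𝒜 hneg := by
      have h4 : ((e r).eval c₀) • (1 : R) = r - u * e.symm (e r /ₘ (X - C c₀)) := by
        rw [eq_sub_iff_add_eq]; exact h2.symm
      rw [h4]
      exact (irrel 𝒜 hneg).sub_mem hr ((irrel 𝒜 hneg).mul_mem_right _ hc₀)
    have h5 : (e r).eval c₀ = 0 := by
      by_contra hne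
      apply one_notMem_irrel 𝒜 hneg
      have h6 : (1 : R) = ((e r).eval c₀)⁻¹ • (((e r).eval c₀) • (1 : R)) := by
        rw [smul_smul, inv_mul_cancel₀ hne, one_smul]
      rw [h6]
      exact Submodule.smul_of_tower_mem (irrel 𝒜 hneg) _ h3
    refine ⟨e.symm (e r /ₘ (X - C c₀)), ?_⟩
    rw [h5, zero_smul, zero_add] at h2
    exact h2
  -- elements of `R_1 ∩ 𝔪²` vanish
  have hsq : ∀ w ∈ 𝒜 1, ∀ a ∈ irrel 𝒜 hneg, ∀ b ∈ irrel 𝒜 hneg, w = a * b → w = 0 := by
    intro w hw a ha b hb hwab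
    have h1 : a * b ∈ irrelGE 𝒜 hneg (1 + 1) :=
      irrelGE_mul_le 𝒜 hneg 1 1 (Ideal.mul_mem_mul (irrel_le_irrelGE_one 𝒜 hneg ha)
        (irrel_le_irrelGE_one 𝒜 hneg hb))
    rw [← hwab] at h1
    have h2 := h1 1 (by norm_num)
    rwa [DirectSum.decompose_of_mem_same 𝒜 hw] at h2
  by_cases hbot : 𝒜 1 = ⊥
  · refine ⟨0, ?_⟩
    rw [hbot, Submodule.span_singleton_eq_bot.mpr rfl]
  · obtain ⟨x, hx1, hx0⟩ := (Submodule.ne_bot_iff _).mp hbot
    refine ⟨x, le_antisymm ?_ ?_⟩
    · intro y hy1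
      obtain ⟨g, hg⟩ := hdiv x (mem_irrel_of_mem_pos 𝒜 hneg one_pos hx1)
      obtain ⟨h, hh⟩ := hdiv y (mem_irrel_of_mem_pos 𝒜 hneg one_pos hy1)
      obtain ⟨γ, hγ⟩ := exists_sub_smul_one_mem_irrel 𝒜 hneg h0 g
      obtain ⟨η, hη⟩ := exists_sub_smul_one_mem_irrel 𝒜 hneg h0 h
      have hγ0 : γ ≠ 0 := by
        rintro rfl
        rw [zero_smul, sub_zero] at hγ
        exact hx0 (hsq x hx1 u hc₀ g hγ hg)
      have hkey : η • x - γ • y = 0 := by
        apply hsq (η • x - γ • y)
          (Submodule.sub_mem _ (Submodule.smul_mem _ _ hx1) (Submodule.smul_mem _ _ hy1))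
          u hc₀ (η • (g - γ • (1 : R)) - γ • (h - η • (1 : R)))
          ((irrel 𝒜 hneg).sub_mem (Submodule.smul_of_tower_mem _ _ hγ)
            (Submodule.smul_of_tower_mem _ _ hη))
        rw [hg, hh]
        simp only [smul_sub, mul_sub, mul_smul_comm, smul_smul, mul_one]
        rw [mul_comm γ η]
        ring
      have hy : y = (γ⁻¹ * η) • x := by
        have h1 : γ • y = η • x := (sub_eq_zero.mp hkey).symm
        rw [mul_smul, ← h1, smul_smul, inv_mul_cancel₀ hγ0, one_smul]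
      rw [hy]
      exact Submodule.smul_mem _ _ (Submodule.mem_span_singleton_self x)
    · rw [Submodule.span_le, Set.singleton_subset_iff]
      exact hx1

end Groth.Agent.H21.StdGraded
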