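import Groth.Agent.H21.TorsUniv7
import Groth.Agent.H21.SepModUnivSch
import Groth.Agent.H8.PullbackStalk
import Groth.Agent.H8.FPAffine

/-!
# Universal injectivity of `F → j_* j^* F`: scheme-level plumbing (helper21)

EGA IV 11.10.x: for `f : X ⟶ S` locally of finite presentation and `F` quasi-coherent of finite
presentation and `f`-flat, the restriction maps to the preimages of an open `U` are universally
injective iff they are so on the fibres.
-/

open CategoryTheory AlgebraicGeometry TensorProduct Opposite Limits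

universe u

set_option linter.style.haveILetI false

namespace Groth.Agent.H21.TorsSch

open Groth.Agent.H21.SepModSch Groth.Agent.H21.SepModLim Groth.Agent.H39.PullTrack
open Groth.Agent.H21.SepModField Groth.Agent.H21.SepModBC Groth.Agent.H21.SepModUniv
open Groth.Agent.H21.SepModUnivSch Groth.Agent.H21.TorsUniv

section Pieces

variable {X P : Scheme.{u}} (F : X.Modules) [F.IsQuasicoherent] (h : P ⟶ X) (U : X.Opens)

/-- the family of functions on the affine open `U₀` whose basic open lies in `U`. -/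
abbrev Idx (U₀ : X.Opens) : Type u := {a : Γ(X, U₀) // X.basicOpen a ≤ U}

set_option maxHeartbeats 1000000 in
/-- a section of the pullback over an affine open `W ≤ h⁻¹ U₀` vanishing on `W ∩ h⁻¹ U` is zero,
given the ring-level torsion statement. -/
theorem tors_piece {U₀ : X.Opens} (hU₀ : IsAffineOpen U₀) {W : P.Opens} (hW : IsAffineOpen W)
    (e : W ≤ h ⁻¹ᵁ U₀)
    (HK : letI := (h.appLE U₀ W e).hom.toAlgebra
      KIB Γ(X, U₀) Γ(F, U₀) Γ(P, W)
        (fun j : Idx U U₀ => algebraMap Γ(X, U₀) Γ(P, W) j.1))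
    (t : Γ((Scheme.Modules.pullback h).obj F, W))
    (ht : ((Scheme.Modules.pullback h).obj F).presheaf.map
      (homOfLE (inf_le_left : W ⊓ h ⁻¹ᵁ U ≤ W)).op t = 0) : t = 0 := by
  letI := (h.appLE U₀ W e).hom.toAlgebra
  haveI : ((Scheme.Modules.pullback h).obj F).IsQuasicoherent :=
    Groth.Agent.H8.isQuasicoherent_pullback h F
  obtain ⟨EF, -⟩ := exists_sectionsPullbackEquiv h F hU₀ hW e
  apply EF.injective
  rw [map_zero]
  apply HK
  intro j
  have hbo : P.basicOpen ((h.appLE U₀ W e) j.1) = W ⊓ h ⁻¹ᵁ (X.basicOpen j.1) :=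
    Scheme.basicOpen_appLE h W U₀ e j.1
  have hle : P.basicOpen ((h.appLE U₀ W e) j.1) ≤ W ⊓ h ⁻¹ᵁ U := by
    rw [hbo]
    exact inf_le_inf_left W (fun x hx => j.2 hx)
  have h0 : ((Scheme.Modules.pullback h).obj F).presheaf.map
      (homOfLE (P.basicOpen_le ((h.appLE U₀ W e) j.1))).op t = 0 := by
    rw [← res_res _ inf_le_left hle t, ht, map_zero]
  obtain ⟨n, hn⟩ := Groth.Agent.H8.exists_smul_eq_zero hW _ ((h.appLE U₀ W e) j.1) t h0
  refine ⟨n, ?_⟩
  change ((h.appLE U₀ W e) j.1) ^ n • EF t = 0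
  rw [← map_smul, hn, map_zero]

set_option maxHeartbeats 1000000 in
/-- the ring-level torsion statement on an affine pair, from injectivity of the restriction
maps upstairs. -/
theorem kib_of_restrict_injective
    (hinj : ∀ V : P.Opens, Function.Injective (((Scheme.Modules.pullback h).obj F).presheaf.map
      (homOfLE (inf_le_left : V ⊓ h ⁻¹ᵁ U ≤ V)).op))
    {U₀ : X.Opens} (hU₀ : IsAffineOpen U₀) {W : P.Opens} (hW : IsAffineOpen W)
    (e : W ≤ h ⁻¹ᵁ U₀) :
    letI := (h.appLE U₀ W e).hom.toAlgebra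
    KIB Γ(X, U₀) Γ(F, U₀) Γ(P, W) (fun j : Idx U U₀ => algebraMap Γ(X, U₀) Γ(P, W) j.1) := by
  letI := (h.appLE U₀ W e).hom.toAlgebra
  obtain ⟨EF, -⟩ := exists_sectionsPullbackEquiv h F hU₀ hW e
  intro z hz
  have key : EF.symm z = 0 := by
    apply hinj W
    rw [map_zero]
    apply eq_zero_of_forall_res _ _
      (fun W' => ∃ j : Idx U U₀, W' = P.basicOpen ((h.appLE U₀ W e) j.1))
    · intro x hx
      obtain ⟨a, haU, hxa⟩ := hU₀.exists_basicOpen_le (V := U) ⟨h x, hx.2⟩ (e hx.1)
      have hbo : P.basicOpen ((h.appLE U₀ W e) a) = W ⊓ h ⁻¹ᵁ (X.basicOpen a) :=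
        Scheme.basicOpen_appLE h W U₀ e a
      refine ⟨_, ?_, ?_, ⟨⟨a, haU⟩, rfl⟩⟩
      · rw [hbo]
        exact ⟨hx.1, hxa⟩
      · rw [hbo]
        exact inf_le_inf_left W (fun y hy => haU hy)
    · rintro W' hW' ⟨j, rfl⟩
      rw [res_res]
      obtain ⟨n, hn⟩ := hz j
      have h1 : ((h.appLE U₀ W e) j.1) ^ n • EF.symm z = 0 := by
        rw [← map_smul]
        have : ((h.appLE U₀ W e) j.1) ^ n • z = 0 := hn
        rw [this, map_zero]
      have h2 := congrArg (((Scheme.Modules.pullback h).obj F).presheaf.map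
        (homOfLE (P.basicOpen_le ((h.appLE U₀ W e) j.1))).op) h1
      rw [Scheme.Modules.map_smul, map_zero, map_pow] at h2
      have hunit : IsUnit (P.presheaf.map (homOfLE (P.basicOpen_le ((h.appLE U₀ W e) j.1))).op
          ((h.appLE U₀ W e) j.1)) :=
        RingedSpace.isUnit_res_basicOpen P.toRingedSpace ((h.appLE U₀ W e) j.1)
      exact ((hunit.pow n).smul_eq_zero).mp h2
  have := congrArg EF key
  rwa [LinearEquiv.apply_symm_apply, map_zero] at this

end Pieces

end Groth.Agent.H21.TorsSch
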