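import Groth.Agent.H21.TorsSch

/-!
# Universal injectivity of `F → j_* j^* F`: charts and the main theorem (helper21)
-/

open CategoryTheory AlgebraicGeometry TensorProduct Opposite Limits

universe u

set_option linter.style.haveILetI false

namespace Groth.Agent.H21.TorsSch

open Groth.Agent.H21.SepModSch Groth.Agent.H21.SepModLim Groth.Agent.H39.PullTrack
open Groth.Agent.H21.SepModField Groth.Agent.H21.SepModBC Groth.Agent.H21.SepModUniv
open Groth.Agent.H21.SepModUnivSch Groth.Agent.H21.TorsUniv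

section Chart

variable {X S S' : Scheme.{u}} (p : X ⟶ S) (q : S' ⟶ S)
  (F : X.Modules) [F.IsQuasicoherent] (U : X.Opens)

set_option maxHeartbeats 1000000 in
/-- ring-level joint injectivity on the chart gives vanishing of sections on its basic opens. -/
theorem univ_piece_tors {US : S.Opens} (hUS : IsAffineOpen US) {U₀ : X.Opens}
    (hU₀ : IsAffineOpen U₀) (hUSX : U₀ ≤ p ⁻¹ᵁ US) {T : S'.Opens} (hT : IsAffineOpen T)
    (hUST : T ≤ q ⁻¹ᵁ US)
    (HJ : letI : Algebra Γ(S, US) Γ(X, U₀) := (p.appLE US U₀ hUSX).hom.toAlgebra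
      letI : Algebra Γ(S, US) Γ(S', T) := (q.appLE US T hUST).hom.toAlgebra
      JIloc (Nloc Γ(F, U₀) (fun j : Idx U U₀ => j.1)) (uloc Γ(F, U₀) (fun j : Idx U U₀ => j.1))
        (Γ(X, U₀) ⊗[Γ(S, US)] Γ(S', T)))
    (b : Γ(pullback p q, (pullback.fst p q) ⁻¹ᵁ U₀ ⊓ (pullback.snd p q) ⁻¹ᵁ T))
    (t : Γ((Scheme.Modules.pullback (pullback.fst p q)).obj F, (pullback p q).basicOpen b))
    (ht : ((Scheme.Modules.pullback (pullback.fst p q)).obj F).presheaf.map
      (homOfLE (inf_le_left : (pullback p q).basicOpen b ⊓ (pullback.fst p q) ⁻¹ᵁ U ≤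
        (pullback p q).basicOpen b)).op t = 0) : t = 0 := by
  letI : Algebra Γ(S, US) Γ(X, U₀) := (p.appLE US U₀ hUSX).hom.toAlgebra
  letI : Algebra Γ(S, US) Γ(S', T) := (q.appLE US T hUST).hom.toAlgebra
  obtain ⟨hW', ε, hε⟩ := exists_chart_equiv p q hUS hU₀ hUSX hT hUST
  have eW' : (pullback.fst p q) ⁻¹ᵁ U₀ ⊓ (pullback.snd p q) ⁻¹ᵁ T ≤ (pullback.fst p q) ⁻¹ᵁ U₀ :=
    inf_le_left
  letI : Algebra Γ(X, U₀)
      Γ(pullback p q, (pullback.fst p q) ⁻¹ᵁ U₀ ⊓ (pullback.snd p q) ⁻¹ᵁ T) :=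
    ((pullback.fst p q).appLE U₀ _ eW').hom.toAlgebra
  have e : (pullback p q).basicOpen b ≤ (pullback.fst p q) ⁻¹ᵁ U₀ :=
    ((pullback p q).basicOpen_le b).trans eW'
  letI : Algebra Γ(X, U₀) Γ(pullback p q, (pullback p q).basicOpen b) :=
    ((pullback.fst p q).appLE U₀ _ e).hom.toAlgebra
  haveI : IsScalarTower Γ(X, U₀)
      Γ(pullback p q, (pullback.fst p q) ⁻¹ᵁ U₀ ⊓ (pullback.snd p q) ⁻¹ᵁ T)
      Γ(pullback p q, (pullback p q).basicOpen b) := by
    apply IsScalarTower.of_algebraMap_eq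
    intro a
    have := Scheme.Hom.appLE_map (pullback.fst p q) eW'
      (homOfLE ((pullback p q).basicOpen_le b)).op
    exact (congrArg (fun φ => φ.hom a) this).symm
  haveI : IsLocalization.Away b Γ(pullback p q, (pullback p q).basicOpen b) :=
    hW'.isLocalization_basicOpen b
  have hji : JI (Nloc Γ(F, U₀) (fun j : Idx U U₀ => j.1))
      (uloc Γ(F, U₀) (fun j : Idx U U₀ => j.1)) Γ(pullback p q, (pullback p q).basicOpen b) :=
    JIloc.transport HJ ε hε b _
  rw [ji_uloc_iff] at hji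
  exact tors_piece F (pullback.fst p q) U hU₀ (hW'.basicOpen b) e hji t ht

set_option maxHeartbeats 1000000 in
/-- ring-level joint injectivity on the chart from injectivity of the restriction maps on the
fibre product. -/
theorem jiloc_chart_of_restrict_injective
    (hinj : ∀ V : (pullback p q).Opens, Function.Injective
      (((Scheme.Modules.pullback (pullback.fst p q)).obj F).presheaf.map
        (homOfLE (inf_le_left : V ⊓ (pullback.fst p q) ⁻¹ᵁ U ≤ V)).op))
    {US : S.Opens} (hUS : IsAffineOpen US) {U₀ : X.Opens}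
    (hU₀ : IsAffineOpen U₀) (hUSX : U₀ ≤ p ⁻¹ᵁ US) {T : S'.Opens} (hT : IsAffineOpen T)
    (hUST : T ≤ q ⁻¹ᵁ US) :
    letI : Algebra Γ(S, US) Γ(X, U₀) := (p.appLE US U₀ hUSX).hom.toAlgebra
    letI : Algebra Γ(S, US) Γ(S', T) := (q.appLE US T hUST).hom.toAlgebra
    JIloc (Nloc Γ(F, U₀) (fun j : Idx U U₀ => j.1)) (uloc Γ(F, U₀) (fun j : Idx U U₀ => j.1))
      (Γ(X, U₀) ⊗[Γ(S, US)] Γ(S', T)) := by
  letI : Algebra Γ(S, US) Γ(X, U₀) := (p.appLE US U₀ hUSX).hom.toAlgebra
  letI : Algebra Γ(S, US) Γ(S', T) := (q.appLE US T hUST).hom.toAlgebra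
  obtain ⟨hW', ε, hε⟩ := exists_chart_equiv p q hUS hU₀ hUSX hT hUST
  have eW' : (pullback.fst p q) ⁻¹ᵁ U₀ ⊓ (pullback.snd p q) ⁻¹ᵁ T ≤ (pullback.fst p q) ⁻¹ᵁ U₀ :=
    inf_le_left
  letI : Algebra Γ(X, U₀)
      Γ(pullback p q, (pullback.fst p q) ⁻¹ᵁ U₀ ⊓ (pullback.snd p q) ⁻¹ᵁ T) :=
    ((pullback.fst p q).appLE U₀ _ eW').hom.toAlgebra
  refine JIloc.of_algEquiv (AlgEquiv.ofRingEquiv (f := ε) hε) ?_
  apply JIloc.of_forall_away
  intro b
  have e : (pullback p q).basicOpen b ≤ (pullback.fst p q) ⁻¹ᵁ U₀ :=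
    ((pullback p q).basicOpen_le b).trans eW'
  letI : Algebra Γ(X, U₀) Γ(pullback p q, (pullback p q).basicOpen b) :=
    ((pullback.fst p q).appLE U₀ _ e).hom.toAlgebra
  haveI : IsScalarTower Γ(X, U₀)
      Γ(pullback p q, (pullback.fst p q) ⁻¹ᵁ U₀ ⊓ (pullback.snd p q) ⁻¹ᵁ T)
      Γ(pullback p q, (pullback p q).basicOpen b) := by
    apply IsScalarTower.of_algebraMap_eq
    intro a
    have := Scheme.Hom.appLE_map (pullback.fst p q) eW'
      (homOfLE ((pullback p q).basicOpen_le b)).op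
    exact (congrArg (fun φ => φ.hom a) this).symm
  haveI : IsLocalization.Away b Γ(pullback p q, (pullback p q).basicOpen b) :=
    hW'.isLocalization_basicOpen b
  refine ⟨Γ(pullback p q, (pullback p q).basicOpen b), inferInstance, inferInstance,
    inferInstance, inferInstance, inferInstance, ?_⟩
  rw [ji_uloc_iff]
  exact kib_of_restrict_injective F (pullback.fst p q) U hinj hU₀ (hW'.basicOpen b) e

end Chart

section FibRing

variable {X S : Scheme.{u}} (p : X ⟶ S) (F : X.Modules) [F.IsQuasicoherent] (U : X.Opens)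

set_option maxHeartbeats 1000000 in
/-- the ring-level fibre hypothesis, from injectivity on the scheme-theoretic fibres. -/
theorem fib_ring_tors
    (Fib : ∀ s : S, ∀ V : (pullback p (S.fromSpecResidueField s)).Opens, Function.Injective
      (((Scheme.Modules.pullback (pullback.fst p (S.fromSpecResidueField s))).obj F).presheaf.map
        (homOfLE (inf_le_left :
          V ⊓ (pullback.fst p (S.fromSpecResidueField s)) ⁻¹ᵁ U ≤ V)).op))
    {US : S.Opens} (hUS : IsAffineOpen US) {U₀ : X.Opens} (hU₀ : IsAffineOpen U₀)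
    (hUSX : U₀ ≤ p ⁻¹ᵁ US) (K : Type u) [Field K] [Algebra Γ(S, US) K] :
    letI : Algebra Γ(S, US) Γ(X, U₀) := (p.appLE US U₀ hUSX).hom.toAlgebra
    JIloc (Nloc Γ(F, U₀) (fun j : Idx U U₀ => j.1)) (uloc Γ(F, U₀) (fun j : Idx U U₀ => j.1))
      (Γ(X, U₀) ⊗[Γ(S, US)] K) := by
  letI : Algebra Γ(S, US) Γ(X, U₀) := (p.appLE US U₀ hUSX).hom.toAlgebra
  obtain ⟨s, hs, ψ, hψ⟩ := exists_residueField_factor hUS K
    (CommRingCat.ofHom (algebraMap Γ(S, US) K))
  have hUST : (⊤ : (Spec (S.residueField s)).Opens) ≤ (S.fromSpecResidueField s) ⁻¹ᵁ US := by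
    intro y _
    change (S.fromSpecResidueField s) y ∈ US
    rw [Scheme.fromSpecResidueField_apply]
    exact hs
  letI : Algebra Γ(S, US) Γ(Spec (S.residueField s), ⊤) :=
    ((S.fromSpecResidueField s).appLE US ⊤ hUST).hom.toAlgebra
  have h1 := jiloc_chart_of_restrict_injective p (S.fromSpecResidueField s) F U (Fib s) hUS hU₀
    hUSX (isAffineOpen_top _) hUST
  letI : Algebra Γ(Spec (S.residueField s), ⊤) K := ψ.hom.toAlgebra
  haveI : IsScalarTower Γ(S, US) Γ(Spec (S.residueField s), ⊤) K := by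
    apply IsScalarTower.of_algebraMap_eq
    intro r
    exact (congrArg (fun φ => φ.hom r) hψ).symm
  have hK₁ : IsField Γ(Spec (S.residueField s), ⊤) :=
    MulEquiv.isField (Field.toIsField (S.residueField s))
      (Scheme.ΓSpecIso (S.residueField s)).commRingCatIsoToRingEquiv.toMulEquiv
  exact JIloc.field_ext _ K hK₁ h1

end FibRing

section Main

variable {X S : Scheme.{u}} (p : X ⟶ S) [LocallyOfFinitePresentation p]
  (F : X.Modules) [F.IsQuasicoherent] (hF : CohB1.IsFP F) (hflat : FlatMod.IsFlatOver p F)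
  (U : X.Opens)

include hF hflat in
set_option maxHeartbeats 1000000 in
/-- **EGA IV 11.10 (hard direction)**: fibrewise injectivity of `F → j_* j^* F` implies universal
injectivity, for `p` locally of finite presentation and `F` of finite presentation, `p`-flat. -/
theorem restrict_injective_pullback_of_fibrewise
    (Fib : ∀ s : S, ∀ V : (pullback p (S.fromSpecResidueField s)).Opens, Function.Injective
      (((Scheme.Modules.pullback (pullback.fst p (S.fromSpecResidueField s))).obj F).presheaf.map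
        (homOfLE (inf_le_left :
          V ⊓ (pullback.fst p (S.fromSpecResidueField s)) ⁻¹ᵁ U ≤ V)).op))
    {S' : Scheme.{u}} (g : S' ⟶ S) (V : (pullback p g).Opens) :
    Function.Injective (((Scheme.Modules.pullback (pullback.fst p g)).obj F).presheaf.map
      (homOfLE (inf_le_left : V ⊓ (pullback.fst p g) ⁻¹ᵁ U ≤ V)).op) := by
  rw [injective_iff_map_eq_zero]
  intro t ht
  apply eq_zero_of_forall_res _ t
    (fun W => ∃ (US : S.Opens) (_ : IsAffineOpen US) (U₀ : X.Opens) (_ : IsAffineOpen U₀)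
      (_ : U₀ ≤ p ⁻¹ᵁ US) (T : S'.Opens) (_ : IsAffineOpen T) (_ : T ≤ g ⁻¹ᵁ US)
      (b : Γ(pullback p g, (pullback.fst p g) ⁻¹ᵁ U₀ ⊓ (pullback.snd p g) ⁻¹ᵁ T)),
      W = (pullback p g).basicOpen b)
  · intro x hx
    obtain ⟨US, hUS, hsUS, -⟩ := TopologicalSpace.Opens.isBasis_iff_nbhd.mp S.isBasis_affineOpens
      (show p (pullback.fst p g x) ∈ (⊤ : S.Opens) from trivial)
    obtain ⟨U₀, hU₀, hxU, hUle⟩ := TopologicalSpace.Opens.isBasis_iff_nbhd.mp
      X.isBasis_affineOpens (show (pullback.fst p g) x ∈ p ⁻¹ᵁ US from hsUS)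
    have hgx : g (pullback.snd p g x) ∈ US := by
      have : g (pullback.snd p g x) = p (pullback.fst p g x) := by
        rw [← Scheme.Hom.comp_apply, ← Scheme.Hom.comp_apply, pullback.condition]
      rw [this]; exact hsUS
    obtain ⟨T, hT, hxT, hTle⟩ := TopologicalSpace.Opens.isBasis_iff_nbhd.mp
      S'.isBasis_affineOpens (show (pullback.snd p g) x ∈ g ⁻¹ᵁ US from hgx)
    obtain ⟨hW', -⟩ := exists_chart_equiv p g hUS hU₀ hUle hT hTle
    obtain ⟨b, hbV, hxb⟩ := hW'.exists_basicOpen_le ⟨x, hx⟩ ⟨hxU, hxT⟩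
    exact ⟨_, hxb, hbV, US, hUS, U₀, hU₀, hUle, T, hT, hTle, b, rfl⟩
  · rintro W hWV ⟨US, hUS, U₀, hU₀, hUSX, T, hT, hUST, b, rfl⟩
    apply univ_piece_tors p g F U hUS hU₀ hUSX hT hUST ?_ b
    · have hle : (pullback p g).basicOpen b ⊓ (pullback.fst p g) ⁻¹ᵁ U ≤
          V ⊓ (pullback.fst p g) ⁻¹ᵁ U := inf_le_inf_right _ hWV
      rw [res_res]
      rw [← res_res _ inf_le_left hle t, ht, map_zero]
    · letI : Algebra Γ(S, US) Γ(X, U₀) := (p.appLE US U₀ hUSX).hom.toAlgebra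
      letI : Algebra Γ(S, US) Γ(S', T) := (g.appLE US T hUST).hom.toAlgebra
      letI : Module Γ(S, US) Γ(F, U₀) := Module.compHom _ (algebraMap Γ(S, US) Γ(X, U₀))
      haveI : IsScalarTower Γ(S, US) Γ(X, U₀) Γ(F, U₀) :=
        IsScalarTower.of_algebraMap_smul (fun _ _ => rfl)
      haveI : Module.Flat Γ(S, US) Γ(F, U₀) :=
        Groth.Agent.H8.flat_sections_of_isFlatOverAt p F hU₀ hUS hUSX (fun x _ => hflat x)
      haveI : Algebra.FinitePresentation Γ(S, US) Γ(X, U₀) :=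
        p.finitePresentation_appLE hUS hU₀ hUSX
      haveI : SheafOfModules.IsFinitePresentation (R := X.ringCatSheaf) F := hF
      haveI : Module.FinitePresentation Γ(X, U₀) Γ(F, U₀) :=
        Groth.Agent.H8.finitePresentation_sections_of_isAffineOpen F hU₀
      intro b₀
      rw [ji_uloc_iff]
      refine kib_universal Γ(S, US) Γ(X, U₀) Γ(F, U₀) (fun j : Idx U U₀ => j.1) ?_ Γ(S', T) b₀
      intro K _ _ c
      have := fib_ring_tors p F U Fib hUS hU₀ hUSX K c
      rwa [ji_uloc_iff] at this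

end Main

end Groth.Agent.H21.TorsSch
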