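import Groth.Agent.H21.SepModUniv2

/-!
# Fibrewise criterion, prime version (helper21)

`false_of_prime_fibre`: the noetherian fibrewise criterion of `SepModUniv2.eq_zero_of_fibres`, using
only the fibre over the image of one prime containing the annihilator of the element.
-/

open TensorProduct

universe u

set_option linter.style.haveILetI false

namespace Groth.Agent.H21.TorsUniv

open Groth.Agent.H21.SepFam Groth.Agent.H21.SepMod Groth.Agent.H21.SepModLim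
open Groth.Agent.H21.SepModBC Groth.Agent.H21.SepModGr Groth.Agent.H21.SepModUniv

section Descend

variable {A : Type*} [CommRing A] {M : Type*} [AddCommGroup M] [Module A M] {J : Type*}
  {N : J → Type*} [∀ j, AddCommGroup (N j)] [∀ j, Module A (N j)] {u : ∀ j, M →ₗ[A] N j}

/-- joint injectivity descends along an algebra map with a linear retraction. -/
lemma JI.descend_of_leftInverse {B₁ B₂ : Type*} [CommRing B₁] [Algebra A B₁] [CommRing B₂]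
    [Algebra A B₂] (g : B₁ →ₐ[A] B₂) (ρ : B₂ →ₗ[A] B₁) (hρ : ∀ x, ρ (g x) = x)
    (h : JI N u B₂) : JI N u B₁ := by
  intro z hz
  have h1 : LinearMap.rTensor M g.toLinearMap z = 0 := by
    apply h
    intro j
    rw [lTensor_rTensor, hz j, map_zero]
  have h2 : LinearMap.rTensor M ρ (LinearMap.rTensor M g.toLinearMap z) = z := by
    rw [← LinearMap.rTensor_comp_apply]
    have : ρ ∘ₗ g.toLinearMap = LinearMap.id := LinearMap.ext hρ
    rw [this, LinearMap.rTensor_id_apply]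
  rw [← h2, h1, map_zero]

end Descend

section Fr

variable {A : Type*} [CommRing A]

/-- the fraction field of `A ⧸ 𝔮`, as an opaque field. -/
def Fr (𝔮 : Ideal A) [𝔮.IsPrime] : Type _ := FractionRing (A ⧸ 𝔮)

noncomputable instance (𝔮 : Ideal A) [𝔮.IsPrime] : Field (Fr 𝔮) :=
  inferInstanceAs (Field (FractionRing (A ⧸ 𝔮)))

/-- the canonical map `A → Frac (A ⧸ 𝔮)`. -/
noncomputable def Fr.ι (𝔮 : Ideal A) [𝔮.IsPrime] : A →+* Fr 𝔮 :=
  (algebraMap (A ⧸ 𝔮) (FractionRing (A ⧸ 𝔮))).comp (Ideal.Quotient.mk 𝔮)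

lemma Fr.ι_eq_zero_iff (𝔮 : Ideal A) [𝔮.IsPrime] (a : A) : Fr.ι 𝔮 a = 0 ↔ a ∈ 𝔮 := by
  change algebraMap (A ⧸ 𝔮) (FractionRing (A ⧸ 𝔮)) (Ideal.Quotient.mk 𝔮 a) = 0 ↔ _
  rw [map_eq_zero_iff _ (IsFractionRing.injective (A ⧸ 𝔮) (FractionRing (A ⧸ 𝔮))),
    Ideal.Quotient.eq_zero_iff_mem]

end Fr

section Thm0

variable {R₀ A : Type u} [CommRing R₀] [CommRing A] [Algebra R₀ A] [IsNoetherianRing A]
  {M : Type u} [AddCommGroup M] [Module A M] [Module.Finite A M] {J : Type*}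
  (N : J → Type u) [∀ j, AddCommGroup (N j)] [∀ j, Module A (N j)] [∀ j, Module R₀ (N j)]
  [∀ j, IsScalarTower R₀ A (N j)] [∀ j, Module.Flat R₀ (N j)]
  (u : ∀ j, M →ₗ[A] N j)

set_option maxHeartbeats 1000000 in
/-- **Fibrewise criterion, prime form.** -/
theorem false_of_prime_fibre (m : M) (hm : ∀ j, u j m = 0) (𝔮 : Ideal A) [𝔮.IsPrime]
    (h𝔮 : ∀ x : A, x • m = 0 → x ∈ 𝔮)
    (Fib : JI N u (A ⊗[R₀] (Localization.AtPrime (𝔮.comap (algebraMap R₀ A)) ⧸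
      IsLocalRing.maximalIdeal (Localization.AtPrime (𝔮.comap (algebraMap R₀ A)))))) :
    False := by
  classical
  letI : Module R₀ M := Module.compHom M (algebraMap R₀ A)
  haveI : IsScalarTower R₀ A M := IsScalarTower.of_algebraMap_smul (fun _ _ => rfl)
  let 𝔭 : Ideal R₀ := 𝔮.comap (algebraMap R₀ A)
  let Λ := Localization.AtPrime 𝔭
  let 𝔪 : Ideal Λ := IsLocalRing.maximalIdeal Λ
  letI : Field (Λ ⧸ 𝔪) := Ideal.Quotient.field 𝔪
  -- the fibre hypothesis over `Λ`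
  have H₀ : ∀ μ : (Λ ⧸ 𝔪) ⊗[Λ] (Λ ⊗[R₀] M),
      (∀ j, LinearMap.lTensor (Λ ⧸ 𝔪) (((u j).restrictScalars R₀).baseChange Λ) μ = 0) →
        μ = 0 := by
    have h1 : JI N u (A ⊗[R₀] (Λ ⧸ 𝔪)) := Fib
    have h2 : JI (A := R₀) N (fun j => (u j).restrictScalars R₀) (Λ ⧸ 𝔪) :=
      fun μ hμ => jointInj_of_cancel (A := R₀) (R := A) (Λ ⧸ 𝔪) N u h1 μ hμ
    exact JI.of_baseChange (A := R₀) Λ (Λ ⧸ 𝔪) h2
  have key : ∀ n : ℕ, ((1 : Λ) ⊗ₜ[R₀] m : Λ ⊗[R₀] M) ∈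
      (𝔪 ^ n) • (⊤ : Submodule Λ (Λ ⊗[R₀] M)) := by
    intro n
    induction n with
    | zero => simp
    | succ n ih =>
      have := gr_step 𝔪 (𝔪 ^ n) (fun j => Λ ⊗[R₀] N j)
        (fun j => ((u j).restrictScalars R₀).baseChange Λ) H₀ _ ih (fun j => by
          rw [LinearMap.baseChange_tmul]
          change (1 : Λ) ⊗ₜ[R₀] (u j m) = 0
          rw [hm j, TensorProduct.tmul_zero])
      rwa [← pow_succ'] at this
  -- Krull on `C = A ⊗ Λ`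
  haveI : IsNoetherianRing (A ⊗[R₀] Λ) :=
    IsLocalization.isNoetherianRing (Algebra.algebraMapSubmonoid A 𝔭.primeCompl)
      (A ⊗[R₀] Λ) inferInstance
  let incl : Λ →ₐ[R₀] A ⊗[R₀] Λ := Algebra.TensorProduct.includeRight
  let 𝔪C : Ideal (A ⊗[R₀] Λ) := 𝔪.map incl
  have transfer : ∀ (n : ℕ) (y : Λ ⊗[R₀] M), y ∈ (𝔪 ^ n) • (⊤ : Submodule Λ (Λ ⊗[R₀] M)) →
      (cancelEquiv (A := R₀) (R := A) Λ M).symm y ∈
        (𝔪C ^ n) • (⊤ : Submodule (A ⊗[R₀] Λ) ((A ⊗[R₀] Λ) ⊗[A] M)) := by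
    intro n y hy
    refine Submodule.smul_induction_on hy ?_ ?_
    · intro t ht y' _
      rw [cancelEquiv_symm_smul]
      refine Submodule.smul_mem_smul ?_ Submodule.mem_top
      rw [← Ideal.map_pow]
      exact Ideal.mem_map_of_mem incl ht
    · intro x y hx hy
      rw [map_add]
      exact Submodule.add_mem _ hx hy
  have krull := (Ideal.mem_iInf_smul_pow_eq_bot_iff (R := A ⊗[R₀] Λ)
    (M := (A ⊗[R₀] Λ) ⊗[A] M) 𝔪C ((1 : A ⊗[R₀] Λ) ⊗ₜ[A] m)).mp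
  have hZ : ∃ r : 𝔪C, (r : A ⊗[R₀] Λ) • ((1 : A ⊗[R₀] Λ) ⊗ₜ[A] m) =
      ((1 : A ⊗[R₀] Λ) ⊗ₜ[A] m : (A ⊗[R₀] Λ) ⊗[A] M) := by
    apply krull
    rw [Submodule.mem_iInf]
    intro n
    have h1 := transfer n _ (key n)
    have h2 : (cancelEquiv (A := R₀) (R := A) Λ M).symm ((1 : Λ) ⊗ₜ[R₀] m) =
        (1 : A ⊗[R₀] Λ) ⊗ₜ[A] m := by
      rw [LinearEquiv.symm_apply_eq, Algebra.TensorProduct.one_def, cancelEquiv_tmul, one_smul]
    rw [h2] at h1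
    exact h1
  obtain ⟨⟨r, hr𝔪⟩, hr⟩ := hZ
  -- `(1 - r) ⊗ m = 0`
  have h0 : ((1 - r : A ⊗[R₀] Λ) ⊗ₜ[A] m : (A ⊗[R₀] Λ) ⊗[A] M) = 0 := by
    have e1 : (r ⊗ₜ[A] m : (A ⊗[R₀] Λ) ⊗[A] M) = (1 : A ⊗[R₀] Λ) ⊗ₜ[A] m := by
      have e2 : r • ((1 : A ⊗[R₀] Λ) ⊗ₜ[A] m : (A ⊗[R₀] Λ) ⊗[A] M) = r ⊗ₜ[A] m := by
        rw [TensorProduct.smul_tmul', smul_eq_mul, mul_one]
      rw [← e2]
      exact hr
    rw [TensorProduct.sub_tmul, e1, sub_self]
  have h1 := mem_smul_top_of_tmul_eq_zero m (1 - r : A ⊗[R₀] Λ) h0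
  -- the character `χ : C → Frac (A/𝔮)`
  let F := Fr 𝔮
  let ι : A →+* F := Fr.ι 𝔮
  letI algAF : Algebra A F := ι.toAlgebra
  letI algRF : Algebra R₀ F := (ι.comp (algebraMap R₀ A)).toAlgebra
  haveI : IsScalarTower R₀ A F := IsScalarTower.of_algebraMap_eq' rfl
  have hι : ∀ a : A, ι a = 0 ↔ a ∈ 𝔮 := Fr.ι_eq_zero_iff 𝔮
  have hunit : ∀ y : 𝔭.primeCompl, IsUnit (algebraMap R₀ F y) := by
    intro y
    rw [isUnit_iff_ne_zero]
    change ι (algebraMap R₀ A y) ≠ 0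
    rw [Ne, hι]
    exact y.2
  let ψ : Λ →ₐ[R₀] F :=
    { IsLocalization.lift (M := 𝔭.primeCompl) (g := algebraMap R₀ F) hunit with
      commutes' := fun x => IsLocalization.lift_eq _ x }
  let χ : A ⊗[R₀] Λ →ₐ[A] F :=
    Algebra.TensorProduct.lift (Algebra.ofId A F) ψ (fun _ _ => Commute.all _ _)
  have hχI : ∀ c ∈ (LinearMap.ker (LinearMap.toSpanSingleton A M m)) •
      (⊤ : Submodule A (A ⊗[R₀] Λ)), χ c = 0 := by
    intro c hc
    refine Submodule.smul_induction_on hc ?_ ?_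
    · intro i hi c' _
      have hi' : i ∈ 𝔮 := h𝔮 i (by simpa using hi)
      rw [map_smul, Algebra.smul_def]
      change ι i * _ = 0
      rw [(hι i).mpr hi', zero_mul]
    · intro x y hx hy
      rw [map_add, hx, hy, add_zero]
  have hχ𝔪 : 𝔪C ≤ RingHom.ker χ.toRingHom := by
    rw [Ideal.map_le_iff_le_comap]
    have : 𝔪 = Ideal.map (algebraMap R₀ Λ) 𝔭 := Localization.AtPrime.map_eq_maximalIdeal.symm
    rw [this, Ideal.map_le_iff_le_comap]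
    intro x hx
    rw [Ideal.mem_comap, Ideal.mem_comap, RingHom.mem_ker]
    change χ ((1 : A) ⊗ₜ[R₀] (algebraMap R₀ Λ x)) = 0
    rw [Algebra.TensorProduct.lift_tmul, map_one, one_mul, AlgHom.commutes]
    change ι (algebraMap R₀ A x) = 0
    rw [hι]
    exact hx
  have h2 : χ (1 - r) = 0 := hχI _ h1
  have h3 : χ r = 0 := hχ𝔪 hr𝔪
  have h4 : (1 : F) = 0 := by
    have := map_sub χ 1 r
    rw [h2, h3, map_one, sub_zero] at this
    exact this.symm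
  exact one_ne_zero h4

end Thm0

end Groth.Agent.H21.TorsUniv
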