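import Groth.Agent.H21.TorsUniv1

/-!
# Fibrewise criterion, prime version: residue field descent and localized form (helper21)
-/

open TensorProduct

universe u

set_option linter.style.haveILetI false

namespace Groth.Agent.H21.TorsUniv

open Groth.Agent.H21.SepFam Groth.Agent.H21.SepMod Groth.Agent.H21.SepModLim
open Groth.Agent.H21.SepModBC Groth.Agent.H21.SepModGr Groth.Agent.H21.SepModUniv

section Residue

variable {R₀ A : Type u} [CommRing R₀] [CommRing A] [Algebra R₀ A]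
  {M : Type u} [AddCommGroup M] [Module A M] {J : Type*}
  {N : J → Type u} [∀ j, AddCommGroup (N j)] [∀ j, Module A (N j)]
  {u : ∀ j, M →ₗ[A] N j}

set_option maxHeartbeats 1000000 in
/-- joint injectivity on the fibre over a field with kernel `𝔭` descends to the residue field. -/
theorem JI.residue_of_field (𝔭 : Ideal R₀) [𝔭.IsPrime] (K : Type u) [Field K] [Algebra R₀ K]
    (hK : ∀ r : R₀, algebraMap R₀ K r = 0 ↔ r ∈ 𝔭) (h : JI N u (A ⊗[R₀] K)) :
    JI N u (A ⊗[R₀] (Localization.AtPrime 𝔭 ⧸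
      IsLocalRing.maximalIdeal (Localization.AtPrime 𝔭))) := by
  classical
  let Λ := Localization.AtPrime 𝔭
  let 𝔪 : Ideal Λ := IsLocalRing.maximalIdeal Λ
  letI : Field (Λ ⧸ 𝔪) := Ideal.Quotient.field 𝔪
  have hunit : ∀ y : 𝔭.primeCompl, IsUnit (algebraMap R₀ K y) := by
    intro y
    rw [isUnit_iff_ne_zero, Ne, hK]
    exact y.2
  let φ₀ : Λ →+* K := IsLocalization.lift (M := 𝔭.primeCompl) (g := algebraMap R₀ K) hunit
  have hφ₀ : ∀ x ∈ 𝔪, φ₀ x = 0 := by
    intro x hx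
    have h𝔪 : 𝔪 = Ideal.map (algebraMap R₀ Λ) 𝔭 := Localization.AtPrime.map_eq_maximalIdeal.symm
    rw [h𝔪] at hx
    have hle : Ideal.map (algebraMap R₀ Λ) 𝔭 ≤ RingHom.ker φ₀ := by
      rw [Ideal.map_le_iff_le_comap]
      intro r hr
      rw [Ideal.mem_comap, RingHom.mem_ker, IsLocalization.lift_eq, hK]
      exact hr
    exact hle hx
  let φ₁ : Λ ⧸ 𝔪 →+* K := Ideal.Quotient.lift 𝔪 φ₀ hφ₀
  let φ : Λ ⧸ 𝔪 →ₐ[R₀] K :=
    { φ₁ with
      commutes' := fun r => by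
        change φ₁ (Ideal.Quotient.mk 𝔪 (algebraMap R₀ Λ r)) = _
        rw [Ideal.Quotient.lift_mk, IsLocalization.lift_eq] }
  letI : Algebra (Λ ⧸ 𝔪) K := φ.toRingHom.toAlgebra
  haveI : IsScalarTower R₀ (Λ ⧸ 𝔪) K :=
    IsScalarTower.of_algebraMap_eq (fun r => (φ.commutes r).symm)
  obtain ⟨g, hg⟩ := LinearMap.exists_leftInverse_of_injective (Algebra.linearMap (Λ ⧸ 𝔪) K)
    (LinearMap.ker_eq_bot.mpr (algebraMap (Λ ⧸ 𝔪) K).injective)
  let ρ₀ : K →ₗ[R₀] Λ ⧸ 𝔪 := g.restrictScalars R₀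
  have hρ₀ : ∀ x : Λ ⧸ 𝔪, ρ₀ (φ x) = x := fun x => congrArg (fun f => f x) hg
  refine JI.descend_of_leftInverse (Algebra.TensorProduct.map (AlgHom.id A A) φ)
    (AlgebraTensorModule.lTensor A A ρ₀) ?_ h
  intro x
  induction x using TensorProduct.induction_on with
  | zero => simp
  | tmul a y =>
    rw [Algebra.TensorProduct.map_tmul, AlgebraTensorModule.lTensor_tmul, hρ₀]
    rfl
  | add x y hx hy => rw [map_add, map_add, hx, hy]

end Residue

section Thm1

variable {R₀ A : Type u} [CommRing R₀] [CommRing A] [Algebra R₀ A] [IsNoetherianRing A]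
  {M : Type u} [AddCommGroup M] [Module A M] [Module.Finite A M] {J : Type*}
  (N : J → Type u) [∀ j, AddCommGroup (N j)] [∀ j, Module A (N j)] [∀ j, Module R₀ (N j)]
  [∀ j, IsScalarTower R₀ A (N j)] [∀ j, Module.Flat R₀ (N j)]
  (u : ∀ j, M →ₗ[A] N j)

attribute [local instance] Algebra.TensorProduct.rightAlgebra in
set_option maxHeartbeats 1000000 in
/-- **Fibrewise criterion, prime form, localized.** -/
theorem false_of_prime_fibre_loc (a : A) (τ : M) (hτ : ∀ j, ∃ n : ℕ, a ^ n • u j τ = 0)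
    (𝔮 : Ideal A) [𝔮.IsPrime] (ha : a ∉ 𝔮) (h𝔮 : ∀ x : A, x • τ = 0 → x ∈ 𝔮)
    (K : Type u) [Field K] [Algebra R₀ K]
    (hK : ∀ r : R₀, algebraMap R₀ K r = 0 ↔ algebraMap R₀ A r ∈ 𝔮)
    (Fib : JIloc N u (A ⊗[R₀] K)) : False := by
  classical
  let A' := Localization.Away a
  haveI : IsNoetherianRing A' :=
    IsLocalization.isNoetherianRing (Submonoid.powers a) _ inferInstance
  haveI : ∀ j, Module.Flat R₀ (A' ⊗[A] N j) := fun j =>
    Groth.Agent.H8.flat_tensor_of_flat R₀ A A' (N j)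
  have hdisj : Disjoint (Submonoid.powers a : Set A) (𝔮 : Set A) := by
    rw [Set.disjoint_left]
    rintro _ ⟨n, rfl⟩ hn
    exact ha (Ideal.IsPrime.mem_of_pow_mem inferInstance n hn)
  let 𝔮' : Ideal A' := 𝔮.map (algebraMap A A')
  haveI h𝔮'prime : 𝔮'.IsPrime :=
    IsLocalization.isPrime_of_isPrime_disjoint (Submonoid.powers a) A' 𝔮 inferInstance hdisj
  have hcomap : 𝔮'.comap (algebraMap A A') = 𝔮 :=
    IsLocalization.comap_map_of_isPrime_disjoint (Submonoid.powers a) A' inferInstance hdisj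
  have haunit : IsUnit (algebraMap A A' a) := IsLocalization.Away.algebraMap_isUnit a
  refine false_of_prime_fibre (R₀ := R₀) (A := A') (M := A' ⊗[A] M)
    (fun j => A' ⊗[A] N j) (fun j => (u j).baseChange A') ((1 : A') ⊗ₜ[A] τ) ?_ 𝔮' ?_ ?_
  · intro j
    obtain ⟨n, hn⟩ := hτ j
    rw [LinearMap.baseChange_tmul]
    have h1 : (algebraMap A A' a) ^ n • ((1 : A') ⊗ₜ[A] (u j τ)) = 0 := by
      rw [← map_pow, algebraMap_smul, ← TensorProduct.tmul_smul, hn, TensorProduct.tmul_zero]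
    exact ((haunit.pow n).smul_eq_zero).mp h1
  · intro x' hx'
    obtain ⟨x, ⟨_, k, rfl⟩, rfl⟩ := IsLocalization.exists_mk'_eq (Submonoid.powers a) x'
    rw [IsLocalization.mk'_mem_map_algebraMap_iff]
    have h1 : (algebraMap A A' (a ^ k)) • (IsLocalization.mk' A' x
        (⟨a ^ k, k, rfl⟩ : Submonoid.powers a) • ((1 : A') ⊗ₜ[A] τ)) = 0 := by
      rw [hx', smul_zero]
    rw [smul_smul, mul_comm, IsLocalization.mk'_spec, algebraMap_smul,
      ← TensorProduct.tmul_smul] at h1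
    have h2 : TensorProduct.mk A A' M 1 (x • τ) = 0 := h1
    obtain ⟨⟨_, l, rfl⟩, hl⟩ := (IsLocalizedModule.eq_zero_iff (Submonoid.powers a)
      (TensorProduct.mk A A' M 1)).mp h2
    refine ⟨a ^ l, ⟨l, rfl⟩, ?_⟩
    apply h𝔮
    rw [mul_smul]
    exact hl
  · have hK' : ∀ r : R₀, algebraMap R₀ K r = 0 ↔ r ∈ 𝔮'.comap (algebraMap R₀ A') := by
      intro r
      rw [hK, Ideal.mem_comap (f := algebraMap R₀ A'), IsScalarTower.algebraMap_apply R₀ A A']
      conv_lhs => rw [← hcomap]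
      rfl
    refine JI.residue_of_field (𝔮'.comap (algebraMap R₀ A')) K hK' ?_
    refine JI.of_algEquiv
      (Algebra.TensorProduct.cancelBaseChange R₀ A A' A' K).symm ?_
    refine JI.of_baseChange (A := A) A' (A' ⊗[A] (A ⊗[R₀] K)) ?_
    haveI : IsLocalization.Away ((a ⊗ₜ[R₀] (1 : K)) : A ⊗[R₀] K) (A' ⊗[A] (A ⊗[R₀] K)) := by
      have := IsLocalization.tensorRight (R := A) (S := A ⊗[R₀] K) A' (Submonoid.powers a)
      rwa [Algebra.algebraMapSubmonoid_powers] at this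
    exact (Fib).ji (a ⊗ₜ 1) (A' ⊗[A] (A ⊗[R₀] K))

end Thm1

end Groth.Agent.H21.TorsUniv
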