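import Groth.Agent.H21.TorsUniv2

/-!
# Torsion with respect to a family of elements (helper21)

`KIB A M B β`: an element of `B ⊗[A] M` killed by a power of every `β j` is zero.
Bridge to the joint-injectivity currency `JI` via the localization family.
-/

open TensorProduct

universe u

set_option linter.style.haveILetI false

namespace Groth.Agent.H21.TorsUniv

open Groth.Agent.H21.SepFam Groth.Agent.H21.SepMod Groth.Agent.H21.SepModLim
open Groth.Agent.H21.SepModBC Groth.Agent.H21.SepModGr Groth.Agent.H21.SepModUniv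

section Defs

variable (A : Type*) [CommRing A] (M : Type*) [AddCommGroup M] [Module A M]

/-- an element of `B ⊗[A] M` killed by a power of every `β j` is zero. -/
def KIB (B : Type*) [CommRing B] [Algebra A B] {J : Type*} (β : J → B) : Prop :=
  ∀ z : B ⊗[A] M, (∀ j, ∃ n : ℕ, β j ^ n • z = 0) → z = 0

variable {A M}

/-- transport along an algebra isomorphism. -/
lemma KIB.of_algEquiv {B₁ B₂ : Type*} [CommRing B₁] [Algebra A B₁] [CommRing B₂] [Algebra A B₂]
    (e : B₁ ≃ₐ[A] B₂) {J : Type*} {β₁ : J → B₁} {β₂ : J → B₂} (hβ : ∀ j, e (β₁ j) = β₂ j)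
    (h : KIB A M B₂ β₂) : KIB A M B₁ β₁ := by
  intro z hz
  have h1 : LinearMap.rTensor M e.toAlgHom.toLinearMap z = 0 := by
    apply h
    intro j
    obtain ⟨n, hn⟩ := hz j
    refine ⟨n, ?_⟩
    rw [← hβ j, ← map_pow]
    have := rTensor_smul_left (M := M) e.toAlgHom (β₁ j ^ n) z
    rw [hn, map_zero] at this
    exact this.symm
  have h2 : LinearMap.rTensor M e.symm.toAlgHom.toLinearMap
      (LinearMap.rTensor M e.toAlgHom.toLinearMap z) = z := by
    rw [← LinearMap.rTensor_comp_apply]
    have : e.symm.toAlgHom.toLinearMap ∘ₗ e.toAlgHom.toLinearMap = LinearMap.id :=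
      LinearMap.ext (fun x => e.symm_apply_apply x)
    rw [this, LinearMap.rTensor_id_apply]
  rw [← h2, h1, map_zero]

/-- a larger family. -/
lemma KIB.mono {B : Type*} [CommRing B] [Algebra A B] {J J' : Type*} {β : J → B} {β' : J' → B}
    (hβ : ∀ j, ∃ j', β' j' = β j) (h : KIB A M B β) : KIB A M B β' := by
  intro z hz
  apply h z
  intro j
  obtain ⟨j', hj'⟩ := hβ j
  rw [← hj']
  exact hz j'

/-- finite subfamilies generating the same ideal up to radical. -/
lemma KIB.subfamily {B : Type*} [CommRing B] [Algebra A B] {J : Type*} {β : J → B}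
    (s : Set J) (hs : ∀ j, β j ∈ (Ideal.span (β '' s)).radical)
    (h : KIB A M B β) : KIB A M B (fun i : s => β i) := by
  intro z hz
  apply h z
  intro j
  let I : Ideal B := LinearMap.ker (LinearMap.toSpanSingleton B (B ⊗[A] M) z)
  have h1 : Ideal.span (β '' s) ≤ I.radical := by
    rw [Ideal.span_le]
    rintro _ ⟨i, hi, rfl⟩
    obtain ⟨n, hn⟩ := hz ⟨i, hi⟩
    exact ⟨n, by simpa [I] using hn⟩
  have h2 : β j ∈ I.radical := by
    have := Ideal.radical_mono h1 (hs j)
    rwa [Ideal.radical_idem] at this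
  obtain ⟨n, hn⟩ := h2
  exact ⟨n, by simpa [I] using hn⟩

/-- change of base ring and module. -/
lemma KIB.of_isBaseChange {A' : Type*} [CommRing A'] [Algebra A A'] {M' : Type*}
    [AddCommGroup M'] [Module A' M'] [Module A M'] [IsScalarTower A A' M'] (f : M →ₗ[A] M')
    (hf : IsBaseChange A' f) {B : Type*} [CommRing B] [Algebra A' B] [Algebra A B]
    [IsScalarTower A A' B] {J : Type*} {β : J → B} (h : KIB A M B β) : KIB A' M' B β := by
  intro z hz
  let E : B ⊗[A'] M' ≃ₗ[B] B ⊗[A] M :=
    (AlgebraTensorModule.congr (LinearEquiv.refl B B) hf.equiv.symm) ≪≫ₗ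
      (AlgebraTensorModule.cancelBaseChange A A' B B M)
  have h1 : E z = 0 := by
    apply h
    intro j
    obtain ⟨n, hn⟩ := hz j
    exact ⟨n, by rw [← map_smul, hn, map_zero]⟩
  exact E.injective (h1.trans (map_zero _).symm)

lemma KIB.to_isBaseChange {A' : Type*} [CommRing A'] [Algebra A A'] {M' : Type*}
    [AddCommGroup M'] [Module A' M'] [Module A M'] [IsScalarTower A A' M'] (f : M →ₗ[A] M')
    (hf : IsBaseChange A' f) {B : Type*} [CommRing B] [Algebra A' B] [Algebra A B]
    [IsScalarTower A A' B] {J : Type*} {β : J → B} (h : KIB A' M' B β) : KIB A M B β := by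
  intro z hz
  let E : B ⊗[A'] M' ≃ₗ[B] B ⊗[A] M :=
    (AlgebraTensorModule.congr (LinearEquiv.refl B B) hf.equiv.symm) ≪≫ₗ
      (AlgebraTensorModule.cancelBaseChange A A' B B M)
  have h1 : E.symm z = 0 := by
    apply h
    intro j
    obtain ⟨n, hn⟩ := hz j
    exact ⟨n, by rw [← map_smul, hn, map_zero]⟩
  exact E.symm.injective (h1.trans (map_zero _).symm)

end Defs

section Bridge

variable {A : Type*} [CommRing A] (M : Type*) [AddCommGroup M] [Module A M] {J : Type*}
  (a : J → A)

/-- the localizations of `M` at the `a j`. -/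
abbrev Nloc (j : J) : Type _ := Localization.Away (a j) ⊗[A] M

/-- the localization maps. -/
noncomputable def uloc (j : J) : M →ₗ[A] Nloc M a j :=
  TensorProduct.mk A (Localization.Away (a j)) M 1

variable {M}

lemma lTensor_eq_zero_iff {N : Type*} [AddCommGroup N] [Module A N] (v : M →ₗ[A] N) (x : A)
    [IsLocalizedModule (Submonoid.powers x) v] (B : Type*) [CommRing B] [Algebra A B]
    (z : B ⊗[A] M) : LinearMap.lTensor B v z = 0 ↔ ∃ n : ℕ, x ^ n • z = 0 := by
  have hnat : ∀ w : B ⊗[A] M, TensorProduct.comm A B N (LinearMap.lTensor B v w) =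
      AlgebraTensorModule.rTensor A B v (TensorProduct.comm A B M w) := by
    intro w
    induction w using TensorProduct.induction_on with
    | zero => simp
    | tmul b m => simp
    | add x y hx hy => simp only [map_add, hx, hy]
  have h1 : LinearMap.lTensor B v z = 0 ↔
      AlgebraTensorModule.rTensor A B v (TensorProduct.comm A B M z) = 0 := by
    rw [← hnat, LinearEquiv.map_eq_zero_iff]
  rw [h1, IsLocalizedModule.eq_zero_iff (Submonoid.powers x)]
  constructor
  · rintro ⟨⟨_, n, rfl⟩, hn⟩
    refine ⟨n, ?_⟩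
    have : TensorProduct.comm A B M (x ^ n • z) = 0 := by rw [map_smul]; exact hn
    exact (LinearEquiv.map_eq_zero_iff _).mp this
  · rintro ⟨n, hn⟩
    refine ⟨⟨x ^ n, n, rfl⟩, ?_⟩
    change x ^ n • TensorProduct.comm A B M z = 0
    rw [← map_smul, hn, map_zero]

instance (j : J) : IsLocalizedModule (Submonoid.powers (a j)) (uloc M a j) :=
  IsLocalization.tensorProduct_isLocalizedModule (M := M) (Submonoid.powers (a j))
    (Localization.Away (a j))

/-- **Bridge**: joint injectivity for the localization family is the torsion condition. -/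
lemma ji_uloc_iff (B : Type*) [CommRing B] [Algebra A B] :
    JI (Nloc M a) (uloc M a) B ↔ KIB A M B (fun j => algebraMap A B (a j)) := by
  constructor
  · intro h z hz
    apply h z
    intro j
    rw [lTensor_eq_zero_iff (uloc M a j) (a j)]
    obtain ⟨n, hn⟩ := hz j
    refine ⟨n, ?_⟩
    rw [← algebraMap_smul B, map_pow]
    exact hn
  · intro h z hz
    apply h z
    intro j
    obtain ⟨n, hn⟩ := (lTensor_eq_zero_iff (uloc M a j) (a j) B z).mp (hz j)
    refine ⟨n, ?_⟩
    rw [← map_pow, algebraMap_smul]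
    exact hn

end Bridge

end Groth.Agent.H21.TorsUniv
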