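import Groth.Agent.H21.TorsUniv3

/-!
# Torsion with respect to a family: the fibre condition at a noetherian stage (helper21)
-/

open TensorProduct

universe u

set_option linter.style.haveILetI false

namespace Groth.Agent.H21.TorsUniv

open Groth.Agent.H21.SepFam Groth.Agent.H21.SepMod Groth.Agent.H21.SepModLim
open Groth.Agent.H21.SepModBC Groth.Agent.H21.SepModGr Groth.Agent.H21.SepModUniv

section StageFib

variable {R₀ A₀ : Type u} [CommRing R₀] [CommRing A₀] [Algebra R₀ A₀]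
  {M₀ : Type u} [AddCommGroup M₀] [Module A₀ M₀]
  {S : Type u} [CommRing S] [Algebra R₀ S]

attribute [local instance] Algebra.TensorProduct.rightAlgebra in
set_option maxHeartbeats 1000000 in
/-- the fibre condition at a stage `S`, in the joint-injectivity currency over `A₀ ⊗ S`. -/
theorem stage_fib {I : Type*} (αS : I → A₀ ⊗[R₀] S) (K : Type u) [Field K] [Algebra R₀ K]
    [Algebra S K] [IsScalarTower R₀ S K]
    (h : ∀ c : A₀ ⊗[R₀] K, KIB A₀ M₀ (Localization.Away c)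
      (fun i => algebraMap (A₀ ⊗[R₀] K) (Localization.Away c)
        (Algebra.TensorProduct.map (AlgHom.id A₀ A₀) (IsScalarTower.toAlgHom R₀ S K) (αS i)))) :
    JIloc (Nloc ((A₀ ⊗[R₀] S) ⊗[A₀] M₀) αS) (uloc ((A₀ ⊗[R₀] S) ⊗[A₀] M₀) αS)
      ((A₀ ⊗[R₀] S) ⊗[S] K) := by
  let ψ : S →ₐ[R₀] K := IsScalarTower.toAlgHom R₀ S K
  let g : A₀ ⊗[R₀] S →ₐ[A₀] A₀ ⊗[R₀] K := Algebra.TensorProduct.map (AlgHom.id A₀ A₀) ψ
  letI algBK : Algebra (A₀ ⊗[R₀] S) (A₀ ⊗[R₀] K) := g.toRingHom.toAlgebra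
  haveI : IsScalarTower A₀ (A₀ ⊗[R₀] S) (A₀ ⊗[R₀] K) :=
    IsScalarTower.of_algebraMap_eq (fun a => (g.commutes a).symm)
  let e₀ : (A₀ ⊗[R₀] S) ⊗[S] K ≃ₐ[A₀] A₀ ⊗[R₀] K :=
    Algebra.IsPushout.cancelBaseChangeAlg R₀ A₀ S (A₀ ⊗[R₀] S) K
  have he₀ : ∀ x : A₀ ⊗[R₀] S, e₀ (x ⊗ₜ[S] (1 : K)) = g x := by
    intro x
    rw [← AlgEquiv.eq_symm_apply]
    induction x using TensorProduct.induction_on with
    | zero => simp
    | tmul a s =>
      change _ = e₀.symm (a ⊗ₜ[R₀] (ψ s))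
      rw [Algebra.IsPushout.cancelBaseChangeAlg_symm_tmul]
      change _ = (a ⊗ₜ[R₀] (1 : S)) ⊗ₜ[S] (algebraMap S K s)
      rw [Algebra.algebraMap_eq_smul_one, ← TensorProduct.smul_tmul, Algebra.smul_def]
      congr 1
      change _ = ((1 : A₀) ⊗ₜ[R₀] s) * (a ⊗ₜ[R₀] (1 : S))
      rw [Algebra.TensorProduct.tmul_mul_tmul, one_mul, mul_one]
    | add x y hx hy => rw [TensorProduct.add_tmul, hx, hy, map_add, map_add]
  let e : (A₀ ⊗[R₀] S) ⊗[S] K ≃ₐ[A₀ ⊗[R₀] S] A₀ ⊗[R₀] K :=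
    AlgEquiv.ofRingEquiv (f := e₀.toRingEquiv) he₀
  refine JIloc.of_algEquiv e ?_
  intro c
  rw [ji_uloc_iff]
  haveI : IsScalarTower A₀ (A₀ ⊗[R₀] S) (Localization.Away c) := by
    apply IsScalarTower.of_algebraMap_eq
    intro a
    rw [IsScalarTower.algebraMap_apply A₀ (A₀ ⊗[R₀] K) (Localization.Away c),
      IsScalarTower.algebraMap_apply (A₀ ⊗[R₀] S) (A₀ ⊗[R₀] K) (Localization.Away c),
      ← IsScalarTower.algebraMap_apply A₀ (A₀ ⊗[R₀] S) (A₀ ⊗[R₀] K)]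
  refine KIB.of_isBaseChange (A := A₀) (A' := A₀ ⊗[R₀] S) (TensorProduct.mk A₀ (A₀ ⊗[R₀] S) M₀ 1)
    (TensorProduct.isBaseChange A₀ M₀ (A₀ ⊗[R₀] S)) ?_
  have hc := h c
  convert hc using 2
  exact IsScalarTower.algebraMap_apply (A₀ ⊗[R₀] S) (A₀ ⊗[R₀] K) (Localization.Away c) _

end StageFib

end Groth.Agent.H21.TorsUniv
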