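import Groth.Agent.H21.TorsUniv4

/-!
# Torsion with respect to a family: fibrewise ⇒ universal, over a noetherian model (helper21)
-/

open TensorProduct

universe u

set_option linter.style.haveILetI false

namespace Groth.Agent.H21.TorsUniv

open Groth.Agent.H21.SepFam Groth.Agent.H21.SepMod Groth.Agent.H21.SepModLim
open Groth.Agent.H21.SepModBC Groth.Agent.H21.SepModGr Groth.Agent.H21.SepModUniv

section StageContra

variable {R₀ A₀ : Type u} [CommRing R₀] [CommRing A₀] [Algebra R₀ A₀]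
  {M₀ : Type u} [AddCommGroup M₀] [Module A₀ M₀] [Module.Finite A₀ M₀] [Module R₀ M₀]
  [IsScalarTower R₀ A₀ M₀] [Module.Flat R₀ M₀]
  {S : Type u} [CommRing S] [Algebra R₀ S] [IsNoetherianRing (A₀ ⊗[R₀] S)]

attribute [local instance] Algebra.TensorProduct.rightAlgebra in
set_option maxHeartbeats 1000000 in
/-- the contradiction at a noetherian stage. -/
theorem stage_contra {I : Type*} (αS : I → A₀ ⊗[R₀] S) (bS : A₀ ⊗[R₀] S)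
    (τS : (A₀ ⊗[R₀] S) ⊗[A₀] M₀)
    (hrel : ∀ i, ∃ n k : ℕ, bS ^ k • (αS i ^ n • τS) = 0)
    (𝔮S : Ideal (A₀ ⊗[R₀] S)) [𝔮S.IsPrime] (hb : bS ∉ 𝔮S)
    (h𝔮 : ∀ x : A₀ ⊗[R₀] S, x • τS = 0 → x ∈ 𝔮S)
    (K : Type u) [Field K] [Algebra R₀ K] [Algebra S K] [IsScalarTower R₀ S K]
    (hK : ∀ r : S, algebraMap S K r = 0 ↔ algebraMap S (A₀ ⊗[R₀] S) r ∈ 𝔮S)
    (h : ∀ c : A₀ ⊗[R₀] K, KIB A₀ M₀ (Localization.Away c)
      (fun i => algebraMap (A₀ ⊗[R₀] K) (Localization.Away c)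
        (Algebra.TensorProduct.map (AlgHom.id A₀ A₀) (IsScalarTower.toAlgHom R₀ S K) (αS i)))) :
    False := by
  haveI : Module.Flat S ((A₀ ⊗[R₀] S) ⊗[A₀] M₀) :=
    Module.Flat.of_linearEquiv (Algebra.IsPushout.cancelBaseChange R₀ S A₀ (A₀ ⊗[R₀] S) M₀)
  haveI : ∀ i, Module.Flat S (Nloc ((A₀ ⊗[R₀] S) ⊗[A₀] M₀) αS i) := fun i =>
    Groth.Agent.H8.flat_tensor_of_flat S (A₀ ⊗[R₀] S) (Localization.Away (αS i))
      ((A₀ ⊗[R₀] S) ⊗[A₀] M₀)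
  refine false_of_prime_fibre_loc (R₀ := S) (A := A₀ ⊗[R₀] S) (M := (A₀ ⊗[R₀] S) ⊗[A₀] M₀)
    (Nloc ((A₀ ⊗[R₀] S) ⊗[A₀] M₀) αS) (uloc ((A₀ ⊗[R₀] S) ⊗[A₀] M₀) αS) bS τS ?_ 𝔮S hb h𝔮 K hK
    (stage_fib αS K h)
  intro i
  obtain ⟨n, k, hnk⟩ := hrel i
  refine ⟨k, ?_⟩
  rw [← map_smul]
  rw [IsLocalizedModule.eq_zero_iff (Submonoid.powers (αS i))]
  refine ⟨⟨αS i ^ n, n, rfl⟩, ?_⟩
  change αS i ^ n • bS ^ k • τS = 0
  rw [smul_comm]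
  exact hnk

end StageContra

section Lit

variable {R₀ A₀ : Type u} [CommRing R₀] [CommRing A₀] [Algebra R₀ A₀] [IsNoetherianRing A₀]
  [Algebra.FiniteType R₀ A₀]
  {M₀ : Type u} [AddCommGroup M₀] [Module A₀ M₀] [Module.Finite A₀ M₀] [Module R₀ M₀]
  [IsScalarTower R₀ A₀ M₀] [Module.Flat R₀ M₀]
  {L : Type u} [CommRing L] [Algebra R₀ L] {J : Type*}

omit [IsNoetherianRing A₀] [Algebra.FiniteType R₀ A₀] in
lemma exists_fg_stage (α : J → A₀ ⊗[R₀] L) (s : Finset J) (S₀ : Subalgebra R₀ L)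
    (hS₀ : S₀.FG) :
    ∃ S : Subalgebra R₀ L, S.FG ∧ S₀ ≤ S ∧ ∀ i ∈ s, ∃ x : A₀ ⊗[R₀] S, ιS S x = α i := by
  classical
  induction s using Finset.induction_on with
  | empty => exact ⟨S₀, hS₀, le_rfl, fun i hi => absurd hi (Finset.notMem_empty i)⟩
  | insert i s hi ih =>
    obtain ⟨S, hS, hle, hx⟩ := ih
    obtain ⟨S', hS', x', hx'⟩ := exists_fg_ιS (A := A₀) (α i)
    refine ⟨S ⊔ S', hS.sup hS', hle.trans le_sup_left, ?_⟩
    intro i' hi'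
    rw [Finset.mem_insert] at hi'
    rcases hi' with rfl | hi'
    · exact ⟨ιSS (A := A₀) (le_sup_right : S' ≤ S ⊔ S') x', by rw [ιS_ιSS, hx']⟩
    · obtain ⟨x, hx⟩ := hx i' hi'
      exact ⟨ιSS (A := A₀) (le_sup_left : S ≤ S ⊔ S') x, by rw [ιS_ιSS, hx]⟩

omit [IsNoetherianRing A₀] in
lemma noeth_fibre (K : Type u) [Field K] [Algebra R₀ K] : IsNoetherianRing (A₀ ⊗[R₀] K) := by
  haveI : IsNoetherianRing (K ⊗[R₀] A₀) := Algebra.FiniteType.isNoetherianRing K (K ⊗[R₀] A₀)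
  exact isNoetherianRing_of_ringEquiv (K ⊗[R₀] A₀)
    (Algebra.TensorProduct.comm R₀ K A₀).toRingEquiv

end Lit

end Groth.Agent.H21.TorsUniv
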