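import Groth.Agent.H21.TorsUniv5

/-!
# Torsion with respect to a family: fibrewise ⇒ universal, over a noetherian model (helper21)
-/

open TensorProduct

universe u

set_option linter.style.haveILetI false

namespace Groth.Agent.H21.TorsUniv

open Groth.Agent.H21.SepFam Groth.Agent.H21.SepMod Groth.Agent.H21.SepModLim
open Groth.Agent.H21.SepModBC Groth.Agent.H21.SepModGr Groth.Agent.H21.SepModUniv

section Lit

variable {R₀ A₀ : Type u} [CommRing R₀] [CommRing A₀] [Algebra R₀ A₀] [IsNoetherianRing A₀]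
  [Algebra.FiniteType R₀ A₀]
  {M₀ : Type u} [AddCommGroup M₀] [Module A₀ M₀] [Module.Finite A₀ M₀] [Module R₀ M₀]
  [IsScalarTower R₀ A₀ M₀] [Module.Flat R₀ M₀]
  {L : Type u} [CommRing L] [Algebra R₀ L] {J : Type*}

attribute [local instance] Algebra.TensorProduct.rightAlgebra in
set_option maxHeartbeats 2000000 in
/-- **Fibrewise ⇒ universal**, over a noetherian model `(R₀, A₀, M₀)`, for an arbitrary
`R₀`-algebra `L` and an arbitrary family of elements of `A₀ ⊗ L`. -/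
theorem kib_away_of_fibres (α : J → A₀ ⊗[R₀] L)
    (Fib : ∀ (K : Type u) [Field K] [Algebra R₀ K] (φ : L →ₐ[R₀] K) (c : A₀ ⊗[R₀] K),
      KIB A₀ M₀ (Localization.Away c) (fun j => algebraMap (A₀ ⊗[R₀] K) (Localization.Away c)
        (Algebra.TensorProduct.map (AlgHom.id A₀ A₀) φ (α j))))
    (b : A₀ ⊗[R₀] L) :
    KIB A₀ M₀ (Localization.Away b)
      (fun j => algebraMap (A₀ ⊗[R₀] L) (Localization.Away b) (α j)) := by
  classical
  intro z hz
  by_contra hne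
  -- step 1: clear denominators
  obtain ⟨⟨τ, ⟨_, n₀, rfl⟩⟩, hτ⟩ := IsLocalizedModule.surj (Submonoid.powers b)
    (locMap (A := A₀) (B := A₀ ⊗[R₀] L) (B' := Localization.Away b) M₀) z
  have hτ' : (b ^ n₀) • z =
      locMap (A := A₀) (B := A₀ ⊗[R₀] L) (B' := Localization.Away b) M₀ τ := hτ
  -- step 2: relations upstairs
  have hrel : ∀ j, ∃ n k : ℕ, b ^ k • (α j ^ n • τ) = 0 := by
    intro j
    obtain ⟨n, hn⟩ := hz j
    have h1 : locMap (A := A₀) (B := A₀ ⊗[R₀] L) (B' := Localization.Away b) M₀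
        (α j ^ n • τ) = 0 := by
      rw [map_smul, ← hτ', smul_comm, ← algebraMap_smul (Localization.Away b) (α j ^ n) z,
        map_pow, hn, smul_zero]
    obtain ⟨⟨_, k, rfl⟩, hk⟩ := (IsLocalizedModule.eq_zero_iff (Submonoid.powers b)
      (locMap (A := A₀) (B := A₀ ⊗[R₀] L) (B' := Localization.Away b) M₀)).mp h1
    exact ⟨n, k, hk⟩
  -- step 3: a prime containing the annihilator of `τ`, not containing `b`
  let I : Ideal (A₀ ⊗[R₀] L) :=
    LinearMap.ker (LinearMap.toSpanSingleton (A₀ ⊗[R₀] L) ((A₀ ⊗[R₀] L) ⊗[A₀] M₀) τ)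
  have hI : ∀ x : A₀ ⊗[R₀] L, x ∈ I ↔ x • τ = 0 := by
    intro x
    simp [I]
  have hbI : b ∉ I.radical := by
    rintro ⟨m, hm⟩
    have h3 : b ^ m • τ = 0 := (hI _).mp hm
    have h4 : locMap (A := A₀) (B := A₀ ⊗[R₀] L) (B' := Localization.Away b) M₀ τ = 0 :=
      (IsLocalizedModule.eq_zero_iff (Submonoid.powers b)
        (locMap (A := A₀) (B := A₀ ⊗[R₀] L) (B' := Localization.Away b) M₀)).mpr
          ⟨⟨b ^ m, m, rfl⟩, h3⟩
    rw [h4] at hτ'
    have hunit : IsUnit (algebraMap (A₀ ⊗[R₀] L) (Localization.Away b) (b ^ n₀)) := by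
      rw [map_pow]
      exact (IsLocalization.Away.algebraMap_isUnit (S := Localization.Away b) b).pow n₀
    rw [← algebraMap_smul (Localization.Away b) (b ^ n₀) z] at hτ'
    exact hne ((hunit.smul_eq_zero).mp hτ')
  rw [Ideal.radical_eq_sInf, Ideal.mem_sInf] at hbI
  push_neg at hbI
  obtain ⟨𝔮, ⟨hI𝔮, h𝔮prime⟩, hb𝔮⟩ := hbI
  haveI := h𝔮prime
  -- step 4: the field `K = Frac (B/𝔮)`
  let K := Fr 𝔮
  let ι : A₀ ⊗[R₀] L →+* K := Fr.ι 𝔮
  letI algR₀K : Algebra R₀ K := (ι.comp (algebraMap R₀ (A₀ ⊗[R₀] L))).toAlgebra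
  let φ : L →ₐ[R₀] K :=
    { ι.comp (Algebra.TensorProduct.includeRight : L →ₐ[R₀] A₀ ⊗[R₀] L).toRingHom with
      commutes' := fun r => by
        change ι ((Algebra.TensorProduct.includeRight : L →ₐ[R₀] A₀ ⊗[R₀] L)
          (algebraMap R₀ L r)) = ι (algebraMap R₀ (A₀ ⊗[R₀] L) r)
        rw [AlgHom.commutes] }
  have hφ : ∀ l : L, φ l = ι ((1 : A₀) ⊗ₜ[R₀] l) := fun l => rfl
  -- step 5: a finite subfamily on the fibre
  haveI : IsNoetherianRing (A₀ ⊗[R₀] K) := noeth_fibre K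
  let αK : J → A₀ ⊗[R₀] K := fun j => Algebra.TensorProduct.map (AlgHom.id A₀ A₀) φ (α j)
  obtain ⟨s', hs'sub, hs'⟩ := (Submodule.fg_span_iff_fg_span_finset_subset (Set.range αK)).mp
    (IsNoetherian.noetherian (Ideal.span (Set.range αK)))
  rw [← Set.image_univ] at hs'sub
  obtain ⟨s, -, hs⟩ := Finset.subset_set_image_iff.mp hs'sub
  have hspan : ∀ j, αK j ∈ Ideal.span (αK '' (s : Set J)) := by
    intro j
    have h1 : αK j ∈ Ideal.span (Set.range αK) := Ideal.subset_span ⟨j, rfl⟩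
    have h2 : (s' : Set (A₀ ⊗[R₀] K)) = αK '' (s : Set J) := by
      rw [← hs, Finset.coe_image]
    rw [← h2]
    change αK j ∈ Submodule.span (A₀ ⊗[R₀] K) (s' : Set (A₀ ⊗[R₀] K))
    rw [← hs']
    exact h1
  -- step 6: a finitely generated stage
  obtain ⟨S₁, hS₁, b₁, hb₁⟩ := exists_fg_ιS (A := A₀) b
  obtain ⟨S₂, hS₂, τ₂, hτ₂⟩ := exists_fg_ιM M₀ τ
  obtain ⟨S, hS, hle, hαS⟩ := exists_fg_stage α s (S₁ ⊔ S₂) (hS₁.sup hS₂)
  choose! αS' hαS' using hαS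
  let bS : A₀ ⊗[R₀] S := ιSS (A := A₀) ((le_sup_left : S₁ ≤ S₁ ⊔ S₂).trans hle) b₁
  let τS : (A₀ ⊗[R₀] S) ⊗[A₀] M₀ :=
    LinearMap.rTensor M₀ (ιSS (A := A₀) ((le_sup_right : S₂ ≤ S₁ ⊔ S₂).trans hle)).toLinearMap τ₂
  have hbS : ιS S bS = b := by rw [← hb₁]; exact ιS_ιSS _ b₁
  have hτS : LinearMap.rTensor M₀ (ιS (A := A₀) S).toLinearMap τS = τ := by
    rw [← hτ₂]; exact ιM_mono M₀ _ τ₂
  let αS : ↥(↑s : Set J) → A₀ ⊗[R₀] S := fun i => αS' i
  have hαS : ∀ i : ↥(↑s : Set J), ιS S (αS i) = α i := fun i => hαS' i i.2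
  have hrelS : ∀ i : ↥(↑s : Set J), ∃ n k : ℕ, bS ^ k • (αS i ^ n • τS) = 0 := by
    intro i
    obtain ⟨n, k, hnk⟩ := hrel i
    refine ⟨n, k, ?_⟩
    apply ιM_injective M₀ S
    rw [map_zero, rTensor_smul_left, rTensor_smul_left, map_pow, map_pow, hbS, hαS, hτS]
    exact hnk
  haveI : IsNoetherianRing (A₀ ⊗[R₀] S) := noeth_sub L S hS
  let 𝔮S : Ideal (A₀ ⊗[R₀] S) := 𝔮.comap (ιS (A := A₀) S)
  haveI : 𝔮S.IsPrime := Ideal.comap_isPrime _ _
  have hbS𝔮 : bS ∉ 𝔮S := by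
    intro h
    apply hb𝔮
    rw [← hbS]
    exact h
  have h𝔮S : ∀ x : A₀ ⊗[R₀] S, x • τS = 0 → x ∈ 𝔮S := by
    intro x hx
    change ιS (A := A₀) S x ∈ 𝔮
    apply hI𝔮
    rw [hI, ← hτS, ← rTensor_smul_left, hx, map_zero]
  -- step 7: the contradiction at the stage `S`
  letI algSK : Algebra S K := (φ.comp S.val).toRingHom.toAlgebra
  haveI : IsScalarTower R₀ S K :=
    IsScalarTower.of_algebraMap_eq (fun r => ((φ.comp S.val).commutes r).symm)
  have hK : ∀ r : S, algebraMap S K r = 0 ↔ algebraMap S (A₀ ⊗[R₀] S) r ∈ 𝔮S := by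
    intro r
    change φ (r : L) = 0 ↔ ιS (A := A₀) S ((1 : A₀) ⊗ₜ[R₀] r) ∈ 𝔮
    rw [hφ, Fr.ι_eq_zero_iff]
    rfl
  refine stage_contra (M₀ := M₀) αS bS τS hrelS 𝔮S hbS𝔮 h𝔮S K hK ?_
  intro c
  have h1 := Fib K φ c
  have h2 := KIB.subfamily (s : Set J) (fun j => ?_) h1
  · convert h2 using 2 with i
    congr 1
    change _ = Algebra.TensorProduct.map (AlgHom.id A₀ A₀) φ (α i)
    rw [← hαS i]
    generalize αS i = x
    induction x using TensorProduct.induction_on with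
    | zero => simp
    | tmul a y => rfl
    | add x y hx hy => rw [map_add, map_add, map_add, hx, hy]
  · apply Ideal.le_radical
    have h3 := Ideal.mem_map_of_mem (algebraMap (A₀ ⊗[R₀] K) (Localization.Away c)) (hspan j)
    rw [Ideal.map_span, Set.image_image] at h3
    exact h3

end Lit

end Groth.Agent.H21.TorsUniv
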