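import Groth.Agent.H21.TorsUniv6
import Groth.Agent.H48.FlatLimitMod2

/-!
# Torsion with respect to a family: fibrewise ⇒ universal, finitely presented case (helper21)
-/

open TensorProduct

universe u

set_option linter.style.haveILetI false

namespace Groth.Agent.H21.TorsUniv

open Groth.Agent.H21.SepFam Groth.Agent.H21.SepMod Groth.Agent.H21.SepModLim
open Groth.Agent.H21.SepModBC Groth.Agent.H21.SepModGr Groth.Agent.H21.SepModUniv

section Transport

variable {A₀ : Type*} [CommRing A₀] {M₀ : Type*} [AddCommGroup M₀] [Module A₀ M₀]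

/-- transport of `KIB` on a localization along an isomorphism of the rings being localized. -/
lemma KIB.transport {Q B : Type*} [CommRing Q] [Algebra A₀ Q] [CommRing B] [Algebra A₀ B]
    (ε : Q ≃ₐ[A₀] B) (b : Q) {J : Type*} (β : J → Q)
    (Q' : Type*) [CommRing Q'] [Algebra Q Q'] [Algebra A₀ Q'] [IsScalarTower A₀ Q Q']
    [IsLocalization.Away b Q']
    (B' : Type*) [CommRing B'] [Algebra B B'] [Algebra A₀ B'] [IsScalarTower A₀ B B']
    [IsLocalization.Away (ε b) B']
    (h : KIB A₀ M₀ B' (fun j => algebraMap B B' (ε (β j)))) :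
    KIB A₀ M₀ Q' (fun j => algebraMap Q Q' (β j)) := by
  letI : Algebra Q B' := ((algebraMap B B').comp ε.toAlgHom.toRingHom).toAlgebra
  haveI : IsScalarTower A₀ Q B' := by
    apply IsScalarTower.of_algebraMap_eq
    intro a
    change algebraMap A₀ B' a = algebraMap B B' (ε (algebraMap A₀ Q a))
    rw [ε.commutes, ← IsScalarTower.algebraMap_apply]
  haveI : IsLocalization.Away b B' := by
    refine IsLocalization.of_ringEquiv_left (K := B') ε.toRingEquiv
      (M₁ := Submonoid.powers (ε b)) (M₂ := Submonoid.powers b) ?_ (fun x => rfl)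
    rw [Submonoid.map_powers]
    rfl
  let e : Q' ≃ₐ[Q] B' := IsLocalization.algEquiv (Submonoid.powers b) Q' B'
  refine KIB.of_algEquiv (e.restrictScalars A₀) (fun j => ?_) h
  change e (algebraMap Q Q' (β j)) = _
  rw [e.commutes]
  rfl

end Transport

section Main

set_option maxHeartbeats 2000000 in
/-- **Fibrewise ⇒ universal** for a finitely presented algebra `A` over `R` and a finitely
presented `A`-module `M` flat over `R`: if on every fibre (and every localization of it) no
nonzero element of `M` is killed by powers of all `a j`, the same holds after any base change. -/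
theorem kib_universal (R A : Type u) [CommRing R] [CommRing A] [Algebra R A]
    [Algebra.FinitePresentation R A] (M : Type u) [AddCommGroup M] [Module A M] [Module R M]
    [IsScalarTower R A M] [Module.FinitePresentation A M] [Module.Flat R M]
    {J : Type*} (a : J → A)
    (Fib : ∀ (K : Type u) [Field K] [Algebra R K] (c : A ⊗[R] K),
      KIB A M (Localization.Away c) (fun j => algebraMap A (Localization.Away c) (a j)))
    (R' : Type u) [CommRing R'] [Algebra R R'] (b : A ⊗[R] R') :
    KIB A M (Localization.Away b) (fun j => algebraMap A (Localization.Away b) (a j)) := by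
  obtain ⟨R₀, _, _, A₀, _, _, _, _, _, _, M₀, _, _, _, _, _, _, f, hR₀, hA₀, hM₀, hflat, hpo, hbc⟩ :=
    Groth.Agent.H48.FlatLimit.exists_int_model_flat_module R A M
  haveI := hA₀
  haveI := hM₀
  haveI := hflat
  haveI : IsNoetherianRing R₀ := Algebra.FiniteType.isNoetherianRing ℤ R₀
  haveI : IsNoetherianRing A₀ := Algebra.FiniteType.isNoetherianRing R₀ A₀
  haveI hpo' : Algebra.IsPushout R₀ A₀ R A := hpo.symm
  letI algR₀R' : Algebra R₀ R' := ((algebraMap R R').comp (algebraMap R₀ R)).toAlgebra
  haveI : IsScalarTower R₀ R R' := IsScalarTower.of_algebraMap_eq' rfl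
  let θ : A ⊗[R] R' ≃ₐ[A₀] A₀ ⊗[R₀] R' := Algebra.IsPushout.cancelBaseChangeAlg R₀ A₀ R A R'
  -- (i) change the base ring and module
  haveI : IsScalarTower A₀ A (Localization.Away b) := by
    apply IsScalarTower.of_algebraMap_eq
    intro x
    rw [IsScalarTower.algebraMap_apply A₀ (A ⊗[R] R') (Localization.Away b),
      IsScalarTower.algebraMap_apply A (A ⊗[R] R') (Localization.Away b),
      ← IsScalarTower.algebraMap_apply A₀ A (A ⊗[R] R')]
  refine KIB.of_isBaseChange (A := A₀) (A' := A) f hbc ?_
  -- (ii) the family, as elements of `A ⊗ R'`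
  have hfam : (fun j => algebraMap A (Localization.Away b) (a j)) =
      fun j => algebraMap (A ⊗[R] R') (Localization.Away b) (a j ⊗ₜ[R] (1 : R')) := by
    funext j
    rw [IsScalarTower.algebraMap_apply A (A ⊗[R] R') (Localization.Away b)]
    rfl
  rw [hfam]
  -- (iii) transport to the literal tensor product
  refine KIB.transport θ b (fun j => a j ⊗ₜ[R] (1 : R')) (Localization.Away b)
    (Localization.Away (θ b)) ?_
  -- (iv) the literal theorem
  refine kib_away_of_fibres (M₀ := M₀) (fun j => θ (a j ⊗ₜ[R] (1 : R'))) ?_ (θ b)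
  intro K _ _ φ c₀
  letI algRK : Algebra R K := (φ.toRingHom.comp (algebraMap R R')).toAlgebra
  haveI : IsScalarTower R₀ R K := by
    apply IsScalarTower.of_algebraMap_eq
    intro r
    change algebraMap R₀ K r = φ (algebraMap R R' (algebraMap R₀ R r))
    rw [← IsScalarTower.algebraMap_apply R₀ R R', φ.commutes]
  let φ' : R' →ₐ[R] K := { φ.toRingHom with commutes' := fun r => rfl }
  let θK : A ⊗[R] K ≃ₐ[A₀] A₀ ⊗[R₀] K := Algebra.IsPushout.cancelBaseChangeAlg R₀ A₀ R A K
  have hnat : ∀ y : A₀ ⊗[R₀] R', θK.symm (Algebra.TensorProduct.map (AlgHom.id A₀ A₀) φ y) =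
      Algebra.TensorProduct.map (AlgHom.id A A) φ' (θ.symm y) := by
    intro y
    induction y using TensorProduct.induction_on with
    | zero => simp
    | tmul x r =>
      rw [Algebra.TensorProduct.map_tmul, Algebra.IsPushout.cancelBaseChangeAlg_symm_tmul,
        Algebra.IsPushout.cancelBaseChangeAlg_symm_tmul, Algebra.TensorProduct.map_tmul]
      rfl
    | add x y hx hy => simp only [map_add, hx, hy]
  have hfamK : ∀ j, θK.symm (Algebra.TensorProduct.map (AlgHom.id A₀ A₀) φ
      (θ (a j ⊗ₜ[R] (1 : R')))) = a j ⊗ₜ[R] (1 : K) := by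
    intro j
    rw [hnat, AlgEquiv.symm_apply_apply, Algebra.TensorProduct.map_tmul, map_one]
    rfl
  refine KIB.transport θK.symm c₀
    (fun j => Algebra.TensorProduct.map (AlgHom.id A₀ A₀) φ (θ (a j ⊗ₜ[R] (1 : R'))))
    (Localization.Away c₀) (Localization.Away (θK.symm c₀)) ?_
  simp only [hfamK]
  have h1 := Fib K (θK.symm c₀)
  haveI : IsScalarTower A₀ A (Localization.Away (θK.symm c₀)) := by
    apply IsScalarTower.of_algebraMap_eq
    intro x
    rw [IsScalarTower.algebraMap_apply A₀ (A ⊗[R] K) (Localization.Away (θK.symm c₀)),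
      IsScalarTower.algebraMap_apply A (A ⊗[R] K) (Localization.Away (θK.symm c₀)),
      ← IsScalarTower.algebraMap_apply A₀ A (A ⊗[R] K)]
  have h2 := KIB.to_isBaseChange (A := A₀) (A' := A) f hbc h1
  convert h2 using 2 with j
  rw [IsScalarTower.algebraMap_apply A (A ⊗[R] K) (Localization.Away (θK.symm c₀))]
  rfl

end Main

end Groth.Agent.H21.TorsUniv
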