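import Groth.Agent.H21.CPtConn
import Mathlib.Topology.Algebra.Polynomial
import Mathlib.Analysis.SpecialFunctions.Pow.Real
import Mathlib.Analysis.Calculus.Deriv.Polynomial
import Mathlib.FieldTheory.Minpoly.Finite

/-!
An element of a finite type `ℂ`-domain which has `n`-th roots (on `ℂ`-points) for every `n` is
constant on `ℂ`-points.
-/

set_option autoImplicit false
open Topology Filter

noncomputable section

namespace Groth.Agent.H21

namespace CPtConn

/-- restriction of a polynomial function to a line through the origin -/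
theorem eval_line {d : ℕ} (c : MvPolynomial (Fin d) ℂ) (t : Fin d → ℂ) (s : ℂ) :
    Polynomial.eval s (MvPolynomial.aeval (fun i => Polynomial.C (t i) * Polynomial.X) c) =
      MvPolynomial.eval (fun i => s * t i) c := by
  induction c using MvPolynomial.induction_on with
  | C a => simp
  | add p q hp hq => rw [map_add, Polynomial.eval_add, hp, hq, map_add]
  | mul_X p i hp =>
    rw [map_mul, Polynomial.eval_mul, hp, MvPolynomial.aeval_X, map_mul, MvPolynomial.eval_X,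
      Polynomial.eval_mul, Polynomial.eval_C, Polynomial.eval_X]
    ring

/-- a polynomial whose `n`-th power grows slower than degree `n` is constant -/
theorem eval_eq_of_pow_growth {d : ℕ} (c : MvPolynomial (Fin d) ℂ) (n N : ℕ) (hN : N < n) (C : ℝ)
    (h : ∀ t : Fin d → ℂ, ‖MvPolynomial.eval t c‖ ^ n ≤ C * (1 + ‖t‖) ^ N) (t : Fin d → ℂ) :
    MvPolynomial.eval t c = MvPolynomial.eval 0 c := by
  have hC : 0 ≤ C := by
    have h0 := h 0
    simp only [norm_zero, add_zero, one_pow, mul_one] at h0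
    exact le_trans (pow_nonneg (norm_nonneg _) n) h0
  obtain ⟨p, hp⟩ : ∃ p : Polynomial ℂ, ∀ s, p.eval s = MvPolynomial.eval (fun i => s * t i) c :=
    ⟨_, fun s => eval_line c t s⟩
  have hgrowth : ∀ s : ℂ, ‖(p ^ n).eval s‖ ≤ (C * (1 + ‖t‖) ^ N) * (1 + ‖s‖) ^ N := by
    intro s
    rw [Polynomial.eval_pow, norm_pow, hp]
    refine (h _).trans ?_
    have h1 : ‖(fun i => s * t i)‖ ≤ ‖s‖ * ‖t‖ := by
      rw [pi_norm_le_iff_of_nonneg (by positivity)]
      intro i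
      rw [norm_mul]
      exact mul_le_mul_of_nonneg_left (norm_le_pi_norm t i) (norm_nonneg s)
    have h2 : 1 + ‖(fun i => s * t i)‖ ≤ (1 + ‖t‖) * (1 + ‖s‖) := by
      nlinarith [norm_nonneg s, norm_nonneg t]
    have h3 : (1 + ‖(fun i => s * t i)‖) ^ N ≤ ((1 + ‖t‖) * (1 + ‖s‖)) ^ N :=
      pow_le_pow_left₀ (by positivity) h2 N
    rw [mul_pow] at h3
    calc C * (1 + ‖fun i => s * t i‖) ^ N ≤ C * ((1 + ‖t‖) ^ N * (1 + ‖s‖) ^ N) :=
          mul_le_mul_of_nonneg_left h3 hC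
      _ = C * (1 + ‖t‖) ^ N * (1 + ‖s‖) ^ N := by ring
  obtain ⟨q, hq1, hq2⟩ := EntirePoly.exists_polynomial_of_growth N (fun s => (p ^ n).eval s)
    (p ^ n).differentiable _ hgrowth
  have hpq : p ^ n = q := Polynomial.funext hq2
  have hdeg : n * p.natDegree ≤ N := by
    rw [← Polynomial.natDegree_pow, hpq]
    exact hq1
  have hp0 : p.natDegree = 0 := by
    by_contra h0
    have : n ≤ n * p.natDegree := Nat.le_mul_of_pos_right n (Nat.pos_of_ne_zero h0)
    omega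
  have hpc : p = Polynomial.C (p.coeff 0) := Polynomial.eq_C_of_natDegree_eq_zero hp0
  have h1 := hp 1
  have h0 := hp 0
  rw [hpc, Polynomial.eval_C] at h1 h0
  simp only [one_mul, zero_mul] at h1 h0
  exact h1.symm.trans h0

/-- **an infinitely divisible function on an irreducible affine variety is constant** -/
theorem apply_eq_of_exists_root (B : Type*) [CommRing B] [Algebra ℂ B] [IsDomain B]
    [Algebra.FiniteType ℂ B] (u : B)
    (hroot : ∀ n : ℕ, n ≠ 0 → ∃ v : B, ∀ ψ : CPt B, ψ v ^ n = ψ u) :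
    ∀ ψ₁ ψ₂ : CPt B, ψ₁ u = ψ₂ u := by
  classical
  obtain ⟨d, ν, hinj, hint⟩ := exists_integral_inj_algHom_of_fg ℂ B
  letI : Algebra (MvPolynomial (Fin d) ℂ) B := ν.toRingHom.toAlgebra
  haveI : IsScalarTower ℂ (MvPolynomial (Fin d) ℂ) B :=
    IsScalarTower.of_algebraMap_eq fun c => (ν.commutes c).symm
  haveI : Algebra.IsIntegral (MvPolynomial (Fin d) ℂ) B := Algebra.isIntegral_def.2 hint
  have hinj' : Function.Injective (algebraMap (MvPolynomial (Fin d) ℂ) B) := hinj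
  haveI : Algebra.FiniteType (MvPolynomial (Fin d) ℂ) B :=
    Algebra.FiniteType.of_restrictScalars_finiteType ℂ (MvPolynomial (Fin d) ℂ) B
  haveI : Module.Finite (MvPolynomial (Fin d) ℂ) B := Algebra.IsIntegral.finite
  haveI := preconnectedSpace_of_isDomain B
  -- growth of `u`
  have huint : IsIntegral (MvPolynomial (Fin d) ℂ) u := Algebra.IsIntegral.isIntegral u
  have hFu : (minpoly (MvPolynomial (Fin d) ℂ) u).Monic := minpoly.monic huint
  have hPG : PG (fun t : Fin d → ℂ =>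
      1 + ∑ i ∈ Finset.range (minpoly (MvPolynomial (Fin d) ℂ) u).natDegree,
        ‖MvPolynomial.eval t ((minpoly (MvPolynomial (Fin d) ℂ) u).coeff i)‖) :=
    (PG.const 1).add (PG.sum _ fun i _ => PG.norm_eval _)
  obtain ⟨C₀, D, hC₀, hb⟩ := hPG
  have hub : ∀ ψ : CPt B, ‖ψ u‖ ≤ C₀ * (1 + ‖(CPt.proj ψ : Fin d → ℂ)‖) ^ D := by
    intro ψ
    have hr := CPt.isRoot_map ψ u (minpoly (MvPolynomial (Fin d) ℂ) u)
      (minpoly.aeval (MvPolynomial (Fin d) ℂ) u)
    have h1 := CPt.norm_le_of_isRoot_monic _ (hFu.map (MvPolynomial.eval (CPt.proj ψ))) (ψ u) hr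
    rw [hFu.natDegree_map] at h1
    simp only [Polynomial.coeff_map] at h1
    exact h1.trans ((le_abs_self _).trans (hb (CPt.proj ψ)))
  -- the uniform degree bound
  have key : ∀ n : ℕ, n ≠ 0 →
      D * (⊤ : Submodule (MvPolynomial (Fin d) ℂ) B).spanFinrank < n →
      (∃ v : B, ∀ ψ : CPt B, ψ v ^ n = ψ u) → ∀ ψ₁ ψ₂ : CPt B, ψ₁ u = ψ₂ u := by
    rintro n hn0 hDn ⟨v, hv⟩
    have hvint : IsIntegral (MvPolynomial (Fin d) ℂ) v := Algebra.IsIntegral.isIntegral v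
    have hG : (minpoly (MvPolynomial (Fin d) ℂ) v).Monic := minpoly.monic hvint
    have hk : (minpoly (MvPolynomial (Fin d) ℂ) v).natDegree ≤
        (⊤ : Submodule (MvPolynomial (Fin d) ℂ) B).spanFinrank :=
      minpoly.natDegree_le_spanFinrank (MvPolynomial (Fin d) ℂ) v
    have hconst : ∀ (i : ℕ) (t : Fin d → ℂ),
        MvPolynomial.eval t ((minpoly (MvPolynomial (Fin d) ℂ) v).coeff i) =
          MvPolynomial.eval 0 ((minpoly (MvPolynomial (Fin d) ℂ) v).coeff i) := by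
      intro i
      apply eval_eq_of_pow_growth ((minpoly (MvPolynomial (Fin d) ℂ) v).coeff i) n
        (D * (⊤ : Submodule (MvPolynomial (Fin d) ℂ) B).spanFinrank) hDn
        (C₀ ^ ((minpoly (MvPolynomial (Fin d) ℂ) v).natDegree - i) *
          ((minpoly (MvPolynomial (Fin d) ℂ) v).natDegree.choose i : ℝ) ^ n)
      intro t
      have hbase : (1 : ℝ) ≤ 1 + ‖t‖ := one_le_base t
      have hX0 : 0 ≤ C₀ * (1 + ‖t‖) ^ D := by positivity
      have hBtn : ((C₀ * (1 + ‖t‖) ^ D) ^ ((n : ℝ)⁻¹)) ^ n = C₀ * (1 + ‖t‖) ^ D :=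
        Real.rpow_inv_natCast_pow hX0 hn0
      have hroots : ∀ z ∈ ((minpoly (MvPolynomial (Fin d) ℂ) v).map (MvPolynomial.eval t)).roots,
          ‖z‖ ≤ (C₀ * (1 + ‖t‖) ^ D) ^ ((n : ℝ)⁻¹) := by
        intro z hz
        have hz' : ((minpoly (MvPolynomial (Fin d) ℂ) v).map (MvPolynomial.eval t)).IsRoot z :=
          (Polynomial.mem_roots (hG.map _).ne_zero).1 hz
        obtain ⟨ψ, hψ1, hψ2⟩ := CPt.exists_lift hinj' v t z hz'
        have h1 : ‖z‖ ^ n ≤ C₀ * (1 + ‖t‖) ^ D := by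
          rw [← norm_pow, ← hψ2, hv ψ, ← hψ1]
          exact hub ψ
        calc ‖z‖ = (‖z‖ ^ n) ^ ((n : ℝ)⁻¹) :=
              (Real.pow_rpow_inv_natCast (norm_nonneg z) hn0).symm
          _ ≤ (C₀ * (1 + ‖t‖) ^ D) ^ ((n : ℝ)⁻¹) :=
              Real.rpow_le_rpow (pow_nonneg (norm_nonneg z) n) h1
                (inv_nonneg.2 (Nat.cast_nonneg n))
      have hco := Polynomial.coeff_le_of_roots_le (f := MvPolynomial.eval t) i hG
        (IsAlgClosed.splits _) hroots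
      rw [Polynomial.coeff_map] at hco
      have h2 : ‖MvPolynomial.eval t ((minpoly (MvPolynomial (Fin d) ℂ) v).coeff i)‖ ^ n ≤
          (((C₀ * (1 + ‖t‖) ^ D) ^ ((n : ℝ)⁻¹)) ^
              ((minpoly (MvPolynomial (Fin d) ℂ) v).natDegree - i) *
            ((minpoly (MvPolynomial (Fin d) ℂ) v).natDegree.choose i : ℝ)) ^ n :=
        pow_le_pow_left₀ (norm_nonneg _) hco n
      refine h2.trans ?_
      rw [mul_pow, ← pow_mul, mul_comm ((minpoly (MvPolynomial (Fin d) ℂ) v).natDegree - i) n,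
        pow_mul, hBtn, mul_pow, ← pow_mul]
      have hexp : (1 + ‖t‖) ^ (D * ((minpoly (MvPolynomial (Fin d) ℂ) v).natDegree - i)) ≤
          (1 + ‖t‖) ^ (D * (⊤ : Submodule (MvPolynomial (Fin d) ℂ) B).spanFinrank) :=
        pow_le_pow_right₀ hbase (Nat.mul_le_mul_left D ((Nat.sub_le _ _).trans hk))
      have hc1 : 0 ≤ C₀ ^ ((minpoly (MvPolynomial (Fin d) ℂ) v).natDegree - i) :=
        pow_nonneg hC₀ _
      have hc2 : 0 ≤ ((minpoly (MvPolynomial (Fin d) ℂ) v).natDegree.choose i : ℝ) ^ n := by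
        positivity
      calc C₀ ^ ((minpoly (MvPolynomial (Fin d) ℂ) v).natDegree - i) *
            (1 + ‖t‖) ^ (D * ((minpoly (MvPolynomial (Fin d) ℂ) v).natDegree - i)) *
            ((minpoly (MvPolynomial (Fin d) ℂ) v).natDegree.choose i : ℝ) ^ n
          = (C₀ ^ ((minpoly (MvPolynomial (Fin d) ℂ) v).natDegree - i) *
              ((minpoly (MvPolynomial (Fin d) ℂ) v).natDegree.choose i : ℝ) ^ n) *
            (1 + ‖t‖) ^ (D * ((minpoly (MvPolynomial (Fin d) ℂ) v).natDegree - i)) := by ring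
        _ ≤ (C₀ ^ ((minpoly (MvPolynomial (Fin d) ℂ) v).natDegree - i) *
              ((minpoly (MvPolynomial (Fin d) ℂ) v).natDegree.choose i : ℝ) ^ n) *
            (1 + ‖t‖) ^ (D * (⊤ : Submodule (MvPolynomial (Fin d) ℂ) B).spanFinrank) :=
          mul_le_mul_of_nonneg_left hexp (mul_nonneg hc1 hc2)
    -- `ψ v` is a root of a fixed polynomial
    have hp₀ : (minpoly (MvPolynomial (Fin d) ℂ) v).map (MvPolynomial.eval (0 : Fin d → ℂ)) ≠ 0 :=
      (hG.map _).ne_zero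
    have hmem : ∀ ψ : CPt B, ψ v ∈
        ((((minpoly (MvPolynomial (Fin d) ℂ) v).map
          (MvPolynomial.eval (0 : Fin d → ℂ))).roots.toFinset : Finset ℂ) : Set ℂ) := by
      intro ψ
      have h1 := CPt.isRoot_map ψ v (minpoly (MvPolynomial (Fin d) ℂ) v)
        (minpoly.aeval (MvPolynomial (Fin d) ℂ) v)
      have h2 : (minpoly (MvPolynomial (Fin d) ℂ) v).map (MvPolynomial.eval (CPt.proj ψ)) =
          (minpoly (MvPolynomial (Fin d) ℂ) v).map (MvPolynomial.eval (0 : Fin d → ℂ)) := by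
        apply Polynomial.ext
        intro i
        rw [Polynomial.coeff_map, Polynomial.coeff_map]
        exact hconst i _
      rw [h2] at h1
      rw [Finset.mem_coe, Multiset.mem_toFinset, Polynomial.mem_roots hp₀]
      exact h1
    have hvconst : ∀ ψ₁ ψ₂ : CPt B, ψ₁ v = ψ₂ v := by
      intro ψ₁ ψ₂
      exact isPreconnected_univ.constant_of_mapsTo
        (Finset.finite_toSet _).isDiscrete
        (CPt.continuous_eval v).continuousOn (fun ψ _ => hmem ψ) (Set.mem_univ ψ₁)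
        (Set.mem_univ ψ₂)
    intro ψ₁ ψ₂
    rw [← hv ψ₁, ← hv ψ₂, hvconst ψ₁ ψ₂]
  exact key (D * (⊤ : Submodule (MvPolynomial (Fin d) ℂ) B).spanFinrank + 1)
    (Nat.succ_ne_zero _) (Nat.lt_succ_self _) (hroot _ (Nat.succ_ne_zero _))

/-- version for the points of a finite type `ℂ`-algebra killing a prime ideal -/
theorem apply_eq_of_exists_root_of_isPrime {A : Type*} [CommRing A] [Algebra ℂ A]
    [Algebra.FiniteType ℂ A] (P : Ideal A) [P.IsPrime] (u : A)
    (hroot : ∀ n : ℕ, n ≠ 0 → ∃ v : A, ∀ φ : CPt A, (∀ a ∈ P, φ a = 0) → φ v ^ n = φ u)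
    (φ₁ φ₂ : CPt A) (h₁ : ∀ a ∈ P, φ₁ a = 0) (h₂ : ∀ a ∈ P, φ₂ a = 0) : φ₁ u = φ₂ u := by
  haveI : Algebra.FiniteType ℂ (A ⧸ P) :=
    Algebra.FiniteType.of_surjective (Ideal.Quotient.mkₐ ℂ P) (Ideal.Quotient.mkₐ_surjective ℂ P)
  have hlift : ∀ φ : CPt A, (∀ a ∈ P, φ a = 0) →
      ∃ ψ : CPt (A ⧸ P), ∀ a, ψ (Ideal.Quotient.mk P a) = φ a := by
    intro φ hφ
    refine ⟨CPt.ofAlgHom (Ideal.Quotient.liftₐ P (CPt.toAlgHom φ) hφ), fun a => ?_⟩
    show (Ideal.Quotient.liftₐ P (CPt.toAlgHom φ) hφ) (Ideal.Quotient.mk P a) = φ a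
    rw [Ideal.Quotient.liftₐ_apply, Ideal.Quotient.lift_mk]
    rfl
  have hroot' : ∀ n : ℕ, n ≠ 0 → ∃ v : A ⧸ P, ∀ ψ : CPt (A ⧸ P),
      ψ v ^ n = ψ (Ideal.Quotient.mk P u) := by
    intro n hn
    obtain ⟨v, hv⟩ := hroot n hn
    refine ⟨Ideal.Quotient.mk P v, fun ψ => ?_⟩
    have hkill : ∀ a ∈ P, CPt.comap (Ideal.Quotient.mkₐ ℂ P) ψ a = 0 := by
      intro a ha
      show ψ (Ideal.Quotient.mkₐ ℂ P a) = 0
      rw [Ideal.Quotient.mkₐ_eq_mk, Ideal.Quotient.eq_zero_iff_mem.2 ha, map_zero]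
    exact hv (CPt.comap (Ideal.Quotient.mkₐ ℂ P) ψ) hkill
  have hR := apply_eq_of_exists_root (A ⧸ P) (Ideal.Quotient.mk P u) hroot'
  obtain ⟨ψ₁, hψ₁⟩ := hlift φ₁ h₁
  obtain ⟨ψ₂, hψ₂⟩ := hlift φ₂ h₂
  rw [← hψ₁ u, ← hψ₂ u]
  exact hR ψ₁ ψ₂

end CPtConn

end Groth.Agent.H21
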