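import Groth.Agent.H21.AnRoot
import Groth.Agent.H21.UnitConst

/-!
A regular function on a connected scheme of finite type over `ℂ` which admits a continuous
logarithm on `ℂ`-points is constant on `ℂ`-points.
-/

set_option autoImplicit false
open CategoryTheory AlgebraicGeometry Topology TopologicalSpace

noncomputable section

namespace Groth.Agent.H21

open An

attribute [local instance] opensOver opens_ι_isOver

/-- refined neighbourhoods: nearby points lie on a common irreducible component -/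
theorem exists_nhds_irreducibleComponent {Y : Scheme.{0}} [Y.Over An.SC] [IsAffine Y]
    [LocallyOfFiniteType (Y ↘ An.SC)] (q : An.Pts Y) :
    ∃ N ∈ 𝓝 q, ∀ q' ∈ N, ∃ Z ∈ irreducibleComponents Y, q.pt ∈ Z ∧ q'.pt ∈ Z := by
  haveI : IsLocallyNoetherian Y := isLocallyNoetherian
  haveI : IsNoetherian Y := {}
  have hfin : (irreducibleComponents Y).Finite :=
    TopologicalSpace.NoetherianSpace.finite_irreducibleComponents
  let c' : Set (Set (An.Pts Y)) :=
    (fun Z : Set Y => (An.Pts.pt ⁻¹' Z : Set (An.Pts Y))) ''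
      {Z | Z ∈ irreducibleComponents Y ∧ q.pt ∉ Z}
  have hc'fin : c'.Finite := (hfin.subset (fun Z hZ => hZ.1)).image _
  have hclosed : IsClosed (⋃₀ c') := by
    rw [Set.sUnion_eq_biUnion]
    apply hc'fin.isClosed_biUnion
    rintro _ ⟨Z, ⟨hZ, _⟩, rfl⟩
    exact (isClosed_of_mem_irreducibleComponents Z hZ).preimage An.Pts.continuous_pt
  have hq : q ∉ ⋃₀ c' := by
    rintro ⟨_, ⟨Z, ⟨_, hqZ⟩, rfl⟩, hq⟩
    exact hqZ hq
  refine ⟨(⋃₀ c')ᶜ, hclosed.isOpen_compl.mem_nhds hq, fun y hy => ?_⟩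
  have hyZ : y.pt ∈ irreducibleComponent y.pt := mem_irreducibleComponent
  have hZ : irreducibleComponent y.pt ∈ irreducibleComponents Y :=
    irreducibleComponent_mem_irreducibleComponents _
  refine ⟨_, hZ, ?_, hyZ⟩
  by_contra hqZ
  exact hy ⟨_, ⟨_, ⟨hZ, hqZ⟩, rfl⟩, hyZ⟩

/-- on an affine scheme of finite type over `ℂ`, a regular function with roots of all orders is
locally constant on `ℂ`-points -/
theorem evTop_eventually_eq_of_affine {Y : Scheme.{0}} [Y.Over An.SC] [IsAffine Y]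
    [LocallyOfFiniteType (Y ↘ An.SC)] (u : Γ(Y, ⊤))
    (hroot : ∀ n : ℕ, n ≠ 0 → ∃ v : Γ(Y, ⊤), ∀ y : An.Pts Y, y.evTop v ^ n = y.evTop u)
    (q : An.Pts Y) : ∃ N ∈ 𝓝 q, ∀ q' ∈ N, q'.evTop u = q.evTop u := by
  letI := An.algebraTop Y
  haveI : Algebra.FiniteType ℂ Γ(Y, ⊤) := finiteType_strHom (X := Y)
  obtain ⟨N, hN, hNZ⟩ := exists_nhds_irreducibleComponent q
  refine ⟨N, hN, fun q' hq' => ?_⟩
  obtain ⟨Z, hZ, hqZ, hq'Z⟩ := hNZ q' hq'
  obtain ⟨P, hP, hPZ⟩ := exists_prime_of_irreducible Z hZ.1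
    (isClosed_of_mem_irreducibleComponents Z hZ)
  haveI := hP
  have hroot' : ∀ n : ℕ, n ≠ 0 → ∃ v : Γ(Y, ⊤), ∀ φ : CPt Γ(Y, ⊤),
      (∀ a ∈ P, φ a = 0) → φ v ^ n = φ u := by
    intro n hn
    obtain ⟨v, hv⟩ := hroot n hn
    refine ⟨v, fun φ _ => ?_⟩
    obtain ⟨y, rfl⟩ := toCPt_surjective (X := Y) φ
    exact hv y
  exact CPtConn.apply_eq_of_exists_root_of_isPrime P u hroot' (toCPt q') (toCPt q)
    ((hPZ q').1 hq'Z) ((hPZ q).1 hqZ)

/-- a regular function with a continuous logarithm on the `ℂ`-points of a connected scheme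
locally of finite type over `ℂ` is constant on `ℂ`-points -/
theorem evTop_eq_of_exists_log {X : Scheme.{0}} [X.Over An.SC] [LocallyOfFiniteType (X ↘ An.SC)]
    (u : Γ(X, ⊤)) (ℓ : An.Pts X → ℂ) (hℓc : Continuous ℓ)
    (hℓ : ∀ x, Complex.exp (ℓ x) = x.evTop u) :
    IsLocallyConstant (fun x : An.Pts X => x.evTop u) := by
  rw [IsLocallyConstant.iff_eventually_eq]
  intro x
  obtain ⟨U, hU, hxU⟩ := exists_isAffineOpen_mem x
  haveI : IsAffine (U : Scheme) := hU
  haveI : LocallyOfFiniteType ((U : Scheme) ↘ An.SC) := locallyOfFiniteType_opens U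
  have hev : ∀ q : An.Pts (U : Scheme),
      q.evTop (U.ι.appTop u) = (An.Pts.map U.ι q).evTop u :=
    fun q => (An.Pts.ev_map U.ι q ⊤ (Opens.mem_top _) u).symm
  have hroot : ∀ n : ℕ, n ≠ 0 → ∃ v : Γ((U : Scheme), ⊤),
      ∀ q : An.Pts (U : Scheme), q.evTop v ^ n = q.evTop (U.ι.appTop u) := by
    intro n hn
    have hnC : (n : ℂ) ≠ 0 := Nat.cast_ne_zero.2 hn
    have hw : ∀ q : An.Pts (U : Scheme),
        Complex.exp (ℓ (An.Pts.map U.ι q) / n) ^ n = q.evTop (U.ι.appTop u) := by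
      intro q
      rw [hev, ← hℓ, ← Complex.exp_nat_mul]
      congr 1
      field_simp
    obtain ⟨v, hv⟩ := exists_root_of_continuous (U.ι.appTop u) n hn
      (fun q => Complex.exp (ℓ (An.Pts.map U.ι q) / n))
      (Complex.continuous_exp.comp ((hℓc.comp (An.Pts.continuous_map U.ι)).div_const _))
      hw (fun q => Complex.exp_ne_zero _)
    refine ⟨v, fun q => ?_⟩
    have hvq : q.evTop v = Complex.exp (ℓ (An.Pts.map U.ι q) / n) := hv q
    rw [hvq]
    exact hw q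
  obtain ⟨N, hN, hNc⟩ := evTop_eventually_eq_of_affine (U.ι.appTop u) hroot
    ((ptsOpensHomeo U).symm ⟨x, hxU⟩)
  have h1 := (isOpenEmbedding_map_of_isOpenImmersion U.ι).isOpenMap.image_mem_nhds hN
  rw [map_ι_symm_apply] at h1
  refine Filter.mem_of_superset h1 ?_
  rintro _ ⟨q, hq, rfl⟩
  show (An.Pts.map U.ι q).evTop u = x.evTop u
  rw [← hev, hNc q hq, hev, map_ι_symm_apply]

end Groth.Agent.H21
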